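import Mathlib

universe u

open CategoryTheory Limits

namespace Groth.Agent.Helper6.PshMod

variable (C : Type u) [SmallCategory C] (O : Cᵒᵖ ⥤ RingCat.{u})

instance hasSep : HasSeparator (PresheafOfModules.{u} O) := by
  have h : ObjectProperty.IsSeparating (.ofObj (yoneda ⋙ PresheafOfModules.free O).obj) :=
    PresheafOfModules.freeYoneda.isSeparating O
  exact ⟨_, h.isSeparator_coproduct⟩

instance ab5 : AB5OfSize.{u, u} (PresheafOfModules.{u} O) := by
  constructor
  intro J _ _
  exact HasExactColimitsOfShape.domain_of_functor J (PresheafOfModules.toPresheaf O)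

instance : IsGrothendieckAbelian.{u} (PresheafOfModules.{u} O) where

theorem enough : EnoughInjectives (PresheafOfModules.{u} O) := inferInstance

end Groth.Agent.Helper6.PshMod
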