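import Mathlib

/-! Rings local for the fppf topology have algebraically closed residue fields. -/

universe u
open CategoryTheory CategoryTheory.Limits AlgebraicGeometry Polynomial

namespace Groth.Agent.Lib.Helper6.FppfLocal

theorem exists_monic_lift {A : Type u} [CommRing A] (p : Ideal A) [p.IsPrime]
    (f : p.ResidueField[X]) (hf : f.Monic) :
    ∃ (F : A[X]) (b : A), F.Monic ∧ F.natDegree = f.natDegree ∧
      algebraMap A p.ResidueField b ≠ 0 ∧
      F.map (algebraMap A p.ResidueField) = f.scaleRoots (algebraMap A p.ResidueField b) := by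
  classical
  obtain ⟨⟨b', hb'⟩, hb⟩ := IsLocalization.exist_integer_multiples (nonZeroDivisors (A ⧸ p))
    (Finset.range (f.natDegree + 1)) (fun i => f.coeff i)
  obtain ⟨b, rfl⟩ := Ideal.Quotient.mk_surjective b'
  have hφb : algebraMap A p.ResidueField b =
      algebraMap (A ⧸ p) p.ResidueField (Ideal.Quotient.mk p b) :=
    IsScalarTower.algebraMap_apply A (A ⧸ p) p.ResidueField b
  have hne : algebraMap A p.ResidueField b ≠ 0 := by
    rw [hφb]; exact IsFractionRing.to_map_ne_zero_of_mem_nonZeroDivisors hb'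
  have hcoef : ∀ i, algebraMap A p.ResidueField b * f.coeff i ∈
      Set.range (algebraMap A p.ResidueField) := by
    intro i
    by_cases hi : i ∈ Finset.range (f.natDegree + 1)
    · obtain ⟨c', hc'⟩ := hb i hi
      obtain ⟨c, rfl⟩ := Ideal.Quotient.mk_surjective c'
      refine ⟨c, ?_⟩
      rw [Algebra.smul_def] at hc'
      rw [hφb, ← hc']; rfl
    · have : f.coeff i = 0 := Polynomial.coeff_eq_zero_of_natDegree_lt (by simpa using hi)
      rw [this, mul_zero]; exact ⟨0, map_zero _⟩
  have hlifts : f.scaleRoots (algebraMap A p.ResidueField b) ∈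
      Polynomial.lifts (algebraMap A p.ResidueField) := by
    rw [Polynomial.lifts_iff_coeff_lifts]
    intro i
    rw [Polynomial.coeff_scaleRoots]
    rcases lt_trichotomy i f.natDegree with h | h | h
    · obtain ⟨c, hc⟩ := hcoef i
      refine ⟨c * b ^ (f.natDegree - i - 1), ?_⟩
      rw [map_mul, map_pow, hc]
      obtain ⟨m, hm⟩ : ∃ m, f.natDegree - i = m + 1 := ⟨f.natDegree - i - 1, by omega⟩
      rw [hm, Nat.add_sub_cancel, pow_succ]; ring
    · subst h
      rw [Nat.sub_self, pow_zero, mul_one, hf.coeff_natDegree]; exact ⟨1, map_one _⟩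
    · rw [Polynomial.coeff_eq_zero_of_natDegree_lt h, zero_mul]; exact ⟨0, map_zero _⟩
  obtain ⟨F, hF1, hF2, hF3⟩ := Polynomial.lifts_and_natDegree_eq_and_monic hlifts
    ((Polynomial.monic_scaleRoots_iff _).mpr hf)
  exact ⟨F, b, hF3, by rw [hF2, Polynomial.natDegree_scaleRoots], hne, hF1⟩

theorem exists_root_of_local (A : Type u) [CommRing A]
    (hloc : ∀ (X : Scheme.{u}) (R : Presieve X),
      R ∈ Scheme.precoverage (@Flat ⊓ @LocallyOfFinitePresentation ⊓ @QuasiCompact ⊓ @QuasiSeparated) X →
      ∀ g : Spec (CommRingCat.of A) ⟶ X,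
        ∃ (Y : Scheme.{u}) (v : Y ⟶ X) (h : Spec (CommRingCat.of A) ⟶ Y), R v ∧ h ≫ v = g)
    (F : A[X]) (hF : F.Monic) (hdeg : F.degree ≠ 0) : ∃ a : A, F.eval a = 0 := by
  have hfree : Module.Free A (AdjoinRoot F) := hF.free_adjoinRoot
  have hfin : Module.Finite A (AdjoinRoot F) := hF.finite_adjoinRoot
  have hmem : Presieve.singleton (Spec.map (CommRingCat.ofHom (algebraMap A (AdjoinRoot F)))) ∈
      Scheme.precoverage (@Flat ⊓ @LocallyOfFinitePresentation ⊓ @QuasiCompact ⊓ @QuasiSeparated)
        (Spec (CommRingCat.of A)) := by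
    rw [Scheme.singleton_mem_precoverage_iff]
    refine ⟨?_, ⟨⟨⟨?_, ?_⟩, ?_⟩, ?_⟩⟩
    · have hinj : Function.Injective (algebraMap A (AdjoinRoot F)) := by
        rw [injective_iff_map_eq_zero]
        intro a ha
        have h1 : AdjoinRoot.mk F (C a) = 0 := ha
        rw [AdjoinRoot.mk_eq_zero] at h1
        by_contra hne
        have h01 : (0:A) ≠ 1 := fun h01 => hne ((subsingleton_of_zero_eq_one h01).elim _ _)
        have hnat : F.natDegree ≠ 0 := by
          intro h0
          apply hdeg
          rw [Polynomial.degree_eq_natDegree (hF.ne_zero_of_ne h01), h0]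
          rfl
        exact hF.not_dvd_of_natDegree_lt (by simpa using hne)
          (by rw [Polynomial.natDegree_C]; omega) h1
      have hint : (algebraMap A (AdjoinRoot F)).IsIntegral :=
        algebraMap_isIntegral_iff.mpr inferInstance
      exact RingHom.IsIntegral.comap_surjective hint hinj
    · rw [HasRingHomProperty.Spec_iff (P := @Flat)]
      exact RingHom.flat_algebraMap_iff.mpr inferInstance
    · rw [HasRingHomProperty.Spec_iff (P := @LocallyOfFinitePresentation)]
      exact RingHom.finitePresentation_algebraMap.mpr inferInstance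
    · infer_instance
    · infer_instance
  obtain ⟨Y, v, h, hv, hvg⟩ := hloc _ _ hmem (𝟙 _)
  obtain ⟨⟩ := hv
  obtain ⟨σ, rfl⟩ := Spec.map_surjective h
  have hσ : CommRingCat.ofHom (algebraMap A (AdjoinRoot F)) ≫ σ = 𝟙 _ := by
    apply Spec.map_injective
    rw [Spec.map_comp, Spec.map_id]; exact hvg
  have hσ' : ∀ a : A, σ.hom (algebraMap A (AdjoinRoot F) a) = a := fun a => by
    have := ConcreteCategory.congr_hom hσ a
    exact this
  refine ⟨σ.hom (AdjoinRoot.root F), ?_⟩
  have h0 : Polynomial.eval₂ (AdjoinRoot.of F) (AdjoinRoot.root F) F = 0 := AdjoinRoot.eval₂_root F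
  have h1 := congrArg σ.hom h0
  rw [Polynomial.hom_eval₂, map_zero] at h1
  have h2 : σ.hom.comp (AdjoinRoot.of F) = RingHom.id A := RingHom.ext hσ'
  rw [h2] at h1
  exact h1

end Groth.Agent.Lib.Helper6.FppfLocal
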