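import Mathlib
import Groth.Prelude.Def_CohB1

set_option linter.unusedSectionVars false
set_option linter.unusedVariables false
set_option autoImplicit false
set_option maxHeartbeats 400000

noncomputable section

namespace Groth.Agent.Lib.Helper6.ProjChart

open AlgebraicGeometry HomogeneousLocalization

universe u

variable (n : ℕ) (R : Type u) [CommRing R]

lemma coeff_zero_of_mem_irr {f : MvPolynomial (Fin (n + 1)) R}
    (hf : f ∈ (HomogeneousIdeal.irrelevant (CohB1.polyGrading n R)).toIdeal) :
    MvPolynomial.coeff 0 f = 0 := by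
  have h : f ∈ HomogeneousIdeal.irrelevant (CohB1.polyGrading n R) := hf
  rw [HomogeneousIdeal.mem_irrelevant_iff, GradedRing.proj_apply] at h
  have h2 : (DirectSum.decompose (CohB1.polyGrading n R) f 0 : MvPolynomial (Fin (n + 1)) R) =
      MvPolynomial.homogeneousComponent 0 f := MvPolynomial.decomposition.decompose'_apply f 0
  rw [h2, MvPolynomial.homogeneousComponent_zero] at h
  exact MvPolynomial.C_injective _ _ (by rw [h, map_zero])

lemma irr_le_span_X : (HomogeneousIdeal.irrelevant (CohB1.polyGrading n R)).toIdeal ≤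
    Ideal.span (Set.range (MvPolynomial.X : Fin (n + 1) → MvPolynomial (Fin (n + 1)) R)) := by
  intro f hf
  rw [← Set.image_univ, MvPolynomial.mem_ideal_span_X_image]
  intro m hm
  have hm0 : m ≠ 0 := by
    rintro rfl
    rw [MvPolynomial.mem_support_iff] at hm
    exact hm (coeff_zero_of_mem_irr n R hf)
  obtain ⟨i, hi⟩ := Finsupp.ne_iff.1 hm0
  exact ⟨i, Set.mem_univ _, hi⟩

theorem cover : (⨆ i : Fin (n + 1), Proj.basicOpen (CohB1.polyGrading n R) (MvPolynomial.X i)) = ⊤ :=
  Proj.iSup_basicOpen_eq_top _ _ (irr_le_span_X n R)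

variable {n R}
variable (i : Fin (n + 1))

/-- the chart map -/
def phi : MvPolynomial {j : Fin (n + 1) // j ≠ i} R →+*
    HomogeneousLocalization.Away (CohB1.polyGrading n R) (MvPolynomial.X i) :=
  MvPolynomial.eval₂Hom
    ((HomogeneousLocalization.fromZeroRingHom (CohB1.polyGrading n R)
      (Submonoid.powers (MvPolynomial.X i))).comp (algebraMap R (CohB1.polyGrading n R 0)))
    (fun j : {j : Fin (n + 1) // j ≠ i} =>
      (HomogeneousLocalization.mk ⟨1, ⟨MvPolynomial.X j.1, MvPolynomial.isHomogeneous_X R j.1⟩,
        ⟨MvPolynomial.X i, MvPolynomial.isHomogeneous_X R i⟩, ⟨1, pow_one _⟩⟩ :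
        HomogeneousLocalization.Away (CohB1.polyGrading n R) (MvPolynomial.X i)))

/-- dehomogenization -/
def delta : MvPolynomial (Fin (n + 1)) R →+* MvPolynomial {j : Fin (n + 1) // j ≠ i} R :=
  MvPolynomial.eval₂Hom MvPolynomial.C (fun l => if h : l = i then 1 else MvPolynomial.X ⟨l, h⟩)

lemma delta_X_self : delta i (MvPolynomial.X i : MvPolynomial (Fin (n + 1)) R) = 1 := by
  unfold delta
  rw [MvPolynomial.eval₂Hom_X', dif_pos rfl]

lemma delta_X_ne (j : {j : Fin (n + 1) // j ≠ i}) :
    delta i (MvPolynomial.X j.1 : MvPolynomial (Fin (n + 1)) R) = MvPolynomial.X j := by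
  unfold delta
  rw [MvPolynomial.eval₂Hom_X', dif_neg j.2]

lemma delta_C (r : R) : delta i (MvPolynomial.C r : MvPolynomial (Fin (n + 1)) R) =
    MvPolynomial.C r := by
  unfold delta
  rw [MvPolynomial.eval₂Hom_C]

lemma isUnit_delta_X : IsUnit (delta i (MvPolynomial.X i : MvPolynomial (Fin (n + 1)) R)) := by
  rw [delta_X_self]; exact isUnit_one

/-- extension of dehomogenization to the localization -/
def delta' : Localization.Away (MvPolynomial.X i : MvPolynomial (Fin (n + 1)) R) →+*
    MvPolynomial {j : Fin (n + 1) // j ≠ i} R :=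
  IsLocalization.Away.lift (MvPolynomial.X i) (isUnit_delta_X i)

lemma delta'_mk (a : MvPolynomial (Fin (n + 1)) R)
    (s : Submonoid.powers (MvPolynomial.X i : MvPolynomial (Fin (n + 1)) R)) :
    delta' i (Localization.mk a s) = delta i a := by
  have hs : delta i s.1 = 1 := by
    obtain ⟨m, hm⟩ := s.2
    rw [← hm, map_pow, delta_X_self, one_pow]
  have h1 : Localization.mk a s * algebraMap _ _ s.1 = algebraMap _ _ a := by
    rw [Localization.mk_eq_mk']
    exact IsLocalization.mk'_spec _ a s
  have h2 := congrArg (delta' i) h1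
  rw [map_mul] at h2
  unfold delta' at h2 ⊢
  rw [IsLocalization.Away.lift_eq, IsLocalization.Away.lift_eq, hs, mul_one] at h2
  exact h2

/-- left inverse of the chart map -/
def psi : HomogeneousLocalization.Away (CohB1.polyGrading n R) (MvPolynomial.X i) →+*
    MvPolynomial {j : Fin (n + 1) // j ≠ i} R :=
  (delta' i).comp (algebraMap _ (Localization.Away (MvPolynomial.X i : MvPolynomial (Fin (n + 1)) R)))

lemma psi_phi : (psi i).comp (phi i) = RingHom.id (MvPolynomial {j : Fin (n + 1) // j ≠ i} R) := by
  apply MvPolynomial.ringHom_ext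
  · intro r
    simp only [RingHom.comp_apply, RingHom.id_apply]
    unfold phi psi
    rw [MvPolynomial.eval₂Hom_C]
    simp only [RingHom.comp_apply, HomogeneousLocalization.algebraMap_apply]
    change delta' i (HomogeneousLocalization.val (HomogeneousLocalization.mk _)) = _
    rw [HomogeneousLocalization.val_mk, delta'_mk]
    exact delta_C i r
  · intro j
    simp only [RingHom.comp_apply, RingHom.id_apply]
    unfold phi psi
    rw [MvPolynomial.eval₂Hom_X']
    simp only [RingHom.comp_apply, HomogeneousLocalization.algebraMap_apply]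
    rw [HomogeneousLocalization.val_mk, delta'_mk]
    exact delta_X_ne i j

lemma phi_injective : Function.Injective (phi (R := R) i) := by
  intro a b hab
  have := congrArg (psi i) hab
  rw [← RingHom.comp_apply, ← RingHom.comp_apply, psi_phi] at this
  exact this

lemma eval₂_mul_of_homogeneous {σ B : Type*} [CommRing B] (f : R →+* B) (g : σ → B) (u : B)
    {a : MvPolynomial σ R} {m : ℕ} (ha : a.IsHomogeneous m) :
    MvPolynomial.eval₂ f (fun l => u * g l) a = u ^ m * MvPolynomial.eval₂ f g a := by
  rw [MvPolynomial.eval₂_eq, MvPolynomial.eval₂_eq, Finset.mul_sum]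
  refine Finset.sum_congr rfl (fun d hd => ?_)
  have hdn : ∑ l ∈ d.support, d l = m := by
    have := ha (MvPolynomial.mem_support_iff.1 hd)
    rw [← this, Finsupp.weight_apply]
    simp [Finsupp.sum]
  have : ∏ l ∈ d.support, (u * g l) ^ d l = u ^ m * ∏ l ∈ d.support, g l ^ d l := by
    simp only [mul_pow]
    rw [Finset.prod_mul_distrib, Finset.prod_pow_eq_pow_sum, hdn]
  rw [this]; ring

/-- the localization -/
abbrev Loc : Type u := Localization.Away (MvPolynomial.X i : MvPolynomial (Fin (n + 1)) R)

/-- the denominator `X i ^ m` -/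
def den (m : ℕ) : Submonoid.powers (MvPolynomial.X i : MvPolynomial (Fin (n + 1)) R) :=
  ⟨MvPolynomial.X i ^ m, ⟨m, rfl⟩⟩

/-- the unit `1 / X i` -/
def uinv : Loc (R := R) i := Localization.mk 1 (den i 1)

/-- `X l ↦ X l / X i` -/
def theta' : MvPolynomial (Fin (n + 1)) R →+* Loc (R := R) i :=
  MvPolynomial.eval₂Hom (algebraMap R (Loc (R := R) i))
    (fun l => uinv i * algebraMap (MvPolynomial (Fin (n + 1)) R) (Loc (R := R) i) (MvPolynomial.X l))

lemma eval₂Hom_alg : (MvPolynomial.eval₂Hom (algebraMap R (Loc (R := R) i))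
    (fun l => algebraMap (MvPolynomial (Fin (n + 1)) R) (Loc (R := R) i) (MvPolynomial.X l))) =
    algebraMap (MvPolynomial (Fin (n + 1)) R) (Loc (R := R) i) := by
  apply MvPolynomial.ringHom_ext
  · intro r
    rw [MvPolynomial.eval₂Hom_C, ← MvPolynomial.algebraMap_eq, ← IsScalarTower.algebraMap_apply]
  · intro l
    rw [MvPolynomial.eval₂Hom_X']

lemma theta'_of_homogeneous {a : MvPolynomial (Fin (n + 1)) R} {m : ℕ} (ha : a.IsHomogeneous m) :
    theta' i a = Localization.mk a (den i m) := by
  unfold theta'
  rw [MvPolynomial.coe_eval₂Hom, eval₂_mul_of_homogeneous _ _ _ ha]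
  have h1 : MvPolynomial.eval₂ (algebraMap R (Loc (R := R) i))
      (fun l => algebraMap (MvPolynomial (Fin (n + 1)) R) (Loc (R := R) i) (MvPolynomial.X l)) a =
      algebraMap (MvPolynomial (Fin (n + 1)) R) (Loc (R := R) i) a :=
    congrFun (congrArg DFunLike.coe (eval₂Hom_alg (R := R) i)) a
  rw [h1]
  unfold uinv
  rw [Localization.mk_pow, one_pow, ← Localization.mk_one_eq_algebraMap, Localization.mk_mul,
    one_mul, mul_one]
  congr 1
  apply Subtype.ext
  simp [den]

lemma theta_eq : ((algebraMap (HomogeneousLocalization.Away (CohB1.polyGrading n R)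
    (MvPolynomial.X i)) (Loc (R := R) i)).comp ((phi i).comp (delta i))) = theta' i := by
  apply MvPolynomial.ringHom_ext
  · intro r
    simp only [RingHom.comp_apply]
    rw [delta_C]
    unfold phi theta'
    rw [MvPolynomial.eval₂Hom_C, MvPolynomial.eval₂Hom_C]
    simp only [RingHom.comp_apply, HomogeneousLocalization.algebraMap_apply]
    change HomogeneousLocalization.val (HomogeneousLocalization.mk _) = _
    rw [HomogeneousLocalization.val_mk]
    change Localization.mk (MvPolynomial.C r) 1 = _
    rw [Localization.mk_one_eq_algebraMap, ← MvPolynomial.algebraMap_eq,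
      ← IsScalarTower.algebraMap_apply]
  · intro l
    simp only [RingHom.comp_apply]
    unfold theta'
    rw [MvPolynomial.eval₂Hom_X']
    unfold uinv
    rw [← Localization.mk_one_eq_algebraMap, Localization.mk_mul, one_mul, mul_one]
    by_cases hl : l = i
    · subst hl
      rw [delta_X_self, map_one, map_one]
      have : den (R := R) l 1 = ⟨MvPolynomial.X l, ⟨1, pow_one _⟩⟩ := by
        apply Subtype.ext; simp [den]
      rw [this]
      exact (Localization.mk_self (⟨MvPolynomial.X l, ⟨1, pow_one _⟩⟩ :
        Submonoid.powers (MvPolynomial.X l : MvPolynomial (Fin (n + 1)) R))).symm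
    · have := delta_X_ne (R := R) i ⟨l, hl⟩
      rw [this]
      unfold phi
      rw [MvPolynomial.eval₂Hom_X']
      simp only [HomogeneousLocalization.algebraMap_apply]
      rw [HomogeneousLocalization.val_mk]
      congr 1
      apply Subtype.ext
      simp [den]

lemma phi_surjective : Function.Surjective (phi (R := R) i) := by
  intro x
  obtain ⟨m, a, ha, rfl⟩ := HomogeneousLocalization.Away.mk_surjective (CohB1.polyGrading n R)
    (MvPolynomial.isHomogeneous_X R i) x
  refine ⟨delta i a, ?_⟩
  apply HomogeneousLocalization.val_injective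
  have h1 := congrFun (congrArg DFunLike.coe (theta_eq (R := R) i)) a
  simp only [RingHom.comp_apply, HomogeneousLocalization.algebraMap_apply] at h1
  rw [h1, HomogeneousLocalization.Away.val_mk]
  have ha' : a.IsHomogeneous m := by
    have := (MvPolynomial.mem_homogeneousSubmodule _ _).1 ha
    simpa using this
  rw [theta'_of_homogeneous i ha']
  rfl

theorem phi_bijective : Function.Bijective (phi (R := R) i) :=
  ⟨phi_injective i, phi_surjective i⟩

end Groth.Agent.Lib.Helper6.ProjChart
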