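import Groth.Prelude.Def_CohTop
import Mathlib.Topology.Sheaves.Flasque
import Mathlib.CategoryTheory.Sites.Limits
import Mathlib.CategoryTheory.Sites.Abelian
import Mathlib.CategoryTheory.Limits.HasLimits
import Mathlib.Algebra.Homology.ShortComplex.ShortExact
import Mathlib.CategoryTheory.Abelian.FunctorCategory
import Mathlib.Algebra.Category.Grp.Limits
import Mathlib.Algebra.Category.Grp.AB
import Mathlib.Topology.Sheaves.Limits

/-!
# Towers of flasque abelian sheaves (helper6)

Sections of a limit of an `ℕᵒᵖ`-tower of abelian sheaves are compatible sequences of sections.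
-/

universe u

namespace Groth.Agent.Lib.Helper6.FlasqueTower

open CategoryTheory CategoryTheory.Limits TopologicalSpace Opposite

variable {X : TopCat.{u}}

/-- Sections over `U`, as a functor on abelian sheaves. -/
noncomputable def secF (U : Opens X) : CohTop.Ab X ⥤ AddCommGrpCat.{u} :=
  sheafToPresheaf _ _ ⋙ (evaluation _ _).obj (op U)

noncomputable instance secF_pres (U : Opens X) : PreservesLimitsOfShape ℕᵒᵖ (secF U) := by
  unfold secF
  infer_instance

noncomputable instance secF_forget_pres (U : Opens X) :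
    PreservesLimitsOfShape ℕᵒᵖ (secF U ⋙ forget AddCommGrpCat) := by
  infer_instance

variable (M : ℕᵒᵖ ⥤ CohTop.Ab X)

/-- The transition map of the tower on sections over `U`. -/
noncomputable def tr (n : ℕ) (U : Opens X) :
    (M.obj (op (n + 1))).obj.obj (op U) ⟶ (M.obj (op n)).obj.obj (op U) :=
  (M.map (homOfLE (Nat.le_succ n)).op).hom.app (op U)

/-- The projection of the limit on sections over `U`. -/
noncomputable def proj (n : ℕ) (U : Opens X) :
    (limit M).obj.obj (op U) ⟶ (M.obj (op n)).obj.obj (op U) :=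
  (limit.π M (op n)).hom.app (op U)

theorem proj_ext (U : Opens X) (x y : (limit M).obj.obj (op U))
    (h : ∀ n, proj M n U x = proj M n U y) : x = y := by
  have hl : IsLimit ((secF U).mapCone (limit.cone M)) := isLimitOfPreserves _ (limit.isLimit M)
  refine Concrete.isLimit_ext (M ⋙ secF U) hl x y ?_
  intro j
  exact h j.unop

theorem map_le (U : Opens X) (s : ∀ n, (M.obj (op n)).obj.obj (op U))
    (hs : ∀ n, tr M n U (s (n + 1)) = s n) (a b : ℕ) (h : a ≤ b) :
    (M.map (homOfLE h).op).hom.app (op U) (s b) = s a := by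
  induction b, h using Nat.le_induction with
  | base =>
    have : (homOfLE (le_refl a)).op = 𝟙 (op a) := rfl
    rw [this, M.map_id]
    rfl
  | succ b hab ih =>
    have : (homOfLE (hab.trans (Nat.le_succ b))).op
        = (homOfLE (Nat.le_succ b)).op ≫ (homOfLE hab).op := rfl
    rw [this, M.map_comp]
    have h2 := hs b
    unfold tr at h2
    show (M.map (homOfLE hab).op).hom.app (op U)
      ((M.map (homOfLE (Nat.le_succ b)).op).hom.app (op U) (s (b + 1))) = s a
    rw [h2, ih]

theorem proj_exists (U : Opens X) (s : ∀ n, (M.obj (op n)).obj.obj (op U))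
    (hs : ∀ n, tr M n U (s (n + 1)) = s n) : ∃ x, ∀ n, proj M n U x = s n := by
  have hl : IsLimit ((secF U ⋙ forget AddCommGrpCat).mapCone (limit.cone M)) :=
    isLimitOfPreserves _ (limit.isLimit M)
  have hsec : (fun j : ℕᵒᵖ => s j.unop) ∈ (M ⋙ secF U ⋙ forget AddCommGrpCat).sections := by
    intro j j' f
    have hf : f = (homOfLE (leOfHom f.unop)).op := Quiver.Hom.unop_inj (Subsingleton.elim _ _)
    rw [hf]
    exact map_le M U s hs j'.unop j.unop (leOfHom f.unop)
  obtain ⟨x, hx, -⟩ := (Types.isLimit_iff _).1 ⟨hl⟩ _ hsec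
  exact ⟨x, fun n => hx (op n)⟩

theorem proj_naturality (n : ℕ) {U V : Opens X} (i : op U ⟶ op V)
    (x : (limit M).obj.obj (op U)) :
    proj M n V ((limit M).obj.map i x) = (M.obj (op n)).obj.map i (proj M n U x) := by
  have h := (limit.π M (op n)).hom.naturality i
  exact congrArg (fun f => f x) (congrArg (fun f => (ConcreteCategory.hom f : _ → _)) h)

theorem tr_proj (n : ℕ) (U : Opens X) (x : (limit M).obj.obj (op U)) :
    tr M n U (proj M (n + 1) U x) = proj M n U x := by
  have h := limit.w M (homOfLE (Nat.le_succ n)).op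
  have h2 : (limit.π M (op (n + 1))).hom.app (op U) ≫
      (M.map (homOfLE (Nat.le_succ n)).op).hom.app (op U) = (limit.π M (op n)).hom.app (op U) := by
    rw [← h]
    rfl
  exact congrArg (fun f => f x) (congrArg (fun f => (ConcreteCategory.hom f : _ → _)) h2)

theorem tr_naturality (n : ℕ) {U V : Opens X} (i : op U ⟶ op V)
    (x : (M.obj (op (n + 1))).obj.obj (op U)) :
    tr M n V ((M.obj (op (n + 1))).obj.map i x) = (M.obj (op n)).obj.map i (tr M n U x) := by
  have h := (M.map (homOfLE (Nat.le_succ n)).op).hom.naturality i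
  exact congrArg (fun f => f x) (congrArg (fun f => (ConcreteCategory.hom f : _ → _)) h)

section Kernel

variable {A B : CohTop.Ab X} (t : A ⟶ B)

/-- The short exact sequence `0 → ker t → A → B → 0` of an epimorphism. -/
noncomputable def kerSC : ShortComplex (CohTop.Ab X) :=
  ShortComplex.mk (kernel.ι t) t (kernel.condition t)

theorem kerSC_shortExact [Epi t] : (kerSC t).ShortExact := by
  have hex : (kerSC t).Exact := ShortComplex.exact_of_f_is_kernel _ (kernelIsKernel t)
  have : Mono (kerSC t).f := by unfold kerSC; infer_instance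
  have : Epi (kerSC t).g := by unfold kerSC; infer_instance
  exact ShortComplex.ShortExact.mk hex

/-- An epimorphism of abelian sheaves with flasque kernel is surjective on sections. -/
theorem surj_of_flasque_kernel [Epi t]
    (hK : TopCat.Sheaf.IsFlasque (kernel t : CohTop.Ab X)) (U : Opens X) :
    Function.Surjective (t.hom.app (op U)) := by
  have hS := kerSC_shortExact t
  have : TopCat.Sheaf.IsFlasque (kerSC t).X₁ := hK
  have := TopCat.Sheaf.IsFlasque.epi_of_shortExact (U := U) hS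
  exact (AddCommGrpCat.epi_iff_surjective _).1 this

theorem exists_kernel_section [Epi t] (U : Opens X) (y : A.obj.obj (op U))
    (hy : t.hom.app (op U) y = 0) :
    ∃ k : (kernel t : CohTop.Ab X).obj.obj (op U), (kernel.ι t).hom.app (op U) k = y := by
  have hS := kerSC_shortExact t
  exact TopCat.Sheaf.sections_exact_of_left_exact hS.1 hS.2 y hy

theorem kernel_ι_comp_apply (U : Opens X) (k : (kernel t : CohTop.Ab X).obj.obj (op U)) :
    t.hom.app (op U) ((kernel.ι t).hom.app (op U) k) = 0 := by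
  have h : (kernel.ι t).hom.app (op U) ≫ t.hom.app (op U) = 0 := by
    rw [← NatTrans.comp_app, ← ObjectProperty.FullSubcategory.comp_hom, kernel.condition]
    rfl
  exact congrArg (fun f => f k) (congrArg (fun f => (ConcreteCategory.hom f : _ → _)) h)

end Kernel

section Main

theorem step {U V : Opens X} (i : op U ⟶ op V) (n : ℕ)
    (hepi : Epi (M.map (homOfLE (Nat.le_succ n)).op))
    (hker : TopCat.Sheaf.IsFlasque (kernel (M.map (homOfLE (Nat.le_succ n)).op) : CohTop.Ab X))
    (s' : (M.obj (op (n + 1))).obj.obj (op V)) (t : (M.obj (op n)).obj.obj (op U))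
    (h : (M.obj (op n)).obj.map i t = tr M n V s') :
    ∃ t' : (M.obj (op (n + 1))).obj.obj (op U),
      (M.obj (op (n + 1))).obj.map i t' = s' ∧ tr M n U t' = t := by
  obtain ⟨t0, ht0⟩ := surj_of_flasque_kernel (M.map (homOfLE (Nat.le_succ n)).op) hker U t
  have ht0' : tr M n U t0 = t := ht0
  have hd : (M.map (homOfLE (Nat.le_succ n)).op).hom.app (op V)
      ((M.obj (op (n + 1))).obj.map i t0 - s') = 0 := by
    rw [map_sub]
    have h1 := tr_naturality M n i t0
    unfold tr at h1 h ht0'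
    rw [h1, ht0', h, sub_self]
  obtain ⟨k, hk⟩ := exists_kernel_section (M.map (homOfLE (Nat.le_succ n)).op) V _ hd
  have hepiK : Epi ((kernel (M.map (homOfLE (Nat.le_succ n)).op) : CohTop.Ab X).obj.map i) :=
    hker.epi i
  obtain ⟨k', hk'⟩ := (AddCommGrpCat.epi_iff_surjective _).1 hepiK k
  refine ⟨t0 - (kernel.ι (M.map (homOfLE (Nat.le_succ n)).op)).hom.app (op U) k', ?_, ?_⟩
  · rw [map_sub]
    have hnat := (kernel.ι (M.map (homOfLE (Nat.le_succ n)).op)).hom.naturality i
    have hnat' := congrArg (fun f => f k')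
      (congrArg (fun f => (ConcreteCategory.hom f : _ → _)) hnat)
    have : (M.obj (op (n + 1))).obj.map i
        ((kernel.ι (M.map (homOfLE (Nat.le_succ n)).op)).hom.app (op U) k')
        = (kernel.ι (M.map (homOfLE (Nat.le_succ n)).op)).hom.app (op V)
          ((kernel (M.map (homOfLE (Nat.le_succ n)).op) : CohTop.Ab X).obj.map i k') := hnat'.symm
    rw [this, hk', hk]
    abel
  · unfold tr
    rw [map_sub, kernel_ι_comp_apply, sub_zero]
    exact ht0

theorem limit_isFlasque
    (hfl : ∀ n : ℕ, TopCat.Sheaf.IsFlasque (M.obj (op n)))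
    (hepi : ∀ n : ℕ, Epi (M.map (homOfLE (Nat.le_succ n)).op))
    (hker : ∀ n : ℕ,
      TopCat.Sheaf.IsFlasque (kernel (M.map (homOfLE (Nat.le_succ n)).op) : CohTop.Ab X)) :
    TopCat.Sheaf.IsFlasque (limit M : CohTop.Ab X) := by
  constructor
  intro U V i
  obtain ⟨U⟩ := U
  obtain ⟨V⟩ := V
  refine (AddCommGrpCat.epi_iff_surjective _).2 fun y => ?_
  let s : ∀ n, (M.obj (op n)).obj.obj (op V) := fun n => proj M n V y
  have hs : ∀ n, tr M n V (s (n + 1)) = s n := fun n => tr_proj M n V y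
  have h0 : ∃ t : (M.obj (op 0)).obj.obj (op U), (M.obj (op 0)).obj.map i t = s 0 :=
    (AddCommGrpCat.epi_iff_surjective _).1 ((hfl 0).epi i) (s 0)
  let f : ∀ n, {t : (M.obj (op n)).obj.obj (op U) // (M.obj (op n)).obj.map i t = s n} :=
    fun n => Nat.rec ⟨h0.choose, h0.choose_spec⟩ (fun n p =>
      ⟨(step M i n (hepi n) (hker n) (s (n + 1)) p.1 (p.2.trans (hs n).symm)).choose,
       (step M i n (hepi n) (hker n) (s (n + 1)) p.1 (p.2.trans (hs n).symm)).choose_spec.1⟩) n
  have hf : ∀ n, tr M n U (f (n + 1)).1 = (f n).1 := fun n =>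
    (step M i n (hepi n) (hker n) (s (n + 1)) (f n).1 ((f n).2.trans (hs n).symm)).choose_spec.2
  obtain ⟨x, hx⟩ := proj_exists M U (fun n => (f n).1) hf
  refine ⟨x, proj_ext M V _ _ fun n => ?_⟩
  rw [proj_naturality, hx, (f n).2]

end Main

section Exact

/-- A morphism of abelian sheaves which is surjective on all sections is an epimorphism. -/
theorem epi_of_sections_surjective {F G : CohTop.Ab X} (φ : F ⟶ G)
    (h : ∀ U : Opens X, Function.Surjective (φ.hom.app (op U))) : Epi φ := by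
  refine (TopCat.Sheaf.isLocallySurjective_iff_epi φ).1 ?_
  refine (TopCat.Presheaf.isLocallySurjective_iff φ.hom).2 fun U t x hx => ?_
  obtain ⟨s, hs⟩ := h U t
  refine ⟨U, le_rfl, ⟨s, ?_⟩, hx⟩
  rw [hs]
  simp [TopCat.Presheaf.restrictOpen, TopCat.Presheaf.restrict]

variable (S : ShortComplex (ℕᵒᵖ ⥤ CohTop.Ab X))

theorem level_shortExact (hS : S.ShortExact) (n : ℕ) :
    (S.map ((evaluation ℕᵒᵖ (CohTop.Ab X)).obj (op n))).ShortExact :=
  hS.map_of_exact _

theorem g_surj (hS : S.ShortExact) (h1 : ∀ n : ℕ, TopCat.Sheaf.IsFlasque (S.X₁.obj (op n)))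
    (n : ℕ) (U : Opens X) : Function.Surjective ((S.g.app (op n)).hom.app (op U)) := by
  have hSn := level_shortExact S hS n
  have : TopCat.Sheaf.IsFlasque (S.map ((evaluation ℕᵒᵖ (CohTop.Ab X)).obj (op n))).X₁ := h1 n
  have := TopCat.Sheaf.IsFlasque.epi_of_shortExact (U := U) hSn
  exact (AddCommGrpCat.epi_iff_surjective _).1 this

theorem exists_f (hS : S.ShortExact) (n : ℕ) (U : Opens X) (z : (S.X₂.obj (op n)).obj.obj (op U))
    (hz : (S.g.app (op n)).hom.app (op U) z = 0) :
    ∃ a : (S.X₁.obj (op n)).obj.obj (op U), (S.f.app (op n)).hom.app (op U) a = z := by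
  have hSn := level_shortExact S hS n
  exact TopCat.Sheaf.sections_exact_of_left_exact hSn.1 hSn.2 z hz

theorem g_f_apply (n : ℕ) (U : Opens X) (a : (S.X₁.obj (op n)).obj.obj (op U)) :
    (S.g.app (op n)).hom.app (op U) ((S.f.app (op n)).hom.app (op U) a) = 0 := by
  have h : (S.f.app (op n)).hom.app (op U) ≫ (S.g.app (op n)).hom.app (op U) = 0 := by
    rw [← NatTrans.comp_app, ← ObjectProperty.FullSubcategory.comp_hom, ← NatTrans.comp_app,
      S.zero]
    rfl
  exact congrArg (fun f => f a) (congrArg (fun f => (ConcreteCategory.hom f : _ → _)) h)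

theorem tr_g (n : ℕ) (U : Opens X) (z : (S.X₂.obj (op (n + 1))).obj.obj (op U)) :
    tr S.X₃ n U ((S.g.app (op (n + 1))).hom.app (op U) z)
      = (S.g.app (op n)).hom.app (op U) (tr S.X₂ n U z) := by
  have h := S.g.naturality (homOfLE (Nat.le_succ n)).op
  have h2 : (S.g.app (op (n + 1))).hom.app (op U) ≫ tr S.X₃ n U
      = tr S.X₂ n U ≫ (S.g.app (op n)).hom.app (op U) := by
    unfold tr
    rw [← NatTrans.comp_app, ← ObjectProperty.FullSubcategory.comp_hom, ← h]
    rfl
  exact congrArg (fun f => f z) (congrArg (fun f => (ConcreteCategory.hom f : _ → _)) h2)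

theorem tr_f (n : ℕ) (U : Opens X) (z : (S.X₁.obj (op (n + 1))).obj.obj (op U)) :
    tr S.X₂ n U ((S.f.app (op (n + 1))).hom.app (op U) z)
      = (S.f.app (op n)).hom.app (op U) (tr S.X₁ n U z) := by
  have h := S.f.naturality (homOfLE (Nat.le_succ n)).op
  have h2 : (S.f.app (op (n + 1))).hom.app (op U) ≫ tr S.X₂ n U
      = tr S.X₁ n U ≫ (S.f.app (op n)).hom.app (op U) := by
    unfold tr
    rw [← NatTrans.comp_app, ← ObjectProperty.FullSubcategory.comp_hom, ← h]
    rfl
  exact congrArg (fun f => f z) (congrArg (fun f => (ConcreteCategory.hom f : _ → _)) h2)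

theorem proj_limMap (n : ℕ) (U : Opens X) (x : (limit S.X₂).obj.obj (op U)) :
    proj S.X₃ n U ((limMap S.g).hom.app (op U) x)
      = (S.g.app (op n)).hom.app (op U) (proj S.X₂ n U x) := by
  have h := limMap_π S.g (op n)
  have h2 : (limMap S.g).hom.app (op U) ≫ proj S.X₃ n U
      = proj S.X₂ n U ≫ (S.g.app (op n)).hom.app (op U) := by
    unfold proj
    rw [← NatTrans.comp_app, ← ObjectProperty.FullSubcategory.comp_hom, h]
    rfl
  exact congrArg (fun f => f x) (congrArg (fun f => (ConcreteCategory.hom f : _ → _)) h2)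

theorem step' (hS : S.ShortExact) (h1 : ∀ n : ℕ, TopCat.Sheaf.IsFlasque (S.X₁.obj (op n)))
    (h2 : ∀ n : ℕ, Epi (S.X₁.map (homOfLE (Nat.le_succ n)).op))
    (h3 : ∀ n : ℕ,
      TopCat.Sheaf.IsFlasque (kernel (S.X₁.map (homOfLE (Nat.le_succ n)).op) : CohTop.Ab X))
    (U : Opens X) (n : ℕ) (s' : (S.X₃.obj (op (n + 1))).obj.obj (op U))
    (t : (S.X₂.obj (op n)).obj.obj (op U))
    (h : (S.g.app (op n)).hom.app (op U) t = tr S.X₃ n U s') :
    ∃ t' : (S.X₂.obj (op (n + 1))).obj.obj (op U),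
      (S.g.app (op (n + 1))).hom.app (op U) t' = s' ∧ tr S.X₂ n U t' = t := by
  obtain ⟨t0, ht0⟩ := g_surj S hS h1 (n + 1) U s'
  have hd : (S.g.app (op n)).hom.app (op U) (tr S.X₂ n U t0 - t) = 0 := by
    rw [map_sub, ← tr_g, ht0, h, sub_self]
  obtain ⟨a, ha⟩ := exists_f S hS n U _ hd
  have := h2 n
  obtain ⟨a', ha'⟩ := surj_of_flasque_kernel (S.X₁.map (homOfLE (Nat.le_succ n)).op) (h3 n) U a
  have ha'' : tr S.X₁ n U a' = a := ha'
  refine ⟨t0 - (S.f.app (op (n + 1))).hom.app (op U) a', ?_, ?_⟩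
  · rw [map_sub, g_f_apply, sub_zero, ht0]
  · rw [map_sub, tr_f, ha'', ha]
    abel

theorem limMap_epi (hS : S.ShortExact)
    (h1 : ∀ n : ℕ, TopCat.Sheaf.IsFlasque (S.X₁.obj (op n)))
    (h2 : ∀ n : ℕ, Epi (S.X₁.map (homOfLE (Nat.le_succ n)).op))
    (h3 : ∀ n : ℕ,
      TopCat.Sheaf.IsFlasque (kernel (S.X₁.map (homOfLE (Nat.le_succ n)).op) : CohTop.Ab X)) :
    Epi (limMap S.g) := by
  refine epi_of_sections_surjective _ fun U y => ?_
  let s : ∀ n, (S.X₃.obj (op n)).obj.obj (op U) := fun n => proj S.X₃ n U y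
  have hs : ∀ n, tr S.X₃ n U (s (n + 1)) = s n := fun n => tr_proj S.X₃ n U y
  have h0 : ∃ t : (S.X₂.obj (op 0)).obj.obj (op U), (S.g.app (op 0)).hom.app (op U) t = s 0 :=
    g_surj S hS h1 0 U (s 0)
  let f : ∀ n, {t : (S.X₂.obj (op n)).obj.obj (op U) //
      (S.g.app (op n)).hom.app (op U) t = s n} :=
    fun n => Nat.rec ⟨h0.choose, h0.choose_spec⟩ (fun n p =>
      ⟨(step' S hS h1 h2 h3 U n (s (n + 1)) p.1 (p.2.trans (hs n).symm)).choose,
       (step' S hS h1 h2 h3 U n (s (n + 1)) p.1 (p.2.trans (hs n).symm)).choose_spec.1⟩) n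
  have hf : ∀ n, tr S.X₂ n U (f (n + 1)).1 = (f n).1 := fun n =>
    (step' S hS h1 h2 h3 U n (s (n + 1)) (f n).1 ((f n).2.trans (hs n).symm)).choose_spec.2
  obtain ⟨x, hx⟩ := proj_exists S.X₂ U (fun n => (f n).1) hf
  refine ⟨x, proj_ext S.X₃ U _ _ fun n => ?_⟩
  rw [proj_limMap, hx, (f n).2]

end Exact

end Groth.Agent.Lib.Helper6.FlasqueTower
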