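import Groth.Prelude.Def_LocCohZ
import Mathlib.Topology.Sheaves.Flasque
import Groth.Agent.Lib.Helper6.FlasqueTower

/-!
# Sections with support in a closed subset (helper6)

`CohCx.sectSupp U F` is the kernel of the unit `F ⟶ j_* j⁻¹ F` of Mathlib's (abstractly chosen)
pullback–pushforward adjunction.  We compare with the explicit adjunction "restriction ⊣ pushforward"
for the open embedding `j : U → X`, whose unit is the restriction `F(V) ⟶ F(V ∩ U)`.
-/

universe u

namespace Groth.Agent.Lib.Helper6.SectSupp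

open CategoryTheory CategoryTheory.Limits TopologicalSpace Opposite

theorem map_cont {X Y : TopCat.{u}} (f : X ⟶ Y) :
    (Opens.map f).IsContinuous (Opens.grothendieckTopology Y) (Opens.grothendieckTopology X) :=
  inferInstance

variable {X : TopCat.{u}} (U : Opens X)

theorem hj : Topology.IsOpenEmbedding (CohCx.incl U) := U.isOpenEmbedding

/-- The explicit adjunction "restriction to `U`" ⊣ pushforward. -/
noncomputable def adj' : (hj U).sheafPullback AddCommGrpCat.{u} ⊣
    TopCat.Sheaf.pushforward AddCommGrpCat.{u} (CohCx.incl U) :=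
  haveI := Topology.IsOpenEmbedding.functor_isContinuous (hj U)
  haveI := map_cont (CohCx.incl U)
  (hj U).isOpenMap.adjunction.sheafPushforwardContinuous (E := AddCommGrpCat.{u})
    (Opens.grothendieckTopology (TopCat.of U)) (Opens.grothendieckTopology X)

/-- The open `V ∩ U`, as the image of the preimage. -/
noncomputable def W (V : Opens X) : Opens X :=
  (hj U).isOpenMap.functor.obj ((Opens.map (CohCx.incl U)).obj V)

theorem W_eq (V : Opens X) : W U V = V ⊓ U := Opens.functor_map_eq_inf U V

theorem W_le (V : Opens X) : W U V ≤ V := by rw [W_eq]; exact inf_le_left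

theorem adj'_unit_app (F : TopCat.Sheaf AddCommGrpCat.{u} X) (V : Opens X) :
    ((adj' U).unit.app F).hom.app (op V) = F.obj.map (homOfLE (W_le U V)).op := by
  simp [adj']
  rfl

/-- The unit of Mathlib's pullback–pushforward adjunction along `j : U → X`. -/
noncomputable abbrev η (F : TopCat.Sheaf AddCommGrpCat.{u} X) :=
  (TopCat.Sheaf.pullbackPushforwardAdjunction AddCommGrpCat.{u} (CohCx.incl U)).unit.app F

theorem comp_app_apply {A B C : TopCat.Sheaf AddCommGrpCat.{u} X} (a : A ⟶ B) (b : B ⟶ C)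
    (V : Opens X) (s : A.obj.obj (op V)) :
    (a ≫ b).hom.app (op V) s = b.hom.app (op V) (a.hom.app (op V) s) := rfl

theorem unit_zero_iff (F : TopCat.Sheaf AddCommGrpCat.{u} X) (V : Opens X)
    (s : F.obj.obj (op V)) :
    (η U F).hom.app (op V) s = 0 ↔ F.obj.map (homOfLE (W_le U V)).op s = 0 := by
  have h1 := Adjunction.unit_leftAdjointUniq_hom_app
    (TopCat.Sheaf.pullbackPushforwardAdjunction AddCommGrpCat.{u} (CohCx.incl U)) (adj' U) F
  have h2 := Adjunction.unit_leftAdjointUniq_hom_app (adj' U)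
    (TopCat.Sheaf.pullbackPushforwardAdjunction AddCommGrpCat.{u} (CohCx.incl U)) F
  rw [← adj'_unit_app]
  constructor
  · intro h
    have h1' := congrArg (fun φ => (ConcreteCategory.hom (φ.hom.app (op V))) s) h1
    refine h1'.symm.trans ?_
    refine (comp_app_apply _ _ V s).trans ?_
    exact (congrArg _ h).trans (map_zero _)
  · intro h
    have h2' := congrArg (fun φ => (ConcreteCategory.hom (φ.hom.app (op V))) s) h2
    refine h2'.symm.trans ?_
    refine (comp_app_apply _ _ V s).trans ?_
    exact (congrArg _ h).trans (map_zero _)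

theorem map_map_apply (F : TopCat.Sheaf AddCommGrpCat.{u} X) {V₁ V₂ V₃ : Opens X}
    (h₁ : V₂ ≤ V₁) (h₂ : V₃ ≤ V₂) (s : F.obj.obj (op V₁)) :
    F.obj.map (homOfLE h₂).op (F.obj.map (homOfLE h₁).op s)
      = F.obj.map (homOfLE (h₂.trans h₁)).op s := by
  have : (homOfLE (h₂.trans h₁)).op = (homOfLE h₁).op ≫ (homOfLE h₂).op := rfl
  rw [this, F.obj.map_comp]
  rfl

/-- Gluing two sections agreeing on the intersection. -/
theorem glue_two (F : TopCat.Sheaf AddCommGrpCat.{u} X) (V₁ V₂ : Opens X)
    (s₁ : F.obj.obj (op V₁)) (s₂ : F.obj.obj (op V₂))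
    (h : F.obj.map (homOfLE (inf_le_left : V₁ ⊓ V₂ ≤ V₁)).op s₁
      = F.obj.map (homOfLE (inf_le_right : V₁ ⊓ V₂ ≤ V₂)).op s₂) :
    ∃ z : F.obj.obj (op (V₁ ⊔ V₂)),
      F.obj.map (homOfLE (le_sup_left : V₁ ≤ V₁ ⊔ V₂)).op z = s₁ ∧
      F.obj.map (homOfLE (le_sup_right : V₂ ≤ V₁ ⊔ V₂)).op z = s₂ := by
  let f : Bool → Opens X := fun b => cond b V₁ V₂
  let sf : (b : Bool) → F.obj.obj (op (f b)) := fun b =>
    match b with
    | true => s₁
    | false => s₂
  have hle : ∀ b, f b ≤ V₁ ⊔ V₂ := fun b => by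
    cases b
    · exact le_sup_right
    · exact le_sup_left
  have hcov : V₁ ⊔ V₂ ≤ iSup f := by
    refine sup_le ?_ ?_
    · exact le_iSup f true
    · exact le_iSup f false
  have hcompat : TopCat.Presheaf.IsCompatible F.obj f sf := by
    intro i j
    cases i <;> cases j
    · rfl
    · have := congrArg (F.obj.map (homOfLE (le_of_eq (inf_comm V₂ V₁))).op) h
      rw [map_map_apply, map_map_apply] at this
      exact this.symm
    · exact h
    · rfl
  obtain ⟨z, hz, -⟩ := TopCat.Sheaf.existsUnique_gluing' F f (V₁ ⊔ V₂) (fun b => homOfLE (hle b))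
    hcov sf hcompat
  exact ⟨z, hz true, hz false⟩

section Kernel

variable {A B : CohTop.Ab X} (t : A ⟶ B)

theorem exists_kernel_section' (V : Opens X) (y : A.obj.obj (op V))
    (hy : t.hom.app (op V) y = 0) :
    ∃ k : (kernel t : CohTop.Ab X).obj.obj (op V), (kernel.ι t).hom.app (op V) k = y := by
  have hex : (FlasqueTower.kerSC t).Exact :=
    ShortComplex.exact_of_f_is_kernel _ (kernelIsKernel t)
  have hm : Mono (FlasqueTower.kerSC t).f := by unfold FlasqueTower.kerSC; infer_instance
  exact TopCat.Sheaf.sections_exact_of_left_exact hex hm y hy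

theorem ι_injective (V : Opens X) :
    Function.Injective ((kernel.ι t).hom.app (op V)) := by
  have h1 : Mono (kernel.ι t).hom := (Sheaf.Hom.mono_iff_presheaf_mono _ _ _).1 inferInstance
  have h2 : Mono ((kernel.ι t).hom.app (op V)) := by
    rw [NatTrans.mono_iff_mono_app] at h1
    exact h1 (op V)
  exact (AddCommGrpCat.mono_iff_injective _).1 h2

end Kernel

theorem sectSupp_isFlasque (A : CohTop.Ab X) [hA : TopCat.Sheaf.IsFlasque A] :
    TopCat.Sheaf.IsFlasque (CohCx.sectSupp U A) := by
  constructor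
  intro V V' i
  obtain ⟨V⟩ := V
  obtain ⟨V'⟩ := V'
  have hV'V : V' ≤ V := leOfHom i.unop
  refine (AddCommGrpCat.epi_iff_surjective _).2 fun k => ?_
  have hy : (η U A).hom.app (op V') ((kernel.ι (η U A)).hom.app (op V') k) = 0 :=
    FlasqueTower.kernel_ι_comp_apply (η U A) V' k
  have hy' := (unit_zero_iff U A V' _).1 hy
  have hcomp : A.obj.map (homOfLE (inf_le_left : V' ⊓ W U V ≤ V')).op
      ((kernel.ι (η U A)).hom.app (op V') k)
      = A.obj.map (homOfLE (inf_le_right : V' ⊓ W U V ≤ W U V)).op 0 := by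
    rw [map_zero]
    have hle : V' ⊓ W U V ≤ W U V' := by
      rw [W_eq, W_eq]
      exact le_inf inf_le_left (inf_le_right.trans inf_le_right)
    rw [← map_map_apply A (W_le U V') hle, hy', map_zero]
  obtain ⟨z, hz1, hz2⟩ := glue_two A V' (W U V) _ 0 hcomp
  have hsup : V' ⊔ W U V ≤ V := sup_le hV'V (W_le U V)
  obtain ⟨z', hz'⟩ := (AddCommGrpCat.epi_iff_surjective _).1 (hA.epi (homOfLE hsup).op) z
  have hz'W : A.obj.map (homOfLE (W_le U V)).op z' = 0 := by
    rw [← map_map_apply A hsup le_sup_right z', hz', hz2]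
  have ht0 : (η U A).hom.app (op V) z' = 0 := (unit_zero_iff U A V z').2 hz'W
  obtain ⟨k', hk'⟩ := exists_kernel_section' (η U A) V z' ht0
  refine ⟨k', ?_⟩
  apply ι_injective (η U A) V'
  have hnat := (kernel.ι (η U A)).hom.naturality i
  have hnat' := congrArg (fun f => f k')
    (congrArg (fun f => (ConcreteCategory.hom f : _ → _)) hnat)
  refine hnat'.trans ?_
  have e1 : A.obj.map i ((kernel.ι (η U A)).hom.app (op V) k') = A.obj.map i z' :=
    congrArg (fun x => A.obj.map i x) hk'
  refine Eq.trans e1 ?_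
  have hi : i = (homOfLE hV'V).op := Quiver.Hom.unop_inj (Subsingleton.elim _ _)
  rw [hi, ← map_map_apply A hsup le_sup_left z', hz', hz1]
  rfl

end Groth.Agent.Lib.Helper6.SectSupp
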