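import Mathlib
import Groth.Prelude.Def_Found

/-! N-1 / N-2 / universally Japanese: localization lemmas. -/

namespace Groth.Agent.Lib.Helper6.Japanese

universe u

theorem loc_finite {R : Type*} [CommRing R] (M : Submonoid R) (S : Type*) [CommRing S] [Algebra R S]
    [IsLocalization M S] (L : Type*) [CommRing L] [Algebra R L] [Algebra S L] [IsScalarTower R S L]
    (h : Module.Finite R (integralClosure R L)) : Module.Finite S (integralClosure S L) := by
  have hfg : (Subalgebra.toSubmodule (integralClosure R L)).FG := Module.Finite.iff_fg.mp h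
  obtain ⟨t, ht⟩ := hfg
  refine Module.Finite.iff_fg.mpr (⟨t, ?_⟩ : (Subalgebra.toSubmodule (integralClosure S L)).FG)
  apply le_antisymm
  · rw [Submodule.span_le]
    intro x hx
    have h1 : x ∈ Subalgebra.toSubmodule (integralClosure R L) := by
      rw [← ht]; exact Submodule.subset_span hx
    have h2 : IsIntegral R x := h1
    exact h2.tower_top
  · intro y hy
    have hy' : IsIntegral S y := hy
    obtain ⟨m, hm⟩ := IsIntegral.exists_multiple_integral_of_isLocalization M y hy'
    have h1 : (m • y) ∈ Submodule.span R (t : Set L) := by rw [ht]; exact hm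
    have h2 : (m • y) ∈ Submodule.span S (t : Set L) := Submodule.span_le_restrictScalars R S _ h1
    have h3 : y = IsLocalization.mk' S (1:R) m • (m • y) := by
      rw [Submonoid.smul_def, ← algebraMap_smul S (m : R) y, smul_smul, IsLocalization.mk'_spec,
        map_one, one_smul]
    rw [h3]
    exact Submodule.smul_mem _ _ h2

/-- If `S = M⁻¹R` is a domain and `K` is a fraction field of `S`, it is one of `R`. -/
theorem isFractionRing_of_loc {R : Type*} [CommRing R] [IsDomain R] (M : Submonoid R) (S : Type*)
    [CommRing S] [IsDomain S] [Algebra R S] [IsLocalization M S] (K : Type*) [Field K] [Algebra R K]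
    [Algebra S K] [IsScalarTower R S K] [IsFractionRing S K] : IsFractionRing R K := by
  have hM : M ≤ nonZeroDivisors R := by
    intro y hy
    rw [mem_nonZeroDivisors_iff_ne_zero]
    rintro rfl
    have := IsLocalization.map_units S (⟨0, hy⟩ : M)
    simp at this
  have hinj : Function.Injective (algebraMap R K) := by
    rw [IsScalarTower.algebraMap_eq R S K]
    exact (IsFractionRing.injective S K).comp (IsLocalization.injective S hM)
  haveI : FaithfulSMul R K := (faithfulSMul_iff_algebraMap_injective R K).mpr hinj
  refine IsFractionRing.of_field R K ?_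
  intro z
  obtain ⟨s₁, s₂, hs₂, rfl⟩ := IsFractionRing.div_surjective (A := S) z
  obtain ⟨r₁, m₁, rfl⟩ := IsLocalization.exists_mk'_eq M s₁
  obtain ⟨r₂, m₂, rfl⟩ := IsLocalization.exists_mk'_eq M s₂
  refine ⟨r₁ * m₂, r₂ * m₁, ?_⟩
  have hm₁ : algebraMap R K m₁ ≠ 0 := by
    rw [map_ne_zero_iff _ hinj]; exact nonZeroDivisors.ne_zero (hM m₁.2)
  have hm₂ : algebraMap R K m₂ ≠ 0 := by
    rw [map_ne_zero_iff _ hinj]; exact nonZeroDivisors.ne_zero (hM m₂.2)
  have e₁ : algebraMap S K (IsLocalization.mk' S r₁ m₁) = algebraMap R K r₁ / algebraMap R K m₁ := by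
    rw [eq_div_iff hm₁, IsScalarTower.algebraMap_apply R S K, IsScalarTower.algebraMap_apply R S K,
      ← map_mul, IsLocalization.mk'_spec]
  have e₂ : algebraMap S K (IsLocalization.mk' S r₂ m₂) = algebraMap R K r₂ / algebraMap R K m₂ := by
    rw [eq_div_iff hm₂, IsScalarTower.algebraMap_apply R S K, IsScalarTower.algebraMap_apply R S K,
      ← map_mul, IsLocalization.mk'_spec]
  rw [e₁, e₂, map_mul, map_mul]
  have hr₂ : algebraMap R K r₂ ≠ 0 := by
    intro h0
    have : algebraMap S K (IsLocalization.mk' S r₂ m₂) = 0 := by rw [e₂, h0, zero_div]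
    have h3 : IsLocalization.mk' S r₂ m₂ = 0 := (map_eq_zero_iff _ (IsFractionRing.injective S K)).mp this
    exact nonZeroDivisors.ne_zero hs₂ h3
  field_simp

theorem n1_of_finite {R : Type u} [CommRing R] [IsDomain R] (K : Type*) [Field K] [Algebra R K]
    [IsFractionRing R K] (h : Module.Finite R (integralClosure R K)) : CAlg.IsN1 R := by
  unfold CAlg.IsN1
  let e : K ≃ₐ[R] FractionRing R := (FractionRing.algEquiv R K).symm
  exact Module.Finite.equiv e.mapIntegralClosure.toLinearEquiv

theorem finite_of_n1 {R : Type u} [CommRing R] [IsDomain R] (K : Type*) [Field K] [Algebra R K]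
    [IsFractionRing R K] (h : CAlg.IsN1 R) : Module.Finite R (integralClosure R K) := by
  unfold CAlg.IsN1 at h
  let e : FractionRing R ≃ₐ[R] K := (FractionRing.algEquiv R K)
  exact Module.Finite.equiv e.mapIntegralClosure.toLinearEquiv

theorem n2_apply {R : Type u} [CommRing R] [IsDomain R] (h : CAlg.IsN2 R) (K L : Type u) [Field K]
    [Field L] [Algebra R K] [IsFractionRing R K] [Algebra R L] [Algebra K L] [IsScalarTower R K L]
    [FiniteDimensional K L] : Module.Finite R (integralClosure R L) := by
  have hinj : Function.Injective (algebraMap R L) := by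
    rw [IsScalarTower.algebraMap_eq R K L]
    exact (algebraMap K L).injective.comp (IsFractionRing.injective R K)
  have : FaithfulSMul R L := (faithfulSMul_iff_algebraMap_injective R L).mpr hinj
  letI := FractionRing.liftAlgebra R L
  have := FractionRing.isScalarTower_liftAlgebra R L
  apply h L
  let e : K ≃ₐ[R] FractionRing R := (FractionRing.algEquiv R K).symm
  refine Module.Finite.of_equiv_equiv (A₁ := K) (B₁ := L) e.toRingEquiv (RingEquiv.refl L) ?_
  apply IsLocalization.ringHom_ext (nonZeroDivisors R)
  ext r
  simp [← IsScalarTower.algebraMap_apply]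

theorem n1_loc (R : Type u) [CommRing R] [IsDomain R] (M : Submonoid R)
    (S : Type u) [CommRing S] [IsDomain S] [Algebra R S] [IsLocalization M S]
    (h : CAlg.IsN1 R) : CAlg.IsN1 S := by
  have : IsFractionRing R (FractionRing S) := isFractionRing_of_loc M S (FractionRing S)
  have h1 : Module.Finite R (integralClosure R (FractionRing S)) := finite_of_n1 (FractionRing S) h
  exact loc_finite M S (FractionRing S) h1

theorem n2_loc (R : Type u) [CommRing R] [IsDomain R] (M : Submonoid R)
    (S : Type u) [CommRing S] [IsDomain S] [Algebra R S] [IsLocalization M S]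
    (h : CAlg.IsN2 R) : CAlg.IsN2 S := by
  intro L _ _ _ _ hfin
  have : IsFractionRing R (FractionRing S) := isFractionRing_of_loc M S (FractionRing S)
  letI : Algebra R L := ((algebraMap S L).comp (algebraMap R S)).toAlgebra
  have : IsScalarTower R S L := IsScalarTower.of_algebraMap_eq (fun _ => rfl)
  have : IsScalarTower R (FractionRing S) L := IsScalarTower.of_algebraMap_eq (fun r => by
    rw [IsScalarTower.algebraMap_apply R S (FractionRing S),
      ← IsScalarTower.algebraMap_apply S (FractionRing S) L]
    rfl)
  have h1 := n2_apply h (FractionRing S) L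
  exact loc_finite M S L h1

theorem exists_integral_gens {R : Type*} [CommRing R] (M : Submonoid R) (S : Type*) [CommRing S]
    [Algebra R S] [IsLocalization M S] (L : Type*) [CommRing L] [Algebra R L] [Algebra S L]
    [IsScalarTower R S L] (h : Module.Finite S (integralClosure S L)) :
    ∃ T : Finset L, (∀ z ∈ T, IsIntegral R z) ∧
      ∀ y : L, IsIntegral S y → y ∈ Submodule.span S (T : Set L) := by
  classical
  obtain ⟨t, ht⟩ := (Module.Finite.iff_fg.mp h : (Subalgebra.toSubmodule (integralClosure S L)).FG)
  have hint : ∀ y ∈ t, IsIntegral S y := fun y hy => by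
    have : y ∈ Subalgebra.toSubmodule (integralClosure S L) := by
      rw [← ht]; exact Submodule.subset_span hy
    exact this
  have hm : ∀ y : L, ∃ m : M, y ∈ t → IsIntegral R (m • y) := by
    intro y
    by_cases hy : y ∈ t
    · obtain ⟨m, hm⟩ := IsIntegral.exists_multiple_integral_of_isLocalization M y (hint y hy)
      exact ⟨m, fun _ => hm⟩
    · exact ⟨1, fun h => absurd h hy⟩
  choose m hm using hm
  refine ⟨t.image (fun y => m y • y), ?_, ?_⟩
  · intro z hz
    obtain ⟨y, hy, rfl⟩ := Finset.mem_image.mp hz
    exact hm y hy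
  · intro y hy
    have h1 : y ∈ Submodule.span S (t : Set L) := by rw [ht]; exact hy
    refine Submodule.span_le.mpr ?_ h1
    intro z hz
    have h3 : z = IsLocalization.mk' S (1:R) (m z) • (m z • z) := by
      rw [Submonoid.smul_def, ← algebraMap_smul S ((m z : M) : R) z, smul_smul,
        IsLocalization.mk'_spec, map_one, one_smul]
    rw [h3]
    refine Submodule.smul_mem _ _ (Submodule.subset_span ?_)
    rw [Finset.coe_image]
    exact ⟨z, hz, rfl⟩

theorem cover_finite {R : Type*} [CommRing R] {ι : Type*} [Finite ι] (f : ι → R)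
    (hf : Ideal.span (Set.range f) = ⊤) (L : Type*) [CommRing L] [Algebra R L]
    (Rf : ι → Type*) [∀ i, CommRing (Rf i)] [∀ i, Algebra R (Rf i)]
    [∀ i, IsLocalization.Away (f i) (Rf i)] [∀ i, Algebra (Rf i) L] [∀ i, IsScalarTower R (Rf i) L]
    (h : ∀ i, Module.Finite (Rf i) (integralClosure (Rf i) L)) :
    Module.Finite R (integralClosure R L) := by
  classical
  have := Fintype.ofFinite ι
  choose T hT1 hT2 using fun i => exists_integral_gens (Submonoid.powers (f i)) (Rf i) L (h i)
  refine Module.Finite.iff_fg.mpr
    (⟨Finset.univ.biUnion T, ?_⟩ : (Subalgebra.toSubmodule (integralClosure R L)).FG)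
  apply le_antisymm
  · rw [Submodule.span_le]
    intro z hz
    simp only [Finset.coe_biUnion, Finset.coe_univ, Set.mem_univ, Set.iUnion_true,
      Set.mem_iUnion, Finset.mem_coe] at hz
    obtain ⟨i, hi⟩ := hz
    exact hT1 i z hi
  · intro y hy
    have hy' : IsIntegral R y := hy
    apply Submodule.mem_of_span_eq_top_of_smul_pow_mem _ (Set.range f) hf
    rintro ⟨_, i, rfl⟩
    have h1 := hT2 i y hy'.tower_top
    obtain ⟨⟨_, n, rfl⟩, hn⟩ :=
      multiple_mem_span_of_mem_localization_span (Submonoid.powers (f i)) (Rf i) _ y h1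
    refine ⟨n, Submodule.span_mono ?_ hn⟩
    intro z hz
    simp only [Finset.coe_biUnion, Finset.coe_univ, Set.mem_univ, Set.iUnion_true,
      Set.mem_iUnion, Finset.mem_coe]
    exact ⟨i, hz⟩

theorem away_ne_zero {R : Type*} [CommRing R] (x : R) (S : Type*) [CommRing S] [Nontrivial S]
    [Algebra R S] [IsLocalization.Away x S] : x ≠ 0 := by
  intro h0
  have := IsLocalization.map_units S (⟨x, Submonoid.mem_powers _⟩ : Submonoid.powers x)
  simp only [h0, map_zero] at this
  exact not_isUnit_zero this

theorem n1_cover (R : Type u) [CommRing R] [IsDomain R]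
    {ι : Type u} [Finite ι] (f : ι → R) (hf : Ideal.span (Set.range f) = ⊤)
    (Rf : ι → Type u) [∀ i, CommRing (Rf i)] [∀ i, IsDomain (Rf i)] [∀ i, Algebra R (Rf i)]
    [∀ i, IsLocalization.Away (f i) (Rf i)] (h : ∀ i, CAlg.IsN1 (Rf i)) : CAlg.IsN1 R := by
  have hne : ∀ i, f i ≠ 0 := fun i => away_ne_zero (f i) (Rf i)
  have hu : ∀ i, IsUnit (algebraMap R (FractionRing R) (f i)) := fun i =>
    IsUnit.mk0 _ ((map_ne_zero_iff _ (IsFractionRing.injective R (FractionRing R))).mpr (hne i))
  letI alg : ∀ i, Algebra (Rf i) (FractionRing R) := fun i =>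
    (IsLocalization.Away.lift (f i) (hu i)).toAlgebra
  have tower : ∀ i, IsScalarTower R (Rf i) (FractionRing R) := fun i =>
    IsScalarTower.of_algebraMap_eq (fun r => (IsLocalization.Away.lift_eq (f i) (hu i) r).symm)
  have frac : ∀ i, IsFractionRing (Rf i) (FractionRing R) := fun i =>
    IsFractionRing.isFractionRing_of_isDomain_of_isLocalization (Submonoid.powers (f i)) (Rf i)
      (FractionRing R)
  exact cover_finite f hf (FractionRing R) Rf (fun i => finite_of_n1 (FractionRing R) (h i))

theorem n2_cover (R : Type u) [CommRing R] [IsDomain R]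
    {ι : Type u} [Finite ι] (f : ι → R) (hf : Ideal.span (Set.range f) = ⊤)
    (Rf : ι → Type u) [∀ i, CommRing (Rf i)] [∀ i, IsDomain (Rf i)] [∀ i, Algebra R (Rf i)]
    [∀ i, IsLocalization.Away (f i) (Rf i)] (h : ∀ i, CAlg.IsN2 (Rf i)) : CAlg.IsN2 R := by
  intro L _ _ _ _ hfin
  have hne : ∀ i, f i ≠ 0 := fun i => away_ne_zero (f i) (Rf i)
  have hu : ∀ i, IsUnit (algebraMap R (FractionRing R) (f i)) := fun i =>
    IsUnit.mk0 _ ((map_ne_zero_iff _ (IsFractionRing.injective R (FractionRing R))).mpr (hne i))
  have hinjL : Function.Injective (algebraMap R L) := by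
    rw [IsScalarTower.algebraMap_eq R (FractionRing R) L]
    exact (algebraMap (FractionRing R) L).injective.comp (IsFractionRing.injective R (FractionRing R))
  have huL : ∀ i, IsUnit (algebraMap R L (f i)) := fun i =>
    IsUnit.mk0 _ ((map_ne_zero_iff _ hinjL).mpr (hne i))
  letI alg : ∀ i, Algebra (Rf i) (FractionRing R) := fun i =>
    (IsLocalization.Away.lift (f i) (hu i)).toAlgebra
  have tower : ∀ i, IsScalarTower R (Rf i) (FractionRing R) := fun i =>
    IsScalarTower.of_algebraMap_eq (fun r => (IsLocalization.Away.lift_eq (f i) (hu i) r).symm)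
  have frac : ∀ i, IsFractionRing (Rf i) (FractionRing R) := fun i =>
    IsFractionRing.isFractionRing_of_isDomain_of_isLocalization (Submonoid.powers (f i)) (Rf i)
      (FractionRing R)
  letI algL : ∀ i, Algebra (Rf i) L := fun i =>
    (IsLocalization.Away.lift (f i) (huL i)).toAlgebra
  have towerL : ∀ i, IsScalarTower R (Rf i) L := fun i =>
    IsScalarTower.of_algebraMap_eq (fun r => (IsLocalization.Away.lift_eq (f i) (huL i) r).symm)
  have towerKL : ∀ i, IsScalarTower (Rf i) (FractionRing R) L := fun i => by
    apply IsScalarTower.of_algebraMap_eq'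
    apply IsLocalization.ringHom_ext (Submonoid.powers (f i))
    ext r
    simp only [RingHom.comp_apply]
    rw [← IsScalarTower.algebraMap_apply R (Rf i) L, ← IsScalarTower.algebraMap_apply R (Rf i)
      (FractionRing R), ← IsScalarTower.algebraMap_apply R (FractionRing R) L]
  exact cover_finite f hf L Rf (fun i => n2_apply (h i) (FractionRing R) L)

/-- Key lemma for "all finite extensions N-1 ⇒ N-2". -/
theorem key_n2 (S : Type u) [CommRing S] [IsDomain S] (L : Type u) [Field L] [Algebra S L]
    [Algebra (FractionRing S) L] [IsScalarTower S (FractionRing S) L]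
    [FiniteDimensional (FractionRing S) L]
    (h : ∀ (S'' : Subalgebra S L), Module.Finite S S'' → CAlg.IsN1 S'') :
    Module.Finite S (integralClosure S L) := by
  classical
  have hinj : Function.Injective (algebraMap S L) := by
    rw [IsScalarTower.algebraMap_eq S (FractionRing S) L]
    exact (algebraMap (FractionRing S) L).injective.comp
      (IsFractionRing.injective S (FractionRing S))
  -- spanning set
  obtain ⟨t, ht⟩ := (Module.Finite.fg_top : (⊤ : Submodule (FractionRing S) L).FG)
  have halg : ∀ l : L, IsAlgebraic S l := fun l =>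
    (IsFractionRing.isAlgebraic_iff S (FractionRing S) L).mpr
      (Algebra.IsAlgebraic.isAlgebraic (R := FractionRing S) l)
  choose d hd0 hdint using fun l : L => (halg l).exists_integral_multiple
  let T : Finset L := t.image (fun l => d l • l)
  let S'' : Subalgebra S L := Algebra.adjoin S (T : Set L)
  have hTint : ∀ x ∈ (T : Set L), IsIntegral S x := by
    intro x hx
    obtain ⟨l, _, rfl⟩ := Finset.mem_image.mp hx
    exact hdint l
  have hfin : Module.Finite S S'' :=
    Module.Finite.iff_fg.mpr (fg_adjoin_of_finite T.finite_toSet hTint)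
  have hn1 : CAlg.IsN1 S'' := h S'' hfin
  -- S'' has fraction field L
  have hfrac : IsFractionRing S'' L := by
    refine IsFractionRing.of_field S'' L ?_
    have hP : ∀ z : L, z ∈ Submodule.span (FractionRing S) (t : Set L) →
        ∃ x y : S'', (y : L) ≠ 0 ∧ z = (x : L) / (y : L) := by
      intro z hz
      induction hz using Submodule.span_induction with
      | mem l hl =>
        refine ⟨⟨d l • l, Algebra.subset_adjoin (Finset.mem_image_of_mem _ hl)⟩,
          algebraMap S S'' (d l), ?_, ?_⟩
        · show algebraMap S L (d l) ≠ 0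
          exact (map_ne_zero_iff _ hinj).mpr (hd0 l)
        · show l = (d l • l) / algebraMap S L (d l)
          rw [Algebra.smul_def, mul_div_cancel_left₀]
          exact (map_ne_zero_iff _ hinj).mpr (hd0 l)
      | zero => exact ⟨0, 1, by simp, by simp⟩
      | add z z' _ _ ih ih' =>
        obtain ⟨x, y, hy, rfl⟩ := ih
        obtain ⟨x', y', hy', rfl⟩ := ih'
        refine ⟨x * y' + x' * y, y * y', ?_, ?_⟩
        · show (y : L) * (y' : L) ≠ 0
          exact mul_ne_zero hy hy'
        · push_cast
          field_simp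
      | smul k z _ ih =>
        obtain ⟨x, y, hy, rfl⟩ := ih
        obtain ⟨a, b, hb, rfl⟩ := IsFractionRing.div_surjective (A := S) k
        have hb0 : algebraMap S L b ≠ 0 :=
          (map_ne_zero_iff _ hinj).mpr (nonZeroDivisors.ne_zero hb)
        refine ⟨algebraMap S S'' a * x, algebraMap S S'' b * y, ?_, ?_⟩
        · show algebraMap S L b * (y : L) ≠ 0
          exact mul_ne_zero hb0 hy
        · show _ = (algebraMap S L a * (x : L)) / (algebraMap S L b * (y : L))
          rw [Algebra.smul_def, map_div₀, ← IsScalarTower.algebraMap_apply,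
            ← IsScalarTower.algebraMap_apply]
          field_simp
    intro z
    obtain ⟨x, y, _, hxy⟩ := hP z (by rw [ht]; trivial)
    exact ⟨x, y, hxy⟩
  have hfinIC : Module.Finite S'' (integralClosure S'' L) := finite_of_n1 L hn1
  have hfinIC' : Module.Finite S (integralClosure S'' L) := Module.Finite.trans S'' _
  have hint'' : Algebra.IsIntegral S S'' := Algebra.IsIntegral.of_finite S S''
  let φ : (integralClosure S'' L) →ₗ[S] (integralClosure S L) :=
    { toFun := fun x => ⟨x.1, isIntegral_trans (R := S) (A := S'') x.1 x.2⟩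
      map_add' := fun _ _ => rfl
      map_smul' := fun _ _ => rfl }
  refine Module.Finite.of_surjective φ ?_
  rintro ⟨y, hy⟩
  have hy' : IsIntegral S y := hy
  exact ⟨⟨y, hy'.tower_top⟩, rfl⟩

end Groth.Agent.Lib.Helper6.Japanese
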