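import Mathlib

set_option autoImplicit false
set_option linter.style.haveILetI false
set_option linter.unusedSectionVars false

open TensorProduct

namespace Groth.Agent.Lib.Helper6.CommonField

universe u

/-- Two primes of two `R`-algebras lying over the same prime of `R` are the kernels of maps to
a common field, compatible over `R`. -/
theorem exists_common_field {R S S' : Type u} [CommRing R] [CommRing S] [CommRing S']
    [Algebra R S] [Algebra R S'] (q : Ideal S) [q.IsPrime] (q' : Ideal S') [q'.IsPrime]
    (h : q'.under R = q.under R) :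
    ∃ (Ω : Type u) (_ : Field Ω) (α : S →+* Ω) (β : S' →+* Ω), RingHom.ker α = q ∧
      RingHom.ker β = q' ∧ α.comp (algebraMap R S) = β.comp (algebraMap R S') := by
  let φ₁ : (q.under R).ResidueField →ₐ[R] q.ResidueField :=
    Ideal.ResidueField.mapₐ (q.under R) q (Algebra.ofId R S) rfl
  let φ₂ : (q.under R).ResidueField →ₐ[R] q'.ResidueField :=
    Ideal.ResidueField.mapₐ (q.under R) q' (Algebra.ofId R S') h.symm
  letI : Algebra (q.under R).ResidueField q.ResidueField := φ₁.toRingHom.toAlgebra
  letI : Algebra (q.under R).ResidueField q'.ResidueField := φ₂.toRingHom.toAlgebra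
  haveI : Nontrivial (q.ResidueField ⊗[(q.under R).ResidueField] q'.ResidueField) := inferInstance
  obtain ⟨𝔫, h𝔫⟩ := Ideal.exists_maximal
    (q.ResidueField ⊗[(q.under R).ResidueField] q'.ResidueField)
  letI : Field ((q.ResidueField ⊗[(q.under R).ResidueField] q'.ResidueField) ⧸ 𝔫) :=
    Ideal.Quotient.field 𝔫
  let ι₁ : q.ResidueField →+* (q.ResidueField ⊗[(q.under R).ResidueField] q'.ResidueField) ⧸ 𝔫 :=
    (Ideal.Quotient.mk 𝔫).comp
      (Algebra.TensorProduct.includeLeft (R := (q.under R).ResidueField)
        (S := (q.under R).ResidueField) (A := q.ResidueField) (B := q'.ResidueField)).toRingHom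
  let ι₂ : q'.ResidueField →+* (q.ResidueField ⊗[(q.under R).ResidueField] q'.ResidueField) ⧸ 𝔫 :=
    (Ideal.Quotient.mk 𝔫).comp
      (Algebra.TensorProduct.includeRight (R := (q.under R).ResidueField)
        (A := q.ResidueField) (B := q'.ResidueField)).toRingHom
  refine ⟨_, inferInstance, ι₁.comp (algebraMap S q.ResidueField),
    ι₂.comp (algebraMap S' q'.ResidueField), ?_, ?_, ?_⟩
  · rw [← RingHom.comap_ker, (RingHom.injective_iff_ker_eq_bot ι₁).1 ι₁.injective,
      ← RingHom.ker_eq_comap_bot, Ideal.ker_algebraMap_residueField]
  · rw [← RingHom.comap_ker, (RingHom.injective_iff_ker_eq_bot ι₂).1 ι₂.injective,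
      ← RingHom.ker_eq_comap_bot, Ideal.ker_algebraMap_residueField]
  · ext r
    simp only [RingHom.comp_apply]
    have h1 : algebraMap S q.ResidueField (algebraMap R S r) =
        algebraMap (q.under R).ResidueField q.ResidueField
          (algebraMap R (q.under R).ResidueField r) := by
      have := φ₁.commutes r
      rw [← IsScalarTower.algebraMap_apply]
      exact this.symm
    have h2 : algebraMap S' q'.ResidueField (algebraMap R S' r) =
        algebraMap (q.under R).ResidueField q'.ResidueField
          (algebraMap R (q.under R).ResidueField r) := by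
      have := φ₂.commutes r
      rw [← IsScalarTower.algebraMap_apply]
      exact this.symm
    rw [h1, h2]
    simp only [ι₁, ι₂, RingHom.comp_apply, AlgHom.toRingHom_eq_coe, RingHom.coe_coe,
      Algebra.TensorProduct.includeLeft_apply, Algebra.TensorProduct.includeRight_apply]
    congr 1
    rw [Algebra.algebraMap_eq_smul_one, Algebra.algebraMap_eq_smul_one (A := q'.ResidueField),
      TensorProduct.smul_tmul]
    

end Groth.Agent.Lib.Helper6.CommonField
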