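import Mathlib

namespace Groth.Agent.Lib.Helper6.UnramSplit

open TensorProduct

/-- Gluing an idempotent generator: if `K` becomes generated by an idempotent after inverting `h`
and `K + (h) = 1`, then `K` is generated by an idempotent. -/
theorem glue {T T' : Type*} [CommRing T] [CommRing T'] [Algebra T T'] (h : T)
    [IsLocalization.Away h T'] (K : Ideal T) (δ' : T') (hδ' : IsIdempotentElem δ')
    (hK : K.map (algebraMap T T') = Ideal.span {1 - δ'})
    (k t : T) (hk : k ∈ K) (hkt : k + t * h = 1) :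
    ∃ ε : T, IsIdempotentElem ε ∧ K = Ideal.span {1 - ε} := by
  have hδ0 : δ' * (1 - δ') = 0 := by rw [mul_sub, mul_one, hδ'.eq, sub_self]
  have key : ∀ x ∈ K, δ' * algebraMap T T' x = 0 := by
    intro x hx
    have : algebraMap T T' x ∈ Ideal.span {1 - δ'} := hK ▸ Ideal.mem_map_of_mem _ hx
    obtain ⟨c, hc⟩ := Ideal.mem_span_singleton'.mp this
    rw [← hc, mul_left_comm, hδ0, mul_zero]
  have hth : δ' * algebraMap T T' (t * h) = δ' := by
    have : t * h = 1 - k := by rw [← hkt]; ring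
    rw [this, map_sub, map_one, mul_sub, mul_one, key k hk, sub_zero]
  have hthN : ∀ N : ℕ, algebraMap T T' (t * h) ^ N * δ' = δ' := by
    intro N
    induction N with
    | zero => simp
    | succ N ih => rw [pow_succ, mul_assoc, mul_comm _ δ', hth, ih]
  -- a lift of `δ'` up to powers of `h`, killed by `k`
  obtain ⟨⟨d₀, ⟨_, n, rfl⟩⟩, hd₀⟩ := IsLocalization.surj (Submonoid.powers h) δ'
  simp only at hd₀
  have h0 : algebraMap T T' (d₀ * k) = algebraMap T T' 0 := by
    rw [map_mul, ← hd₀, map_zero, mul_right_comm, key k hk, zero_mul]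
  obtain ⟨⟨_, m, rfl⟩, hm⟩ := (IsLocalization.eq_iff_exists (Submonoid.powers h) T').mp h0
  simp only [mul_zero] at hm
  obtain ⟨d, hd⟩ : ∃ d, d = h ^ m * d₀ := ⟨_, rfl⟩
  have hdk : d * k = 0 := by rw [hd, mul_assoc, hm]
  have hjd : algebraMap T T' d = algebraMap T T' (h ^ (n + m)) * δ' := by
    rw [hd, map_mul, ← hd₀, pow_add, map_mul]; ring
  obtain ⟨ε, hε⟩ : ∃ ε, ε = d * t ^ (n + m) := ⟨_, rfl⟩
  have hεk : ε * k = 0 := by rw [hε, mul_right_comm, hdk, zero_mul]
  have hjε : algebraMap T T' ε = δ' := by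
    rw [hε, map_mul, hjd, mul_right_comm, ← map_mul, ← mul_pow, mul_comm h t, map_pow, hthN]
  have hε1 : ε * (t * h) = ε := by
    have : t * h = 1 - k := by rw [← hkt]; ring
    rw [this, mul_sub, mul_one, hεk, sub_zero]
  -- anything in `ε T` killed by a power of `h` vanishes
  have kill : ∀ (x : T) (N : ℕ), h ^ N * (ε * x) = 0 → ε * x = 0 := by
    intro x N hx
    have : ∀ N : ℕ, ε * x = (t * h) ^ N * (ε * x) := by
      intro N
      induction N with
      | zero => simp
      | succ N ih =>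
        rw [pow_succ, mul_assoc, ← mul_assoc (t * h) ε x, mul_comm (t * h) ε, hε1, ← ih]
    rw [this N, mul_pow, mul_assoc, hx, mul_zero]
  have hidem : IsIdempotentElem ε := by
    have h1 : algebraMap T T' (ε * (ε - 1)) = algebraMap T T' 0 := by
      rw [map_mul, map_sub, map_one, hjε, map_zero, mul_sub, mul_one, hδ'.eq, sub_self]
    obtain ⟨⟨_, N, rfl⟩, hN⟩ := (IsLocalization.eq_iff_exists (Submonoid.powers h) T').mp h1
    simp only [mul_zero] at hN
    have := kill _ N hN
    rw [mul_sub, mul_one, sub_eq_zero] at this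
    exact this
  refine ⟨ε, hidem, le_antisymm ?_ ?_⟩
  · intro x hx
    have h1 : algebraMap T T' (ε * x) = algebraMap T T' 0 := by
      rw [map_mul, hjε, key x hx, map_zero]
    obtain ⟨⟨_, N, rfl⟩, hN⟩ := (IsLocalization.eq_iff_exists (Submonoid.powers h) T').mp h1
    simp only [mul_zero] at hN
    have := kill _ N hN
    rw [Ideal.mem_span_singleton']
    exact ⟨x, by rw [mul_sub, mul_one, mul_comm x ε, this, sub_zero]⟩
  · rw [Ideal.span_singleton_le_iff_mem]
    have h1 : algebraMap T T' (1 - ε) ∈ K.map (algebraMap T T') := by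
      rw [hK, map_sub, map_one, hjε]; exact Ideal.mem_span_singleton_self _
    obtain ⟨_, ⟨N, rfl⟩, hN⟩ :=
      (IsLocalization.algebraMap_mem_map_algebraMap_iff (Submonoid.powers h) T' K (1 - ε)).mp h1
    rw [← Ideal.Quotient.eq_zero_iff_mem] at hN ⊢
    have hu : Ideal.Quotient.mk K (t * h) = 1 := by
      have : t * h = 1 - k := by rw [← hkt]; ring
      rw [this, map_sub, map_one, Ideal.Quotient.eq_zero_iff_mem.mpr hk, sub_zero]
    have : Ideal.Quotient.mk K (1 - ε) =
        Ideal.Quotient.mk K (t ^ N) * Ideal.Quotient.mk K (h ^ N * (1 - ε)) := by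
      rw [← map_mul, ← mul_assoc, ← mul_pow, map_mul, map_pow, hu, one_pow, one_mul]
    rw [this, hN, mul_zero]


universe u

/-- The diagonal-type idempotent: for `E` unramified over `R` surjecting onto `S[1/g]`, the kernel of
`E ⊗ S → S[1/g]` is generated by an idempotent. -/
theorem exists_idem {R E S : Type u} [CommRing R] [CommRing E] [CommRing S] [Algebra R E]
    [Algebra R S] [Algebra.EssFiniteType R E] [Algebra.FormallyUnramified R E]
    (g : S) (φ : E →ₐ[R] Localization.Away g) (hφ : Function.Surjective φ) :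
    ∃ ε : E ⊗[R] S, IsIdempotentElem ε ∧
      RingHom.ker (Algebra.TensorProduct.lift φ (IsScalarTower.toAlgHom R S (Localization.Away g))
        (fun _ _ => Commute.all _ _)) = Ideal.span {1 - ε} := by
  obtain ⟨e₀, he₀, hsp⟩ : ∃ e, IsIdempotentElem e ∧ KaehlerDifferential.ideal R E = E ⊗[R] E ∙ e :=
    (Ideal.isIdempotentElem_iff_of_fg _ (KaehlerDifferential.ideal_fg R E)).mp <|
      (Ideal.cotangent_subsingleton_iff _).mp <| inferInstanceAs <| Subsingleton Ω[E⁄R]
  set Sg := Localization.Away g with hSg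
  set μ : E ⊗[R] S →ₐ[R] Sg := Algebra.TensorProduct.lift φ (IsScalarTower.toAlgHom R S Sg)
        (fun _ _ => Commute.all _ _) with hμ
  let j : E ⊗[R] S →ₐ[E] E ⊗[R] Sg :=
    Algebra.TensorProduct.map (AlgHom.id E E) (IsScalarTower.toAlgHom R S Sg)
  letI : Algebra (E ⊗[R] S) (E ⊗[R] Sg) := j.toRingHom.toAlgebra
  haveI : IsScalarTower E (E ⊗[R] S) (E ⊗[R] Sg) :=
    IsScalarTower.of_algebraMap_eq fun x => (j.commutes x).symm
  have hloc0 := IsLocalization.tensorProduct_tensorProduct_right R E (Submonoid.powers g) Sg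
    (by
      ext s
      show j (1 ⊗ₜ s) = 1 ⊗ₜ algebraMap S Sg s
      simp [j])
  haveI hloc : IsLocalization.Away ((1 : E) ⊗ₜ[R] g) (E ⊗[R] Sg) := by
    have : Submonoid.map (Algebra.TensorProduct.includeRight (R := R) (A := E))
        (Submonoid.powers g) = Submonoid.powers ((1 : E) ⊗ₜ[R] g) := by
      rw [Submonoid.map_powers]; rfl
    rw [this] at hloc0
    exact hloc0
  have hjalg : ∀ x, algebraMap (E ⊗[R] S) (E ⊗[R] Sg) x = j x := fun _ => rfl
  let μ' : E ⊗[R] Sg →ₐ[R] Sg := Algebra.TensorProduct.lift φ (AlgHom.id R Sg)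
        (fun _ _ => Commute.all _ _)
  have hμ'j : ∀ x, μ' (j x) = μ x := by
    intro x
    have : (μ'.comp (j.restrictScalars R)) = μ := by
      apply Algebra.TensorProduct.ext'
      intro a s
      simp [μ', j, μ]
    exact congrArg (fun f => f x) this
  let ψ : E ⊗[R] E →ₐ[R] E ⊗[R] Sg := Algebra.TensorProduct.map (AlgHom.id R E) φ
  have hψsurj : Function.Surjective ψ :=
    Algebra.TensorProduct.map_surjective (f := AlgHom.id R E) (g := φ)
      Function.surjective_id hφ
  have hμ'ψ : ∀ y, μ' (ψ y) = φ (Algebra.TensorProduct.lmul' R y) := by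
    intro y
    have : μ'.comp ψ = φ.comp (Algebra.TensorProduct.lmul' R) := by
      apply Algebra.TensorProduct.ext'
      intro a b
      simp [μ', ψ]
    exact congrArg (fun f => f y) this
  have hlm : ∀ y : E ⊗[R] E, Algebra.TensorProduct.lmul' R y = 0 → y ∈ Ideal.span {e₀} := by
    intro y hy
    have : y ∈ KaehlerDifferential.ideal R E := by
      rw [KaehlerDifferential.ideal]; exact hy
    rw [hsp] at this
    exact this
  have he₀ker : Algebra.TensorProduct.lmul' R e₀ = 0 := by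
    have : e₀ ∈ KaehlerDifferential.ideal R E := by
      rw [hsp]; exact Submodule.mem_span_singleton_self _
    exact this
  -- kernel of μ'
  have hkerμ' : RingHom.ker μ'.toRingHom = Ideal.span {ψ e₀} := by
    apply le_antisymm
    · intro x' hx'
      obtain ⟨y, rfl⟩ := hψsurj x'
      have hc : φ (Algebra.TensorProduct.lmul' R y) = 0 := by
        rw [← hμ'ψ]; exact hx'
      have h1 : y - 1 ⊗ₜ (Algebra.TensorProduct.lmul' R y) ∈ Ideal.span {e₀} := by
        apply hlm
        simp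
      obtain ⟨z, hz⟩ := Ideal.mem_span_singleton'.mp h1
      have : ψ y = ψ z * ψ e₀ := by
        have h2 : y = z * e₀ + 1 ⊗ₜ (Algebra.TensorProduct.lmul' R y) := by rw [hz]; ring
        conv_lhs => rw [h2]
        rw [map_add, map_mul]
        have : ψ (1 ⊗ₜ (Algebra.TensorProduct.lmul' R y)) = 0 := by
          simp [ψ, hc]
        rw [this, add_zero]
      rw [this]
      exact Ideal.mul_mem_left _ _ (Ideal.mem_span_singleton_self _)
    · rw [Ideal.span_singleton_le_iff_mem]
      show μ' (ψ e₀) = 0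
      rw [hμ'ψ, he₀ker, map_zero]
  have hK : (RingHom.ker μ.toRingHom).map (algebraMap (E ⊗[R] S) (E ⊗[R] Sg)) =
      Ideal.span {1 - (1 - ψ e₀)} := by
    rw [sub_sub_cancel, ← hkerμ']
    apply le_antisymm
    · rw [Ideal.map_le_iff_le_comap]
      intro x hx
      show μ' (j x) = 0
      rw [hμ'j]; exact hx
    · intro x' hx'
      obtain ⟨⟨d, ⟨_, N, rfl⟩⟩, hd⟩ := IsLocalization.surj (Submonoid.powers ((1 : E) ⊗ₜ[R] g)) x'
      simp only at hd
      have hdK : d ∈ RingHom.ker μ.toRingHom := by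
        show μ d = 0
        rw [← hμ'j, ← hjalg, ← hd, map_mul]
        have : μ' x' = 0 := hx'
        rw [this, zero_mul]
      have hu : IsUnit (algebraMap (E ⊗[R] S) (E ⊗[R] Sg) (((1 : E) ⊗ₜ[R] g) ^ N)) :=
        IsLocalization.map_units _ (⟨_, N, rfl⟩ : Submonoid.powers ((1 : E) ⊗ₜ[R] g))
      rw [← Ideal.mul_unit_mem_iff_mem _ hu, hd]
      exact Ideal.mem_map_of_mem _ hdK
  -- the elements `k`, `t`
  obtain ⟨a, ha⟩ := hφ (IsLocalization.Away.invSelf g)
  have hμth : μ (a ⊗ₜ 1 * 1 ⊗ₜ g) = 1 := by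
    simp only [μ, Algebra.TensorProduct.tmul_mul_tmul, mul_one, one_mul,
      Algebra.TensorProduct.lift_tmul, ha, IsScalarTower.coe_toAlgHom']
    rw [mul_comm]
    exact IsLocalization.Away.mul_invSelf g
  have hidem : IsIdempotentElem (1 - ψ e₀) := (he₀.map ψ).one_sub
  obtain ⟨ε, hε, hKε⟩ := glue ((1 : E) ⊗ₜ[R] g) (RingHom.ker μ.toRingHom) (1 - ψ e₀) hidem hK
    (1 - a ⊗ₜ 1 * 1 ⊗ₜ g) (a ⊗ₜ 1) (by
      show μ (1 - a ⊗ₜ 1 * 1 ⊗ₜ g) = 0
      rw [map_sub, map_one, hμth, sub_self]) (by ring)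
  exact ⟨ε, hε, hKε⟩

end Groth.Agent.Lib.Helper6.UnramSplit
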