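import Mathlib
import Groth.Agent.Lib.Helper6.UnramSplit

namespace Groth.Agent.Lib.Helper6.UnramSplit

open TensorProduct

universe u

theorem main9452 (R : Type u) [CommRing R]
    (S : Type u) [CommRing S] [Algebra R S] [Algebra.FiniteType R S] (q : Ideal S) [q.IsPrime]
    [Algebra.IsUnramifiedAt R q] :
    ∃ (R' : Type u) (_ : CommRing R') (_ : Algebra R R') (_ : Algebra.Etale R R') (p' : Ideal R')
      (_ : p'.IsPrime) (_ : p'.LiesOver (q.under R)) (A : Type u) (_ : CommRing A) (_ : Algebra R' A)
      (B : Type u) (_ : CommRing B) (_ : Algebra R' B) (e : (R' ⊗[R] S) ≃ₐ[R'] (A × B)),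
      Function.Surjective (algebraMap R' A) ∧ (p'.map (algebraMap R' A)).IsPrime ∧
        (p'.map (algebraMap R' A)).comap (algebraMap R' A) = p' ∧
        (p'.map (algebraMap R' A)).comap (((RingHom.fst A B).comp e.toRingHom).comp
          (Algebra.TensorProduct.includeRight : S →ₐ[R] R' ⊗[R] S).toRingHom) = q := by
  obtain ⟨g, hgq, P, φ, hφ⟩ :=
    Algebra.IsUnramifiedAt.exists_hasStandardEtaleSurjectionOn (R := R) q
  obtain ⟨ε, hε, hker⟩ := exists_idem g φ hφ
  letI algESg : Algebra P.Ring (Localization.Away g) := φ.toRingHom.toAlgebra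
  haveI : IsScalarTower R P.Ring (Localization.Away g) :=
    IsScalarTower.of_algebraMap_eq fun x => (φ.commutes x).symm
  have hdisj : Disjoint (Submonoid.powers g : Set S) (q : Set S) := by
    rw [Ideal.disjoint_powers_iff_notMem_of_isPrime]; exact hgq
  have hQ : (q.map (algebraMap S (Localization.Away g))).IsPrime :=
    IsLocalization.isPrime_of_isPrime_disjoint (.powers g) _ _ ‹_› hdisj
  have hQc : (q.map (algebraMap S (Localization.Away g))).comap
      (algebraMap S (Localization.Away g)) = q :=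
    IsLocalization.comap_map_of_isPrime_disjoint (.powers g) _ ‹_› hdisj
  let μE : P.Ring ⊗[R] S →ₐ[P.Ring] Localization.Away g :=
    Algebra.TensorProduct.lift (Algebra.ofId P.Ring (Localization.Away g))
      (IsScalarTower.toAlgHom R S (Localization.Away g)) (fun _ _ => Commute.all _ _)
  have hμE : ∀ x, μE x = Algebra.TensorProduct.lift φ
      (IsScalarTower.toAlgHom R S (Localization.Away g)) (fun _ _ => Commute.all _ _) x := by
    intro x
    have : μE.restrictScalars R = Algebra.TensorProduct.lift φ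
        (IsScalarTower.toAlgHom R S (Localization.Away g)) (fun _ _ => Commute.all _ _) := by
      apply Algebra.TensorProduct.ext'
      intro a s
      simp [μE]
      rfl
    exact congrArg (fun f => f x) this
  have hkerE : RingHom.ker μE = Ideal.span {1 - ε} := by
    rw [← hker]
    ext x
    simp only [RingHom.mem_ker]
    rw [hμE]
  have hμEsurj : Function.Surjective μE := by
    intro y
    obtain ⟨a, rfl⟩ := hφ y
    exact ⟨a ⊗ₜ 1, by simp [μE]; rfl⟩
  let e₁ : P.Ring ⊗[R] S ≃ₐ[P.Ring]
      ((P.Ring ⊗[R] S) ⧸ Ideal.span {1 - ε}) × ((P.Ring ⊗[R] S) ⧸ Ideal.span {ε}) :=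
    AlgEquiv.prodQuotientOfIsIdempotentElem P.Ring hε.one_sub hε (by ring)
      (by rw [sub_mul, one_mul, hε.eq, sub_self])
  let e₂ : ((P.Ring ⊗[R] S) ⧸ Ideal.span {1 - ε}) ≃ₐ[P.Ring] Localization.Away g :=
    (Ideal.quotientEquivAlgOfEq P.Ring hkerE.symm).trans
      (Ideal.quotientKerAlgEquivOfSurjective hμEsurj)
  let e : P.Ring ⊗[R] S ≃ₐ[P.Ring]
      (Localization.Away g) × ((P.Ring ⊗[R] S) ⧸ Ideal.span {ε}) :=
    e₁.trans (AlgEquiv.prodCongr e₂ AlgEquiv.refl)
  have hmap : (Ideal.comap φ.toRingHom (q.map (algebraMap S (Localization.Away g)))).map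
      (algebraMap P.Ring (Localization.Away g)) = q.map (algebraMap S (Localization.Away g)) :=
    Ideal.map_comap_of_surjective _ hφ _
  refine ⟨P.Ring, inferInstance, inferInstance, inferInstance,
    Ideal.comap φ.toRingHom (q.map (algebraMap S (Localization.Away g))),
    Ideal.comap_isPrime _ _, ⟨?_⟩, Localization.Away g, inferInstance, algESg,
    (P.Ring ⊗[R] S) ⧸ Ideal.span {ε}, inferInstance, inferInstance, e, hφ, ?_, ?_, ?_⟩
  · -- lies over
    rw [Ideal.under, Ideal.under, Ideal.comap_comap]
    have : φ.toRingHom.comp (algebraMap R P.Ring) =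
        (algebraMap S (Localization.Away g)).comp (algebraMap R S) := by
      ext x
      simp [← IsScalarTower.algebraMap_apply]
    rw [this, ← Ideal.comap_comap, hQc]
  · rw [hmap]; exact hQ
  · rw [hmap]; rfl
  · rw [hmap]
    have : ((RingHom.fst (Localization.Away g) ((P.Ring ⊗[R] S) ⧸ Ideal.span {ε})).comp
        e.toRingHom).comp
        (Algebra.TensorProduct.includeRight : S →ₐ[R] P.Ring ⊗[R] S).toRingHom =
        algebraMap S (Localization.Away g) := by
      ext s
      show e₂ (Ideal.Quotient.mk _ (1 ⊗ₜ s)) = _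
      show μE (1 ⊗ₜ s) = _
      simp [μE]
    rw [this, hQc]

end Groth.Agent.Lib.Helper6.UnramSplit
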