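import Mathlib
import Groth.Agent.Lib.Helper6.UnramSplit2
import Groth.Agent.Lib.Helper6.CommonField

namespace Groth.Agent.Lib.Helper6.UnramSplit

open TensorProduct

universe u

/-- Dependent function on `Option ι` from its two pieces. -/
def optF {K : Type u} [CommRing K] {ι : Type} (J₀ : Ideal K)
    (I : ι → Ideal K) (a : K ⧸ J₀) (f : ∀ i, K ⧸ I i) : ∀ o : Option ι, K ⧸ (o.elim J₀ I)
  | none => a
  | some i => f i

/-- Reindexing a product of quotients over `Option ι`. -/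
noncomputable def optionProdEquiv {K : Type u} [CommRing K] {ι : Type} (J₀ : Ideal K)
    (I : ι → Ideal K) (B' : Type u) [CommRing B'] [Algebra K B'] :
    ((K ⧸ J₀) × ((∀ i, K ⧸ I i) × B')) ≃ₐ[K]
      ((∀ o : Option ι, K ⧸ (o.elim J₀ I)) × B') where
  toFun x := (optF J₀ I x.1 x.2.1, x.2.2)
  invFun y := (y.1 none, (fun i => y.1 (some i), y.2))
  left_inv x := rfl
  right_inv y := Prod.ext (funext fun o => by cases o <;> rfl) rfl
  map_mul' x y := Prod.ext (funext fun o => by cases o <;> rfl) rfl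
  map_add' x y := Prod.ext (funext fun o => by cases o <;> rfl) rfl
  commutes' r := Prod.ext (funext fun o => by cases o <;> rfl) rfl

/-- The intermediate form of the conclusion. -/
def Concl (R : Type u) [CommRing R] (S : Type u) [CommRing S] [Algebra R S] (p : Ideal R) : Prop :=
  ∃ (R' : Type u) (_ : CommRing R') (_ : Algebra R R') (_ : Algebra.Etale R R') (p' : Ideal R')
    (_ : p'.IsPrime) (_ : p'.LiesOver p) (ι : Type) (_ : Finite ι) (I : ι → Ideal R')
    (B : Type u) (_ : CommRing B) (_ : Algebra R' B),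
    Nonempty ((R' ⊗[R] S) ≃ₐ[R'] ((∀ i, R' ⧸ I i) × B)) ∧ (∀ i, I i ≤ p') ∧
      ∀ (q : Ideal B) [q.IsPrime], q.comap (algebraMap R' B) ≠ p'

theorem base (R : Type u) [CommRing R] (S : Type u) [CommRing S] [Algebra R S] (p : Ideal R)
    [p.IsPrime] (h : ∀ (q : Ideal S) [q.IsPrime], q.comap (algebraMap R S) ≠ p) :
    Concl R S p := by
  refine ⟨R, inferInstance, inferInstance, inferInstance, p, inferInstance, ⟨rfl⟩, PEmpty,
    inferInstance, fun i => i.elim, S, inferInstance, inferInstance, ⟨?_⟩, fun i => i.elim, h⟩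
  let f : S →ₐ[R] ((∀ i : PEmpty, R ⧸ (i.elim : Ideal R)) × S) :=
    AlgHom.prod (Pi.algHom R _ (fun i => i.elim)) (AlgHom.id R S)
  have hf : Function.Bijective f := by
    constructor
    · intro a b hab
      exact congrArg Prod.snd hab
    · rintro ⟨x, s⟩
      exact ⟨s, Prod.ext (funext fun i => i.elim) rfl⟩
  exact (Algebra.TensorProduct.lid R S).trans (AlgEquiv.ofBijective f hf)


theorem step (R : Type u) [CommRing R] (S : Type u) [CommRing S] [Algebra R S]
    [Algebra.Unramified R S] (p : Ideal R) [p.IsPrime] (L : Type u) [Field L] [Algebra R L]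
    (hL : RingHom.ker (algebraMap R L) = p) [Module.Finite L (L ⊗[R] S)]
    (q : Ideal S) [q.IsPrime] (hq : q.comap (algebraMap R S) = p) :
    ∃ (R' : Type u) (_ : CommRing R') (_ : Algebra R R') (_ : Algebra.Etale R R') (p' : Ideal R')
      (_ : p'.IsPrime) (_ : p'.LiesOver p) (I₀ : Ideal R') (B : Type u) (_ : CommRing B)
      (_ : Algebra R' B) (_ : Algebra.Unramified R' B) (Ω : Type u) (_ : Field Ω) (_ : Algebra R' Ω)
      (_ : Module.Finite Ω (Ω ⊗[R'] B)),
      Nonempty ((R' ⊗[R] S) ≃ₐ[R'] ((R' ⧸ I₀) × B)) ∧ I₀ ≤ p' ∧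
      RingHom.ker (algebraMap R' Ω) = p' ∧
      Module.finrank Ω (Ω ⊗[R'] B) + 1 ≤ Module.finrank L (L ⊗[R] S) := by
  haveI : Algebra.IsUnramifiedAt R q := inferInstance
  obtain ⟨R', _, _, _, p', _, hp'over, A, _, _, B, _, _, e, hsurj, hprime, hcomap, -⟩ :=
    main9452 R S q
  have hp' : p'.LiesOver p := by rw [← hq]; exact hp'over
  -- the ideal I₀
  have hsurj' : Function.Surjective (Algebra.ofId R' A) := hsurj
  have hI₀ : RingHom.ker (Algebra.ofId R' A) ≤ p' := by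
    intro x hx
    rw [← hcomap, Ideal.mem_comap]
    have : algebraMap R' A x = 0 := hx
    rw [this]
    exact Ideal.zero_mem _
  let eA : (R' ⧸ RingHom.ker (Algebra.ofId R' A)) ≃ₐ[R'] A :=
    Ideal.quotientKerAlgEquivOfSurjective hsurj'
  let e₀ : (R' ⊗[R] S) ≃ₐ[R'] ((R' ⧸ RingHom.ker (Algebra.ofId R' A)) × B) :=
    e.trans (AlgEquiv.prodCongr eA.symm AlgEquiv.refl)
  -- B is unramified
  let gB : (R' ⊗[R] S) →ₐ[R'] B := (AlgHom.snd R' A B).comp e.toAlgHom
  have hgB : Function.Surjective gB := by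
    intro b
    exact ⟨e.symm (0, b), by simp [gB]⟩
  haveI : Algebra.FormallyUnramified R' B := Algebra.FormallyUnramified.of_surjective gB hgB
  haveI : Algebra.FiniteType R' B := Algebra.FiniteType.of_surjective gB hgB
  haveI : Algebra.Unramified R' B := {}
  -- common field
  have hunder : p'.under R = (⊥ : Ideal L).under R := by
    rw [← hp'.over, Ideal.under, ← RingHom.ker_eq_comap_bot, hL]
  obtain ⟨Ω, _, α, β, hα, hβ, hαβ⟩ :=
    Groth.Agent.Lib.Helper6.CommonField.exists_common_field (R := R) (S := L) (S' := R')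
      (⊥ : Ideal L) p' hunder
  letI algR'Ω : Algebra R' Ω := β.toAlgebra
  letI : Algebra L Ω := α.toAlgebra
  letI : Algebra R Ω := (β.comp (algebraMap R R')).toAlgebra
  haveI : IsScalarTower R R' Ω := IsScalarTower.of_algebraMap_eq fun _ => rfl
  haveI : IsScalarTower R L Ω := IsScalarTower.of_algebraMap_eq fun x =>
    (congrArg (fun f => f x) hαβ).symm
  -- linear equivalences
  let E1 : Ω ⊗[L] (L ⊗[R] S) ≃ₗ[Ω] Ω ⊗[R] S :=
    (Algebra.TensorProduct.cancelBaseChange R L Ω Ω S).toLinearEquiv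
  let E2 : Ω ⊗[R'] (R' ⊗[R] S) ≃ₗ[Ω] Ω ⊗[R] S :=
    (Algebra.TensorProduct.cancelBaseChange R R' Ω Ω S).toLinearEquiv
  let E3 : Ω ⊗[R'] (R' ⊗[R] S) ≃ₗ[Ω]
      Ω ⊗[R'] ((R' ⧸ RingHom.ker (Algebra.ofId R' A)) × B) :=
    TensorProduct.AlgebraTensorModule.congr (LinearEquiv.refl Ω Ω) e₀.toLinearEquiv
  let E4 : Ω ⊗[R'] ((R' ⧸ RingHom.ker (Algebra.ofId R' A)) × B) ≃ₗ[Ω]
      (Ω ⊗[R'] (R' ⧸ RingHom.ker (Algebra.ofId R' A))) × (Ω ⊗[R'] B) :=
    TensorProduct.prodRight R' Ω Ω _ B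
  let E : Ω ⊗[L] (L ⊗[R] S) ≃ₗ[Ω]
      (Ω ⊗[R'] (R' ⧸ RingHom.ker (Algebra.ofId R' A))) × (Ω ⊗[R'] B) :=
    E1.trans (E2.symm.trans (E3.trans E4))
  haveI hfinprod : Module.Finite Ω
      ((Ω ⊗[R'] (R' ⧸ RingHom.ker (Algebra.ofId R' A))) × (Ω ⊗[R'] B)) :=
    Module.Finite.equiv E
  haveI hfinX : Module.Finite Ω (Ω ⊗[R'] (R' ⧸ RingHom.ker (Algebra.ofId R' A))) :=
    Module.Finite.of_surjective (LinearMap.fst Ω
      (Ω ⊗[R'] (R' ⧸ RingHom.ker (Algebra.ofId R' A))) (Ω ⊗[R'] B)) LinearMap.fst_surjective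
  haveI hfinB : Module.Finite Ω (Ω ⊗[R'] B) :=
    Module.Finite.of_surjective (LinearMap.snd Ω
      (Ω ⊗[R'] (R' ⧸ RingHom.ker (Algebra.ofId R' A))) (Ω ⊗[R'] B)) LinearMap.snd_surjective
  -- nontriviality of the first factor
  have hkerβ : RingHom.ker (algebraMap R' Ω) = p' := hβ
  let ρ : (R' ⧸ RingHom.ker (Algebra.ofId R' A)) →ₐ[R'] Ω :=
    Ideal.Quotient.liftₐ _ (Algebra.ofId R' Ω) (fun x hx => by
      have : x ∈ RingHom.ker (algebraMap R' Ω) := by rw [hkerβ]; exact hI₀ hx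
      exact this)
  let σ : Ω ⊗[R'] (R' ⧸ RingHom.ker (Algebra.ofId R' A)) →ₐ[Ω] Ω :=
    Algebra.TensorProduct.lift (AlgHom.id Ω Ω) ρ (fun _ _ => Commute.all _ _)
  haveI : Nontrivial (Ω ⊗[R'] (R' ⧸ RingHom.ker (Algebra.ofId R' A))) :=
    σ.toRingHom.domain_nontrivial
  have hpos : 0 < Module.finrank Ω (Ω ⊗[R'] (R' ⧸ RingHom.ker (Algebra.ofId R' A))) :=
    Module.finrank_pos
  have hfr : Module.finrank L (L ⊗[R] S) =
      Module.finrank Ω (Ω ⊗[R'] (R' ⧸ RingHom.ker (Algebra.ofId R' A))) +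
        Module.finrank Ω (Ω ⊗[R'] B) := by
    rw [← Module.finrank_baseChange (R := Ω) (S := L), E.finrank_eq, Module.finrank_prod]
  refine ⟨R', inferInstance, inferInstance, inferInstance, p', inferInstance, hp',
    RingHom.ker (Algebra.ofId R' A), B, inferInstance, inferInstance, inferInstance, Ω,
    inferInstance, algR'Ω, hfinB, ⟨e₀⟩, hI₀, hkerβ, ?_⟩
  omega


theorem induct : ∀ (d : ℕ) (R : Type u) [CommRing R] (S : Type u) [CommRing S] [Algebra R S]
    [Algebra.Unramified R S] (p : Ideal R) [p.IsPrime] (L : Type u) [Field L] [Algebra R L]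
    (_ : RingHom.ker (algebraMap R L) = p) [Module.Finite L (L ⊗[R] S)],
    Module.finrank L (L ⊗[R] S) ≤ d → Concl R S p := by
  intro d
  induction d with
  | zero =>
    intro R _ S _ _ _ p _ L _ _ hL _ hd
    by_cases h : ∀ (q : Ideal S) [q.IsPrime], q.comap (algebraMap R S) ≠ p
    · exact base R S p h
    · push Not at h
      obtain ⟨q, hq, hqp⟩ := h
      obtain ⟨R', _, _, _, p', _, hp', I₀, B, _, _, _, Ω, _, _, _, ⟨e₀⟩, hI₀, hker, hfr⟩ :=
        step R S p L hL q hqp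
      omega
  | succ d ih =>
    intro R _ S _ _ _ p _ L _ _ hL _ hd
    by_cases h : ∀ (q : Ideal S) [q.IsPrime], q.comap (algebraMap R S) ≠ p
    · exact base R S p h
    · push Not at h
      obtain ⟨q, hq, hqp⟩ := h
      obtain ⟨R', _, _, _, p', _, hp', I₀, B, _, _, _, Ω, _, _, _, ⟨e₀⟩, hI₀, hker, hfr⟩ :=
        step R S p L hL q hqp
      obtain ⟨R'', _, _, _, p'', _, hp'', ι, _, I, B', _, _, ⟨e'⟩, hI, hB'⟩ :=
        ih R' B p' Ω hker (by omega)
      letI : Algebra R R'' := ((algebraMap R' R'').comp (algebraMap R R')).toAlgebra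
      haveI : IsScalarTower R R' R'' := IsScalarTower.of_algebraMap_eq fun _ => rfl
      haveI : Algebra.Etale R R'' := Algebra.Etale.comp R R' R''
      haveI : p''.LiesOver p := Ideal.LiesOver.trans p'' p' p
      let Φ₁ : R'' ⊗[R] S ≃ₐ[R''] R'' ⊗[R'] (R' ⊗[R] S) :=
        (Algebra.TensorProduct.cancelBaseChange R R' R'' R'' S).symm
      let Φ₂ : R'' ⊗[R'] (R' ⊗[R] S) ≃ₐ[R''] R'' ⊗[R'] ((R' ⧸ I₀) × B) :=
        Algebra.TensorProduct.congr AlgEquiv.refl e₀
      let Φ₃ : R'' ⊗[R'] ((R' ⧸ I₀) × B) ≃ₐ[R''] (R'' ⊗[R'] (R' ⧸ I₀)) × (R'' ⊗[R'] B) :=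
        Algebra.TensorProduct.prodRight R' R'' R'' (R' ⧸ I₀) B
      let Φ₄ : (R'' ⊗[R'] (R' ⧸ I₀)) ≃ₐ[R''] R'' ⧸ I₀.map (algebraMap R' R'') :=
        (Algebra.TensorProduct.quotIdealMapEquivTensorQuot R'' I₀).symm
      let Φ₅ : ((R'' ⊗[R'] (R' ⧸ I₀)) × (R'' ⊗[R'] B)) ≃ₐ[R'']
          ((R'' ⧸ I₀.map (algebraMap R' R'')) × ((∀ i, R'' ⧸ I i) × B')) :=
        AlgEquiv.prodCongr Φ₄ e'
      let Φ₆ := optionProdEquiv (I₀.map (algebraMap R' R'')) I B'
      refine ⟨R'', inferInstance, inferInstance, inferInstance, p'', inferInstance, inferInstance,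
        Option ι, inferInstance, fun o => o.elim (I₀.map (algebraMap R' R'')) I, B', inferInstance,
        inferInstance, ⟨Φ₁.trans (Φ₂.trans (Φ₃.trans (Φ₅.trans Φ₆)))⟩, ?_, hB'⟩
      rintro (_ | i)
      · show I₀.map (algebraMap R' R'') ≤ p''
        rw [Ideal.map_le_iff_le_comap]
        exact hI₀.trans (le_of_eq hp''.over)
      · exact hI i


theorem main9449 (R : Type u) [CommRing R]
    (S : Type u) [CommRing S] [Algebra R S] [Algebra.Unramified R S] (p : Ideal R) [p.IsPrime] :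
    ∃ (R' : Type u) (_ : CommRing R') (_ : Algebra R R') (_ : Algebra.Etale R R') (p' : Ideal R')
      (_ : p'.IsPrime) (_ : p'.LiesOver p) (n : ℕ) (A : Fin n → Type u) (_ : ∀ i, CommRing (A i))
      (_ : ∀ i, Algebra R' (A i)) (B : Type u) (_ : CommRing B) (_ : Algebra R' B),
      Nonempty ((R' ⊗[R] S) ≃ₐ[R'] ((∀ i, A i) × B)) ∧
        (∀ i, Function.Surjective (algebraMap R' (A i)) ∧
          (p'.map (algebraMap R' (A i))).IsPrime ∧
          (p'.map (algebraMap R' (A i))).comap (algebraMap R' (A i)) = p') ∧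
        ∀ (q : Ideal B) [q.IsPrime], q.comap (algebraMap R' B) ≠ p' := by
  haveI : Module.Finite p.ResidueField (p.ResidueField ⊗[R] S) :=
    Algebra.QuasiFinite.finite_fiber p
  obtain ⟨R', _, _, _, p', _, _, ι, _, I, B, _, _, ⟨e⟩, hI, hB⟩ :=
    induct _ R S p p.ResidueField (Ideal.ker_algebraMap_residueField p) le_rfl
  let ef := Finite.equivFin ι
  refine ⟨R', inferInstance, inferInstance, inferInstance, p', inferInstance, inferInstance,
    Nat.card ι, fun k => R' ⧸ I (ef.symm k), fun _ => inferInstance, fun _ => inferInstance, B,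
    inferInstance, inferInstance,
    ⟨e.trans (AlgEquiv.prodCongr (AlgEquiv.piCongrLeft' R' (fun i => R' ⧸ I i) ef)
      AlgEquiv.refl)⟩,
    fun k => ⟨Ideal.Quotient.mk_surjective, ?_, ?_⟩, hB⟩
  · exact Ideal.map_isPrime_of_surjective Ideal.Quotient.mk_surjective
      (by rw [Ideal.mk_ker]; exact hI _)
  · rw [Ideal.Quotient.algebraMap_eq,
      Ideal.comap_map_of_surjective _ Ideal.Quotient.mk_surjective, ← RingHom.ker_eq_comap_bot,
      Ideal.mk_ker, sup_eq_left]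
    exact hI _

end Groth.Agent.Lib.Helper6.UnramSplit
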