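import Mathlib

universe u

open AlgebraicGeometry TopologicalSpace

namespace Groth.Agent.Helper6.GenPt

/-- Lemma N -/
lemma exists_mul_nilpotent {B : Type*} [CommRing B] {p : Ideal B} (hp : p ∈ minimalPrimes B)
    {f : B} (hf : f ∈ p) : ∃ s ∉ p, IsNilpotent (s * f) := by
  have : p.IsPrime := hp.1.1
  have h1 := IsLocalization.AtPrime.radical_map_of_mem_minimalPrimes
    (A := Localization.AtPrime p) p ⊥ hp
  have h2 : algebraMap B (Localization.AtPrime p) f ∈
      (Ideal.map (algebraMap B (Localization.AtPrime p)) ⊥).radical := by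
    rw [h1]; exact Ideal.mem_map_of_mem _ hf
  rw [Ideal.map_bot] at h2
  obtain ⟨n, hn⟩ := h2
  rw [Ideal.mem_bot, ← map_pow] at hn
  obtain ⟨s, hs⟩ := (IsLocalization.map_eq_zero_iff p.primeCompl _ _).mp hn
  refine ⟨s.1, s.2, n + 1, ?_⟩
  rw [mul_pow, pow_succ, pow_succ]
  calc s.1 ^ n * s.1 * (f ^ n * f) = s.1 ^ n * f * (s.1 * f ^ n) := by ring
    _ = 0 := by rw [hs, mul_zero]

/-- Lemma T -/
lemma exists_basicOpen_disjoint {B : Type*} [CommRing B] (p : PrimeSpectrum B)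
    (hp : p.asIdeal ∈ minimalPrimes B) (K : Set (PrimeSpectrum B)) (hK : IsCompact K)
    (hKo : IsOpen K) (hpK : p ∉ K) :
    ∃ s : B, p ∈ PrimeSpectrum.basicOpen s ∧
      Disjoint (PrimeSpectrum.basicOpen s : Set (PrimeSpectrum B)) K := by
  classical
  obtain ⟨t, ht⟩ := PrimeSpectrum.isCompact_isOpen_iff.mp ⟨hK, hKo⟩
  have hmem : ∀ f ∈ t, f ∈ p.asIdeal := by
    intro f hf
    by_contra hfp
    apply hpK
    rw [← ht]
    intro hz
    exact hfp (hz hf)
  choose! σ hσ using fun f (hf : f ∈ t) => exists_mul_nilpotent hp (hmem f hf)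
  refine ⟨∏ f ∈ t, σ f, ?_, ?_⟩
  · show (∏ f ∈ t, σ f) ∉ p.asIdeal
    intro hprod
    obtain ⟨f, hf, hfp⟩ := (Ideal.IsPrime.prod_mem_iff (hp := p.2)).mp hprod
    exact (hσ f hf).1 hfp
  · rw [Set.disjoint_left]
    intro q hq hqK
    rw [← ht] at hqK
    -- q ∉ zeroLocus t: some f ∈ t with f ∉ q
    have : ∃ f ∈ t, f ∉ q.asIdeal := by
      by_contra hcon
      push Not at hcon
      exact hqK (fun f hf => hcon f hf)
    obtain ⟨f, hf, hfq⟩ := this
    have hnil := (hσ f hf).2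
    have h1 : σ f * f ∈ q.asIdeal := by
      obtain ⟨n, hn⟩ := hnil
      exact q.2.mem_of_pow_mem n (hn ▸ q.asIdeal.zero_mem)
    rcases q.2.mem_or_mem h1 with h2 | h2
    · apply hq
      show (∏ f ∈ t, σ f) ∈ q.asIdeal
      rw [← Finset.mul_prod_erase t σ hf]
      exact q.asIdeal.mul_mem_right _ h2
    · exact hfq h2

/-- a point generizing the generic point of an irreducible component is that point -/
lemma eq_of_specializes {X : Type*} [TopologicalSpace X] [T0Space X] {η ξ : X}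
    (hη : closure ({η} : Set X) ∈ irreducibleComponents X) (h : ξ ⤳ η) : ξ = η := by
  have h1 : closure ({η} : Set X) ⊆ closure ({ξ} : Set X) := by
    apply closure_minimal _ isClosed_closure
    rw [Set.singleton_subset_iff]
    exact h.mem_closure
  have h2 : IsIrreducible (closure ({ξ} : Set X)) := isIrreducible_singleton.closure
  have h3 : closure ({ξ} : Set X) ⊆ closure ({η} : Set X) := hη.2 h2 h1
  have h4 : closure ({ξ} : Set X) = closure ({η} : Set X) := le_antisymm h3 h1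
  have g1 : IsGenericPoint ξ (closure ({η} : Set X)) := h4
  have g2 : IsGenericPoint η (closure ({η} : Set X)) := rfl
  exact g1.eq g2

/-- Lemma M -/
lemma primeIdealOf_mem_minimalPrimes {X : Scheme.{u}} {η : X}
    (hη : closure ({η} : Set X) ∈ irreducibleComponents X) {V : X.Opens} (hV : IsAffineOpen V)
    (hηV : η ∈ V) : (hV.primeIdealOf ⟨η, hηV⟩).asIdeal ∈ minimalPrimes Γ(X, V) := by
  refine ⟨⟨(hV.primeIdealOf ⟨η, hηV⟩).2, bot_le⟩, ?_⟩
  rintro q ⟨hq, -⟩ hle
  let Q : PrimeSpectrum Γ(X, V) := ⟨q, hq⟩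
  have hspec : Q ⤳ hV.primeIdealOf ⟨η, hηV⟩ :=
    (PrimeSpectrum.le_iff_specializes Q _).mp hle
  have hspec' : hV.fromSpec Q ⤳ hV.fromSpec (hV.primeIdealOf ⟨η, hηV⟩) :=
    hspec.map hV.fromSpec.continuous
  rw [hV.fromSpec_primeIdealOf] at hspec'
  have heq := eq_of_specializes hη hspec'
  have hinj : Function.Injective hV.fromSpec := hV.fromSpec.isOpenEmbedding.injective
  have : Q = hV.primeIdealOf ⟨η, hηV⟩ := by
    apply hinj
    rw [heq, hV.fromSpec_primeIdealOf]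
  rw [← this]

/-- Key lemma: a generic point of an irreducible component outside a quasi-compact open has an
affine open neighbourhood disjoint from it. -/
lemma exists_affine_disjoint {X : Scheme.{u}} [QuasiSeparatedSpace X] {η : X}
    (hη : closure ({η} : Set X) ∈ irreducibleComponents X) (W : X.Opens)
    (hW : IsCompact (W : Set X)) (hηW : η ∉ W) :
    ∃ V : X.Opens, IsAffineOpen V ∧ η ∈ V ∧ Disjoint V W := by
  obtain ⟨_, ⟨V₀, hV₀, rfl⟩, hηV₀, -⟩ := (X.isBasis_affineOpens.exists_subset_of_mem_open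
    (Set.mem_univ η) isOpen_univ)
  have hV₀ : IsAffineOpen V₀ := hV₀
  have hηV₀ : η ∈ V₀ := hηV₀
  have hPmin := primeIdealOf_mem_minimalPrimes hη hV₀ hηV₀
  have hfP : hV₀.fromSpec (hV₀.primeIdealOf ⟨η, hηV₀⟩) = η := hV₀.fromSpec_primeIdealOf ⟨η, hηV₀⟩
  -- the compact open K' in Spec
  have hcomp : IsCompact ((W : Set X) ∩ (V₀ : Set X)) :=
    QuasiSeparatedSpace.inter_isCompact _ _ W.2 hW V₀.2 hV₀.isCompact
  have hK'eq : hV₀.fromSpec ⁻¹' (W : Set X) = hV₀.fromSpec ⁻¹' ((W : Set X) ∩ (V₀ : Set X)) := by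
    ext q
    constructor
    · intro hq
      refine ⟨hq, ?_⟩
      have : hV₀.fromSpec q ∈ Set.range hV₀.fromSpec := Set.mem_range_self q
      rwa [hV₀.range_fromSpec] at this
    · intro hq
      exact hq.1
  have hK'c : IsCompact (hV₀.fromSpec ⁻¹' (W : Set X)) := by
    rw [hK'eq]
    rw [hV₀.fromSpec.isOpenEmbedding.isInducing.isCompact_preimage_iff]
    · exact hcomp
    · rw [hV₀.range_fromSpec]; exact Set.inter_subset_right
  have hK'o : IsOpen (hV₀.fromSpec ⁻¹' (W : Set X)) := W.2.preimage hV₀.fromSpec.continuous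
  have hPK' : hV₀.primeIdealOf ⟨η, hηV₀⟩ ∉ (hV₀.fromSpec ⁻¹' (W : Set X)) := by
    intro h
    apply hηW
    have : hV₀.fromSpec (hV₀.primeIdealOf ⟨η, hηV₀⟩) ∈ (W : Set X) := h
    rwa [hfP] at this
  obtain ⟨s, hs1, hs2⟩ := exists_basicOpen_disjoint (B := Γ(X, V₀)) (hV₀.primeIdealOf ⟨η, hηV₀⟩)
    hPmin (hV₀.fromSpec ⁻¹' (W : Set X)) hK'c hK'o hPK'
  refine ⟨X.basicOpen s, hV₀.basicOpen s, ?_, ?_⟩
  · rw [← hV₀.fromSpec_image_basicOpen]
    exact ⟨hV₀.primeIdealOf ⟨η, hηV₀⟩, hs1, hfP⟩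
  · rw [disjoint_iff, eq_bot_iff]
    rintro x ⟨hx1, hx2⟩
    rw [← hV₀.fromSpec_image_basicOpen] at hx1
    obtain ⟨q, hq, rfl⟩ := hx1
    exact Set.disjoint_left.mp hs2 hq hx2

end Groth.Agent.Helper6.GenPt
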