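import Mathlib

set_option autoImplicit false
set_option linter.style.haveILetI false
set_option linter.unusedSectionVars false

open TensorProduct KaehlerDifferential

namespace Groth.Agent.Lib.Helper6.EtaleCoord

universe u

/-- If `T` is formally smooth over `k` and `d x_i` is a basis of `Ω[T/k]` where `x_i` are the
images of the variables of `P = k[X_i]`, then `T` is formally étale over `P`. -/
theorem formallyEtale_of_basis {k T : Type u} [CommRing k] [CommRing T] [Algebra k T]
    {ι : Type} [Algebra (MvPolynomial ι k) T] [IsScalarTower k (MvPolynomial ι k) T]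
    [Algebra.FormallySmooth k T]
    (hb : Function.Bijective (Finsupp.linearCombination T
      (fun i : ι => D k T (algebraMap (MvPolynomial ι k) T (MvPolynomial.X i))))) :
    Algebra.FormallyEtale (MvPolynomial ι k) T := by
  -- the base change map is bijective
  let b := (mvPolynomialBasis k ι).baseChange T
  have hcomp : (mapBaseChange k (MvPolynomial ι k) T) =
      (Finsupp.linearCombination T
        (fun i : ι => D k T (algebraMap (MvPolynomial ι k) T (MvPolynomial.X i)))) ∘ₗ
        b.repr.toLinearMap := by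
    refine b.ext fun i => ?_
    rw [LinearMap.comp_apply, LinearEquiv.coe_coe, Module.Basis.repr_self,
      Finsupp.linearCombination_single, one_smul]
    simp [b, Module.Basis.baseChange_apply]
  have hbij : Function.Bijective (mapBaseChange k (MvPolynomial ι k) T) := by
    rw [hcomp]
    exact hb.comp b.repr.bijective
  -- unramified
  have hΩ : Subsingleton Ω[T⁄MvPolynomial ι k] := by
    refine ⟨fun a b => ?_⟩
    have h0 : ∀ ω : Ω[T⁄MvPolynomial ι k], ω = 0 := by
      intro ω
      obtain ⟨y, rfl⟩ := KaehlerDifferential.map_surjective k (MvPolynomial ι k) T ω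
      obtain ⟨z, rfl⟩ := hbij.2 y
      exact (KaehlerDifferential.exact_mapBaseChange_map k (MvPolynomial ι k) T _).2 ⟨z, rfl⟩
    rw [h0 a, h0 b]
  haveI : Algebra.FormallyUnramified (MvPolynomial ι k) T := ⟨hΩ⟩
  -- smooth
  have hH1 : Subsingleton (Algebra.H1Cotangent (MvPolynomial ι k) T) := by
    refine ⟨fun a b => ?_⟩
    have h0 : ∀ h : Algebra.H1Cotangent (MvPolynomial ι k) T, h = 0 := by
      intro h
      have h1 : Algebra.H1Cotangent.δ k (MvPolynomial ι k) T h = 0 := by
        apply hbij.1
        rw [map_zero]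
        exact (Algebra.H1Cotangent.exact_δ_mapBaseChange k (MvPolynomial ι k) T _).2 ⟨h, rfl⟩
      obtain ⟨y, rfl⟩ := (Algebra.H1Cotangent.exact_map_δ k (MvPolynomial ι k) T h).1 h1
      rw [Subsingleton.elim y 0, map_zero]
    rw [h0 a, h0 b]
  haveI : Algebra.FormallySmooth (MvPolynomial ι k) T := ⟨inferInstance, hH1⟩
  exact Algebra.FormallyEtale.of_formallyUnramified_and_formallySmooth

/-- spreading out a basis `d x_i` of `Ω` from the local ring at `p` to a basic open. -/
theorem exists_bijective_away {k R : Type u} [CommRing k] [CommRing R] [Algebra k R]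
    [Algebra.FinitePresentation k R] (p : Ideal R) [p.IsPrime] {ι : Type} [Finite ι]
    (x : ι → R)
    (hp : Function.Bijective (Finsupp.linearCombination (Localization.AtPrime p)
      (fun i : ι => D k (Localization.AtPrime p) (algebraMap R (Localization.AtPrime p) (x i))))) :
    ∃ r : R, r ∉ p ∧ ∀ t : R, r ∣ t →
      Function.Bijective (Finsupp.linearCombination (Localization.Away t)
        (fun i : ι => D k (Localization.Away t) (algebraMap R (Localization.Away t) (x i)))) := by
  let e : (ι →₀ R) →ₗ[R] Ω[R⁄k] := Finsupp.linearCombination R fun i : ι ↦ D k R (x i)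
  let l₁ : (ι →₀ R) →ₗ[R] (ι →₀ Localization.AtPrime p) :=
    Finsupp.mapRange.linearMap (Algebra.linearMap R (Localization.AtPrime p))
  let l₂ : Ω[R⁄k] →ₗ[R] Ω[Localization.AtPrime p⁄k] := map k k R (Localization.AtPrime p)
  let eₚ : (ι →₀ Localization.AtPrime p) →ₗ[Localization.AtPrime p] Ω[Localization.AtPrime p⁄k] :=
    IsLocalizedModule.mapExtendScalars p.primeCompl l₁ l₂ (Localization.AtPrime p) e
  have heq : eₚ = Finsupp.linearCombination (Localization.AtPrime p)
      (fun i : ι => D k (Localization.AtPrime p) (algebraMap R (Localization.AtPrime p) (x i))) := by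
    ext i
    trans IsLocalizedModule.map p.primeCompl l₁ l₂ e <| l₁ <| Finsupp.single i 1
    · simp [eₚ, -IsLocalizedModule.map_apply, l₁]
    · simp [l₂, e]
  have heₚ : Function.Bijective eₚ := heq ▸ hp
  obtain ⟨r, hr, h⟩ := exists_bijective_map_powers p.primeCompl l₁ l₂ e heₚ
  refine ⟨r, hr, fun t ht => ?_⟩
  have h := h t ht
  let l₁ₜ : (ι →₀ R) →ₗ[R] (ι →₀ Localization.Away t) :=
    Finsupp.mapRange.linearMap (Algebra.linearMap R _)
  let l₂ₜ : Ω[R⁄k] →ₗ[R] Ω[Localization.Away t⁄k] := map k k R (Localization.Away t)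
  rw [← IsLocalizedModule.map_bijective_iff_localizedModuleMap_bijective l₁ₜ l₂ₜ] at h
  let eₜ' : (ι →₀ Localization.Away t) →ₗ[Localization.Away t] Ω[Localization.Away t⁄k] :=
    IsLocalizedModule.mapExtendScalars (Submonoid.powers t) l₁ₜ l₂ₜ (Localization.Away t) e
  have heq' : eₜ' = Finsupp.linearCombination (Localization.Away t)
      (fun i : ι => D k (Localization.Away t) (algebraMap R (Localization.Away t) (x i))) := by
    ext i
    trans IsLocalizedModule.map (Submonoid.powers t) l₁ₜ l₂ₜ e <| l₁ₜ <| Finsupp.single i 1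
    · simp [eₜ', -IsLocalizedModule.map_apply, l₁ₜ]
    · simp [l₂ₜ, e]
  rw [← heq']
  exact h

/-- a basis of the fibre of `Ω` at a maximal ideal given by differentials gives a basis of `Ω` of
the local ring (at a smooth point). -/
theorem bijective_atPrime_of_basis {k R : Type u} [CommRing k] [CommRing R] [Algebra k R]
    [Algebra.FinitePresentation k R] (m : Ideal R) [m.IsMaximal] [Algebra.IsSmoothAt k m]
    {ι : Type} [Fintype ι] (x : ι → R)
    (hli : LinearIndependent (R ⧸ m) (fun i => (1 : R ⧸ m) ⊗ₜ[R] D k R (x i)))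
    (hsp : Submodule.span (R ⧸ m) (Set.range (fun i => (1 : R ⧸ m) ⊗ₜ[R] D k R (x i))) = ⊤) :
    Function.Bijective (Finsupp.linearCombination (Localization.AtPrime m)
      (fun i : ι => D k (Localization.AtPrime m)
        (algebraMap R (Localization.AtPrime m) (x i)))) := by
  haveI : Algebra.FormallyEtale R (Localization.AtPrime m) :=
    Algebra.FormallyEtale.of_isLocalization m.primeCompl
  haveI : Algebra.EssFiniteType R (Localization.AtPrime m) :=
    Algebra.EssFiniteType.of_isLocalization _ m.primeCompl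
  haveI : Algebra.EssFiniteType k (Localization.AtPrime m) :=
    Algebra.EssFiniteType.comp k R (Localization.AtPrime m)
  have hbc : IsBaseChange (Localization.AtPrime m) (map k k R (Localization.AtPrime m)) :=
    isBaseChange_of_formallyEtale k R (Localization.AtPrime m)
  have hbc2 := hbc.comp (TensorProduct.isBaseChange (Localization.AtPrime m)
    Ω[Localization.AtPrime m⁄k] m.ResidueField)
  let Φ₂ := hbc2.equiv
  have hΦ₂ : ∀ (a : m.ResidueField) (n : Ω[R⁄k]),
      Φ₂ (a ⊗ₜ n) = a • ((1 : m.ResidueField) ⊗ₜ[Localization.AtPrime m]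
        (map k k R (Localization.AtPrime m) n)) := fun a n => hbc2.equiv_tmul a n
  let e₁ : (R ⧸ m) ≃ₗ[R] m.ResidueField :=
    LinearEquiv.ofBijective ((Algebra.linearMap (R ⧸ m) m.ResidueField).restrictScalars R)
      m.bijective_algebraMap_quotient_residueField
  let Ψ : ((R ⧸ m) ⊗[R] Ω[R⁄k]) ≃ₗ[R]
      (m.ResidueField ⊗[Localization.AtPrime m] Ω[Localization.AtPrime m⁄k]) :=
    (TensorProduct.congr e₁ (LinearEquiv.refl R Ω[R⁄k])).trans (Φ₂.restrictScalars R)
  have hΨ : ∀ (c : R ⧸ m) (r : R), Ψ (c ⊗ₜ D k R r) =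
      algebraMap (R ⧸ m) m.ResidueField c • ((1 : m.ResidueField) ⊗ₜ[Localization.AtPrime m]
        D k (Localization.AtPrime m) (algebraMap R (Localization.AtPrime m) r)) := by
    intro c r
    show Φ₂ ((e₁ c) ⊗ₜ D k R r) = _
    rw [hΦ₂, map_D]
    rfl
  apply Module.IsLocalRing.linearCombination_bijective_of_flat
  have hΨsmul : ∀ (c : R ⧸ m) (i : ι), Ψ (c • ((1 : R ⧸ m) ⊗ₜ[R] D k R (x i))) =
      algebraMap (R ⧸ m) m.ResidueField c •
        ((TensorProduct.mk (Localization.AtPrime m) m.ResidueField
          Ω[Localization.AtPrime m⁄k] 1) (D k (Localization.AtPrime m)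
            (algebraMap R (Localization.AtPrime m) (x i)))) := by
    intro c i
    rw [TensorProduct.smul_tmul', smul_eq_mul, mul_one, hΨ]
    rfl
  have hΨsum : ∀ c : ι → R ⧸ m, Ψ (∑ i, c i • ((1 : R ⧸ m) ⊗ₜ[R] D k R (x i))) =
      ∑ i, algebraMap (R ⧸ m) m.ResidueField (c i) •
        ((TensorProduct.mk (Localization.AtPrime m) m.ResidueField
          Ω[Localization.AtPrime m⁄k] 1) (D k (Localization.AtPrime m)
            (algebraMap R (Localization.AtPrime m) (x i)))) := by
    intro c
    rw [map_sum]
    exact Finset.sum_congr rfl fun i _ => hΨsmul (c i) i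
  constructor
  · show LinearIndependent m.ResidueField _
    rw [Fintype.linearIndependent_iff]
    intro g hg i
    choose c hc using fun i => m.bijective_algebraMap_quotient_residueField.2 (g i)
    have h1 : Ψ (∑ i, c i • ((1 : R ⧸ m) ⊗ₜ[R] D k R (x i))) = 0 := by
      rw [hΨsum, ← hg]
      exact Finset.sum_congr rfl fun i _ => by rw [hc]; rfl
    have h2 : ∑ i, c i • ((1 : R ⧸ m) ⊗ₜ[R] D k R (x i)) = 0 := by
      rwa [LinearEquiv.map_eq_zero_iff] at h1
    have h3 := Fintype.linearIndependent_iff.1 hli c h2 i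
    rw [← hc i, h3, map_zero]
  · rw [← LinearMap.range_eq_top, Finsupp.range_linearCombination, eq_top_iff]
    intro z _
    obtain ⟨y, rfl⟩ := Ψ.surjective z
    have hy : y ∈ Submodule.span (R ⧸ m)
        (Set.range (fun i => (1 : R ⧸ m) ⊗ₜ[R] D k R (x i))) := by rw [hsp]; trivial
    obtain ⟨c, rfl⟩ := (Submodule.mem_span_range_iff_exists_fun _).1 hy
    rw [hΨsum]
    refine Submodule.sum_mem _ fun i _ => Submodule.smul_mem _ _ (Submodule.subset_span ⟨i, rfl⟩)

end Groth.Agent.Lib.Helper6.EtaleCoord
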