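import Mathlib

open CategoryTheory Limits TensorProduct AlgebraicGeometry

namespace Groth.Agent.Lib.Helper6.FPModel

universe u

/-- A finitely presented ring map is a pushout of a finitely presented ring map out of a finite type
`ℤ`-algebra. -/
theorem ring_model {A B : CommRingCat.{u}} (φ : A ⟶ B) (hφ : φ.hom.FinitePresentation) :
    ∃ (R₀ B₀ : CommRingCat.{u}) (i : R₀ ⟶ A) (j : R₀ ⟶ B₀) (k : B₀ ⟶ B),
      IsPushout i j φ k ∧ Algebra.FiniteType ℤ R₀ ∧ j.hom.FinitePresentation := by
  let : Algebra A B := φ.hom.toAlgebra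
  have : Algebra.FinitePresentation A B := hφ
  let P := Algebra.Presentation.ofFinitePresentation A B
  let e : A ⊗[P.Core] P.ModelOfHasCoeffs P.Core ≃ₐ[A] B := P.tensorModelOfHasCoeffsEquiv P.Core
  have h0 := CommRingCat.isPushout_tensorProduct P.Core A (P.ModelOfHasCoeffs P.Core)
  refine ⟨.of P.Core, .of (P.ModelOfHasCoeffs P.Core), CommRingCat.ofHom (algebraMap P.Core A),
    CommRingCat.ofHom (algebraMap P.Core (P.ModelOfHasCoeffs P.Core)),
    CommRingCat.ofHom (e.toRingEquiv.toRingHom.comp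
      (Algebra.TensorProduct.includeRight (R := P.Core) (A := A)
        (B := P.ModelOfHasCoeffs P.Core)).toRingHom), ?_, ?_, ?_⟩
  · refine h0.of_iso (Iso.refl _) (Iso.refl _) (Iso.refl _) e.toRingEquiv.toCommRingCatIso
      (by simp) (by simp) ?_ ?_
    · ext a
      show e (a ⊗ₜ 1) = φ.hom a
      exact e.commutes a
    · apply CommRingCat.hom_ext
      apply RingHom.ext
      intro b
      rfl
  · show Algebra.FiniteType ℤ P.Core
    infer_instance
  · show (algebraMap P.Core (P.ModelOfHasCoeffs P.Core)).FinitePresentation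
    rw [RingHom.finitePresentation_algebraMap]
    infer_instance


/-- A morphism of finite presentation between affine schemes is a base change of a finitely
presented morphism of affine schemes over a finite type `ℤ`-algebra. -/
theorem scheme_model {X S : Scheme.{u}} (f : X ⟶ S) [IsAffine X] [IsAffine S]
    [LocallyOfFinitePresentation f] :
    ∃ (X₀ S₀ : Scheme.{u}) (f₀ : X₀ ⟶ S₀) (g : S ⟶ S₀) (g' : X ⟶ X₀), IsAffine X₀ ∧ IsAffine S₀ ∧
      IsPullback g' f f₀ g ∧ Algebra.FiniteType ℤ Γ(S₀, ⊤) ∧ LocallyOfFinitePresentation f₀ := by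
  have hφ : f.appTop.hom.FinitePresentation :=
    HasRingHomProperty.appTop (P := @LocallyOfFinitePresentation) _ inferInstance
  obtain ⟨R₀, B₀, i, j, k, hpo, hft, hfp⟩ := ring_model f.appTop hφ
  have hpb : IsPullback (Spec.map k) (Spec.map f.appTop) (Spec.map j) (Spec.map i) :=
    (isPullback_SpecMap_of_isPushout _ _ _ _ hpo).flip
  refine ⟨Spec B₀, Spec R₀, Spec.map j, S.isoSpec.hom ≫ Spec.map i, X.isoSpec.hom ≫ Spec.map k,
    inferInstance, inferInstance, ?_, ?_, ?_⟩
  · refine hpb.of_iso X.isoSpec.symm (Iso.refl _) S.isoSpec.symm (Iso.refl _) ?_ ?_ ?_ ?_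
    · simp
    · exact Scheme.isoSpec_inv_naturality f
    · simp
    · simp
  · exact hft.equiv (Scheme.ΓSpecIso R₀).commRingCatIsoToRingEquiv.symm.toIntAlgEquiv
  · exact (LocallyOfFinitePresentation.SpecMap_iff j).mpr hfp

end Groth.Agent.Lib.Helper6.FPModel
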