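import Mathlib

/-!
# Stein factorization, universally closed case (helper6)

For `f : X ⟶ S` universally closed and quasi-separated, the canonical morphism
`f.toNormalization : X ⟶ f.normalization` induces isomorphisms on sections over all opens.
-/

open CategoryTheory AlgebraicGeometry Opposite TopologicalSpace

universe u

namespace Groth.Agent.Lib.Helper6.SteinUC

/-- A morphism of schemes inducing isomorphisms on sections over a basis of opens induces
isomorphisms on sections over all opens. -/
theorem isIso_app_of_basis {X Y : Scheme.{u}} (g : X ⟶ Y) {ι : Type u} (B : ι → Y.Opens)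
    (hB : Opens.IsBasis (Set.range B)) (h : ∀ i, IsIso (g.app (B i))) (U : Y.Opens) :
    IsIso (g.app U) := by
  let φ : Y.sheaf ⟶ (TopCat.Sheaf.pushforward CommRingCat g.base).obj X.sheaf :=
    ObjectProperty.homMk g.c
  have h1 : IsIso φ := TopCat.Sheaf.isIso_iff_isIso_basis (B := B) hB h
  obtain ⟨ψ, h3, h4⟩ := h1
  have h5 : φ.hom ≫ ψ.hom = 𝟙 _ := congrArg (fun α => α.hom) h3
  have h6 : ψ.hom ≫ φ.hom = 𝟙 _ := congrArg (fun α => α.hom) h4
  refine ⟨ψ.hom.app (op U), ?_, ?_⟩
  · have := congrArg (fun α => α.app (op U)) h5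
    exact this
  · have := congrArg (fun α => α.app (op U)) h6
    exact this

/-- A ring map between localizations away from `r` and `φ r` lying over a bijective ring map `φ`
is bijective. -/
theorem bijective_of_away {A B A' B' : Type*} [CommRing A] [CommRing B] [CommRing A']
    [CommRing B'] [Algebra A A'] [Algebra B B'] (φ : A →+* B) (hφ : Function.Bijective φ) (r : A)
    [IsLocalization.Away r A'] [IsLocalization.Away (φ r) B'] (ψ : A' →+* B')
    (h : ψ.comp (algebraMap A A') = (algebraMap B B').comp φ) : Function.Bijective ψ := by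
  have e : ψ = IsLocalization.Away.map A' B' φ r := by
    apply IsLocalization.ringHom_ext (Submonoid.powers r)
    rw [h, IsLocalization.Away.map, IsLocalization.map_comp]
  rw [e]
  constructor
  · rw [IsLocalization.Away.map_injective_iff]
    intro a ha
    refine ⟨0, ?_⟩
    rw [pow_zero, one_mul]
    exact hφ.1 (by rw [ha, map_zero])
  · rw [IsLocalization.Away.map_surjective_iff]
    intro b
    obtain ⟨a, rfl⟩ := hφ.2 b
    exact ⟨a, 0, by rw [pow_zero, one_mul]⟩

theorem isIntegral_app_of_universallyClosed {X S : Scheme.{u}} (f : X ⟶ S) [UniversallyClosed f]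
    (V : S.Opens) (hV : IsAffineOpen V) : (f.app V).hom.IsIntegral := by
  have : IsAffine V.toScheme := hV
  have h1 := isIntegral_appTop_of_universallyClosed (f ∣_ V)
  rw [Scheme.Hom.appTop, morphismRestrict_app] at h1
  have h2 := (RingHom.isIntegral_respectsIso.cancel_right_isIso _ _).mp h1
  have key : ∀ W : S.Opens, W = V → (f.app W).hom.IsIntegral → (f.app V).hom.IsIntegral := by
    rintro _ rfl h
    exact h
  exact key _ (by simp) h2

theorem isIso_toNormalization_app_preimage {X S : Scheme.{u}} (f : X ⟶ S) [UniversallyClosed f]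
    [QuasiSeparated f] (V : S.affineOpens) :
    IsIso (f.toNormalization.app (f.fromNormalization ⁻¹ᵁ V.1)) := by
  let := (f.app V.1).hom.toAlgebra
  have hint : integralClosure Γ(S, V.1) Γ(X, f ⁻¹ᵁ V.1) = ⊤ := by
    rw [integralClosure_eq_top_iff, ← algebraMap_isIntegral_iff, RingHom.algebraMap_toAlgebra]
    exact isIntegral_app_of_universallyClosed f V.1 V.2
  have h := f.toNormalization_app_preimage V
  have hmid : IsIso (CommRingCat.ofHom
      (integralClosure Γ(S, V.1) Γ(X, f ⁻¹ᵁ V.1)).val.toRingHom) := by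
    rw [hint]
    exact inferInstanceAs (IsIso (Subalgebra.topEquiv
      (R := Γ(S, V.1)) (A := ↑Γ(X, f ⁻¹ᵁ V.1))).toCommRingCatIso.hom)
  rw [h]
  refine IsIso.comp_isIso' inferInstance (IsIso.comp_isIso' ?_ inferInstance)
  exact hmid

/-- Localizing an isomorphism on sections over an affine open with qcqs preimage. -/
theorem isIso_app_basicOpen {X Y : Scheme.{u}} (g : X ⟶ Y) (W : Y.Opens) (hW : IsAffineOpen W)
    (hc : IsCompact (g ⁻¹ᵁ W).1) (hqs : IsQuasiSeparated (g ⁻¹ᵁ W).1) [hiso : IsIso (g.app W)]
    (r : Γ(Y, W)) : IsIso (g.app (Y.basicOpen r)) := by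
  have hpre : g ⁻¹ᵁ (Y.basicOpen r) = X.basicOpen ((g.app W).hom r) :=
    Scheme.Hom.preimage_basicOpen g r
  have h1 : IsLocalization.Away r Γ(Y, Y.basicOpen r) := hW.isLocalization_basicOpen r
  have h2 : IsLocalization.Away ((g.app W).hom r) Γ(X, X.basicOpen ((g.app W).hom r)) :=
    isLocalization_basicOpen_of_qcqs hc hqs _
  have hbij : Function.Bijective (g.app W).hom :=
    (ConcreteCategory.isIso_iff_bijective (g.app W)).mp hiso
  have key : Function.Bijective
      (g.app (Y.basicOpen r) ≫ X.presheaf.map (eqToHom hpre.symm).op).hom := by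
    apply bijective_of_away (g.app W).hom hbij r
    ext x
    simp only [RingHom.algebraMap_toAlgebra, ← CommRingCat.hom_comp]
    congr 2
    rw [Scheme.Hom.naturality_assoc, ← Functor.map_comp]
    rfl
  have : IsIso (g.app (Y.basicOpen r) ≫ X.presheaf.map (eqToHom hpre.symm).op) :=
    (ConcreteCategory.isIso_iff_bijective _).mpr key
  exact IsIso.of_isIso_comp_right _ (X.presheaf.map (eqToHom hpre.symm).op)

/-- **Stein factorization, universally closed case.** -/
theorem isIso_toNormalization_app {X S : Scheme.{u}} (f : X ⟶ S) [UniversallyClosed f]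
    [QuasiSeparated f] (U : f.normalization.Opens) : IsIso (f.toNormalization.app U) := by
  let B : (Σ V : S.affineOpens, Γ(f.normalization, f.fromNormalization ⁻¹ᵁ V.1)) →
      f.normalization.Opens := fun i => f.normalization.basicOpen i.2
  refine isIso_app_of_basis f.toNormalization B ?_ ?_ U
  · rw [Opens.isBasis_iff_nbhd]
    intro U x hx
    obtain ⟨V, hV, hxV⟩ : ∃ V : S.Opens, IsAffineOpen V ∧ f.fromNormalization x ∈ V := by
      obtain ⟨V, hV, hxV, -⟩ := exists_isAffineOpen_mem_and_subset
        (x := f.fromNormalization x) (U := ⊤) trivial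
      exact ⟨V, hV, hxV⟩
    have hW : IsAffineOpen (f.fromNormalization ⁻¹ᵁ V) := hV.preimage f.fromNormalization
    obtain ⟨r, hr1, hr2⟩ := hW.exists_basicOpen_le (V := U) ⟨x, hx⟩ hxV
    exact ⟨_, ⟨⟨⟨V, hV⟩, r⟩, rfl⟩, hr2, hr1⟩
  · rintro ⟨V, r⟩
    have hW : IsAffineOpen (f.fromNormalization ⁻¹ᵁ V.1) := V.2.preimage f.fromNormalization
    have hpre : f.toNormalization ⁻¹ᵁ (f.fromNormalization ⁻¹ᵁ V.1) = f ⁻¹ᵁ V.1 := by
      rw [← Scheme.Hom.comp_preimage, Scheme.Hom.toNormalization_fromNormalization]
    have hc : IsCompact (f.toNormalization ⁻¹ᵁ (f.fromNormalization ⁻¹ᵁ V.1)).1 := by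
      rw [hpre]
      exact f.isCompact_preimage V.2.isCompact
    have hqs : IsQuasiSeparated (f.toNormalization ⁻¹ᵁ (f.fromNormalization ⁻¹ᵁ V.1)).1 := by
      rw [hpre]
      exact f.isQuasiSeparated_preimage V.2.isQuasiSeparated
    have := isIso_toNormalization_app_preimage f V
    exact isIso_app_basicOpen f.toNormalization _ hW hc hqs r

end Groth.Agent.Lib.Helper6.SteinUC
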