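import Mathlib

set_option autoImplicit false
universe u v₁ u₁
open CategoryTheory CategoryTheory.Limits MonoidalCategory CartesianMonoidalCategory MonObj GrpObj
  AlgebraicGeometry

namespace Groth.Agent.Helper6.GrpSchSep

section Cat
variable {C : Type u₁} [Category.{v₁} C] [CartesianMonoidalCategory C] {G : C} [GrpObj G]

/-- `(g, h) ↦ g⁻¹ h` -/
def δ (G : C) [GrpObj G] : G ⊗ G ⟶ G := (fst G G)⁻¹ * snd G G

theorem δ_def (G : C) [GrpObj G] : δ G = (fst G G)⁻¹ * snd G G := rfl

theorem isPullback_diag (G : C) [GrpObj G] :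
    IsPullback (lift (𝟙 G) (𝟙 G)) (toUnit G) (δ G) η[G] := by
  have hw : lift (𝟙 G) (𝟙 G) ≫ δ G = toUnit G ≫ η[G] := by
    rw [δ_def, MonObj.comp_mul, GrpObj.comp_inv, lift_fst, lift_snd, inv_mul_cancel, Hom.one_def]
  refine ⟨⟨hw⟩, ⟨PullbackCone.IsLimit.mk _ (fun s => s.fst ≫ fst G G) ?_ ?_ ?_⟩⟩
  · intro s
    have h1 : (s.fst ≫ fst G G)⁻¹ * (s.fst ≫ snd G G) = 1 := by
      have h0 : s.fst ≫ ((fst G G)⁻¹ * snd G G) = s.snd ≫ η[G] := s.condition
      rw [MonObj.comp_mul, GrpObj.comp_inv] at h0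
      rw [h0, Hom.one_def]
      congr 1
      exact toUnit_unique _ _
    have h2 : s.fst ≫ fst G G = s.fst ≫ snd G G := by
      rw [inv_mul_eq_one] at h1; exact h1
    ext
    · simp
    · simp [h2]
  · intro s
    exact toUnit_unique _ _
  · intro s m h1 h2
    rw [← h1]
    simp

end Cat

section Section

theorem isClosedImmersion_section {X S : Scheme.{u}} [DiscreteTopology S] (f : X ⟶ S) (σ : S ⟶ X)
    (h : σ ≫ f = 𝟙 S) : IsClosedImmersion σ := by
  let U : S → S.Opens := fun s => ⟨{s}, isOpen_discrete _⟩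
  let V : S → X.Opens := fun s => f ⁻¹ᵁ (U s)
  have hV : iSup V = ⊤ := by
    rw [eq_top_iff]
    intro x _
    rw [TopologicalSpace.Opens.mem_iSup]
    exact ⟨f x, rfl⟩
  rw [IsZariskiLocalAtTarget.iff_of_iSup_eq_top (P := @IsClosedImmersion) V hV]
  intro s
  have hσ : ∀ x : S, f (σ x) = x := by
    intro x
    have := congrArg (fun (g : S ⟶ S) => g x) h
    simpa using this
  have hsub : Subsingleton ↥(σ ⁻¹ᵁ V s) := by
    constructor
    rintro ⟨x, hx⟩ ⟨y, hy⟩
    apply Subtype.ext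
    have hx' : f (σ x) = s := hx
    have hy' : f (σ y) = s := hy
    rw [hσ] at hx' hy'
    change x = y
    rw [hx', hy']
  have hle : V s ≤ f ⁻¹ᵁ (σ ⁻¹ᵁ V s) := by
    intro x hx
    change f (σ (f x)) = s
    rw [hσ]; exact hx
  haveI : Subsingleton (σ ⁻¹ᵁ V s).toScheme := hsub
  rw [← Scheme.Hom.resLE_eq_morphismRestrict]
  refine isClosedImmersion_of_comp_eq_id (f.resLE (σ ⁻¹ᵁ V s) (V s) hle) _ ?_
  rw [Scheme.Hom.resLE_comp_resLE]
  rw [← cancel_mono (Scheme.Opens.ι _)]
  simp [h]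

end Section

section Sch

variable {S : Scheme.{u}} (G : Over S) [GrpObj G]

theorem isSeparated_of_isClosedImmersion_unit (h : IsClosedImmersion η[G].left) :
    IsSeparated G.hom := by
  have hpb := (isPullback_diag G).map (Over.forget S)
  have h1 : IsClosedImmersion (lift (𝟙 G) (𝟙 G)).left :=
    MorphismProperty.of_isPullback (P := @IsClosedImmersion) hpb.flip h
  have h2 : (lift (𝟙 G) (𝟙 G)).left = pullback.diagonal G.hom := by
    apply pullback.hom_ext
    · simp only [Over.lift_left, Over.id_left, pullback.diagonal_fst]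
      exact pullback.lift_fst _ _ _
    · simp only [Over.lift_left, Over.id_left, pullback.diagonal_snd]
      exact pullback.lift_snd _ _ _
  rw [h2] at h1
  exact ⟨h1⟩

theorem isSeparated_of_discrete [DiscreteTopology S] : IsSeparated G.hom :=
  isSeparated_of_isClosedImmersion_unit G
    (isClosedImmersion_section G.hom η[G].left (by simp))

end Sch

end Groth.Agent.Helper6.GrpSchSep
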