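import Groth.Agent.Lib.Helper6.GenPt

universe u

open AlgebraicGeometry TopologicalSpace

namespace Groth.Agent.Helper6.GenPt

lemma exists_disjoint_nhds {X : Scheme.{u}} [QuasiSeparatedSpace X] {η ζ : X}
    (hη : closure ({η} : Set X) ∈ irreducibleComponents X)
    (hζ : closure ({ζ} : Set X) ∈ irreducibleComponents X) (hne : η ≠ ζ) :
    ∃ A B : X.Opens, η ∈ A ∧ ζ ∈ B ∧ Disjoint A B := by
  have hns : ¬ (ζ ⤳ η) := fun h => hne (eq_of_specializes hη h).symm
  rw [specializes_iff_forall_open] at hns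
  push Not at hns
  obtain ⟨O, hO, hηO, hζO⟩ := hns
  obtain ⟨_, ⟨W, hW, rfl⟩, hηW, hWO⟩ := (X.isBasis_affineOpens.exists_subset_of_mem_open
    hηO hO)
  have hW : IsAffineOpen W := hW
  have hζW : ζ ∉ W := fun h => hζO (hWO h)
  obtain ⟨B, -, hζB, hdisj⟩ := exists_affine_disjoint hζ W hW.isCompact hζW
  exact ⟨W, B, hηW, hζB, hdisj.symm⟩

theorem disjoint_affines (X : Scheme.{u}) [QuasiSeparatedSpace X] {n : ℕ}
    (η : Fin n → X) (hη : ∀ i, closure ({η i} : Set X) ∈ irreducibleComponents (X : Type u))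
    (hinj : Function.Injective η) :
    ∃ U : Fin n → X.Opens, (∀ i, IsAffineOpen (U i) ∧ η i ∈ U i) ∧
      (∀ i j, i ≠ j → Disjoint (U i) (U j)) ∧ IsAffineOpen (⨆ i, U i) := by
  classical
  have hex : ∀ i j : Fin n, ∃ A B : X.Opens, i ≠ j → (η i ∈ A ∧ η j ∈ B ∧ Disjoint A B) := by
    intro i j
    by_cases hij : i = j
    · exact ⟨⊤, ⊤, fun h => absurd hij h⟩
    · obtain ⟨A, B, h⟩ := exists_disjoint_nhds (hη i) (hη j) (fun h => hij (hinj h))
      exact ⟨A, B, fun _ => h⟩
  choose A B hAB using hex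
  -- the open O i
  let O : Fin n → X.Opens := fun i => Finset.univ.inf (fun j => if i = j then ⊤ else A i j ⊓ B j i)
  have hηO : ∀ i, η i ∈ O i := by
    intro i
    have : ∀ (s : Finset (Fin n)), η i ∈ s.inf (fun j => if i = j then (⊤ : X.Opens) else A i j ⊓ B j i) := by
      intro s
      induction s using Finset.induction_on with
      | empty => simp
      | insert j s _ ih =>
        rw [Finset.inf_insert]
        refine ⟨?_, ih⟩
        by_cases hij : i = j
        · rw [if_pos hij]; trivial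
        · rw [if_neg hij]
          exact ⟨(hAB i j hij).1, (hAB j i (Ne.symm hij)).2.1⟩
    exact this _
  have hOle : ∀ i j, i ≠ j → O i ≤ A i j ⊓ B j i := by
    intro i j hij
    have := Finset.inf_le (f := fun j => if i = j then (⊤ : X.Opens) else A i j ⊓ B j i)
      (Finset.mem_univ j)
    simpa [if_neg hij] using this
  -- choose affine inside
  have hex2 : ∀ i, ∃ U : X.Opens, IsAffineOpen U ∧ η i ∈ U ∧ U ≤ O i := by
    intro i
    obtain ⟨_, ⟨W, hW, rfl⟩, hηW, hWO⟩ := (X.isBasis_affineOpens.exists_subset_of_mem_open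
      (hηO i) (O i).2)
    exact ⟨W, hW, hηW, hWO⟩
  choose U hU1 hU2 hU3 using hex2
  have hdisj : ∀ i j, i ≠ j → Disjoint (U i) (U j) := by
    intro i j hij
    have h1 : U i ≤ A i j := (hU3 i).trans ((hOle i j hij).trans inf_le_left)
    have h2 : U j ≤ B i j := (hU3 j).trans ((hOle j i (Ne.symm hij)).trans inf_le_right)
    exact (hAB i j hij).2.2.mono h1 h2
  refine ⟨U, fun i => ⟨hU1 i, hU2 i⟩, hdisj, ?_⟩
  exact IsAffineOpen.iSup_of_disjoint hU1 (fun i j hij => hdisj i j hij)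

theorem affine_contains (X : Scheme.{u}) [QuasiSeparatedSpace X] {n : ℕ}
    (η : Fin n → X) (hη : ∀ i, closure ({η i} : Set X) ∈ irreducibleComponents (X : Type u)) (x : X) :
    ∃ U : X.Opens, IsAffineOpen U ∧ x ∈ U ∧ ∀ i, η i ∈ U := by
  induction n with
  | zero =>
    obtain ⟨_, ⟨V₀, hV₀, rfl⟩, hxV₀, -⟩ := (X.isBasis_affineOpens.exists_subset_of_mem_open
      (Set.mem_univ x) isOpen_univ)
    exact ⟨V₀, hV₀, hxV₀, fun i => i.elim0⟩
  | succ n ih =>
    obtain ⟨U, hU, hxU, hηU⟩ := ih (fun i => η i.castSucc) (fun i => hη _)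
    by_cases hlast : η (Fin.last n) ∈ U
    · refine ⟨U, hU, hxU, fun i => ?_⟩
      refine Fin.lastCases hlast (fun j => hηU j) i
    · obtain ⟨V, hV, hηV, hdisj⟩ := exists_affine_disjoint (hη (Fin.last n)) U hU.isCompact hlast
      refine ⟨U ⊔ V, hU.sup_of_disjoint hV hdisj.symm, Or.inl hxU, fun i => ?_⟩
      refine Fin.lastCases (Or.inr hηV) (fun j => Or.inl (hηU j)) i

end Groth.Agent.Helper6.GenPt
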