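import Mathlib

set_option autoImplicit false
set_option linter.style.haveILetI false
set_option linter.unusedSectionVars false

open TensorProduct KaehlerDifferential Polynomial

namespace Groth.Agent.Lib.Helper6.SmoothQF

universe u

theorem arc_aux {K E B : Type u} [Field K] [CommRing E] [Algebra K E]
    [Algebra.FormallySmooth K E] (M : Ideal E) [M.IsMaximal]
    [CommRing B] [Algebra K B] (c : (E ⧸ M) →ₐ[K] B) (ε : B) (N : ℕ)
    (hε : ε ^ (N + 1) = 0) (hεN : ε ^ N ≠ 0)
    (d : Derivation K E (E ⧸ M)) (x s : E) (hx : x ∈ M) (hs : s ∉ M)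
    (h0 : s * x ^ N = 0) : d x = 0 := by
  by_contra hdx
  have hfield : ∀ v : E ⧸ M, v ≠ 0 → IsUnit v := by
    letI : Field (E ⧸ M) := Ideal.Quotient.field M
    exact fun v hv => isUnit_iff_ne_zero.2 hv
  have hεnil : IsNilpotent ε := ⟨N + 1, hε⟩
  let I : Ideal B := Ideal.span {ε ^ 2}
  have hI : IsNilpotent I := by
    refine ⟨N + 1, ?_⟩
    show I ^ (N + 1) = ⊥
    rw [Ideal.span_singleton_pow, ← pow_mul, mul_comm, pow_mul, hε, zero_pow (by norm_num)]
    simp
  let Φ : E → B := fun e => c (Ideal.Quotient.mk M e) + c (d e) * ε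
  have hΦadd : ∀ a b, Φ (a + b) = Φ a + Φ b := by
    intro a b
    simp only [Φ, map_add]
    ring
  have hΦmul : ∀ a b, Φ (a * b) - Φ a * Φ b ∈ I := by
    intro a b
    have h1 : d (a * b) = Ideal.Quotient.mk M a * d b + Ideal.Quotient.mk M b * d a := by
      rw [Derivation.leibniz]
      rfl
    have h2 : Φ (a * b) - Φ a * Φ b = (- (c (d a) * c (d b))) * ε ^ 2 := by
      simp only [Φ, h1, map_add, map_mul]
      ring
    rw [h2]
    exact Ideal.mul_mem_left _ _ (Ideal.subset_span rfl)
  let ψ₁ : E →ₐ[K] B ⧸ I :=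
    { toFun := fun e => Ideal.Quotient.mk I (Φ e)
      map_one' := by
        simp only [Φ, map_one, Derivation.map_one_eq_zero, map_zero, zero_mul, add_zero]
      map_mul' := by
        intro a b
        rw [← map_mul, Ideal.Quotient.eq]
        exact hΦmul a b
      map_zero' := by
        simp only [Φ, map_zero, zero_mul, add_zero]
      map_add' := by
        intro a b
        rw [hΦadd, map_add]
      commutes' := by
        intro r
        simp only [Φ, Derivation.map_algebraMap, map_zero, zero_mul, add_zero]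
        have : Ideal.Quotient.mk M (algebraMap K E r) = algebraMap K (E ⧸ M) r := rfl
        rw [this, AlgHom.commutes]
        rfl }
  let ψ : E →ₐ[K] B := Algebra.FormallySmooth.lift I hI ψ₁
  have hψ : ∀ e, ∃ b, ψ e = Φ e + b * ε ^ 2 := by
    intro e
    have h1 : Ideal.Quotient.mk I (ψ e) = Ideal.Quotient.mk I (Φ e) :=
      Algebra.FormallySmooth.mk_lift I hI ψ₁ e
    rw [Ideal.Quotient.eq] at h1
    obtain ⟨b, hb⟩ := Ideal.mem_span_singleton'.1 h1
    exact ⟨b, by rw [hb]; ring⟩
  -- ψ s is a unit
  have hunit_s : IsUnit (ψ s) := by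
    obtain ⟨b, hb⟩ := hψ s
    have hne : Ideal.Quotient.mk M s ≠ 0 := by
      rwa [Ne, Ideal.Quotient.eq_zero_iff_mem]
    have hu : IsUnit (c (Ideal.Quotient.mk M s)) := (hfield _ hne).map c
    have hn : IsNilpotent ((c (d s) + b * ε) * ε) :=
      Commute.isNilpotent_mul_left (Commute.all _ _) hεnil
    have : ψ s = c (Ideal.Quotient.mk M s) + (c (d s) + b * ε) * ε := by
      rw [hb]; simp only [Φ]; ring
    rw [this]
    exact hn.isUnit_add_left_of_commute hu (Commute.all _ _)
  -- ψ x = ε * unit
  obtain ⟨b, hb⟩ := hψ x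
  have hxε : ψ x = ε * (c (d x) + b * ε) := by
    rw [hb]
    simp only [Φ, Ideal.Quotient.eq_zero_iff_mem.2 hx, map_zero]
    ring
  have hunit_x : IsUnit (c (d x) + b * ε) := by
    have hu : IsUnit (c (d x)) := (hfield _ hdx).map c
    have hn : IsNilpotent (b * ε) := Commute.isNilpotent_mul_left (Commute.all _ _) hεnil
    exact hn.isUnit_add_left_of_commute hu (Commute.all _ _)
  have h1 : ψ s * ψ x ^ N = 0 := by
    rw [← map_pow, ← map_mul, h0, map_zero]
  rw [hxε, mul_pow] at h1
  have h2 : ε ^ N = 0 := by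
    have h3 := (hunit_s.mul_right_eq_zero).1 h1
    exact ((hunit_x.pow N).mul_left_eq_zero).1 h3
  exact hεN h2

/-- Arc-lifting trick: for a formally smooth `K`-algebra `E`, a maximal ideal `M`, `x ∈ M`,
`s ∉ M` with `s * x ^ N = 0`, every `K`-derivation `E → E ⧸ M` kills `x`. -/
theorem arc_trick {K E : Type u} [Field K] [CommRing E] [Algebra K E]
    [Algebra.FormallySmooth K E] (M : Ideal E) [M.IsMaximal]
    (d : Derivation K E (E ⧸ M)) (x s : E) (hx : x ∈ M) (hs : s ∉ M) (N : ℕ)
    (h0 : s * x ^ N = 0) : d x = 0 := by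
  haveI : Nontrivial (E ⧸ M) := Ideal.Quotient.nontrivial_iff.2 (Ideal.IsMaximal.ne_top inferInstance)
  refine arc_aux (B := (E ⧸ M)[X] ⧸ Ideal.span {(X : (E ⧸ M)[X]) ^ (N + 1)}) M
    ((Ideal.Quotient.mkₐ K _).comp (Algebra.ofId (E ⧸ M) (E ⧸ M)[X] |>.restrictScalars K))
    (Ideal.Quotient.mk _ X) N ?_ ?_ d x s hx hs h0
  · rw [← map_pow, Ideal.Quotient.eq_zero_iff_mem]
    exact Ideal.mem_span_singleton_self _
  · rw [← map_pow, Ne, Ideal.Quotient.eq_zero_iff_mem, Ideal.mem_span_singleton,
      Polynomial.X_pow_dvd_iff]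
    intro h
    have := h N (Nat.lt_succ_self N)
    simp at this

/-- A finite module all of whose maps to residue fields at maximal ideals vanish is zero. -/
theorem subsingleton_of_forall_linearMap {E N : Type u} [CommRing E] [AddCommGroup N]
    [Module E N] [Module.Finite E N]
    (h : ∀ (M : Ideal E) [M.IsMaximal] (f : N →ₗ[E] E ⧸ M), f = 0) : Subsingleton N := by
  by_contra hN
  rw [not_subsingleton_iff_nontrivial] at hN
  have hann : Module.annihilator E N ≠ ⊤ := by
    rw [Ne, Module.annihilator_eq_top_iff]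
    exact not_subsingleton N
  obtain ⟨M, hM, hle⟩ := Ideal.exists_le_maximal _ hann
  have hMN : (M • ⊤ : Submodule E N) ≠ ⊤ := by
    intro htop
    obtain ⟨r, hr1, hr⟩ := Submodule.exists_sub_one_mem_and_smul_eq_zero_of_fg_of_le_smul M
      (⊤ : Submodule E N) Module.Finite.fg_top (by rw [htop])
    have hrM : r ∈ M := hle (Module.mem_annihilator.2 fun n => hr n trivial)
    have : (1 : E) ∈ M := by
      have := M.sub_mem hrM hr1
      simpa using this
    exact hM.ne_top ((Ideal.eq_top_iff_one _).2 this)
  letI : Field (E ⧸ M) := Ideal.Quotient.field M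
  haveI : Nontrivial (N ⧸ (M • ⊤ : Submodule E N)) := Submodule.Quotient.nontrivial_iff.2 hMN
  haveI : Nontrivial ((E ⧸ M) ⊗[E] N) :=
    (TensorProduct.quotTensorEquivQuotSMul N M).toEquiv.nontrivial
  obtain ⟨v, hv⟩ := exists_ne (0 : (E ⧸ M) ⊗[E] N)
  obtain ⟨φ, hφ⟩ : ∃ φ : Module.Dual (E ⧸ M) ((E ⧸ M) ⊗[E] N), φ v ≠ 0 := by
    by_contra hcon
    push Not at hcon
    exact hv ((Module.forall_dual_apply_eq_zero_iff (E ⧸ M) v).1 hcon)
  let f : N →ₗ[E] E ⧸ M := (φ.restrictScalars E) ∘ₗ (TensorProduct.mk E (E ⧸ M) N 1)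
  have hf := h M f
  apply hφ
  have hall : ∀ w : (E ⧸ M) ⊗[E] N, φ w = 0 := by
    intro w
    induction w using TensorProduct.induction_on with
    | zero => exact map_zero _
    | tmul c n =>
      have : c ⊗ₜ[E] n = c • ((1 : E ⧸ M) ⊗ₜ[E] n) := by
        rw [TensorProduct.smul_tmul', smul_eq_mul, mul_one]
      rw [this, map_smul]
      have h1 : φ ((1 : E ⧸ M) ⊗ₜ[E] n) = f n := rfl
      rw [h1, hf]
      simp
    | add a b ha hb => rw [map_add, ha, hb, add_zero]
  exact hall v

theorem der_eq_zero {K E : Type u} [Field K] [IsAlgClosed K] [CommRing E] [Algebra K E]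
    [Module.Finite K E] [Algebra.FormallySmooth K E] (M : Ideal E) [M.IsMaximal]
    (d : Derivation K E (E ⧸ M)) : d = 0 := by
  haveI : IsArtinianRing E := IsArtinianRing.of_finite K E
  haveI : IsDomain (E ⧸ M) := Ideal.Quotient.isDomain M
  have hsurj : Function.Surjective (algebraMap K (E ⧸ M)) :=
    IsAlgClosed.algebraMap_bijective_of_isIntegral.2
  ext e
  obtain ⟨c, hc⟩ := hsurj (Ideal.Quotient.mk M e)
  have hx : e - algebraMap K E c ∈ M := by
    rw [← Ideal.Quotient.eq_zero_iff_mem, map_sub, ← hc]
    exact sub_self _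
  have hdx : d e = d (e - algebraMap K E c) := by
    rw [map_sub, Derivation.map_algebraMap, sub_zero]
  obtain ⟨n, y, hy⟩ := IsArtinian.exists_pow_succ_smul_dvd (e - algebraMap K E c) (1 : E)
  have h0 : (1 - (e - algebraMap K E c) * y) * (e - algebraMap K E c) ^ n = 0 := by
    simp only [smul_eq_mul, mul_one, Nat.succ_eq_add_one] at hy
    generalize e - algebraMap K E c = x at hy
    calc (1 - x * y) * x ^ n = x ^ n - x ^ (n + 1) * y := by ring
      _ = 0 := by rw [hy, sub_self]
  rw [hdx]
  refine arc_trick M d _ _ hx (fun hs => ?_) n h0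
  have : (1 : E) ∈ M := by
    have := M.add_mem hs (M.mul_mem_right y hx)
    simpa using this
  exact (Ideal.IsMaximal.ne_top inferInstance) ((Ideal.eq_top_iff_one _).2 this)

/-- A finite formally smooth algebra over an algebraically closed field is unramified. -/
theorem unramified_of_finite_algClosed {K E : Type u} [Field K] [IsAlgClosed K] [CommRing E]
    [Algebra K E] [Module.Finite K E] [Algebra.FormallySmooth K E] :
    Algebra.FormallyUnramified K E := by
  constructor
  haveI : Algebra.FiniteType K E := inferInstance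
  haveI : Module.Finite E Ω[E⁄K] := inferInstance
  apply subsingleton_of_forall_linearMap (E := E)
  intro M hM f
  have := der_eq_zero M (KaehlerDifferential.linearMapEquivDerivation K E f)
  rwa [LinearEquiv.map_eq_zero_iff] at this

/-- A finite formally smooth algebra over a field is unramified. -/
theorem unramified_of_finite_field {K C : Type u} [Field K] [CommRing C]
    [Algebra K C] [Module.Finite K C] [Algebra.FormallySmooth K C] :
    Algebra.FormallyUnramified K C := by
  haveI : Algebra.FormallyUnramified (AlgebraicClosure K) (AlgebraicClosure K ⊗[K] C) :=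
    unramified_of_finite_algClosed
  exact Algebra.FormallyUnramified.of_formallyUnramified_tensorProduct_of_faithfullyFlat
    (AlgebraicClosure K)

/-- Nakayama: a finite module over a local `A`-algebra `S` whose fibre over `p = m_S ∩ A`
vanishes is zero. -/
theorem subsingleton_of_fiber {A S N : Type u} [CommRing A] [CommRing S] [Algebra A S]
    [IsLocalRing S] (p : Ideal A) [p.IsPrime]
    (hp : (IsLocalRing.maximalIdeal S).comap (algebraMap A S) = p)
    [AddCommGroup N] [Module A N] [Module S N] [IsScalarTower A S N] [Module.Finite S N]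
    (h : Subsingleton (p.ResidueField ⊗[A] N)) : Subsingleton N := by
  let f : A →+* IsLocalRing.ResidueField S := (IsLocalRing.residue S).comp (algebraMap A S)
  have hf₁ : p ≤ RingHom.ker f := by
    intro a ha
    rw [RingHom.mem_ker, RingHom.comp_apply, IsLocalRing.residue_eq_zero_iff]
    rw [← hp] at ha
    exact ha
  have hf₂ : p.primeCompl ≤ (IsUnit.submonoid (IsLocalRing.ResidueField S)).comap f := by
    intro a ha
    show IsUnit (f a)
    rw [isUnit_iff_ne_zero, Ne, RingHom.comp_apply, IsLocalRing.residue_eq_zero_iff]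
    intro hmem
    exact ha (hp ▸ hmem)
  let ι := Ideal.ResidueField.lift p f hf₁ hf₂
  let β : p.ResidueField →+ N →+ (IsLocalRing.ResidueField S) ⊗[S] N :=
    AddMonoidHom.mk' (fun c => AddMonoidHom.mk' (fun n => ι c ⊗ₜ[S] n)
      (fun a b => TensorProduct.tmul_add _ _ _))
      (fun a b => by
        ext n
        simp only [AddMonoidHom.mk'_apply, AddMonoidHom.add_apply, map_add,
          TensorProduct.add_tmul])
  have hβ : ∀ (a : A) (c : p.ResidueField) (n : N), β (a • c) n = β c (a • n) := by
    intro a c n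
    show ι (a • c) ⊗ₜ[S] n = ι c ⊗ₜ[S] (a • n)
    rw [Algebra.smul_def, map_mul, Ideal.ResidueField.lift_algebraMap]
    have : f a * ι c = (algebraMap A S a) • ι c := by
      rw [Algebra.smul_def]
      rfl
    rw [this, TensorProduct.smul_tmul, algebraMap_smul]
  let Θ : p.ResidueField ⊗[A] N →+ (IsLocalRing.ResidueField S) ⊗[S] N :=
    TensorProduct.liftAddHom β hβ
  have h1 : ∀ n : N, (1 : IsLocalRing.ResidueField S) ⊗ₜ[S] n = 0 := by
    intro n
    have h2 : Θ ((1 : p.ResidueField) ⊗ₜ[A] n) = (1 : IsLocalRing.ResidueField S) ⊗ₜ[S] n := by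
      show ι 1 ⊗ₜ[S] n = _
      rw [map_one]
    rw [← h2, Subsingleton.elim ((1 : p.ResidueField) ⊗ₜ[A] n) 0, map_zero]
  have h2 : Subsingleton ((IsLocalRing.ResidueField S) ⊗[S] N) := by
    refine ⟨fun a b => ?_⟩
    have h0 : ∀ w : (IsLocalRing.ResidueField S) ⊗[S] N, w = 0 := by
      intro w
      induction w using TensorProduct.induction_on with
      | zero => rfl
      | tmul c n =>
        obtain ⟨s, rfl⟩ := IsLocalRing.residue_surjective c
        have : (IsLocalRing.residue S s) ⊗ₜ[S] n =
            (1 : IsLocalRing.ResidueField S) ⊗ₜ[S] (s • n) := by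
          rw [← TensorProduct.smul_tmul, Algebra.smul_def, mul_one]
          rfl
        rw [this, h1]
      | add a b ha hb => rw [ha, hb, add_zero]
    rw [h0 a, h0 b]
  exact (IsLocalRing.subsingleton_tensorProduct (R := S)).1 h2

attribute [local instance] Algebra.TensorProduct.rightAlgebra in
theorem main (A B : Type u) [CommRing A] [CommRing B] [Algebra A B]
    [Algebra.FinitePresentation A B] (q : Ideal B) [q.IsPrime] [Algebra.QuasiFiniteAt A q]
    (h : Algebra.IsSmoothAt A q) : Algebra.IsEtaleAt A q := by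
  haveI : Algebra.FormallySmooth A (Localization.AtPrime q) := h
  haveI hpp : (q.under A).IsPrime := inferInstance
  haveI : Module.Finite (q.under A).ResidueField
      ((q.under A).ResidueField ⊗[A] Localization.AtPrime q) :=
    Algebra.QuasiFinite.finite_fiber (q.under A)
  haveI : Algebra.FormallyUnramified (q.under A).ResidueField
      ((q.under A).ResidueField ⊗[A] Localization.AtPrime q) := unramified_of_finite_field
  have hsub : Subsingleton ((q.under A).ResidueField ⊗[A] Ω[Localization.AtPrime q⁄A]) :=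
    (KaehlerDifferential.tensorKaehlerEquivBase A (q.under A).ResidueField
      (Localization.AtPrime q)
      ((q.under A).ResidueField ⊗[A] Localization.AtPrime q)).subsingleton
  haveI : Algebra.EssFiniteType B (Localization.AtPrime q) :=
    Algebra.EssFiniteType.of_isLocalization _ q.primeCompl
  haveI : Algebra.EssFiniteType A (Localization.AtPrime q) :=
    Algebra.EssFiniteType.comp A B (Localization.AtPrime q)
  have hp : (IsLocalRing.maximalIdeal (Localization.AtPrime q)).comap
      (algebraMap A (Localization.AtPrime q)) = q.under A := by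
    rw [IsScalarTower.algebraMap_eq A B (Localization.AtPrime q), ← Ideal.comap_comap]
    have := IsLocalization.AtPrime.under_maximalIdeal (Localization.AtPrime q) q
    rw [Ideal.under] at this
    rw [this]
  haveI : Algebra.FormallyUnramified A (Localization.AtPrime q) :=
    ⟨subsingleton_of_fiber (q.under A) hp hsub⟩
  exact Algebra.FormallyEtale.of_formallyUnramified_and_formallySmooth

end Groth.Agent.Lib.Helper6.SmoothQF
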