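import Mathlib
import Groth.Agent.Lib.Helper6.SmoothQF
open AlgebraicGeometry CategoryTheory
namespace Groth.Agent.Lib.Helper6.EtaleSmoothLQF
universe u
theorem ring_level {A B : Type u} [CommRing A] [CommRing B] [Algebra A B] [Algebra.Smooth A B]
    [Algebra.QuasiFinite A B] : Algebra.Etale A B := by
  rw [← Algebra.etaleLocus_eq_univ_iff_etale]
  ext p
  simp only [Set.mem_univ, iff_true, Algebra.mem_etaleLocus_iff]
  have : Algebra.QuasiFiniteAt A p.asIdeal := inferInstance
  apply Groth.Agent.Lib.Helper6.SmoothQF.main A B p.asIdeal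
  show Algebra.FormallySmooth A (Localization.AtPrime p.asIdeal)
  have : Algebra.FormallySmooth B (Localization.AtPrime p.asIdeal) :=
    Algebra.FormallySmooth.of_isLocalization p.asIdeal.primeCompl
  exact Algebra.FormallySmooth.comp A B (Localization.AtPrime p.asIdeal)

theorem ringHom_level {A B : Type u} [CommRing A] [CommRing B] (φ : A →+* B) :
    φ.Etale ↔ φ.Smooth ∧ φ.QuasiFinite := by
  algebraize [φ]
  constructor
  · intro h
    have : Algebra.Etale A B := h
    exact ⟨(inferInstance : Algebra.Smooth A B), (inferInstance : Algebra.QuasiFinite A B)⟩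
  · rintro ⟨h1, h2⟩
    have : Algebra.Smooth A B := h1
    have : Algebra.QuasiFinite A B := h2
    exact (ring_level : Algebra.Etale A B)

theorem main {X Y : Scheme.{u}} (f : X ⟶ Y) :
    Etale f ↔ Smooth f ∧ LocallyQuasiFinite f := by
  rw [HasRingHomProperty.iff_appLE (P := @Etale), HasRingHomProperty.iff_appLE (P := @Smooth),
    HasRingHomProperty.iff_appLE (P := @LocallyQuasiFinite)]
  simp only [ringHom_level]
  constructor
  · intro h
    exact ⟨fun U V e => (h U V e).1, fun U V e => (h U V e).2⟩
  · rintro ⟨h1, h2⟩ U V e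
    exact ⟨h1 U V e, h2 U V e⟩

end Groth.Agent.Lib.Helper6.EtaleSmoothLQF
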