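import Mathlib

namespace Groth.Agent.Lib.Helper6.MinPrimeCount

universe u

/-- Ring isomorphisms preserve the number of minimal primes. -/
theorem ncard_eq_of_ringEquiv {A B : Type*} [CommRing A] [CommRing B] (e : A ≃+* B) :
    (minimalPrimes A).ncard = (minimalPrimes B).ncard := by
  have hsurj : Function.Surjective (e : A →+* B) := e.surjective
  have h := Ideal.comap_minimalPrimes_eq_of_surjective hsurj (⊥ : Ideal B)
  have hbot : (⊥ : Ideal B).comap (e : A →+* B) = ⊥ := by
    rw [← RingHom.ker_eq_comap_bot]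
    exact (RingHom.injective_iff_ker_eq_bot _).mp e.injective
  rw [hbot] at h
  show (⊥ : Ideal A).minimalPrimes.ncard = (⊥ : Ideal B).minimalPrimes.ncard
  rw [h]
  exact Set.ncard_image_of_injective _ (Ideal.comap_injective_of_surjective _ hsurj)

/-- A prime minimal over the kernel of the second projection is a minimal prime. -/
theorem comap_snd_mem {X Y : Type*} [CommRing X] [CommRing Y] {P : Ideal Y}
    (hP : P ∈ minimalPrimes Y) : P.comap (RingHom.snd X Y) ∈ minimalPrimes (X × Y) := by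
  have hPprime : P.IsPrime := hP.1.1
  refine ⟨⟨Ideal.comap_isPrime _ _, bot_le⟩, ?_⟩
  rintro Q ⟨hQ, -⟩ hQP
  -- (0,1) ∉ Q since (0,1) ∉ comap snd P
  have h01 : ((0, 1) : X × Y) ∉ Q := by
    intro h
    have : ((0, 1) : X × Y) ∈ P.comap (RingHom.snd X Y) := hQP h
    exact hPprime.one_notMem this
  have h10 : ((1, 0) : X × Y) ∈ Q := by
    have : ((1, 0) : X × Y) * (0, 1) ∈ Q := by
      have : ((1, 0) : X × Y) * (0, 1) = 0 := by ext <;> simp
      rw [this]; exact Q.zero_mem
    exact (hQ.mem_or_mem this).resolve_right h01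
  -- Q = comap snd (map snd Q)
  have hsurj : Function.Surjective (RingHom.snd X Y) := fun y => ⟨(0, y), rfl⟩
  have hker : RingHom.ker (RingHom.snd X Y) ≤ Q := by
    rintro ⟨x, y⟩ hxy
    have hy : y = 0 := hxy
    subst hy
    have : ((x, 0) : X × Y) = (x, 0) * (1, 0) := by ext <;> simp
    rw [this]
    exact Q.mul_mem_left _ h10
  have hmapprime : (Q.map (RingHom.snd X Y)).IsPrime :=
    Ideal.map_isPrime_of_surjective hsurj hker
  have hle : Q.map (RingHom.snd X Y) ≤ P := Ideal.map_le_iff_le_comap.mpr hQP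
  have := hP.2 ⟨hmapprime, bot_le⟩ hle
  calc P.comap (RingHom.snd X Y) ≤ (Q.map (RingHom.snd X Y)).comap (RingHom.snd X Y) :=
        Ideal.comap_mono this
    _ = Q := by
        rw [Ideal.comap_map_of_surjective _ hsurj, ← RingHom.ker_eq_comap_bot]
        exact sup_eq_left.mpr hker

/-- Same for the first projection. -/
theorem comap_fst_mem {X Y : Type*} [CommRing X] [CommRing Y] {P : Ideal X}
    (hP : P ∈ minimalPrimes X) : P.comap (RingHom.fst X Y) ∈ minimalPrimes (X × Y) := by
  have hPprime : P.IsPrime := hP.1.1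
  refine ⟨⟨Ideal.comap_isPrime _ _, bot_le⟩, ?_⟩
  rintro Q ⟨hQ, -⟩ hQP
  have h10 : ((1, 0) : X × Y) ∉ Q := by
    intro h
    have : ((1, 0) : X × Y) ∈ P.comap (RingHom.fst X Y) := hQP h
    exact hPprime.one_notMem this
  have h01 : ((0, 1) : X × Y) ∈ Q := by
    have : ((0, 1) : X × Y) * (1, 0) ∈ Q := by
      have : ((0, 1) : X × Y) * (1, 0) = 0 := by ext <;> simp
      rw [this]; exact Q.zero_mem
    exact (hQ.mem_or_mem this).resolve_right h10
  have hsurj : Function.Surjective (RingHom.fst X Y) := fun x => ⟨(x, 0), rfl⟩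
  have hker : RingHom.ker (RingHom.fst X Y) ≤ Q := by
    rintro ⟨x, y⟩ hxy
    have hx : x = 0 := hxy
    subst hx
    have : ((0, y) : X × Y) = (0, y) * (0, 1) := by ext <;> simp
    rw [this]
    exact Q.mul_mem_left _ h01
  have hmapprime : (Q.map (RingHom.fst X Y)).IsPrime :=
    Ideal.map_isPrime_of_surjective hsurj hker
  have hle : Q.map (RingHom.fst X Y) ≤ P := Ideal.map_le_iff_le_comap.mpr hQP
  have := hP.2 ⟨hmapprime, bot_le⟩ hle
  calc P.comap (RingHom.fst X Y) ≤ (Q.map (RingHom.fst X Y)).comap (RingHom.fst X Y) :=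
        Ideal.comap_mono this
    _ = Q := by
        rw [Ideal.comap_map_of_surjective _ hsurj, ← RingHom.ker_eq_comap_bot]
        exact sup_eq_left.mpr hker

/-- Splitting off a nontrivial factor strictly decreases the number of minimal primes. -/
theorem ncard_prod_lt {X Y : Type*} [CommRing X] [CommRing Y] [Nontrivial X]
    (hfin : (minimalPrimes (X × Y)).Finite) :
    (minimalPrimes Y).ncard + 1 ≤ (minimalPrimes (X × Y)).ncard := by
  obtain ⟨⟨P₀, hP₀⟩⟩ := Ideal.nonempty_minimalPrimes (I := (⊥ : Ideal X)) bot_ne_top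
  have hP₀' : P₀ ∈ minimalPrimes X := hP₀
  have hP₀prime : P₀.IsPrime := hP₀'.1.1
  have hsurj : Function.Surjective (RingHom.snd X Y) := fun y => ⟨(0, y), rfl⟩
  let T : Set (Ideal (X × Y)) :=
    insert (P₀.comap (RingHom.fst X Y)) (Ideal.comap (RingHom.snd X Y) '' minimalPrimes Y)
  have hT : T ⊆ minimalPrimes (X × Y) := by
    rintro Q (rfl | ⟨P, hP, rfl⟩)
    · exact comap_fst_mem hP₀'
    · exact comap_snd_mem hP
  have hnot : P₀.comap (RingHom.fst X Y) ∉ Ideal.comap (RingHom.snd X Y) '' minimalPrimes Y := by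
    rintro ⟨P, hP, hPeq⟩
    have h1 : ((1, 0) : X × Y) ∈ P.comap (RingHom.snd X Y) := by
      show (0 : Y) ∈ P
      exact P.zero_mem
    rw [hPeq] at h1
    exact hP₀prime.one_notMem h1
  have hfinimg : (Ideal.comap (RingHom.snd X Y) '' minimalPrimes Y).Finite :=
    hfin.subset ((Set.subset_insert _ _).trans hT)
  have hcard : T.ncard = (minimalPrimes Y).ncard + 1 := by
    rw [Set.ncard_insert_of_notMem hnot hfinimg,
      Set.ncard_image_of_injective _ (Ideal.comap_injective_of_surjective _ hsurj)]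
  rw [← hcard]
  exact Set.ncard_le_ncard hT hfin

end Groth.Agent.Lib.Helper6.MinPrimeCount
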