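import Mathlib
import Groth.Agent.Lib.Helper6.MinPrimeCount

namespace Groth.Agent.Lib.Helper6.QFSplit

open TensorProduct

universe u

/-- The measure: number of minimal primes of the fibre ring. -/
noncomputable def mu (R : Type u) [CommRing R] (S : Type u) [CommRing S] [Algebra R S]
    (p : Ideal R) [p.IsPrime] : ℕ :=
  (minimalPrimes (p.ResidueField ⊗[R] S)).ncard

/-- Finite with exactly one prime over `p'`. -/
def Good (R' : Type u) [CommRing R'] (p' : Ideal R') (A : Type u) [CommRing A] [Algebra R' A] :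
    Prop :=
  Module.Finite R' A ∧ ∃! r : Ideal A, r.IsPrime ∧ r.comap (algebraMap R' A) = p'

theorem finite_minimalPrimes_fiber (R : Type u) [CommRing R] (S : Type u) [CommRing S]
    [Algebra R S] [Algebra.FiniteType R S] (p : Ideal R) [p.IsPrime] :
    (minimalPrimes (p.ResidueField ⊗[R] S)).Finite := by
  have : IsNoetherianRing (p.ResidueField ⊗[R] S) :=
    Algebra.FiniteType.isNoetherianRing p.ResidueField _
  exact minimalPrimes.finite_of_isNoetherianRing _

/-- The fibre of a base change along a trivial residue field extension. -/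
theorem fiber_equiv {R R' S : Type*} [CommRing R] [CommRing R'] [CommRing S] [Algebra R R']
    [Algebra R S] {p : Ideal R} {q : Ideal R'} [p.IsPrime] [q.IsPrime] [q.LiesOver p]
    (H : Function.Bijective (Ideal.ResidueField.mapₐ p q (Algebra.ofId _ _) (q.over_def p))) :
    Nonempty ((q.ResidueField ⊗[R'] (R' ⊗[R] S)) ≃+* (p.ResidueField ⊗[R] S)) := by
  let := Localization.AtPrime.algebraOfLiesOver p q
  let e : q.Fiber (R' ⊗[R] S) ≃ₐ[p.ResidueField] p.Fiber S :=
    ((Algebra.TensorProduct.cancelBaseChange _ _ q.ResidueField _ _).restrictScalars _).trans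
      (Algebra.TensorProduct.congr (.symm <| .ofBijective (Algebra.ofId _ _) H) .refl)
  exact ⟨e.toRingEquiv⟩


/-- `T/(1-e)` is finite with a unique prime over `P`. -/
theorem good_quot {R' T : Type u} [CommRing R'] [CommRing T] [Algebra R' T] (P : Ideal R')
    [P.IsPrime] (e : T) (he : IsIdempotentElem e) (P' : Ideal T) [P'.IsPrime] [P'.LiesOver P]
    (heP' : e ∉ P') (hfin : Module.Finite R' (Localization.Away e))
    (H : ∀ P'' : Ideal T, P''.IsPrime → P''.LiesOver P → e ∉ P'' → P'' = P') :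
    Good R' P (T ⧸ Ideal.span {1 - e}) := by
  have hloc : IsLocalization.Away e (T ⧸ Ideal.span {1 - e}) :=
    IsLocalization.Away.quotient_of_isIdempotentElem he
  let eq : Localization.Away e ≃ₐ[T] (T ⧸ Ideal.span {1 - e}) :=
    IsLocalization.algEquiv (Submonoid.powers e) _ _
  have hsurj : Function.Surjective (Ideal.Quotient.mk (Ideal.span {1 - e})) :=
    Ideal.Quotient.mk_surjective
  have h1e : (1 - e) ∈ P' := by
    have : e * (1 - e) ∈ P' := by
      rw [mul_sub, mul_one, he.eq, sub_self]; exact P'.zero_mem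
    exact (Ideal.IsPrime.mem_or_mem inferInstance this).resolve_left heP'
  have hker : RingHom.ker (Ideal.Quotient.mk (Ideal.span {1 - e})) ≤ P' := by
    rw [Ideal.mk_ker, Ideal.span_le]
    simpa using h1e
  have hcomapmap : (P'.map (Ideal.Quotient.mk (Ideal.span {1 - e}))).comap
      (Ideal.Quotient.mk (Ideal.span {1 - e})) = P' := by
    rw [Ideal.comap_map_of_surjective _ hsurj, ← RingHom.ker_eq_comap_bot]
    exact sup_eq_left.mpr hker
  have halg : algebraMap R' (T ⧸ Ideal.span {1 - e}) =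
      (Ideal.Quotient.mk (Ideal.span {1 - e})).comp (algebraMap R' T) := rfl
  refine ⟨Module.Finite.equiv (eq.restrictScalars R').toLinearEquiv, ?_⟩
  refine ⟨P'.map (Ideal.Quotient.mk (Ideal.span {1 - e})),
    ⟨Ideal.map_isPrime_of_surjective hsurj hker, ?_⟩, ?_⟩
  · rw [halg, ← Ideal.comap_comap, hcomapmap]
    exact (P'.over_def P).symm
  · rintro r ⟨hr, hrP⟩
    have hP''prime : (r.comap (Ideal.Quotient.mk (Ideal.span {1 - e}))).IsPrime :=
      Ideal.comap_isPrime _ _
    have hP''over : (r.comap (Ideal.Quotient.mk (Ideal.span {1 - e}))).LiesOver P := by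
      refine ⟨?_⟩
      rw [Ideal.under, Ideal.comap_comap, ← halg, hrP]
    have he'' : e ∉ r.comap (Ideal.Quotient.mk (Ideal.span {1 - e})) := by
      intro h
      have h1 : (1 - e) ∈ r.comap (Ideal.Quotient.mk (Ideal.span {1 - e})) := by
        rw [Ideal.mem_comap]
        have : Ideal.Quotient.mk (Ideal.span {1 - e}) (1 - e) = 0 :=
          Ideal.Quotient.eq_zero_iff_mem.mpr (Ideal.mem_span_singleton_self _)
        rw [this]; exact r.zero_mem
      have : (1 : T) ∈ r.comap (Ideal.Quotient.mk (Ideal.span {1 - e})) := by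
        have := Ideal.add_mem _ h h1
        rwa [add_sub_cancel] at this
      exact hP''prime.one_notMem this
    have := H _ hP''prime hP''over he''
    rw [← Ideal.map_comap_of_surjective _ hsurj r, this]


/-- Nontriviality of the fibre from a prime lying over. -/
theorem nontrivial_fiber {R' A : Type u} [CommRing R'] [CommRing A] [Algebra R' A] (P : Ideal R')
    [P.IsPrime] (r : Ideal A) [r.IsPrime] (hr : r.comap (algebraMap R' A) = P) :
    Nontrivial (P.ResidueField ⊗[R'] A) := by
  have hover : r.LiesOver P := ⟨hr.symm⟩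
  have x : PrimeSpectrum (P.Fiber A) :=
    PrimeSpectrum.primesOverOrderIsoFiber R' A P ⟨r, inferInstance, hover⟩
  exact (PrimeSpectrum.nonempty_iff_nontrivial (R := P.Fiber A)).mp ⟨x⟩

/-- The measure drops when splitting off a factor with a prime over `P`. -/
theorem mu_drop {R R' S A B : Type u} [CommRing R] [CommRing R'] [CommRing S] [CommRing A]
    [CommRing B] [Algebra R R'] [Algebra R S] [Algebra R' A] [Algebra R' B]
    [Algebra.FiniteType R S]
    {p : Ideal R} {P : Ideal R'} [p.IsPrime] [P.IsPrime] [P.LiesOver p]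
    (hpP : Function.Bijective (Ideal.ResidueField.mapₐ p P (Algebra.ofId _ _) (P.over_def p)))
    (e₁ : (R' ⊗[R] S) ≃ₐ[R'] (A × B)) (r : Ideal A) [r.IsPrime]
    (hr : r.comap (algebraMap R' A) = P) :
    mu R' B P + 1 ≤ mu R S p := by
  obtain ⟨E1⟩ := fiber_equiv (S := S) hpP
  let E2 : P.ResidueField ⊗[R'] (R' ⊗[R] S) ≃ₐ[P.ResidueField] P.ResidueField ⊗[R'] (A × B) :=
    Algebra.TensorProduct.congr AlgEquiv.refl e₁
  let E3 : P.ResidueField ⊗[R'] (A × B) ≃ₐ[P.ResidueField]
      (P.ResidueField ⊗[R'] A) × (P.ResidueField ⊗[R'] B) :=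
    Algebra.TensorProduct.prodRight R' P.ResidueField P.ResidueField A B
  let E : ((P.ResidueField ⊗[R'] A) × (P.ResidueField ⊗[R'] B)) ≃+* (p.ResidueField ⊗[R] S) :=
    (E3.symm.toRingEquiv.trans E2.symm.toRingEquiv).trans E1
  have hfin : (minimalPrimes ((P.ResidueField ⊗[R'] A) × (P.ResidueField ⊗[R'] B))).Finite := by
    have h := finite_minimalPrimes_fiber R S p
    by_contra hinf
    have hsurj : Function.Surjective (E.toRingHom) := E.surjective
    have himg := Ideal.comap_minimalPrimes_eq_of_surjective hsurj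
      (⊥ : Ideal (p.ResidueField ⊗[R] S))
    have hbot : (⊥ : Ideal (p.ResidueField ⊗[R] S)).comap (E.toRingHom) = ⊥ := by
      rw [← RingHom.ker_eq_comap_bot]
      exact (RingHom.injective_iff_ker_eq_bot _).mp E.injective
    rw [hbot] at himg
    apply hinf
    show (⊥ : Ideal _).minimalPrimes.Finite
    rw [himg]
    exact h.image _
  have := nontrivial_fiber P r hr
  have h1 := MinPrimeCount.ncard_prod_lt (X := P.ResidueField ⊗[R'] A)
    (Y := P.ResidueField ⊗[R'] B) hfin
  have h2 := MinPrimeCount.ncard_eq_of_ringEquiv E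
  unfold mu
  omega


theorem step (R : Type u) [CommRing R] (S : Type u) [CommRing S] [Algebra R S]
    [Algebra.FiniteType R S] (p : Ideal R) [p.IsPrime] (q : Ideal S) [q.IsPrime] [q.LiesOver p]
    [Algebra.QuasiFiniteAt R q] :
    ∃ (R' : Type u) (_ : CommRing R') (_ : Algebra R R') (_ : Algebra.Etale R R') (P : Ideal R')
      (_ : P.IsPrime) (_ : P.LiesOver p) (A : Type u) (_ : CommRing A) (_ : Algebra R' A)
      (B : Type u) (_ : CommRing B) (_ : Algebra R' B) (_ : Algebra.FiniteType R' B),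
      Function.Bijective (Ideal.ResidueField.mapₐ p P (Algebra.ofId _ _) (P.over_def p)) ∧
      Nonempty ((R' ⊗[R] S) ≃ₐ[R'] (A × B)) ∧ Good R' P A ∧ mu R' B P + 1 ≤ mu R S p := by
  obtain ⟨R', _, _, _, P, _, _, e, he, P', _, _, hP'q, heP', hpP, hfin, H⟩ :=
    Algebra.exists_etale_isIdempotentElem_forall_liesOver_eq p q
  let e₁ : (R' ⊗[R] S) ≃ₐ[R'] ((R' ⊗[R] S) ⧸ Ideal.span {1 - e}) × ((R' ⊗[R] S) ⧸ Ideal.span {e}) :=
    AlgEquiv.prodQuotientOfIsIdempotentElem R' he.one_sub he (by ring)
      (by rw [sub_mul, one_mul, he.eq, sub_self])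
  have hgood : Good R' P ((R' ⊗[R] S) ⧸ Ideal.span {1 - e}) :=
    good_quot P e he P' heP' hfin H
  obtain ⟨r, ⟨hrprime, hrP⟩, -⟩ := hgood.2
  exact ⟨R', inferInstance, inferInstance, inferInstance, P, inferInstance, inferInstance,
    (R' ⊗[R] S) ⧸ Ideal.span {1 - e}, inferInstance, inferInstance,
    (R' ⊗[R] S) ⧸ Ideal.span {e}, inferInstance, inferInstance, inferInstance, hpP, ⟨e₁⟩, hgood,
    mu_drop hpP e₁ r hrP⟩

/-- Option-indexed family of types. -/
def optT {ι : Type} (A₀ : Type u) (A : ι → Type u) : Option ι → Type u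
  | none => A₀
  | some i => A i

instance optCommRing {ι : Type} (A₀ : Type u) (A : ι → Type u) [CommRing A₀]
    [∀ i, CommRing (A i)] (o : Option ι) : CommRing (optT A₀ A o) :=
  match o with
  | none => inferInstanceAs (CommRing A₀)
  | some i => inferInstanceAs (CommRing (A i))

instance optAlgebra {ι : Type} (K : Type u) [CommRing K] (A₀ : Type u) (A : ι → Type u)
    [CommRing A₀] [∀ i, CommRing (A i)] [Algebra K A₀] [∀ i, Algebra K (A i)] (o : Option ι) :
    Algebra K (optT A₀ A o) :=
  match o with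
  | none => inferInstanceAs (Algebra K A₀)
  | some i => inferInstanceAs (Algebra K (A i))

/-- Reindexing a product over `Option ι`. -/
noncomputable def optionProdEquiv {ι : Type} (K : Type u) [CommRing K] (A₀ : Type u)
    (A : ι → Type u) [CommRing A₀] [∀ i, CommRing (A i)] [Algebra K A₀] [∀ i, Algebra K (A i)]
    (B' : Type u) [CommRing B'] [Algebra K B'] :
    (A₀ × ((∀ i, A i) × B')) ≃ₐ[K] ((∀ o : Option ι, optT A₀ A o) × B') where
  toFun x := (fun o => match o with
    | none => x.1
    | some i => x.2.1 i, x.2.2)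
  invFun y := (y.1 none, (fun i => y.1 (some i), y.2))
  left_inv x := rfl
  right_inv y := Prod.ext (funext fun o => by cases o <;> rfl) rfl
  map_mul' x y := Prod.ext (funext fun o => by cases o <;> rfl) rfl
  map_add' x y := Prod.ext (funext fun o => by cases o <;> rfl) rfl
  commutes' r := Prod.ext (funext fun o => by cases o <;> rfl) rfl

/-- The intermediate form of the conclusion. -/
def Concl (R : Type u) [CommRing R] (S : Type u) [CommRing S] [Algebra R S] (p : Ideal R)
    [p.IsPrime] : Prop :=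
  ∃ (R' : Type u) (_ : CommRing R') (_ : Algebra R R') (_ : Algebra.Etale R R') (p' : Ideal R')
    (_ : p'.IsPrime) (_ : p'.LiesOver p) (ι : Type) (_ : Finite ι) (A : ι → Type u)
    (_ : ∀ i, CommRing (A i)) (_ : ∀ i, Algebra R' (A i)) (B : Type u) (_ : CommRing B)
    (_ : Algebra R' B),
    Function.Bijective (Ideal.ResidueField.mapₐ p p' (Algebra.ofId _ _) (p'.over_def p)) ∧
    Nonempty ((R' ⊗[R] S) ≃ₐ[R'] ((∀ i, A i) × B)) ∧ (∀ i, Good R' p' (A i)) ∧
      ∀ (q : Ideal B) [q.IsPrime], q.comap (algebraMap R' B) = p' → ¬ Algebra.QuasiFiniteAt R' q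

theorem base (R : Type u) [CommRing R] (S : Type u) [CommRing S] [Algebra R S] (p : Ideal R)
    [p.IsPrime]
    (h : ∀ (q : Ideal S) [q.IsPrime], q.comap (algebraMap R S) = p → ¬ Algebra.QuasiFiniteAt R q) :
    Concl R S p := by
  refine ⟨R, inferInstance, inferInstance, inferInstance, p, inferInstance, ⟨rfl⟩, PEmpty,
    inferInstance, fun _ => PUnit, fun _ => inferInstance, fun _ => inferInstance, S, inferInstance,
    inferInstance, ?_, ⟨?_⟩, fun i => i.elim, h⟩
  · rw! [Algebra.ofId_self, Ideal.ResidueField.mapₐ_id]; exact Function.bijective_id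
  · let f : S →ₐ[R] ((∀ _ : PEmpty, PUnit.{u+1}) × S) :=
      AlgHom.prod (AlgHom.pi (fun i => i.elim)) (AlgHom.id R S)
    have hf : Function.Bijective f := by
      constructor
      · intro a b hab
        exact congrArg Prod.snd hab
      · rintro ⟨x, s⟩
        exact ⟨s, Prod.ext (funext fun i => i.elim) rfl⟩
    exact (Algebra.TensorProduct.lid R S).trans (AlgEquiv.ofBijective f hf)


theorem existsUnique_iff_primesOver {R' A : Type*} [CommRing R'] [CommRing A] [Algebra R' A]
    (P : Ideal R') :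
    (∃! r : Ideal A, r.IsPrime ∧ r.comap (algebraMap R' A) = P) ↔
      (Nonempty (P.primesOver A) ∧ Subsingleton (P.primesOver A)) := by
  have key : ∀ r : Ideal A, (r.IsPrime ∧ r.comap (algebraMap R' A) = P) ↔ r ∈ P.primesOver A := by
    intro r
    constructor
    · rintro ⟨h1, h2⟩; exact ⟨h1, ⟨h2.symm⟩⟩
    · rintro ⟨h1, h2⟩; exact ⟨h1, (h2.over).symm⟩
  constructor
  · rintro ⟨r, hr, huniq⟩
    refine ⟨⟨⟨r, (key r).mp hr⟩⟩, ⟨?_⟩⟩
    rintro ⟨a, ha⟩ ⟨b, hb⟩
    apply Subtype.ext
    show a = b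
    rw [huniq a ((key a).mpr ha), huniq b ((key b).mpr hb)]
  · rintro ⟨⟨⟨r, hr⟩⟩, hsub⟩
    refine ⟨r, (key r).mpr hr, ?_⟩
    intro a ha
    exact congrArg Subtype.val (hsub.elim ⟨a, (key a).mp ha⟩ ⟨r, hr⟩)

/-- `Good` is stable under base change along a trivial residue field extension. -/
theorem good_baseChange {R' R'' A : Type u} [CommRing R'] [CommRing R''] [CommRing A]
    [Algebra R' R''] [Algebra R' A] {P : Ideal R'} {Q : Ideal R''} [P.IsPrime] [Q.IsPrime]
    [Q.LiesOver P]
    (hPQ : Function.Bijective (Ideal.ResidueField.mapₐ P Q (Algebra.ofId _ _) (Q.over_def P)))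
    (h : Good R' P A) : Good R'' Q (R'' ⊗[R'] A) := by
  have := h.1
  refine ⟨inferInstance, ?_⟩
  have F := Ideal.fiberIsoOfBijectiveResidueField (S := A) hPQ
  rw [existsUnique_iff_primesOver]
  have h2 := (existsUnique_iff_primesOver (A := A) P).mp h.2
  exact ⟨(F.toEquiv.nonempty_congr).mpr h2.1, (F.toEquiv.subsingleton_congr).mpr h2.2⟩

attribute [local instance] Localization.AtPrime.algebraOfLiesOver in
theorem bijective_comp {R R' R'' : Type u} [CommRing R] [CommRing R'] [CommRing R'']
    [Algebra R R'] [Algebra R' R''] [Algebra R R''] [IsScalarTower R R' R'']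
    (p : Ideal R) (P : Ideal R') (Q : Ideal R'') [p.IsPrime] [P.IsPrime] [Q.IsPrime]
    [P.LiesOver p] [Q.LiesOver P] [Q.LiesOver p]
    (hpP : Function.Bijective (Ideal.ResidueField.mapₐ p P (Algebra.ofId _ _) (P.over_def p)))
    (hPQ : Function.Bijective (Ideal.ResidueField.mapₐ P Q (Algebra.ofId _ _) (Q.over_def P))) :
    Function.Bijective (Ideal.ResidueField.mapₐ p Q (Algebra.ofId _ _) (Q.over_def p)) := by
  convert hPQ.comp hpP
  rw [← @AlgHom.coe_restrictScalars' R R', ← AlgHom.coe_comp]; congr 1; ext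

theorem induct : ∀ (d : ℕ) (R : Type u) [CommRing R] (S : Type u) [CommRing S] [Algebra R S]
    [Algebra.FiniteType R S] (p : Ideal R) [p.IsPrime], mu R S p ≤ d → Concl R S p := by
  intro d
  induction d with
  | zero =>
    intro R _ S _ _ _ p _ hd
    by_cases h : ∀ (q : Ideal S) [q.IsPrime], q.comap (algebraMap R S) = p →
        ¬ Algebra.QuasiFiniteAt R q
    · exact base R S p h
    · push Not at h
      obtain ⟨q, hq, hqp, hqf⟩ := h
      have : q.LiesOver p := ⟨hqp.symm⟩
      obtain ⟨R', _, _, _, P, _, _, A₁, _, _, B', _, _, _, hpP, ⟨e₀⟩, hgood, hmu⟩ :=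
        step R S p q
      omega
  | succ d ih =>
    intro R _ S _ _ _ p _ hd
    by_cases h : ∀ (q : Ideal S) [q.IsPrime], q.comap (algebraMap R S) = p →
        ¬ Algebra.QuasiFiniteAt R q
    · exact base R S p h
    · push Not at h
      obtain ⟨q, hq, hqp, hqf⟩ := h
      have : q.LiesOver p := ⟨hqp.symm⟩
      obtain ⟨R', _, _, _, P, _, _, A₁, _, _, B', _, _, _, hpP, ⟨e₀⟩, hgood, hmu⟩ :=
        step R S p q
      obtain ⟨R'', _, _, _, p'', _, hp'', ι, _, A, _, _, B, _, _, hPQ, ⟨e'⟩, hA, hB⟩ :=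
        ih R' B' P (by omega)
      let : Algebra R R'' := ((algebraMap R' R'').comp (algebraMap R R')).toAlgebra
      have : IsScalarTower R R' R'' := IsScalarTower.of_algebraMap_eq fun _ => rfl
      have : Algebra.Etale R R'' := Algebra.Etale.comp R R' R''
      have : p''.LiesOver p := Ideal.LiesOver.trans p'' P p
      let Φ₁ : R'' ⊗[R] S ≃ₐ[R''] R'' ⊗[R'] (R' ⊗[R] S) :=
        (Algebra.TensorProduct.cancelBaseChange R R' R'' R'' S).symm
      let Φ₂ : R'' ⊗[R'] (R' ⊗[R] S) ≃ₐ[R''] R'' ⊗[R'] (A₁ × B') :=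
        Algebra.TensorProduct.congr AlgEquiv.refl e₀
      let Φ₃ : R'' ⊗[R'] (A₁ × B') ≃ₐ[R''] (R'' ⊗[R'] A₁) × (R'' ⊗[R'] B') :=
        Algebra.TensorProduct.prodRight R' R'' R'' A₁ B'
      let Φ₅ : ((R'' ⊗[R'] A₁) × (R'' ⊗[R'] B')) ≃ₐ[R'']
          ((R'' ⊗[R'] A₁) × ((∀ i, A i) × B)) :=
        AlgEquiv.prodCongr AlgEquiv.refl e'
      let Φ₆ := optionProdEquiv R'' (R'' ⊗[R'] A₁) A B
      refine ⟨R'', inferInstance, inferInstance, inferInstance, p'', inferInstance, inferInstance,
        Option ι, inferInstance, optT (R'' ⊗[R'] A₁) A, inferInstance, inferInstance, B,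
        inferInstance, inferInstance, bijective_comp p P p'' hpP hPQ,
        ⟨Φ₁.trans (Φ₂.trans (Φ₃.trans (Φ₅.trans Φ₆)))⟩, ?_, hB⟩
      rintro (_ | i)
      · exact good_baseChange hPQ hgood
      · exact hA i


theorem closure_eq_top {R R' : Type u} [CommRing R] [CommRing R'] [Algebra R R'] (p : Ideal R)
    (P : Ideal R') [p.IsPrime] [P.IsPrime] [P.LiesOver p]
    (hpP : Function.Bijective (Ideal.ResidueField.mapₐ p P (Algebra.ofId _ _) (P.over_def p))) :
    Subfield.closure (Set.range (algebraMap R P.ResidueField)) = ⊤ := by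
  let F := Ideal.ResidueField.mapₐ p P (Algebra.ofId R R') (P.over_def p)
  have h1 : Subfield.closure (Set.range (algebraMap R p.ResidueField)) = ⊤ := by
    have := IsFractionRing.closure_range_algebraMap (R ⧸ p) p.ResidueField
    rw [← this]
    congr 1
    ext x
    constructor
    · rintro ⟨r, rfl⟩
      exact ⟨Ideal.Quotient.mk p r, (IsScalarTower.algebraMap_apply R (R ⧸ p) p.ResidueField r).symm⟩
    · rintro ⟨y, rfl⟩
      obtain ⟨r, rfl⟩ := Ideal.Quotient.mk_surjective y
      exact ⟨r, IsScalarTower.algebraMap_apply R (R ⧸ p) p.ResidueField r⟩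
  have h2 := F.toRingHom.map_field_closure (Set.range (algebraMap R p.ResidueField))
  rw [h1] at h2
  have h3 : (⊤ : Subfield p.ResidueField).map F.toRingHom = ⊤ := by
    rw [← RingHom.fieldRange_eq_map]
    exact RingHom.fieldRange_eq_top_iff.mpr hpP.2
  have h4 : F.toRingHom '' Set.range (algebraMap R p.ResidueField) =
      Set.range (algebraMap R P.ResidueField) := by
    rw [← Set.range_comp]
    congr 1
    ext r
    exact F.commutes r
  rw [← h4, ← h2, h3]

theorem main (R : Type u) [CommRing R]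
    (S : Type u) [CommRing S] [Algebra R S] [Algebra.FiniteType R S] (p : Ideal R) [p.IsPrime] :
    ∃ (R' : Type u) (_ : CommRing R') (_ : Algebra R R') (_ : Algebra.Etale R R') (p' : Ideal R')
      (_ : p'.IsPrime) (_ : p'.LiesOver p) (n : ℕ) (A : Fin n → Type u) (_ : ∀ i, CommRing (A i))
      (_ : ∀ i, Algebra R' (A i)) (B : Type u) (_ : CommRing B) (_ : Algebra R' B),
      Subfield.closure (Set.range (algebraMap R p'.ResidueField)) = ⊤ ∧
      Nonempty ((R' ⊗[R] S) ≃ₐ[R'] ((∀ i, A i) × B)) ∧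
        (∀ i, Module.Finite R' (A i) ∧
          ∃! r : Ideal (A i), r.IsPrime ∧ r.comap (algebraMap R' (A i)) = p') ∧
        ∀ (q : Ideal B) [q.IsPrime], q.comap (algebraMap R' B) = p' →
          ¬ Algebra.QuasiFiniteAt R' q := by
  obtain ⟨R', _, _, _, p', _, _, ι, _, A, _, _, B, _, _, hbij, ⟨e⟩, hA, hB⟩ :=
    induct _ R S p le_rfl
  let ef := Finite.equivFin ι
  refine ⟨R', inferInstance, inferInstance, inferInstance, p', inferInstance, inferInstance,
    Nat.card ι, fun k => A (ef.symm k), fun _ => inferInstance, fun _ => inferInstance, B,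
    inferInstance, inferInstance, closure_eq_top p p' hbij,
    ⟨e.trans (AlgEquiv.prodCongr (AlgEquiv.piCongrLeft' R' A ef) AlgEquiv.refl)⟩,
    fun k => hA _, hB⟩

end Groth.Agent.Lib.Helper6.QFSplit
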