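import Mathlib.Tactic
import Mathlib.LinearAlgebra.Matrix.Determinant.Basic
import Mathlib.LinearAlgebra.Matrix.Adjugate
import Mathlib.LinearAlgebra.Matrix.ToLin
import Mathlib.RingTheory.Ideal.Operations

/-! McCoy's theorem: a matrix `M : n × m` over a commutative ring gives an injective map
`R^m → R^n` iff no nonzero element kills all `m × m` minors. -/

set_option autoImplicit false

namespace Groth.Agent.Helper6.McCoy

open Matrix

variable {R : Type*} [CommRing R] {m n : ℕ}

/-- `a` kills all `r × r` minors of `M` -/
def Kills (M : Matrix (Fin n) (Fin m) R) (a : R) (r : ℕ) : Prop :=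
  ∀ (f : Fin r → Fin n) (g : Fin r → Fin m), a * (M.submatrix f g).det = 0

theorem exists_ker_of_kills (M : Matrix (Fin n) (Fin m) R) (a : R) (r : ℕ) (hr : r < m)
    (hk : Kills M a (r + 1)) (f : Fin r → Fin n) (g : Fin r → Fin m) :
    ∃ v : Fin m → R, M *ᵥ v = 0 ∧ ∃ j, v j = a * (M.submatrix f g).det := by
  classical
  -- a column not in the range of g
  have hns : ¬ Function.Surjective g := by
    intro hs
    have := Fintype.card_le_of_surjective g hs
    simp at this
    omega
  obtain ⟨j₀, hj₀⟩ : ∃ j₀, ∀ k, g k ≠ j₀ := by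
    by_contra hcon
    push Not at hcon
    exact hns hcon
  let g' : Fin (r + 1) → Fin m := Fin.cons j₀ g
  let w : Fin (r + 1) → R := fun k =>
    a * ((-1) ^ (k : ℕ) * (M.submatrix f (g' ∘ k.succAbove)).det)
  let v : Fin m → R := fun j => ∑ k, if g' k = j then w k else 0
  refine ⟨v, ?_, j₀, ?_⟩
  · funext i
    have h1 : (M *ᵥ v) i = ∑ k, M i (g' k) * w k := by
      simp only [Matrix.mulVec, dotProduct, v]
      simp_rw [Finset.mul_sum]
      rw [Finset.sum_comm]
      refine Finset.sum_congr rfl fun k _ => ?_
      simp_rw [mul_ite, mul_zero]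
      rw [Finset.sum_ite_eq]
      simp
    have h2 : ∑ k, M i (g' k) * w k = a * (M.submatrix (Fin.cons i f : Fin (r + 1) → Fin n) g').det := by
      rw [Matrix.det_succ_row_zero, Finset.mul_sum]
      refine Finset.sum_congr rfl fun k _ => ?_
      have e1 : (M.submatrix (Fin.cons i f : Fin (r + 1) → Fin n) g').submatrix Fin.succ k.succAbove
          = M.submatrix f (g' ∘ k.succAbove) := by
        ext x y
        simp [Matrix.submatrix_apply]
      rw [e1]
      simp only [w, Matrix.submatrix_apply, Fin.cons_zero]
      ring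
    rw [h1, h2, hk]
    rfl
  · simp only [v]
    rw [Fin.sum_univ_succ]
    have h0 : g' 0 = j₀ := rfl
    have hs : ∀ k : Fin r, g' k.succ = g k := fun k => by simp [g']
    rw [if_pos h0]
    have : ∑ k : Fin r, (if g' k.succ = j₀ then w k.succ else 0) = 0 := by
      apply Finset.sum_eq_zero
      intro k _
      rw [hs, if_neg (hj₀ k)]
    rw [this, add_zero]
    simp only [w]
    have e2 : g' ∘ (0 : Fin (r + 1)).succAbove = g := by
      funext k
      simp [g', Fin.succAbove_zero]
    rw [e2]
    simp

theorem eq_zero_of_injective (M : Matrix (Fin n) (Fin m) R)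
    (hinj : Function.Injective M.mulVecLin) (a : R) (ha : Kills M a m) : a = 0 := by
  classical
  by_contra hne
  have hex : ∃ k, Kills M a k := ⟨m, ha⟩
  have hk₀ := Nat.find_spec hex
  have hmin := fun k (hk : k < Nat.find hex) => Nat.find_min hex hk
  have hle : Nat.find hex ≤ m := Nat.find_min' hex ha
  have hpos : 0 < Nat.find hex := by
    rcases Nat.eq_zero_or_pos (Nat.find hex) with h0 | h0
    · exfalso
      rw [h0] at hk₀
      have := hk₀ Fin.elim0 Fin.elim0
      simp at this
      exact hne this
    · exact h0
  obtain ⟨r, hr⟩ : ∃ r, Nat.find hex = r + 1 := ⟨Nat.find hex - 1, by omega⟩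
  rw [hr] at hk₀
  have hnr : ¬ Kills M a r := hmin r (by omega)
  unfold Kills at hnr
  push Not at hnr
  obtain ⟨f, g, hfg⟩ := hnr
  obtain ⟨v, hv, j, hj⟩ := exists_ker_of_kills M a r (by omega) hk₀ f g
  have hv0 : v = 0 := by
    apply hinj
    rw [map_zero]
    exact hv
  rw [hv0] at hj
  exact hfg hj.symm

theorem kills_of_mulVec_eq_zero (M : Matrix (Fin n) (Fin m) R) (v : Fin m → R)
    (hv : M *ᵥ v = 0) (j : Fin m) : Kills M (v j) m := by
  classical
  intro f g
  by_cases hg : Function.Injective g
  · have hb : Function.Bijective g := Finite.injective_iff_bijective.mp hg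
    let σ : Equiv.Perm (Fin m) := Equiv.ofBijective g hb
    have e1 : M.submatrix f g = (M.submatrix f id).submatrix id σ := by
      ext x y; rfl
    rw [e1, Matrix.det_permute']
    set A := M.submatrix f id with hA
    have hAv : A *ᵥ v = 0 := by
      funext i
      have := congrFun hv (f i)
      simpa [Matrix.mulVec, dotProduct, hA] using this
    have h2 : A.det • v = 0 := by
      have : (A.adjugate * A) *ᵥ v = 0 := by
        rw [← Matrix.mulVec_mulVec, hAv, Matrix.mulVec_zero]
      rw [Matrix.adjugate_mul, Matrix.smul_mulVec, Matrix.one_mulVec] at this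
      exact this
    have h3 : A.det * v j = 0 := by
      have := congrFun h2 j
      simpa using this
    calc v j * (((Equiv.Perm.sign σ : ℤ) : R) * A.det) = ((Equiv.Perm.sign σ : ℤ) : R) * (A.det * v j) := by
          ring
      _ = 0 := by rw [h3, mul_zero]
  · rw [Function.Injective] at hg
    push Not at hg
    obtain ⟨i, i', hii, hne⟩ := hg
    rw [Matrix.det_zero_of_column_eq hne, mul_zero]
    intro k
    simp [Matrix.submatrix_apply, hii]

theorem injective_of_kills (M : Matrix (Fin n) (Fin m) R)
    (h : ∀ a, Kills M a m → a = 0) : Function.Injective M.mulVecLin := by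
  rw [injective_iff_map_eq_zero]
  intro v hv
  funext j
  exact h _ (kills_of_mulVec_eq_zero M v hv j)

/-- **McCoy's theorem**. -/
theorem injective_iff (M : Matrix (Fin n) (Fin m) R) :
    Function.Injective M.mulVecLin ↔ ∀ a, Kills M a m → a = 0 :=
  ⟨fun h a ha => eq_zero_of_injective M h a ha, injective_of_kills M⟩

theorem kills_of_lt (M : Matrix (Fin n) (Fin m) R) (a : R) (r : ℕ) (hr : m < r) : Kills M a r := by
  intro f g
  have hg : ¬ Function.Injective g := by
    intro hg
    have := Fintype.card_le_of_injective g hg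
    simp at this
    omega
  rw [Function.Injective] at hg
  push Not at hg
  obtain ⟨i, i', hii, hne⟩ := hg
  rw [Matrix.det_zero_of_column_eq hne, mul_zero]
  intro k
  simp [Matrix.submatrix_apply, hii]

end Groth.Agent.Helper6.McCoy
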