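import Groth.Prelude.Def_CAlgX
import Groth.Agent.Lib.Helper6.McCoy

/-! McCoy's theorem phrased with the Prelude's `minorIdeal`, `matrixRank`, `detIdeal`. -/

set_option autoImplicit false

namespace Groth.Agent.Helper6.McCoy

open Matrix CAlgX

universe u
variable {R : Type u} [CommRing R] {m n : ℕ}

theorem mem_annihilator_minorIdeal_iff (M : Matrix (Fin n) (Fin m) R) (a : R) (r : ℕ) :
    a ∈ (minorIdeal M r).annihilator ↔ Kills M a r := by
  unfold minorIdeal Kills
  rw [Ideal.span, Submodule.mem_annihilator_span]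
  constructor
  · intro h f g
    have := h ⟨_, ⟨(f, g), rfl⟩⟩
    simpa using this
  · rintro h ⟨_, ⟨fg, rfl⟩⟩
    simpa using h fg.1 fg.2

theorem minorIdeal_eq_bot_of_lt (M : Matrix (Fin n) (Fin m) R) (r : ℕ) (hr : m < r) :
    minorIdeal M r = ⊥ := by
  unfold minorIdeal
  rw [Ideal.span_eq_bot]
  rintro _ ⟨fg, rfl⟩
  have := kills_of_lt M 1 r hr fg.1 fg.2
  simpa using this

theorem matrixRank_eq (M : Matrix (Fin n) (Fin m) R) (h : minorIdeal M m ≠ ⊥) :
    matrixRank M = m := by
  unfold matrixRank
  apply IsGreatest.csSup_eq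
  refine ⟨h, ?_⟩
  intro r hr
  by_contra hlt
  push Not at hlt
  exact hr (minorIdeal_eq_bot_of_lt M r hlt)

theorem injective_iff_rank [Nontrivial R] (M : Matrix (Fin n) (Fin m) R) :
    Function.Injective (Matrix.mulVecLin M) ↔
      matrixRank M = m ∧ (detIdeal M).annihilator = ⊥ := by
  rw [injective_iff]
  constructor
  · intro h
    have hann : (minorIdeal M m).annihilator = ⊥ := by
      rw [eq_bot_iff]
      intro a ha
      rw [mem_annihilator_minorIdeal_iff] at ha
      rw [h a ha]; exact Submodule.zero_mem _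
    have hne : minorIdeal M m ≠ ⊥ := by
      intro hbot
      rw [hbot, Submodule.annihilator_bot] at hann
      exact top_ne_bot hann
    have hrank := matrixRank_eq M hne
    refine ⟨hrank, ?_⟩
    unfold detIdeal
    rw [hrank]; exact hann
  · rintro ⟨hrank, hann⟩ a ha
    unfold detIdeal at hann
    rw [hrank] at hann
    rw [← mem_annihilator_minorIdeal_iff, hann] at ha
    simpa using ha

end Groth.Agent.Helper6.McCoy
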