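import Mathlib
import Groth.Prelude.Def_Flat

/-!
# Subintegrality lemmas (helper6)

For an injective, non-surjective ring map `φ : A → B` inducing a universal homeomorphism on spectra,
we produce elements `b ∉ A` with `b², b³ ∈ A` or `p b, b^p ∈ A`.
-/

universe u
open CategoryTheory AlgebraicGeometry

namespace Groth.Agent.Lib.Helper6.SubInt

section General


variable {A B : Type*} [CommRing A] [CommRing B] (φ : A →+* B)

/-- if `b ∉ A` but `b^n, b^(n+1) ∈ A` then some `b' ∉ A` has `b'^2, b'^3 ∈ A`. -/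
lemma exists_sq_cube_of_pow {b : B} (hb : b ∉ φ.range) {n : ℕ} (hn : b ^ n ∈ φ.range)
    (hn1 : b ^ (n + 1) ∈ φ.range) :
    ∃ b' : B, b' ∉ φ.range ∧ b' ^ 2 ∈ φ.range ∧ b' ^ 3 ∈ φ.range := by
  classical
  have hn0 : n ≠ 0 := by
    rintro rfl
    rw [zero_add, pow_one] at hn1
    exact hb hn1
  have hex : ∃ m : ℕ, ∀ k ≥ m, b ^ k ∈ φ.range := by
    refine ⟨n * n, fun k hk => ?_⟩
    have hnpos : 0 < n := Nat.pos_of_ne_zero hn0
    have h1 : k = (k / n - k % n) * n + (k % n) * (n + 1) := by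
      have h2 := Nat.div_add_mod k n
      have h3 : k % n < n := Nat.mod_lt k hnpos
      have h4 : n ≤ k / n := by
        rw [Nat.le_div_iff_mul_le hnpos]; exact hk
      have h5 : k % n ≤ k / n := le_trans h3.le h4
      have h6 : (k / n - k % n) * n = (k / n) * n - (k % n) * n := Nat.sub_mul _ _ _
      have h7 : (k % n) * n ≤ (k / n) * n := Nat.mul_le_mul_right n h5
      rw [h6, mul_add, mul_one]
      have h8 : n * (k / n) = (k / n) * n := mul_comm _ _
      omega
    rw [h1, pow_add, pow_mul', pow_mul' b (k % n)]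
    exact mul_mem (pow_mem hn _) (pow_mem hn1 _)
  let N := Nat.find hex
  have hN : ∀ k ≥ N, b ^ k ∈ φ.range := Nat.find_spec hex
  have hN2 : 2 ≤ N := by
    by_contra h
    push Not at h
    apply hb
    have := hN 1 (by omega)
    rwa [pow_one] at this
  refine ⟨b ^ (N - 1), ?_, ?_, ?_⟩
  · intro hmem
    have hmin : N - 1 ∈ {m : ℕ | ∀ k ≥ m, b ^ k ∈ φ.range} := by
      intro k hk
      rcases Nat.eq_or_lt_of_le hk with h | h
      · rw [← h]; exact hmem
      · exact hN k (by omega)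
    have := Nat.find_min' hex hmin
    change N ≤ N - 1 at this
    omega
  · rw [← pow_mul]; exact hN _ (by omega)
  · rw [← pow_mul]; exact hN _ (by omega)


/-- conductor of `A` in `B` -/
def cond : Ideal A where
  carrier := {a | ∀ b : B, φ a * b ∈ φ.range}
  zero_mem' := fun b => by rw [map_zero, zero_mul]; exact zero_mem _
  add_mem' := by
    intro x y hx hy b
    rw [map_add, add_mul]; exact add_mem (hx b) (hy b)
  smul_mem' := by
    intro c x hx b
    rw [smul_eq_mul, map_mul, mul_assoc]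
    exact mul_mem ⟨c, rfl⟩ (hx b)

/-- the ideal of `B` of elements all of whose multiples lie in `A` -/
def condB : Ideal B where
  carrier := {x | ∀ b : B, x * b ∈ φ.range}
  zero_mem' := fun b => by rw [zero_mul]; exact zero_mem _
  add_mem' := by
    intro x y hx hy b
    rw [add_mul]; exact add_mem (hx b) (hy b)
  smul_mem' := by
    intro c x hx b
    rw [smul_eq_mul, mul_assoc, mul_comm c, mul_assoc]
    exact hx _

lemma condB_le_range {x : B} (hx : x ∈ condB φ) : x ∈ φ.range := by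
  have := hx 1; rwa [mul_one] at this

lemma map_cond_le : (cond φ).map φ ≤ condB φ := by
  rw [Ideal.map_le_iff_le_comap]
  intro a ha b
  exact ha b

theorem finite_core (hinj : Function.Injective φ) (hns : ¬ Function.Surjective φ)
    (hfin : φ.Finite)
    (hspec : ∀ q₁ q₂ : Ideal B, q₁.IsPrime → q₂.IsPrime → q₁.comap φ = q₂.comap φ → q₁ = q₂)
    (Pe : ℕ → Ideal A → Prop) (hPe : ∀ e p, Pe e p → e ≠ 1 → (e : A) ∈ p)
    (H : ∀ (q : Ideal B), q.IsPrime → ∀ b : B, ∃ (e n : ℕ) (a s : A),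
      Pe e (q.comap φ) ∧ φ s ∉ q ∧ φ s * b ^ (e ^ n) - φ a ∈ q) :
    (∃ b, b ∉ φ.range ∧ b ^ 2 ∈ φ.range ∧ b ^ 3 ∈ φ.range) ∨
      ∃ (e : ℕ) (p : Ideal A) (b : B), Pe e p ∧ e ≠ 1 ∧ b ∉ φ.range ∧
        (e : B) * b ∈ φ.range ∧ b ^ e ∈ φ.range := by
  classical
  by_cases halt : ∃ b, b ∉ φ.range ∧ b ^ 2 ∈ φ.range ∧ b ^ 3 ∈ φ.range
  · exact Or.inl halt
  right
  letI := φ.toAlgebra
  have hfin' : Module.Finite A B := hfin
  have hint : Algebra.IsIntegral A B := inferInstance
  -- the conductor is proper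
  have hI : cond φ ≠ ⊤ := by
    intro h
    apply hns
    intro b
    have h1 : (1 : A) ∈ cond φ := by rw [h]; trivial
    have := h1 b
    rwa [map_one, one_mul] at this
  obtain ⟨m, hm, hIm⟩ := Ideal.exists_le_maximal _ hI
  haveI := hm.isPrime
  obtain ⟨p, hp, -⟩ := Ideal.exists_minimalPrimes_le hIm
  haveI hpprime : p.IsPrime := hp.1.1
  have hIp : cond φ ≤ p := hp.1.2
  -- the prime of B above p
  obtain ⟨q, -, hqprime, hqp⟩ := Ideal.exists_ideal_over_prime_of_isIntegral p (⊥ : Ideal B) (by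
    intro a ha
    have : algebraMap A B a = 0 := ha
    have h0 : a = 0 := hinj (by rw [map_zero]; exact this)
    rw [h0]; exact zero_mem _)
  have hqp' : q.comap φ = p := hqp
  -- Step A
  have stepA : ∀ f ∈ q, ∃ s : A, s ∉ p ∧ ∃ n : ℕ, φ s * f ^ (n + 1) ∈ condB φ := by
    intro f hf
    let S : Submonoid B := (p.primeCompl.map φ) ⊔ Submonoid.powers f
    by_cases hdis : Disjoint (((cond φ).map φ : Ideal B) : Set B) (S : Set B)
    · exfalso
      obtain ⟨Q, hQprime, hQle, hQdis⟩ := Ideal.exists_le_prime_disjoint _ S hdis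
      have h1 : cond φ ≤ Q.comap φ := Ideal.map_le_iff_le_comap.mp hQle
      have h2 : Q.comap φ ≤ p := by
        intro a ha
        by_contra hap
        have h3 : φ a ∈ (S : Set B) :=
          (le_sup_left : p.primeCompl.map φ ≤ S) ⟨a, hap, rfl⟩
        exact Set.disjoint_left.mp hQdis ha h3
      haveI : (Q.comap φ).IsPrime := Ideal.comap_isPrime φ Q
      have h3 : p ≤ Q.comap φ := hp.2 ⟨inferInstance, h1⟩ h2
      have h4 : Q = q := hspec Q q hQprime hqprime (by rw [hqp']; exact le_antisymm h2 h3)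
      have h5 : f ∈ (S : Set B) :=
        (le_sup_right : Submonoid.powers f ≤ S) (Submonoid.mem_powers f)
      exact Set.disjoint_left.mp hQdis (h4 ▸ hf) h5
    · rw [Set.not_disjoint_iff] at hdis
      obtain ⟨x, hxJ, hxS⟩ := hdis
      obtain ⟨y, hy, z, hz, rfl⟩ := Submonoid.mem_sup.mp hxS
      obtain ⟨s, hs, rfl⟩ := hy
      obtain ⟨n, rfl⟩ := hz
      refine ⟨s, hs, n, ?_⟩
      have h1 : φ s * f ^ n ∈ condB φ := map_cond_le φ hxJ
      have : φ s * f ^ (n + 1) = f * (φ s * f ^ n) := by rw [pow_succ]; ring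
      rw [this]
      exact Ideal.mul_mem_left _ _ h1
  -- Step C
  have stepC : ∀ f ∈ q, ∃ s : A, s ∉ p ∧ φ s * f ∈ φ.range := by
    intro f hf
    obtain ⟨s, hs, n, hn⟩ := stepA f hf
    refine ⟨s, hs, ?_⟩
    by_contra hcon
    apply halt
    apply exists_sq_cube_of_pow φ hcon (n := n + 1)
    · have : (φ s * f) ^ (n + 1) = φ s ^ n * (φ s * f ^ (n + 1)) := by
        rw [mul_pow, pow_succ (φ s)]; ring
      rw [this]
      exact condB_le_range φ (Ideal.mul_mem_left _ _ hn)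
    · have : (φ s * f) ^ (n + 1 + 1) = (φ s ^ (n + 1) * f) * (φ s * f ^ (n + 1)) := by
        rw [mul_pow, pow_succ (φ s) (n + 1), pow_succ f (n + 1)]; ring
      rw [this]
      exact condB_le_range φ (Ideal.mul_mem_left _ _ hn)
  -- Step D
  have stepD : ∃ b₁ : B, ∀ t : A, t ∉ p → φ t * b₁ ∉ φ.range := by
    by_contra hcon
    push Not at hcon
    choose t ht htb using hcon
    obtain ⟨G, hG⟩ := hfin'.fg_top
    have htG : (∏ g ∈ G, t g) ∉ p := by
      intro hmem
      obtain ⟨g, -, hg⟩ := (Ideal.IsPrime.prod_mem_iff).mp hmem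
      exact ht g hg
    apply htG
    apply hIp
    intro b
    have hb : b ∈ Submodule.span A (G : Set B) := by rw [hG]; trivial
    induction hb using Submodule.span_induction with
    | mem g hg =>
      have : φ (∏ g ∈ G, t g) * g = φ (∏ g' ∈ G.erase g, t g') * (φ (t g) * g) := by
        rw [← Finset.mul_prod_erase G t hg, map_mul]; ring
      rw [this]
      exact mul_mem ⟨_, rfl⟩ (htb g)
    | zero => rw [mul_zero]; exact zero_mem _
    | add x y _ _ hx hy => rw [mul_add]; exact add_mem hx hy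
    | smul a x _ hx =>
      have : φ (∏ g ∈ G, t g) * a • x = φ a * (φ (∏ g ∈ G, t g) * x) := by
        rw [Algebra.smul_def]
        change _ * (φ a * x) = _
        ring
      rw [this]
      exact mul_mem ⟨_, rfl⟩ hx
  obtain ⟨b₁, hb₁⟩ := stepD
  -- Step E
  obtain ⟨e, n, a, s, hPe', hsq, hmem⟩ := H q hqprime b₁
  rw [hqp'] at hPe'
  have hsp : s ∉ p := by
    intro h
    apply hsq
    have : s ∈ q.comap φ := by rw [hqp']; exact h
    exact this
  have hex : ∃ n : ℕ, ∃ t : A, t ∉ p ∧ φ t * b₁ ^ (e ^ n) ∈ φ.range := by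
    obtain ⟨s', hs', hs'mem⟩ := stepC _ hmem
    refine ⟨n, s' * s, ?_, ?_⟩
    · exact fun h => (hpprime.mem_or_mem h).elim hs' hsp
    · have : φ (s' * s) * b₁ ^ (e ^ n) = φ s' * (φ s * b₁ ^ (e ^ n) - φ a) + φ (s' * a) := by
        rw [map_mul, map_mul]; ring
      rw [this]
      exact add_mem hs'mem ⟨_, rfl⟩
  have he1 : e ≠ 1 := by
    rintro rfl
    obtain ⟨n', t, ht, htm⟩ := hex
    rw [one_pow, pow_one] at htm
    exact hb₁ t ht htm
  have hep : (e : A) ∈ p := hPe e p hPe' he1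
  let n₀ := Nat.find hex
  obtain ⟨t₀, ht₀, ht₀m⟩ := Nat.find_spec hex
  have hn₀ : n₀ ≠ 0 := by
    intro h0
    have h1 : b₁ ^ (e ^ Nat.find hex) = b₁ := by
      change b₁ ^ (e ^ n₀) = b₁
      rw [h0, pow_zero, pow_one]
    rw [h1] at ht₀m
    exact hb₁ t₀ ht₀ ht₀m
  obtain ⟨k, hk⟩ : ∃ k, n₀ = k + 1 := ⟨n₀ - 1, by omega⟩
  set c := b₁ ^ (e ^ k) with hc
  have hc_not : ∀ t : A, t ∉ p → φ t * c ∉ φ.range := by
    intro t ht htm
    have : k ∈ {n : ℕ | ∃ t : A, t ∉ p ∧ φ t * b₁ ^ (e ^ n) ∈ φ.range} := ⟨t, ht, htm⟩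
    have := Nat.find_min' hex this
    change n₀ ≤ k at this
    omega
  have hce : φ t₀ * c ^ e ∈ φ.range := by
    have : c ^ e = b₁ ^ (e ^ Nat.find hex) := by
      change c ^ e = b₁ ^ (e ^ n₀)
      rw [hc, ← pow_mul, hk, pow_succ]
    rw [this]; exact ht₀m
  have hecq : (e : B) * c ∈ q := by
    apply Ideal.mul_mem_right
    have : (e : A) ∈ q.comap φ := by rw [hqp']; exact hep
    have h2 : φ (e : A) ∈ q := this
    rwa [map_natCast] at h2
  obtain ⟨s₁, hs₁, hs₁m⟩ := stepC _ hecq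
  have hts : t₀ * s₁ ∉ p := fun h => (hpprime.mem_or_mem h).elim ht₀ hs₁
  refine ⟨e, p, φ (t₀ * s₁) * c, hPe', he1, hc_not _ hts, ?_, ?_⟩
  · have : (e : B) * (φ (t₀ * s₁) * c) = φ t₀ * (φ s₁ * ((e : B) * c)) := by
      rw [map_mul]; ring
    rw [this]
    exact mul_mem ⟨_, rfl⟩ hs₁m
  · rcases Nat.eq_zero_or_pos e with he0 | hepos
    · rw [he0, pow_zero]; exact one_mem _
    · obtain ⟨e', he'⟩ : ∃ e', e = e' + 1 := ⟨e - 1, by omega⟩
      have : (φ (t₀ * s₁) * c) ^ e = φ (t₀ ^ e' * s₁ ^ e) * (φ t₀ * c ^ e) := by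
        rw [mul_pow, map_mul, map_mul, map_pow, map_pow, mul_pow]
        nth_rewrite 1 [he']
        rw [pow_succ]; ring
      rw [this]
      exact mul_mem ⟨_, rfl⟩ hce


theorem integral_core (hinj : Function.Injective φ) (hns : ¬ Function.Surjective φ)
    (hint : φ.IsIntegral)
    (hspec : ∀ q₁ q₂ : Ideal B, q₁.IsPrime → q₂.IsPrime → q₁.comap φ = q₂.comap φ → q₁ = q₂)
    (Pe : ℕ → Ideal A → Prop) (hPe : ∀ e p, Pe e p → e ≠ 1 → (e : A) ∈ p)
    (H : ∀ (q : Ideal B), q.IsPrime → ∀ b : B, ∃ (e n : ℕ) (a s : A),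
      Pe e (q.comap φ) ∧ φ s ∉ q ∧ φ s * b ^ (e ^ n) - φ a ∈ q) :
    (∃ b, b ∉ φ.range ∧ b ^ 2 ∈ φ.range ∧ b ^ 3 ∈ φ.range) ∨
      ∃ (e : ℕ) (p : Ideal A) (b : B), Pe e p ∧ e ≠ 1 ∧ b ∉ φ.range ∧
        (e : B) * b ∈ φ.range ∧ b ^ e ∈ φ.range := by
  classical
  letI := φ.toAlgebra
  have hint' : Algebra.IsIntegral A B := ⟨hint⟩
  obtain ⟨b₀, hb₀⟩ : ∃ b₀, b₀ ∉ φ.range := by
    by_contra h
    push Not at h
    exact hns (fun b => h b)
  let R' : Subalgebra A B := Algebra.adjoin A {b₀}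
  let ψ : A →+* R' := algebraMap A R'
  let ι : R' →+* B := R'.val
  have hφ : ∀ a, ι (ψ a) = φ a := fun a => rfl
  have hιinj : Function.Injective ι := Subtype.val_injective
  have hψinj : Function.Injective ψ := fun a a' h => hinj (by rw [← hφ, ← hφ, h])
  have hψns : ¬ Function.Surjective ψ := by
    intro hs
    obtain ⟨a, ha⟩ := hs ⟨b₀, Algebra.subset_adjoin (Set.mem_singleton _)⟩
    apply hb₀
    exact ⟨a, by rw [← hφ, ha]; rfl⟩
  have hψfin : ψ.Finite := by
    have h1 : (Algebra.adjoin A {b₀}).toSubmodule.FG := IsIntegral.fg_adjoin_singleton (hint b₀)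
    have h2 : Module.Finite A R' := Module.Finite.iff_fg.mpr h1
    exact RingHom.finite_algebraMap.mpr h2
  haveI : Algebra.IsIntegral R' B := Algebra.IsIntegral.tower_top (R := A)
  have lift : ∀ q : Ideal R', q.IsPrime → ∃ Q : Ideal B, Q.IsPrime ∧ Q.comap ι = q := by
    intro q hq
    obtain ⟨Q, -, hQ, hQq⟩ := Ideal.exists_ideal_over_prime_of_isIntegral q (⊥ : Ideal B) (by
      intro r hr
      have h0 : algebraMap R' B r = 0 := hr
      have h1 : r = 0 := hιinj (by rw [map_zero]; exact h0)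
      rw [h1]; exact zero_mem _)
    exact ⟨Q, hQ, hQq⟩
  have hrange : ∀ r : R', r ∈ ψ.range ↔ ι r ∈ φ.range := by
    intro r
    constructor
    · rintro ⟨a, rfl⟩
      exact ⟨a, rfl⟩
    · rintro ⟨a, ha⟩
      exact ⟨a, hιinj (by rw [hφ, ha])⟩
  have hspec' : ∀ q₁ q₂ : Ideal R', q₁.IsPrime → q₂.IsPrime →
      q₁.comap ψ = q₂.comap ψ → q₁ = q₂ := by
    intro q₁ q₂ h₁ h₂ h
    obtain ⟨Q₁, hQ₁, hq₁⟩ := lift q₁ h₁
    obtain ⟨Q₂, hQ₂, hq₂⟩ := lift q₂ h₂
    have : Q₁ = Q₂ := by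
      apply hspec Q₁ Q₂ hQ₁ hQ₂
      have e1 : Q₁.comap φ = (Q₁.comap ι).comap ψ := rfl
      have e2 : Q₂.comap φ = (Q₂.comap ι).comap ψ := rfl
      rw [e1, e2, hq₁, hq₂, h]
    rw [← hq₁, ← hq₂, this]
  have H' : ∀ (q : Ideal R'), q.IsPrime → ∀ b : R', ∃ (e n : ℕ) (a s : A),
      Pe e (q.comap ψ) ∧ ψ s ∉ q ∧ ψ s * b ^ (e ^ n) - ψ a ∈ q := by
    intro q hq b
    obtain ⟨Q, hQ, hQq⟩ := lift q hq
    obtain ⟨e, n, a, s, h1, h2, h3⟩ := H Q hQ (ι b)
    refine ⟨e, n, a, s, ?_, ?_, ?_⟩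
    · have e1 : Q.comap φ = (Q.comap ι).comap ψ := rfl
      rw [e1, hQq] at h1
      exact h1
    · intro hmem
      apply h2
      rw [← hQq] at hmem
      exact hmem
    · rw [← hQq]
      change ι (ψ s * b ^ (e ^ n) - ψ a) ∈ Q
      rw [map_sub, map_mul, map_pow, hφ, hφ]
      exact h3
  rcases finite_core ψ hψinj hψns hψfin hspec' Pe hPe H' with ⟨b, hb1, hb2, hb3⟩ |
    ⟨e, p, b, h1, h2, h3, h4, h5⟩
  · left
    refine ⟨ι b, ?_, ?_, ?_⟩
    · rwa [← hrange]
    · rw [← map_pow, ← hrange]; exact hb2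
    · rw [← map_pow, ← hrange]; exact hb3
  · right
    refine ⟨e, p, ι b, h1, h2, ?_, ?_, ?_⟩
    · rwa [← hrange]
    · have : (e : B) * ι b = ι ((e : R') * b) := by rw [map_mul, map_natCast]
      rw [this, ← hrange]; exact h4
    · rw [← map_pow, ← hrange]; exact h5




end General

section Sch

variable {A B : Type u} [CommRing A] [CommRing B] (φ : A →+* B)

lemma isIntegral_of_univHomeo
    (hU : FlatMor.IsUnivHomeo (Spec.map (CommRingCat.ofHom φ))) : φ.IsIntegral := by
  have h1 : UniversallyClosed (Spec.map (CommRingCat.ofHom φ)) := by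
    rw [universallyClosed_eq]
    refine MorphismProperty.universally_mono ?_ _ hU
    intro X Y f hf
    exact hf.isClosedMap
  have h2 : IsIntegralHom (Spec.map (CommRingCat.ofHom φ)) :=
    IsIntegralHom.iff_universallyClosed_and_isAffineHom.mpr ⟨h1, inferInstance⟩
  exact IsIntegralHom.SpecMap_iff.mp h2

lemma univInj_of_univHomeo
    (hU : FlatMor.IsUnivHomeo (Spec.map (CommRingCat.ofHom φ))) :
    UniversallyInjective (Spec.map (CommRingCat.ofHom φ)) := by
  rw [universallyInjective_eq]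
  refine MorphismProperty.universally_mono ?_ _ hU
  intro X Y f hf
  exact hf.injective

lemma spec_inj_of_univHomeo
    (hU : FlatMor.IsUnivHomeo (Spec.map (CommRingCat.ofHom φ)))
    (q₁ q₂ : Ideal B) (h₁ : q₁.IsPrime) (h₂ : q₂.IsPrime) (h : q₁.comap φ = q₂.comap φ) :
    q₁ = q₂ := by
  haveI := univInj_of_univHomeo φ hU
  have hinj := (Spec.map (CommRingCat.ofHom φ)).injective
  let x₁ : Spec (CommRingCat.of B) := (⟨q₁, h₁⟩ : PrimeSpectrum B)
  let x₂ : Spec (CommRingCat.of B) := (⟨q₂, h₂⟩ : PrimeSpectrum B)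
  have : x₁ = x₂ := by
    apply hinj
    rw [Spec.map_apply, Spec.map_apply]
    apply PrimeSpectrum.ext
    exact h
  exact congrArg PrimeSpectrum.asIdeal this



end Sch

/-- evaluation `R → κ(x)` -/
noncomputable def ev (R : CommRingCat.{u}) (x : Spec R) : R →+* (Spec R).residueField x :=
  ((Scheme.ΓSpecIso R).inv ≫ (Spec R).Γevaluation x).hom

set_option backward.isDefEq.respectTransparency.types false in
lemma ev_eq (R : CommRingCat.{u}) (x : Spec R) :
    ev R x = ((Scheme.Spec.residueFieldIso R x).inv.hom).comp (algebraMap R x.asIdeal.ResidueField) := by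
  have := Scheme.Spec.algebraMap_residueFieldIso_inv R x
  have h2 := congrArg CommRingCat.Hom.hom this
  rw [CommRingCat.hom_comp, CommRingCat.hom_ofHom] at h2
  rw [h2]
  rfl

set_option backward.isDefEq.respectTransparency.types false in
lemma ev_eq_zero_iff (R : CommRingCat.{u}) (x : Spec R) (r : R) :
    ev R x r = 0 ↔ r ∈ x.asIdeal := by
  rw [ev_eq, RingHom.comp_apply]
  have hinj : Function.Injective (Scheme.Spec.residueFieldIso R x).inv.hom := RingHom.injective _
  rw [← Ideal.algebraMap_residueField_eq_zero (I := x.asIdeal)]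
  constructor
  · intro h
    apply hinj
    rw [h, map_zero]
  · intro h
    rw [h, map_zero]

set_option backward.isDefEq.respectTransparency.types false in
lemma ev_surj (R : CommRingCat.{u}) (x : Spec R) (z : (Spec R).residueField x) :
    ∃ a s : R, s ∉ x.asIdeal ∧ z * ev R x s = ev R x a := by
  let z' : x.asIdeal.ResidueField := (Scheme.Spec.residueFieldIso R x).hom.hom z
  obtain ⟨⟨a', s'⟩, h⟩ := IsLocalization.surj (nonZeroDivisors (R ⧸ x.asIdeal)) z'
  obtain ⟨a, rfl⟩ := Ideal.Quotient.mk_surjective a'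
  obtain ⟨s, hs⟩ := Ideal.Quotient.mk_surjective (s' : R ⧸ x.asIdeal)
  refine ⟨a, s, ?_, ?_⟩
  · intro hmem
    have h0 : (s' : R ⧸ x.asIdeal) = 0 := by
      rw [← hs]; exact Ideal.Quotient.eq_zero_iff_mem.mpr hmem
    exact nonZeroDivisors.coe_ne_zero s' h0
  · dsimp only at h
    rw [← hs, Ideal.algebraMap_quotient_residueField_mk,
      Ideal.algebraMap_quotient_residueField_mk] at h
    rw [ev_eq, RingHom.comp_apply, RingHom.comp_apply, ← h, map_mul]
    congr 1
    change z = ((Scheme.Spec.residueFieldIso R x).hom ≫ (Scheme.Spec.residueFieldIso R x).inv).hom z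
    rw [Iso.hom_inv_id]; rfl

lemma ev_naturality {R S : CommRingCat.{u}} (f : R ⟶ S) (x : Spec S) (a : R) :
    (Spec.map f).residueFieldMap x (ev R (Spec.map f x) a) = ev S x (f.hom a) := by
  unfold ev
  rw [CommRingCat.hom_comp, RingHom.comp_apply, CommRingCat.hom_comp, RingHom.comp_apply]
  have h1 := Scheme.Γevaluation_naturality_apply (Spec.map f) x ((Scheme.ΓSpecIso R).inv.hom a)
  erw [h1]
  congr 1
  have h2 := Scheme.ΓSpecIso_inv_naturality f
  have h3 := congrArg (fun g => g.hom a) h2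
  simp only [CommRingCat.hom_comp, RingHom.comp_apply] at h3
  exact h3.symm


variable {A B : Type u} [CommRing A] [CommRing B] (φ : A →+* B)

theorem main7398 (hinj : Function.Injective φ) (hns : ¬ Function.Surjective φ)
    (hU : FlatMor.IsUnivHomeo (Spec.map (CommRingCat.ofHom φ)))
    (hres : ∀ x : Spec (CommRingCat.of B),
      Function.Surjective ((Spec.map (CommRingCat.ofHom φ)).residueFieldMap x)) :
    ∃ b : B, b ∉ φ.range ∧ b ^ 2 ∈ φ.range ∧ b ^ 3 ∈ φ.range := by
  have hint := isIntegral_of_univHomeo φ hU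
  have hspec := spec_inj_of_univHomeo φ hU
  have H : ∀ (q : Ideal B), q.IsPrime → ∀ b : B, ∃ (e n : ℕ) (a s : A),
      (fun (e : ℕ) (_ : Ideal A) => e = 1) e (q.comap φ) ∧ φ s ∉ q ∧
        φ s * b ^ (e ^ n) - φ a ∈ q := by
    intro q hq b
    let x : Spec (CommRingCat.of B) := (⟨q, hq⟩ : PrimeSpectrum B)
    obtain ⟨z, hz⟩ := hres x (ev (CommRingCat.of B) x b)
    obtain ⟨a, s, hs, hzs⟩ := ev_surj (CommRingCat.of A) (Spec.map (CommRingCat.ofHom φ) x) z
    refine ⟨1, 0, a, s, rfl, hs, ?_⟩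
    have h1 := congrArg ((Spec.map (CommRingCat.ofHom φ)).residueFieldMap x) hzs
    rw [map_mul, hz, ev_naturality, ev_naturality] at h1
    have h2 : φ s * b ^ (1 ^ 0) - φ a ∈ x.asIdeal := by
      rw [← ev_eq_zero_iff (CommRingCat.of B) x, map_sub, map_mul, pow_zero, pow_one, mul_comm]
      exact sub_eq_zero.mpr h1
    exact h2
  rcases integral_core φ hinj hns hint hspec (fun e _ => e = 1) (fun e p h h' => absurd h h') H
    with h | ⟨e, p, b, h1, h2, -⟩
  · exact h
  · exact absurd h1 h2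

theorem main7399 (hinj : Function.Injective φ) (hns : ¬ Function.Surjective φ)
    (hU : FlatMor.IsUnivHomeo (Spec.map (CommRingCat.ofHom φ))) :
    (∃ b : B, b ∉ φ.range ∧ b ^ 2 ∈ φ.range ∧ b ^ 3 ∈ φ.range) ∨
      ∃ (p : ℕ) (b : B), p.Prime ∧ b ∉ φ.range ∧ (p : B) * b ∈ φ.range ∧ b ^ p ∈ φ.range := by
  have hint := isIntegral_of_univHomeo φ hU
  have hspec := spec_inj_of_univHomeo φ hU
  have hui := univInj_of_univHomeo φ hU
  have hpi := ((tfae_universallyInjective (Spec.map (CommRingCat.ofHom φ))).out 0 2).mp hui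
  have H : ∀ (q : Ideal B), q.IsPrime → ∀ b : B, ∃ (e n : ℕ) (a s : A),
      (fun (e : ℕ) (p : Ideal A) => e = 1 ∨ (e.Prime ∧ (e : A) ∈ p)) e (q.comap φ) ∧ φ s ∉ q ∧
        φ s * b ^ (e ^ n) - φ a ∈ q := by
    intro q hq b
    let x : Spec (CommRingCat.of B) := (⟨q, hq⟩ : PrimeSpectrum B)
    have hx := hpi.2 x
    letI : Algebra ((Spec (CommRingCat.of A)).residueField (Spec.map (CommRingCat.ofHom φ) x))
        ((Spec (CommRingCat.of B)).residueField x) :=
      ((Spec.map (CommRingCat.ofHom φ)).residueFieldMap x).hom.toAlgebra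
    have hx' : IsPurelyInseparable
        ((Spec (CommRingCat.of A)).residueField (Spec.map (CommRingCat.ofHom φ) x))
        ((Spec (CommRingCat.of B)).residueField x) := hx
    obtain ⟨e, he⟩ := ExpChar.exists
      ((Spec (CommRingCat.of A)).residueField (Spec.map (CommRingCat.ofHom φ) x))
    rw [isPurelyInseparable_iff_pow_mem _ e] at hx'
    obtain ⟨n, z, hz⟩ := hx' (ev (CommRingCat.of B) x b)
    have hz' : ((Spec.map (CommRingCat.ofHom φ)).residueFieldMap x) z =
        (ev (CommRingCat.of B) x b) ^ (e ^ n) := hz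
    obtain ⟨a, s, hs, hzs⟩ := ev_surj (CommRingCat.of A) (Spec.map (CommRingCat.ofHom φ) x) z
    refine ⟨e, n, a, s, ?_, hs, ?_⟩
    · cases he with
      | zero => left; rfl
      | prime hprime =>
        right
        refine ⟨hprime, ?_⟩
        have h0 : ev (CommRingCat.of A) (Spec.map (CommRingCat.ofHom φ) x) (e : A) = 0 := by
          rw [map_natCast]
          exact CharP.cast_eq_zero _ e
        exact (ev_eq_zero_iff (CommRingCat.of A) _ _).mp h0
    · have h1 := congrArg ((Spec.map (CommRingCat.ofHom φ)).residueFieldMap x) hzs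
      rw [map_mul, hz', ev_naturality, ev_naturality] at h1
      have h2 : φ s * b ^ (e ^ n) - φ a ∈ x.asIdeal := by
        rw [← ev_eq_zero_iff (CommRingCat.of B) x, map_sub, map_mul, map_pow, mul_comm]
        exact sub_eq_zero.mpr h1
      exact h2
  rcases integral_core φ hinj hns hint hspec
    (fun (e : ℕ) (p : Ideal A) => e = 1 ∨ (e.Prime ∧ (e : A) ∈ p))
    (fun e p h h' => by
      rcases h with h | h
      · exact absurd h h'
      · exact h.2) H
    with h | ⟨e, p, b, h1, h2, h3, h4, h5⟩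
  · exact Or.inl h
  · right
    rcases h1 with h1 | h1
    · exact absurd h1 h2
    · exact ⟨e, b, h1.1, h3, h4, h5⟩

end Groth.Agent.Lib.Helper6.SubInt
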