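import Mathlib

open CategoryTheory CategoryTheory.Limits

namespace Groth.Agent.Lib.Helper6.IndEtAcc

universe u

variable (R : CommRingCat.{u})

/-- The generator `R[t]` of `Under R`. -/
noncomputable def gen : Under R := CommRingCat.mkUnder R (Polynomial R)

/-- The variable of `R[t]`. -/
noncomputable def tX : (gen R).right := (Polynomial.X : Polynomial R)

/-- The constants of `R[t]`. -/
noncomputable def tC (r : R) : (gen R).right := (Polynomial.C r : Polynomial R)

/-- The map `R[t] ⟶ Y` sending `t` to `y`. -/
noncomputable def evalHom (Y : Under R) (y : Y.right) : gen R ⟶ Y :=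
  Under.homMk (CommRingCat.ofHom (Polynomial.eval₂RingHom Y.hom.hom y)) (by
    ext r
    simp [gen, CommRingCat.mkUnder, Polynomial.algebraMap_eq])

theorem evalHom_X (Y : Under R) (y : Y.right) :
    (evalHom R Y y).right.hom (tX R) = y :=
  Polynomial.eval₂_X _ _

theorem evalHom_C (Y : Under R) (y : Y.right) (r : R) :
    (evalHom R Y y).right.hom (tC R r) = Y.hom.hom r :=
  Polynomial.eval₂_C _ _

theorem comp_evalHom_X {Y Z : Under R} (f : Y ⟶ Z) (y : Y.right) :
    (evalHom R Y y ≫ f).right.hom (tX R) = f.right.hom y :=
  congrArg f.right.hom (evalHom_X R Y y)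

theorem comp_evalHom_C {Y Z : Under R} (f : Y ⟶ Z) (y : Y.right) (r : R) :
    (evalHom R Y y ≫ f).right.hom (tC R r) = f.right.hom (Y.hom.hom r) :=
  congrArg f.right.hom (evalHom_C R Y y r)

theorem comp_X {Y : Under R} (f : gen R ⟶ Y) {Z : Under R} (g : Y ⟶ Z) :
    (f ≫ g).right.hom (tX R) = g.right.hom (f.right.hom (tX R)) := rfl

theorem gen_fp : IsFinitelyPresentable.{u} (gen R) := by
  apply CommRingCat.isFinitelyPresentable_under
  show (algebraMap R (Polynomial R)).FinitePresentation
  rw [RingHom.finitePresentation_algebraMap]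
  infer_instance

theorem isSeparating : (ObjectProperty.singleton (gen R)).IsSeparating := by
  intro Y Z f g h
  ext y
  have := h (gen R) (by simp) (evalHom R Y y)
  have h2 := congr(($this).right.hom (tX R))
  exact (comp_evalHom_X R f y).symm.trans (h2.trans (comp_evalHom_X R g y))

theorem hom_ext_gen {Z : Under R} (f g : gen R ⟶ Z)
    (h : f.right.hom (tX R) = g.right.hom (tX R)) : f = g := by
  ext : 2
  apply Polynomial.ringHom_ext
  · intro r
    have h1 := congr(($(Under.w f)).hom r)
    have h2 := congr(($(Under.w g)).hom r)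
    exact h1.trans h2.symm
  · exact h

theorem injective_of_mono {Y Z : Under R} (i : Y ⟶ Z) [Mono i] :
    Function.Injective i.right.hom := by
  intro y₁ y₂ h
  have : evalHom R Y y₁ ≫ i = evalHom R Y y₂ ≫ i := by
    apply hom_ext_gen
    exact (comp_evalHom_X R i y₁).trans (h.trans (comp_evalHom_X R i y₂).symm)
  have h2 := (cancel_mono i).mp this
  have h3 := congr(($h2).right.hom (tX R))
  exact (evalHom_X R Y y₁).symm.trans (h3.trans (evalHom_X R Y y₂))

theorem isStrongGenerator : (ObjectProperty.singleton (gen R)).IsStrongGenerator := by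
  rw [ObjectProperty.isStrongGenerator_iff]
  refine ⟨isSeparating R, fun Y Z i _ hi => ?_⟩
  have hinj := injective_of_mono R i
  have hsurj : Function.Surjective i.right.hom := by
    intro z
    obtain ⟨f, hf⟩ := hi (gen R) (by simp) (evalHom R Z z)
    refine ⟨f.right.hom (tX R), ?_⟩
    have h3 := congr(($hf).right.hom (tX R))
    exact (comp_X R f i).symm.trans (h3.trans (evalHom_X R Z z))
  have h1 : IsIso ((forget CommRingCat).map i.right) :=
    (isIso_iff_bijective _).mpr ⟨hinj, hsurj⟩
  have h2 : IsIso i.right := isIso_of_reflects_iso i.right (forget CommRingCat)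
  have h3 : IsIso ((Under.forget R).map i) := h2
  exact isIso_of_reflects_iso i (Under.forget R)

open Cardinal in
attribute [local instance] fact_isRegular_aleph0 in
instance : IsLocallyFinitelyPresentable.{u} (Under R) := by
  refine (IsCardinalLocallyPresentable.iff_exists_isStrongGenerator (Under R) (ℵ₀ : Cardinal.{u})).mpr ?_
  exact ⟨ObjectProperty.singleton (gen R), inferInstance, isStrongGenerator R,
    ObjectProperty.singleton_le_iff.mpr (gen_fp R)⟩

open Cardinal in
attribute [local instance] fact_isRegular_aleph0 in
instance : IsFinitelyAccessibleCategory.{u} (Under R) := inferInstance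

end Groth.Agent.Lib.Helper6.IndEtAcc
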