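import Mathlib

open CategoryTheory CategoryTheory.Limits

namespace Groth.Agent.Lib.Helper6.IndEtSpread

universe u

/-- Any ring hom out of `ULift ℤ` into a ring of finite presentation over `ℤ` is of finite
presentation. -/
theorem fp_of_ulift (S : Type u) [CommRing S] (hS : (Int.castRingHom S).FinitePresentation)
    (f : ULift.{u} ℤ →+* S) : f.FinitePresentation := by
  have : f = (Int.castRingHom S).comp (ULift.ringEquiv : ULift.{u} ℤ ≃+* ℤ).toRingHom := by
    rw [← RingHom.cancel_right (f := (ULift.ringEquiv.{0, u} (R := ℤ)).symm.toRingHom)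
        (hf := ULift.ringEquiv.symm.surjective)]
    apply RingHom.ext_int
  rw [this]
  exact hS.comp (RingHom.FinitePresentation.of_bijective (ULift.ringEquiv.bijective))

/-- A ring of finite presentation over `ℤ` is a finitely presentable object of `CommRingCat`. -/
theorem isFinitelyPresentable_of_int (S : CommRingCat.{u})
    (hS : (Int.castRingHom S).FinitePresentation) : IsFinitelyPresentable.{u} S := by
  rw [isFinitelyPresentable_iff_preservesFilteredColimits]
  refine ⟨fun J _ _ => ⟨fun {F} => ⟨fun {c} hc => ?_⟩⟩⟩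
  let Z : CommRingCat.{u} := CommRingCat.of (ULift.{u} ℤ)
  let α : (Functor.const J).obj Z ⟶ F :=
    { app := fun i => CommRingCat.isInitial.to _
      naturality := fun _ _ _ => CommRingCat.isInitial.hom_ext _ _ }
  let f : Z ⟶ S := CommRingCat.isInitial.to S
  have hf : f.hom.FinitePresentation := fp_of_ulift S hS _
  refine ⟨Types.FilteredColimit.isColimitOf _ _ ?_ ?_⟩
  · intro g
    obtain ⟨i, g', h₁, h₂⟩ := RingHom.EssFiniteType.exists_eq_comp_ι_app_of_isColimit
      Z F α f c hc hf g (fun i => CommRingCat.isInitial.hom_ext _ _)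
    exact ⟨i, g', h₂⟩
  · intro i j f₁ f₂ e
    obtain ⟨k, hik, hjk, e'⟩ := RingHom.EssFiniteType.exists_comp_map_eq_of_isColimit
      Z F α f c hc (RingHom.FiniteType.of_finitePresentation hf).essFiniteType
      f₁ (CommRingCat.isInitial.hom_ext _ _) f₂ (CommRingCat.isInitial.hom_ext _ _) e
    exact ⟨k, hik, hjk, e'⟩

end Groth.Agent.Lib.Helper6.IndEtSpread

namespace Groth.Agent.Lib.Helper6.IndEtSpread

universe w v u' u

open TensorProduct

/-- A morphism property pre-ind-spreads as soon as each of its morphisms is a pushout of a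
morphism with the property whose source is finitely presentable. -/
theorem preIndSpreads_of_model {C : Type u'} [Category.{v} C] [HasPushouts C]
    (P : MorphismProperty C) [P.IsStableUnderCobaseChange]
    (H : ∀ {X T : C} (f : X ⟶ T), P f → ∃ (A₀ B₀ : C) (a : A₀ ⟶ X) (b : A₀ ⟶ B₀) (t : B₀ ⟶ T),
      IsFinitelyPresentable.{w} A₀ ∧ P b ∧ IsPushout a b f t) :
    MorphismProperty.PreIndSpreads.{w} P where
  exists_isPushout {J} _ _ {D} {c} hc {T} f hf := by
    obtain ⟨A₀, B₀, a, b, t, hA₀, hb, h⟩ := H f hf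
    obtain ⟨j, φ, hφ⟩ := IsFinitelyPresentable.exists_hom_of_isColimit hc a
    subst hφ
    exact ⟨j, pushout φ b, pushout.inl φ b, _,
      IsPushout.of_left' h (IsPushout.of_hasPushout φ b), P.pushout_inl _ _ hb⟩

theorem int_fp_of_fg {X : Type u} [CommRing X] (A₀ : Subalgebra ℤ X) (h : A₀.FG) :
    (Int.castRingHom A₀).FinitePresentation := by
  have h1 : Algebra.FiniteType ℤ A₀ := (Subalgebra.fg_iff_finiteType A₀).mp h
  have h2 : Algebra.FinitePresentation ℤ A₀ := Algebra.FinitePresentation.of_finiteType.mp h1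
  have h3 := (RingHom.finitePresentation_algebraMap (A := ℤ) (B := A₀)).mpr h2
  rwa [algebraMap_int_eq] at h3

/-- An étale ring map is a pushout of an étale map with finitely presentable source. -/
theorem etale_model {X T : CommRingCat.{u}} (f : X ⟶ T) (hf : f.hom.Etale) :
    ∃ (A₀ B₀ : CommRingCat.{u}) (a : A₀ ⟶ X) (b : A₀ ⟶ B₀) (t : B₀ ⟶ T),
      IsFinitelyPresentable.{u} A₀ ∧ b.hom.Etale ∧ IsPushout a b f t := by
  algebraize [f.hom]
  obtain ⟨A₀, B₀, _, _, hfg, hEt, ⟨e⟩⟩ := Algebra.Etale.exists_subalgebra_fg ℤ X T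
  refine ⟨CommRingCat.of A₀, CommRingCat.of B₀, CommRingCat.ofHom (algebraMap A₀ X),
    CommRingCat.ofHom (algebraMap A₀ B₀),
    CommRingCat.ofHom ((e.symm : (X ⊗[A₀] B₀) →+* T).comp
      (Algebra.TensorProduct.includeRight : B₀ →ₐ[A₀] X ⊗[A₀] B₀).toRingHom),
    isFinitelyPresentable_of_int _ (int_fp_of_fg A₀ hfg),
    RingHom.etale_algebraMap.mpr hEt, ?_⟩
  refine (CommRingCat.isPushout_tensorProduct A₀ X B₀).of_iso (Iso.refl _) (Iso.refl _)
    (Iso.refl _) (e.symm.toRingEquiv.toCommRingCatIso) (by simp) (by simp) ?_ ?_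
  · ext x
    simp only [Iso.refl_hom, Category.id_comp]
    show e.symm (x ⊗ₜ[A₀] (1 : B₀)) = f.hom x
    have h1 : (x ⊗ₜ[A₀] (1 : B₀)) = algebraMap X (X ⊗[A₀] B₀) x :=
      (Algebra.TensorProduct.algebraMap_apply x).symm
    rw [h1, e.symm.commutes]
    rfl
  · ext x
    rfl

end Groth.Agent.Lib.Helper6.IndEtSpread
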