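import Mathlib

open CategoryTheory

namespace Groth.Agent.Lib.Helper6.IndEt

universe u v w

/-- Finite families lift to a common stage of a filtered system of sets. -/
theorem lift_fin {J : Type u} [SmallCategory J] [IsFiltered J] {X : J → Type v} {Y : Type w}
    (ψ : ∀ j, X j → Y) (σ : ∀ j k : J, (j ⟶ k) → X j → X k)
    (hσ : ∀ (j k : J) (f : j ⟶ k) (x : X j), ψ k (σ j k f x) = ψ j x)
    (hs : ∀ y : Y, ∃ (j : J) (x : X j), ψ j x = y) :
    ∀ (l : ℕ) (y : Fin l → Y), ∃ (j : J) (x : Fin l → X j), ∀ i, ψ j (x i) = y i := by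
  intro l
  induction l with
  | zero =>
    intro y
    obtain ⟨j⟩ := IsFiltered.nonempty (C := J)
    exact ⟨j, Fin.elim0, fun i => i.elim0⟩
  | succ l ih =>
    intro y
    obtain ⟨j₁, x₁, h₁⟩ := ih (Fin.tail y)
    obtain ⟨j₂, x₂, h₂⟩ := hs (y 0)
    refine ⟨IsFiltered.max j₁ j₂,
      Fin.cons (σ j₂ _ (IsFiltered.rightToMax j₁ j₂) x₂)
        (fun i => σ j₁ _ (IsFiltered.leftToMax j₁ j₂) (x₁ i)), ?_⟩
    intro i
    refine Fin.cases ?_ (fun i => ?_) i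
    · rw [Fin.cons_zero, hσ, h₂]
    · rw [Fin.cons_succ, hσ, h₁]; rfl

/-- One stage, algebra form. -/
theorem flat_aux0 {R' : Type v} {S' : Type w} [CommRing R'] [CommRing S'] [Algebra R' S']
    [Module.Flat R' S'] {l : ℕ} (F : Fin l → R') (X : Fin l → S')
    (hrel' : ∑ i, F i • X i = 0) : Module.IsTrivialRelation F X :=
  Module.Flat.isTrivialRelation_of_sum_smul_eq_zero hrel'

/-- One stage, ring hom form. -/
theorem flat_aux1 {R' : Type v} {S' : Type w} [CommRing R'] [CommRing S'] (μ' : R' →+* S')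
    (hflat : μ'.Flat) {l : ℕ} (F : Fin l → R') (X : Fin l → S')
    (hrel : ∑ i, μ' (F i) * X i = 0) :
    ∃ (n : ℕ) (a : Fin l → Fin n → R') (y : Fin n → S'),
      (∀ i, X i = ∑ m, μ' (a i m) * y m) ∧ ∀ m, ∑ i, F i * a i m = 0 := by
  letI := μ'.toAlgebra
  haveI : Module.Flat R' S' := hflat
  have hsmul' : ∀ (r : R') (s : S'), r • s = μ' r * s := fun r s => by
    rw [Algebra.smul_def]; rfl
  have hrel' : ∑ i, F i • X i = 0 := by
    rw [← hrel]
    exact Finset.sum_congr rfl fun i _ => hsmul' _ _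
  obtain ⟨n, a, y, hxy, hfa⟩ := flat_aux0 F X hrel'
  refine ⟨n, a, y, fun i => ?_, hfa⟩
  rw [hxy i]
  exact Finset.sum_congr rfl fun m _ => hsmul' _ _

/-- One stage: a relation that already holds in a flat stage is trivial. -/
theorem flat_aux {R : Type v} {S : Type w} [CommRing R] [CommRing S] (μ : R →+* S)
    {R' : Type v} {S' : Type w} [CommRing R'] [CommRing S'] (μ' : R' →+* S') (hflat : μ'.Flat)
    (ρ : R' →+* R) (ψ : S' →+* S) (hμ : ∀ r : R', ψ (μ' r) = μ (ρ r))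
    {l : ℕ} (f : Fin l → R) (x : Fin l → S) (F : Fin l → R') (X : Fin l → S')
    (hF : ∀ i, ρ (F i) = f i) (hX : ∀ i, ψ (X i) = x i) (hrel : ∑ i, μ' (F i) * X i = 0) :
    ∃ (n : ℕ) (a : Fin l → Fin n → R) (y : Fin n → S),
      (∀ i, x i = ∑ m, μ (a i m) * y m) ∧ ∀ m, ∑ i, f i * a i m = 0 := by
  obtain ⟨n, a, y, hxy, hfa⟩ := flat_aux1 μ' hflat F X hrel
  refine ⟨n, fun i m => ρ (a i m), fun m => ψ (y m), fun i => ?_, fun m => ?_⟩
  · rw [← hX i, hxy i, map_sum]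
    refine Finset.sum_congr rfl fun m _ => ?_
    rw [map_mul, hμ]
  · have := congrArg ρ (hfa m)
    rw [map_sum, map_zero] at this
    rw [← this]
    refine Finset.sum_congr rfl fun i _ => ?_
    rw [map_mul, hF]

/-- Flatness passes to filtered colimits of ring maps (elementwise formulation). -/
theorem flat_of_filtered {J : Type u} [SmallCategory J] [IsFiltered J]
    {R : Type v} {S : Type w} [CommRing R] [CommRing S] (μ : R →+* S)
    (Rj : J → Type v) (Sj : J → Type w) [∀ j, CommRing (Rj j)] [∀ j, CommRing (Sj j)]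
    (μj : ∀ j, Rj j →+* Sj j) (hflat : ∀ j, (μj j).Flat)
    (ρ : ∀ j, Rj j →+* R) (ψ : ∀ j, Sj j →+* S)
    (hμ : ∀ (j : J) (r : Rj j), ψ j (μj j r) = μ (ρ j r))
    (ρt : ∀ j k : J, (j ⟶ k) → Rj j →+* Rj k) (ψt : ∀ j k : J, (j ⟶ k) → Sj j →+* Sj k)
    (hμt : ∀ (j k : J) (f : j ⟶ k) (r : Rj j), ψt j k f (μj j r) = μj k (ρt j k f r))
    (hρ : ∀ (j k : J) (f : j ⟶ k) (r : Rj j), ρ k (ρt j k f r) = ρ j r)
    (hψ : ∀ (j k : J) (f : j ⟶ k) (s : Sj j), ψ k (ψt j k f s) = ψ j s)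
    (hRs : ∀ r : R, ∃ (j : J) (x : Rj j), ρ j x = r)
    (hSs : ∀ s : S, ∃ (j : J) (x : Sj j), ψ j x = s)
    (hSi : ∀ (j : J) (x y : Sj j), ψ j x = ψ j y →
      ∃ (k : J) (f : j ⟶ k), ψt j k f x = ψt j k f y) : μ.Flat := by
  letI := μ.toAlgebra
  show Module.Flat R S
  apply Module.Flat.of_forall_isTrivialRelation
  intro l f x hfx
  have hsmul : ∀ (r : R) (s : S), r • s = μ r * s := fun r s => by
    rw [Algebra.smul_def]; rfl
  -- lift to a common stage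
  obtain ⟨j₁, f₁, hf₁⟩ := lift_fin (fun j => ρ j) (fun j k g => ρt j k g) hρ hRs l f
  obtain ⟨j₂, x₂, hx₂⟩ := lift_fin (fun j => ψ j) (fun j k g => ψt j k g) hψ hSs l x
  let j := IsFiltered.max j₁ j₂
  let f' : Fin l → Rj j := fun i => ρt j₁ j (IsFiltered.leftToMax j₁ j₂) (f₁ i)
  let x' : Fin l → Sj j := fun i => ψt j₂ j (IsFiltered.rightToMax j₁ j₂) (x₂ i)
  have hf' : ∀ i, ρ j (f' i) = f i := fun i => by rw [hρ, hf₁]
  have hx' : ∀ i, ψ j (x' i) = x i := fun i => by rw [hψ, hx₂]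
  have h0 : ψ j (∑ i, μj j (f' i) * x' i) = ψ j 0 := by
    rw [map_sum, map_zero, ← hfx]
    refine Finset.sum_congr rfl fun i _ => ?_
    rw [map_mul, hμ, hf', hx', hsmul]
  obtain ⟨k, g, hk⟩ := hSi j _ _ h0
  rw [map_sum, map_zero] at hk
  -- the relation in stage k
  obtain ⟨F, hF⟩ : ∃ F : Fin l → Rj k, ∀ i, F i = ρt j k g (f' i) := ⟨_, fun _ => rfl⟩
  obtain ⟨X, hX⟩ : ∃ X : Fin l → Sj k, ∀ i, X i = ψt j k g (x' i) := ⟨_, fun _ => rfl⟩
  have hFρ : ∀ i, ρ k (F i) = f i := fun i => by rw [hF, hρ, hf']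
  have hXψ : ∀ i, ψ k (X i) = x i := fun i => by rw [hX, hψ, hx']
  have hrel0 : ∑ i, μj k (F i) * X i = 0 := by
    rw [← hk]
    refine Finset.sum_congr rfl fun i _ => ?_
    rw [hF, hX, map_mul, hμt]
  obtain ⟨n, a, y, hxy, hfa⟩ :=
    flat_aux μ (μj k) (hflat k) (ρ k) (ψ k) (hμ k) f x F X hFρ hXψ hrel0
  refine ⟨n, a, y, fun i => ?_, hfa⟩
  rw [hxy i]
  exact Finset.sum_congr rfl fun m _ => (hsmul _ _).symm

end Groth.Agent.Lib.Helper6.IndEt
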