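import Mathlib
import Groth.Prelude.Def_PBC

open CategoryTheory CategoryTheory.Limits

namespace Groth.Agent.Lib.Helper6.IndEt

universe u

/-- Elementwise data extracted from a filtered colimit in `Under A`. -/
theorem elim_elementwise (A : CommRingCat.{u}) {J : Type u} [SmallCategory J] [IsFiltered J]
    (F : J ⥤ Under A) (c : Cocone F) (hc : IsColimit c) :
    (∀ x : c.pt.right, ∃ (j : J) (y : (F.obj j).right), (c.ι.app j).right y = x) ∧
    (∀ (j : J) (y y' : (F.obj j).right), (c.ι.app j).right y = (c.ι.app j).right y' →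
      ∃ (k : J) (f : j ⟶ k), (F.map f).right y = (F.map f).right y') := by
  let G : Under A ⥤ Type u := Under.forget A ⋙ forget CommRingCat
  have : PreservesColimit F G := inferInstance
  have hG : IsColimit (G.mapCocone c) := isColimitOfPreserves G hc
  constructor
  · intro x
    obtain ⟨j, y, hy⟩ := Types.jointly_surjective_of_isColimit hG x
    exact ⟨j, y, hy⟩
  · intro j y y' h
    exact (Types.FilteredColimit.isColimit_eq_iff' hG y y').mp h

/-- An ind-étale algebra as an elementwise filtered system of étale algebras. -/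
theorem exists_system {A B : Type u} [CommRing A] [CommRing B] [Algebra A B]
    (h : EtPBC.IsIndEtale A B) :
    ∃ (J : Type u) (_ : SmallCategory J) (_ : IsFiltered J) (E : J → Type u)
      (_ : ∀ j, CommRing (E j)) (_ : ∀ j, Algebra A (E j)) (_ : ∀ j, Algebra.Etale A (E j))
      (φ : ∀ j, E j →ₐ[A] B) (τ : ∀ j k : J, (j ⟶ k) → (E j →ₐ[A] E k)),
      (∀ (j k : J) (f : j ⟶ k) (x : E j), φ k (τ j k f x) = φ j x) ∧
      (∀ b : B, ∃ (j : J) (x : E j), φ j x = b) ∧
      (∀ (j : J) (x y : E j), φ j x = φ j y → ∃ (k : J) (f : j ⟶ k), τ j k f x = τ j k f y) := by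
  obtain ⟨J, _, _, D, c, hc, hEt, ⟨iso⟩⟩ := h
  obtain ⟨hsurj, hinj⟩ := elim_elementwise (CommRingCat.of A) D c hc
  letI alg : ∀ j, Algebra A ((D.obj j).right : Type u) := fun j => (D.obj j).hom.hom.toAlgebra
  have hcomm : ∀ (j : J) (a : A), iso.hom.right.hom ((c.ι.app j).right.hom
      (algebraMap A ((D.obj j).right : Type u) a)) = algebraMap A B a := by
    intro j a
    have h1 : (c.ι.app j).right.hom ((D.obj j).hom.hom a) = c.pt.hom.hom a := by
      have := Under.w (c.ι.app j)
      exact congrArg (fun f => f.hom a) this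
    have h2 : iso.hom.right.hom (c.pt.hom.hom a) = algebraMap A B a := by
      have := Under.w iso.hom
      exact congrArg (fun f => f.hom a) this
    show iso.hom.right.hom ((c.ι.app j).right.hom ((D.obj j).hom.hom a)) = _
    rw [h1, h2]
  let φ : ∀ j, ((D.obj j).right : Type u) →ₐ[A] B := fun j =>
    { toRingHom := iso.hom.right.hom.comp (c.ι.app j).right.hom
      commutes' := fun a => hcomm j a }
  let τ : ∀ j k : J, (j ⟶ k) → (((D.obj j).right : Type u) →ₐ[A] ((D.obj k).right : Type u)) :=
    fun j k f =>
    { toRingHom := (D.map f).right.hom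
      commutes' := fun a => by
        have := Under.w (D.map f)
        exact congrArg (fun g => g.hom a) this }
  have hiso_inj : Function.Injective iso.hom.right.hom := by
    intro x y hxy
    have h1 : iso.inv.right.hom (iso.hom.right.hom x) = x := by
      have : iso.hom.right ≫ iso.inv.right = 𝟙 _ := by
        rw [← Under.comp_right, iso.hom_inv_id]; rfl
      exact congrArg (fun g => g.hom x) this
    have h2 : iso.inv.right.hom (iso.hom.right.hom y) = y := by
      have : iso.hom.right ≫ iso.inv.right = 𝟙 _ := by
        rw [← Under.comp_right, iso.hom_inv_id]; rfl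
      exact congrArg (fun g => g.hom y) this
    rw [← h1, ← h2, hxy]
  have hiso_surj : Function.Surjective iso.hom.right.hom := by
    intro b
    refine ⟨iso.inv.right.hom b, ?_⟩
    have : iso.inv.right ≫ iso.hom.right = 𝟙 _ := by
      rw [← Under.comp_right, iso.inv_hom_id]; rfl
    exact congrArg (fun g => g.hom b) this
  refine ⟨J, inferInstance, inferInstance, fun j => ((D.obj j).right : Type u),
    fun j => inferInstance, alg, hEt, φ, τ, ?_, ?_, ?_⟩
  · intro j k f x
    show iso.hom.right.hom ((c.ι.app k).right.hom ((D.map f).right.hom x)) =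
      iso.hom.right.hom ((c.ι.app j).right.hom x)
    have := c.w f
    have h1 : (c.ι.app k).right.hom ((D.map f).right.hom x) = (c.ι.app j).right.hom x := by
      have h2 : (D.map f).right ≫ (c.ι.app k).right = (c.ι.app j).right := by
        rw [← Under.comp_right, this]
      exact congrArg (fun g => g.hom x) h2
    rw [h1]
  · intro b
    obtain ⟨x, rfl⟩ := hiso_surj b
    obtain ⟨j, y, hy⟩ := hsurj x
    exact ⟨j, y, congrArg iso.hom.right.hom hy⟩
  · intro j x y hxy
    exact hinj j x y (hiso_inj hxy)

end Groth.Agent.Lib.Helper6.IndEt
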