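import Mathlib
import Groth.Prelude.Def_PBC
import Groth.Agent.Lib.Helper6.IndEtElim
import Groth.Agent.Lib.Helper6.FlatFiltered

open CategoryTheory CategoryTheory.Limits TensorProduct

namespace Groth.Agent.Lib.Helper6.IndEt

universe u

theorem weaklyEtale_of_isIndEtale (A B : Type u) [CommRing A] [CommRing B] [Algebra A B]
    (h : EtPBC.IsIndEtale A B) : Algebra.WeaklyEtale A B := by
  obtain ⟨J, _, _, E, _, _, hEt, φ, τ, hcompat, hsurj, hinj⟩ := exists_system h
  have hφτ : ∀ (j k : J) (f : j ⟶ k), (φ k).comp (τ j k f) = φ j := fun j k f =>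
    AlgHom.ext fun x => hcompat j k f x
  obtain ⟨j₀⟩ := IsFiltered.nonempty (C := J)
  have hflatAB : Module.Flat A B := by
    rw [← RingHom.flat_algebraMap_iff]
    refine flat_of_filtered (J := J) (algebraMap A B) (fun _ => A) E
      (fun j => algebraMap A (E j)) (fun j => ?_) (fun _ => RingHom.id A)
      (fun j => (φ j).toRingHom) (fun j r => (φ j).commutes r) (fun _ _ _ => RingHom.id A)
      (fun j k f => (τ j k f).toRingHom) (fun j k f r => (τ j k f).commutes r)
      (fun _ _ _ _ => rfl) (fun j k f s => hcompat j k f s) (fun r => ⟨j₀, r, rfl⟩) hsurj hinj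
    rw [RingHom.flat_algebraMap_iff]
    exact Algebra.Smooth.flat A (E j)
  refine ⟨hflatAB, ?_⟩
  -- the tensor system
  have hρ : ∀ (j k : J) (f : j ⟶ k) (t : E j ⊗[A] E j),
      Algebra.TensorProduct.map (φ k) (φ k) (Algebra.TensorProduct.map (τ j k f) (τ j k f) t) =
        Algebra.TensorProduct.map (φ j) (φ j) t := by
    intro j k f t
    rw [← AlgHom.comp_apply, ← Algebra.TensorProduct.map_comp, hφτ]
  have hRs : ∀ t : B ⊗[A] B, ∃ (j : J) (x : E j ⊗[A] E j),
      Algebra.TensorProduct.map (φ j) (φ j) x = t := by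
    intro t
    induction t with
    | zero => exact ⟨j₀, 0, map_zero _⟩
    | tmul b b' =>
      obtain ⟨j₁, x₁, h₁⟩ := hsurj b
      obtain ⟨j₂, x₂, h₂⟩ := hsurj b'
      refine ⟨IsFiltered.max j₁ j₂, τ j₁ _ (IsFiltered.leftToMax j₁ j₂) x₁ ⊗ₜ
        τ j₂ _ (IsFiltered.rightToMax j₁ j₂) x₂, ?_⟩
      rw [Algebra.TensorProduct.map_tmul, hcompat, hcompat, h₁, h₂]
    | add t₁ t₂ ih₁ ih₂ =>
      obtain ⟨j₁, x₁, h₁⟩ := ih₁
      obtain ⟨j₂, x₂, h₂⟩ := ih₂
      refine ⟨IsFiltered.max j₁ j₂,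
        Algebra.TensorProduct.map (τ j₁ _ (IsFiltered.leftToMax j₁ j₂))
          (τ j₁ _ (IsFiltered.leftToMax j₁ j₂)) x₁ +
        Algebra.TensorProduct.map (τ j₂ _ (IsFiltered.rightToMax j₁ j₂))
          (τ j₂ _ (IsFiltered.rightToMax j₁ j₂)) x₂, ?_⟩
      rw [map_add, hρ, hρ, h₁, h₂]
  refine flat_of_filtered (J := J) (Algebra.TensorProduct.lmul' A (S := B)).toRingHom
    (fun j => E j ⊗[A] E j) E (fun j => (Algebra.TensorProduct.lmul' A (S := E j)).toRingHom)
    (fun j => Algebra.WeaklyEtale.flat_lmul' A (E j))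
    (fun j => (Algebra.TensorProduct.map (φ j) (φ j)).toRingHom)
    (fun j => (φ j).toRingHom) (fun j r => ?_)
    (fun j k f => (Algebra.TensorProduct.map (τ j k f) (τ j k f)).toRingHom)
    (fun j k f => (τ j k f).toRingHom) (fun j k f r => ?_)
    (fun j k f r => hρ j k f r) (fun j k f s => hcompat j k f s) hRs hsurj hinj
  · show φ j (Algebra.TensorProduct.lmul' A r) =
      Algebra.TensorProduct.lmul' A (Algebra.TensorProduct.map (φ j) (φ j) r)
    induction r with
    | zero => simp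
    | tmul a b => simp
    | add a b ha hb => simp only [map_add, ha, hb]
  · show τ j k f (Algebra.TensorProduct.lmul' A r) =
      Algebra.TensorProduct.lmul' A (Algebra.TensorProduct.map (τ j k f) (τ j k f) r)
    induction r with
    | zero => simp
    | tmul a b => simp
    | add a b ha hb => simp only [map_add, ha, hb]

end Groth.Agent.Lib.Helper6.IndEt
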