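import Mathlib
import Groth.Prelude.Def_PBC

open CategoryTheory CategoryTheory.Limits

namespace Groth.Agent.Lib.Helper6.IndEtObj

universe u

/-- The étale objects of `Under A`. -/
def etaleProp (A : Type u) [CommRing A] : ObjectProperty (Under (CommRingCat.of A)) :=
  fun X => letI := X.hom.hom.toAlgebra; Algebra.Etale A X.right

theorem etaleProp_le_fp (A : Type u) [CommRing A] :
    etaleProp A ≤ ObjectProperty.isFinitelyPresentable.{u} (Under (CommRingCat.of A)) := by
  intro X hX
  apply CommRingCat.isFinitelyPresentable_under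
  letI := X.hom.hom.toAlgebra
  haveI : Algebra.Etale A X.right := hX
  show Algebra.FinitePresentation A X.right
  infer_instance

theorem isIndEtale_iff_ind (A B : Type u) [CommRing A] [CommRing B] [Algebra A B] :
    EtPBC.IsIndEtale A B ↔
      ObjectProperty.ind.{u} (etaleProp A) (Under.mk (CommRingCat.ofHom (algebraMap A B))) := by
  constructor
  · rintro ⟨J, _, _, D, c, hc, hEt, ⟨iso⟩⟩
    exact ⟨J, inferInstance, inferInstance,
      (ColimitPresentation.mk D c.ι hc).ofIso iso, fun j => hEt j⟩
  · rintro ⟨J, _, _, pres, h⟩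
    exact ⟨J, inferInstance, inferInstance, pres.diag, Cocone.mk _ pres.ι, pres.isColimit,
      fun j => h j, ⟨Iso.refl _⟩⟩

theorem isIndEtale_iff_ind' (A : Type u) [CommRing A] (X : Under (CommRingCat.of A)) :
    (letI := X.hom.hom.toAlgebra; EtPBC.IsIndEtale A X.right) ↔
      ObjectProperty.ind.{u} (etaleProp A) X := by
  letI := X.hom.hom.toAlgebra
  rw [isIndEtale_iff_ind]
  exact ObjectProperty.prop_iff_of_iso _ (Under.isoMk (Iso.refl _) (by ext; rfl))

theorem ind_ind (A : Type u) [CommRing A] :
    ObjectProperty.ind.{u} (ObjectProperty.ind.{u} (etaleProp A)) =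
      ObjectProperty.ind.{u} (etaleProp A) :=
  ObjectProperty.ind_ind (etaleProp_le_fp A)

theorem filtered_colimit (A B : Type u) [CommRing A] [CommRing B] [Algebra A B]
    {J : Type u} [SmallCategory J] [IsFiltered J] (D : J ⥤ Under (CommRingCat.of A))
    (hD : ∀ j, letI := (D.obj j).hom.hom.toAlgebra; EtPBC.IsIndEtale A ↥(D.obj j).right)
    (c : Cocone D) (hc : IsColimit c)
    (e : c.pt ≅ Under.mk (CommRingCat.ofHom (algebraMap A B))) :
    EtPBC.IsIndEtale A B := by
  rw [isIndEtale_iff_ind, ← ind_ind]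
  exact ⟨J, inferInstance, inferInstance, (ColimitPresentation.mk D c.ι hc).ofIso e,
    fun j => (isIndEtale_iff_ind' A (D.obj j)).mp (hD j)⟩

end Groth.Agent.Lib.Helper6.IndEtObj
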