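import Mathlib
import Groth.Prelude.Def_PBC
import Groth.Agent.Lib.Helper6.IndEtObj
import Groth.Agent.Lib.Helper6.IndEtAcc
import Groth.Agent.Lib.Helper6.IndEtSpread

open CategoryTheory CategoryTheory.Limits

namespace Groth.Agent.Lib.Helper6.IndEtComp

universe u

open Groth.Agent.Lib.Helper6.IndEtObj Groth.Agent.Lib.Helper6.IndEtSpread

/-- Étale morphisms in `CommRingCat`. -/
abbrev etaleMP : MorphismProperty CommRingCat.{u} := RingHom.toMorphismProperty RingHom.Etale

instance : (etaleMP.{u}).IsStableUnderCobaseChange :=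
  RingHom.isStableUnderCobaseChange_toMorphismProperty_iff.mpr RingHom.Etale.isStableUnderBaseChange

instance : (etaleMP.{u}).IsStableUnderComposition :=
  ⟨fun f g hf hg => RingHom.Etale.stableUnderComposition _ _ hf hg⟩

instance : MorphismProperty.PreIndSpreads.{u} etaleMP.{u} :=
  preIndSpreads_of_model _ (fun f hf => etale_model f hf)

theorem etaleMP_le_fp : etaleMP.{u} ≤ MorphismProperty.isFinitelyPresentable.{u} _ := by
  intro X Y f hf
  apply CommRingCat.isFinitelyPresentable_hom
  have hf' : f.hom.Etale := hf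
  algebraize [f.hom]
  show Algebra.FinitePresentation X Y
  infer_instance

instance : (MorphismProperty.ind.{u} etaleMP.{u}).IsStableUnderComposition :=
  MorphismProperty.IsStableUnderComposition.ind_of_preIndSpreads etaleMP_le_fp

theorem isIndEtale_iff_indMP (A B : Type u) [CommRing A] [CommRing B] [Algebra A B] :
    EtPBC.IsIndEtale A B ↔
      MorphismProperty.ind.{u} etaleMP.{u} (CommRingCat.ofHom (algebraMap A B)) := by
  rw [isIndEtale_iff_ind, MorphismProperty.ind_iff_ind_underMk]
  rfl

theorem comp (A B C : Type u) [CommRing A] [CommRing B] [CommRing C] [Algebra A B]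
    [Algebra B C] [Algebra A C] [IsScalarTower A B C] (hAB : EtPBC.IsIndEtale A B)
    (hBC : EtPBC.IsIndEtale B C) : EtPBC.IsIndEtale A C := by
  rw [isIndEtale_iff_indMP] at hAB hBC ⊢
  have := (MorphismProperty.ind.{u} etaleMP.{u}).comp_mem _ _ hAB hBC
  have h2 : CommRingCat.ofHom (algebraMap A B) ≫ CommRingCat.ofHom (algebraMap B C) =
      CommRingCat.ofHom (algebraMap A C) := by
    ext x
    exact (IsScalarTower.algebraMap_apply A B C x).symm
  rwa [h2] at this

end Groth.Agent.Lib.Helper6.IndEtComp
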