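import Mathlib.AlgebraicGeometry.Morphisms.UniversallyOpen
import Mathlib.AlgebraicGeometry.Morphisms.UniversallyClosed
import Mathlib.AlgebraicGeometry.Morphisms.QuasiSeparated
import Mathlib.AlgebraicGeometry.Morphisms.ClosedImmersion

set_option autoImplicit false

namespace Groth.Agent.Helper6.Thick
open AlgebraicGeometry CategoryTheory Limits MorphismProperty

universe u

/-- general principle for squares of thickenings -/
theorem square_iff (P : MorphismProperty Scheme.{u}) [P.IsStableUnderBaseChange]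
    [P.IsStableUnderComposition]
    (hthick : ∀ {A B : Scheme.{u}} (i : A ⟶ B), IsClosedImmersion i → Surjective i → P i)
    (hsurj : ∀ {A B C : Scheme.{u}} (i : A ⟶ B) (g : B ⟶ C), IsClosedImmersion i → Surjective i →
      P (i ≫ g) → P g)
    {X X' S S' : Scheme.{u}} (iX : X ⟶ X') (iS : S ⟶ S') (f : X ⟶ S) (f' : X' ⟶ S')
    (hX1 : IsClosedImmersion iX) (hX2 : Surjective iX) (hS1 : IsClosedImmersion iS)
    (hS2 : Surjective iS) (w : iX ≫ f' = f ≫ iS) : P f ↔ P f' := by
  constructor
  · intro hf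
    have h1 : P (f ≫ iS) := P.comp_mem _ _ hf (hthick iS hS1 hS2)
    rw [← w] at h1
    exact hsurj iX f' hX1 hX2 h1
  · intro hf'
    have h1 : P (iX ≫ f') := P.comp_mem _ _ (hthick iX hX1 hX2) hf'
    rw [w] at h1
    have hm : Mono iS := inferInstance
    exact MorphismProperty.of_postcomp (W := P) (W' := MorphismProperty.monomorphisms Scheme.{u})
      f iS hm h1

theorem universallyOpen_of_thick {A B : Scheme.{u}} (i : A ⟶ B) (h1 : IsClosedImmersion i)
    (h2 : Surjective i) : UniversallyOpen i := by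
  rw [UniversallyOpen.eq]
  intro X' Y' i₁ i₂ f' hf
  have hf' : IsClosedImmersion f' := MorphismProperty.of_isPullback hf.flip h1
  have hf'' : Surjective f' := MorphismProperty.of_isPullback hf.flip h2
  exact (f'.isClosedEmbedding.isEmbedding.toHomeomorphOfSurjective f'.surjective).isOpenMap

theorem universallyOpen_of_comp_surjective {X Y Z : Scheme.{u}} (f : X ⟶ Y) (g : Y ⟶ Z)
    (h : UniversallyOpen (f ≫ g)) (hf : Surjective f) : UniversallyOpen g := by
  constructor
  intro X' Y' i₁ i₂ f' H
  have := UniversallyOpen.universally_isOpenMap _ _ _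
    ((IsPullback.of_hasPullback i₁ f).paste_horiz H)
  have hs : Function.Surjective (pullback.fst i₁ f) :=
    (MorphismProperty.pullback_fst (P := @Surjective) _ _ ‹_›).1
  intro K hK
  have hK' : IsOpen ((pullback.fst i₁ f) ⁻¹' K) := hK.preimage (Scheme.Hom.continuous _)
  have h3 := this _ hK'
  have h4 : (pullback.fst i₁ f ≫ f') '' ((pullback.fst i₁ f) ⁻¹' K) = f' '' K := by
    ext z
    constructor
    · rintro ⟨a, ha, rfl⟩
      exact ⟨pullback.fst i₁ f a, ha, by simp⟩
    · rintro ⟨b, hb, rfl⟩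
      obtain ⟨a, rfl⟩ := hs b
      exact ⟨a, hb, by simp⟩
  rw [← h4]
  exact h3

theorem quasiCompact_of_comp_surjective {X Y Z : Scheme.{u}} (f : X ⟶ Y) (g : Y ⟶ Z)
    (h : QuasiCompact (f ≫ g)) (hf : Surjective f) : QuasiCompact g := by
  constructor
  intro U hU hUc
  have h1 : IsCompact ((f ≫ g) ⁻¹' U) := h.isCompact_preimage U hU hUc
  have h2 : g ⁻¹' U = f '' ((f ≫ g) ⁻¹' U) := by
    ext y
    constructor
    · intro hy
      obtain ⟨x, rfl⟩ := f.surjective y
      exact ⟨x, by simpa using hy, rfl⟩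
    · rintro ⟨x, hx, rfl⟩
      simpa using hx
  rw [h2]
  exact h1.image f.continuous

set_option backward.isDefEq.respectTransparency.types false in
theorem quasiSeparated_of_comp_thick {A B C : Scheme.{u}} (i : A ⟶ B) (g : B ⟶ C)
    (h1 : IsClosedImmersion i) (h2 : Surjective i) (h : QuasiSeparated (i ≫ g)) :
    QuasiSeparated g := by
  rw [HasAffineProperty.eq_targetAffineLocally (P := @QuasiSeparated)
    (Q := fun X _ _ _ ↦ QuasiSeparatedSpace X)] at h ⊢
  intro U
  have hU := h U
  let e : A ≃ₜ B := i.isClosedEmbedding.isEmbedding.toHomeomorphOfSurjective i.surjective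
  have he : ∀ a, e a = i a := fun a => rfl
  let e' : ↥((i ≫ g) ⁻¹ᵁ U.1) ≃ₜ ↥(g ⁻¹ᵁ U.1) := e.subtype (fun a => by
    rw [he]
    simp)
  exact (quasiSeparatedSpace_congr e').mp hU

end Groth.Agent.Helper6.Thick
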