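import Groth.Agent.Lib.Helper6.W2Arith

/-!
# Ghost component and Teichmüller lifts on `W₂`
-/

set_option autoImplicit false
set_option linter.unusedSectionVars false
universe u
open FrobAlg

namespace Groth.Agent.Lib.Helper6.W2Arith

section Ghost

variable (p : ℕ) [hp : Fact p.Prime] {B : Type u} [CommRing B]

theorem ghost1_eq (X : WittVector p B) :
    WittVector.ghostComponent 1 X = X.coeff 0 ^ p + p * X.coeff 1 := by
  rw [WittVector.ghostComponent_apply, aeval_wittPolynomial]
  simp [Finset.sum_range_succ]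

/-- The first ghost component on `W₂(B)`. -/
noncomputable def gh1 : W2 p B →+* B :=
  RingHom.liftOfSurjective (WittVector.truncate 2) (WittVector.truncate_surjective p 2 B)
    ⟨WittVector.ghostComponent 1, fun x hx => by
      rw [RingHom.mem_ker] at hx ⊢
      have h0 := (WittVector.mem_ker_truncate 2 x).1 (RingHom.mem_ker.2 hx) 0 (by omega)
      have h1 := (WittVector.mem_ker_truncate 2 x).1 (RingHom.mem_ker.2 hx) 1 (by omega)
      rw [ghost1_eq, h0, h1, zero_pow hp.out.ne_zero, mul_zero, add_zero]⟩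

theorem gh1_truncate (X : WittVector p B) :
    gh1 p (WittVector.truncate 2 X) = WittVector.ghostComponent 1 X :=
  RingHom.liftOfRightInverse_comp_apply _ _ _ _ X

theorem gh1_apply (x : W2 p B) : gh1 p x = x.coeff 0 ^ p + p * x.coeff 1 := by
  obtain ⟨X, rfl⟩ := WittVector.truncate_surjective p 2 B x
  rw [gh1_truncate, ghost1_eq, WittVector.coeff_truncate, WittVector.coeff_truncate]
  rfl

/-- The Teichmüller lift in `W₂(B)`. -/
noncomputable def tau (b : B) : W2 p B := WittVector.truncate 2 (WittVector.teichmuller p b)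

@[simp] theorem tau_coeff_zero (b : B) : (tau p b).coeff 0 = b := by
  unfold tau
  rw [WittVector.coeff_truncate]
  exact WittVector.teichmuller_coeff_zero p b

@[simp] theorem tau_coeff_one (b : B) : (tau p b).coeff 1 = 0 := by
  unfold tau
  rw [WittVector.coeff_truncate]
  exact WittVector.teichmuller_coeff_pos p b 1 (by norm_num)

theorem tau_mul (a b : B) : tau p (a * b) = tau p a * tau p b := by
  unfold tau
  rw [map_mul, map_mul]

theorem tau_one : tau p (1 : B) = 1 := by
  unfold tau
  rw [map_one, map_one]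

theorem tau_pow (b : B) (n : ℕ) : tau p (b ^ n) = tau p b ^ n := by
  induction n with
  | zero => rw [pow_zero, pow_zero, tau_one]
  | succ n ih => rw [pow_succ, pow_succ, tau_mul, ih]

theorem gh1_tau (b : B) : gh1 p (tau p b) = b ^ p := by
  rw [gh1_apply, tau_coeff_zero, tau_coeff_one, mul_zero, add_zero]

theorem truncMap_tau {A : Type u} [CommRing A] (f : B →+* A) (b : B) :
    WittGrp.truncMap p 2 f (tau p b) = tau p (f b) := by
  apply W2_ext
  · rw [WittGrp.coeff_truncMap, tau_coeff_zero, tau_coeff_zero]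
  · rw [WittGrp.coeff_truncMap, tau_coeff_one, tau_coeff_one, map_zero]

theorem frob_tau (hpB : (p : B) = 0) (b : B) :
    WittGrp.frob p 2 hpB (tau p b) = tau p (b ^ p) := by
  apply W2_ext
  · rw [WittGrp.coeff_frob, tau_coeff_zero, tau_coeff_zero]
  · rw [WittGrp.coeff_frob, tau_coeff_one, tau_coeff_one, zero_pow hp.out.ne_zero]

theorem coeff_zero_mul (x y : W2 p B) : (x * y).coeff 0 = x.coeff 0 * y.coeff 0 := by
  rw [← res_apply, ← res_apply, ← res_apply, map_mul]

theorem coeff_zero_add (x y : W2 p B) : (x + y).coeff 0 = x.coeff 0 + y.coeff 0 := by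
  rw [← res_apply, ← res_apply, ← res_apply, map_add]

theorem coeff_zero_sub (x y : W2 p B) : (x - y).coeff 0 = x.coeff 0 - y.coeff 0 := by
  rw [← res_apply, ← res_apply, ← res_apply, map_sub]

theorem coeff_zero_one : (1 : W2 p B).coeff 0 = 1 := by
  rw [← res_apply, map_one]

/-- An element with prescribed coefficients. -/
noncomputable def mk2 (b₀ b₁ : B) : W2 p B := TruncatedWittVector.mk p ![b₀, b₁]

@[simp] theorem mk2_coeff_zero (b₀ b₁ : B) : (mk2 p b₀ b₁).coeff 0 = b₀ := by
  simp [mk2, TruncatedWittVector.coeff_mk]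

@[simp] theorem mk2_coeff_one (b₀ b₁ : B) : (mk2 p b₀ b₁).coeff 1 = b₁ := by
  simp [mk2, TruncatedWittVector.coeff_mk]

end Ghost

section Perfect

variable (p : ℕ) [hp : Fact p.Prime] (k : Type u) [Field k] [CharP k p] [PerfectRing k p]

theorem exists_decomp (c : W2 p k) : ∃ y : k, c = tau p (c.coeff 0) + (p : W2 p k) * tau p y := by
  have h0 : (c - tau p (c.coeff 0)).coeff 0 = 0 := by
    rw [coeff_zero_sub, tau_coeff_zero, sub_self]
  have h1 := eq_V2_of_coeff_zero p h0
  refine ⟨(frobeniusEquiv k p).symm ((c - tau p (c.coeff 0)).coeff 1), ?_⟩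
  rw [p_mul, tau_coeff_zero, frobeniusEquiv_symm_pow_p, ← h1]
  ring

theorem ringHom_ext_tau {R : Type*} [Semiring R] (f g : W2 p k →+* R)
    (h : ∀ x : k, f (tau p x) = g (tau p x)) : f = g := by
  ext c
  obtain ⟨y, hy⟩ := exists_decomp p k c
  rw [hy, map_add, map_add, map_mul, map_mul, map_natCast, map_natCast, h, h]

theorem p_mul_p : (p : W2 p k) * (p : W2 p k) = 0 := by
  rw [p_mul]
  have : (p : W2 p k).coeff 0 = 0 := by
    rw [← res_apply, map_natCast, CharP.cast_eq_zero]
  rw [this, zero_pow hp.out.ne_zero, V2_zero]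

theorem ker_res_eq : RingHom.ker (res p k) = Ideal.span {(p : W2 p k)} := by
  ext c
  rw [RingHom.mem_ker, res_apply, Ideal.mem_span_singleton']
  constructor
  · intro h
    obtain ⟨y, hy⟩ := exists_decomp p k c
    rw [h] at hy
    refine ⟨tau p y, ?_⟩
    rw [hy]
    have : tau p (0 : k) = 0 := by
      apply W2_ext <;> simp [TruncatedWittVector.coeff_zero]
    rw [this, zero_add, mul_comm]
  · rintro ⟨a, rfl⟩
    rw [coeff_zero_mul]
    have : (p : W2 p k).coeff 0 = 0 := by
      rw [← res_apply, map_natCast, CharP.cast_eq_zero]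
    rw [this, mul_zero]

end Perfect

end Groth.Agent.Lib.Helper6.W2Arith
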