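import Groth.Agent.Lib.Helper6.CycTwist

/-!
A cyclic algebra `(K, σ, b)` is split iff `b` is a norm.
-/

set_option autoImplicit false
set_option linter.unusedSectionVars false
universe u v w

namespace Groth.Agent.Helper6.CycSplit

open Groth.Agent.Helper6.CycMat Groth.Agent.Helper6.CycPres Groth.Agent.Helper6.CycTwist

variable {k : Type u} [Field k] {K : Type v} [Field K] [Algebra k K]
variable [FiniteDimensional k K] [IsGalois k K]
variable (σ : K ≃ₐ[k] K) (b : kˣ) {m : ℕ}

/-- product of the conjugates under powers of a generator is the norm -/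
theorem prod_pow_eq_norm (hσ : ∀ τ : K ≃ₐ[k] K, τ ∈ Subgroup.zpowers σ) (c : K) :
    ∏ i ∈ Finset.range (orderOf σ), (σ⁻¹ ^ i) c = algebraMap k K (Algebra.norm k c) := by
  classical
  rw [Algebra.norm_eq_prod_automorphisms]
  have hσ' : ∀ τ : K ≃ₐ[k] K, τ ∈ Subgroup.zpowers σ⁻¹ := by
    intro τ
    rw [Subgroup.zpowers_inv]
    exact hσ τ
  rw [← IsCyclic.image_range_orderOf hσ', orderOf_inv, Finset.prod_image]
  intro i hi j hj hij
  have hi' : i ∈ Set.Iio (orderOf σ⁻¹) := by rw [orderOf_inv]; simpa using hi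
  have hj' : j ∈ Set.Iio (orderOf σ⁻¹) := by rw [orderOf_inv]; simpa using hj
  exact pow_injOn_Iio_orderOf hi' hj' hij

section SplitImpNorm

variable {A : Type w} [Ring A] [Algebra k A] {ι : K →ₐ[k] A} {y : A}

theorem norm_of_split (hσ : ∀ τ : K ≃ₐ[k] K, τ ∈ Subgroup.zpowers σ)
    (h : Rel σ b ι y (Module.finrank k K))
    (hdim : Module.finrank k A = Module.finrank k K ^ 2)
    {n : ℕ} (f : A ≃ₐ[k] Matrix (Fin n) (Fin n) k) :
    ∃ x : K, Algebra.norm k x = (b : k) := by
  classical
  have hm : 0 < Module.finrank k K := Module.finrank_pos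
  have hn : n = Module.finrank k K := by
    have := f.toLinearEquiv.finrank_eq
    rw [hdim, Module.finrank_matrix] at this
    simp only [Fintype.card_fin, Module.finrank_self, mul_one] at this
    rw [← sq] at this
    exact (Nat.pow_left_injective (n := 2) two_ne_zero this).symm
  have hn0 : 0 < n := hn ▸ hm
  let ρ : A →ₐ[k] Module.End k (Fin n → k) :=
    (Matrix.toLinAlgEquiv' : Matrix (Fin n) (Fin n) k ≃ₐ[k] _).toAlgHom.comp f.toAlgHom
  let v0 : Fin n → k := Pi.single ⟨0, hn0⟩ 1
  have hv0 : v0 ≠ 0 := by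
    intro h0
    have := congrFun h0 ⟨0, hn0⟩
    simp [v0] at this
  let g : K →ₗ[k] (Fin n → k) := (LinearMap.applyₗ v0) ∘ₗ (ρ.comp ι).toLinearMap
  have hg : ∀ x, g x = ρ (ι x) v0 := fun x => rfl
  have hginj : Function.Injective g := by
    rw [← LinearMap.ker_eq_bot, LinearMap.ker_eq_bot']
    intro x hx
    by_contra hx0
    apply hv0
    have h1 : ρ (ι x⁻¹) (g x) = v0 := by
      rw [hg, ← Module.End.mul_apply, ← map_mul, ← map_mul, inv_mul_cancel₀ hx0, map_one, map_one]
      rfl
    rw [← h1, hx, map_zero]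
  have hgsurj : Function.Surjective g := by
    have hdim' : Module.finrank k K = Module.finrank k (Fin n → k) := by
      rw [Module.finrank_fin_fun, hn]
    exact (LinearMap.injective_iff_surjective_of_finrank_eq_finrank hdim').mp hginj
  obtain ⟨c, hc⟩ := hgsurj (ρ y v0)
  have key : ∀ x, ρ y (g x) = g (σ⁻¹ x * c) := by
    intro x
    rw [hg, hg, ← Module.End.mul_apply, ← map_mul, h.y_mul, map_mul, Module.End.mul_apply, ← hc, hg,
      ← Module.End.mul_apply, ← map_mul, ← map_mul]
  -- iterate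
  have hP : ∀ j : ℕ, (ρ y ^ j) v0 = g (∏ i ∈ Finset.range j, (σ⁻¹ ^ i) c) := by
    intro j
    induction j with
    | zero =>
      rw [pow_zero, Finset.prod_range_zero, hg, map_one, map_one]
    | succ j ih =>
      rw [pow_succ', Module.End.mul_apply, ih, key, Finset.prod_range_succ' _ j, map_prod]
      congr 2
      · refine Finset.prod_congr rfl fun i _ => ?_
        rw [pow_succ', AlgEquiv.mul_apply]
  have h1 := hP (Module.finrank k K)
  rw [← map_pow, h.pow, AlgHom.commutes, ← orderOf_eq_finrank σ hσ, prod_pow_eq_norm σ hσ] at h1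
  have h2 : g (algebraMap k K (b : k)) = (algebraMap k (Module.End k (Fin n → k)) (b : k)) v0 := by
    rw [hg, AlgHom.commutes, AlgHom.commutes]
  rw [← h2] at h1
  have h3 := hginj h1
  exact ⟨c, ((algebraMap k K).injective h3).symm⟩

end SplitImpNorm

section NormImpSplit

theorem toLinearMap_pow (τ : K ≃ₐ[k] K) (j : ℕ) :
    (τ.toLinearMap : Module.End k K) ^ j = (τ ^ j).toLinearMap := by
  induction j with
  | zero => rfl
  | succ j ih =>
    rw [pow_succ, ih, pow_succ]
    rfl

/-- The presentation of `End_k(K)` as the cyclic algebra `(K, σ, 1)`. -/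
theorem rel_end (hσm : σ ^ m = 1) :
    Rel σ (1 : kˣ) (Algebra.lmul k K) (σ⁻¹.toLinearMap : Module.End k K) m where
  pow := by
    rw [toLinearMap_pow, inv_pow, hσm, inv_one, Units.val_one, map_one]
    rfl
  rel := by
    intro x
    ext v
    change x * σ⁻¹ v = σ⁻¹ (σ x * v)
    rw [map_mul]
    congr 1
    exact (σ.symm_apply_apply x).symm

theorem Psi_end_apply (u : Fin m → K) (v : K) :
    Psi (Algebra.lmul k K) (σ⁻¹.toLinearMap : Module.End k K) m u v =
      ∑ t : Fin m, u t * (σ⁻¹ ^ (t : ℕ)) v := by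
  rw [Psi_apply, LinearMap.sum_apply]
  refine Finset.sum_congr rfl fun t _ => ?_
  rw [toLinearMap_pow]
  rfl

theorem Psi_end_injective (hord : orderOf σ = m) :
    Function.Injective (Psi (Algebra.lmul k K) (σ⁻¹.toLinearMap : Module.End k K) m) := by
  rw [← LinearMap.ker_eq_bot, LinearMap.ker_eq_bot']
  intro u hu
  have hli := linearIndependent_monoidHom K K
  let fam : Fin m → (K →* K) := fun t => ((σ⁻¹ ^ (t : ℕ) : K ≃ₐ[k] K) : K →* K)
  have hfam : Function.Injective fam := by
    intro s t hst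
    have h1 : (σ⁻¹ ^ (s : ℕ) : K ≃ₐ[k] K) = σ⁻¹ ^ (t : ℕ) := by
      ext v
      exact DFunLike.congr_fun hst v
    have hs : (s : ℕ) ∈ Set.Iio (orderOf σ⁻¹) := by rw [orderOf_inv, hord]; exact s.isLt
    have ht : (t : ℕ) ∈ Set.Iio (orderOf σ⁻¹) := by rw [orderOf_inv, hord]; exact t.isLt
    exact Fin.ext (pow_injOn_Iio_orderOf hs ht h1)
  have hli' := hli.comp fam hfam
  rw [Fintype.linearIndependent_iff] at hli'
  have h0 : ∑ t : Fin m, u t • ((fun f : K →* K => (f : K → K)) ∘ fam) t = 0 := by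
    ext v
    have := LinearMap.congr_fun hu v
    rw [Psi_end_apply] at this
    simpa [fam] using this
  ext t
  exact hli' u h0 t

theorem Psi_end_surjective (hord : orderOf σ = m) (hmK : Module.finrank k K = m) :
    Function.Surjective (Psi (Algebra.lmul k K) (σ⁻¹.toLinearMap : Module.End k K) m) := by
  have hdim : Module.finrank k (Fin m → K) = Module.finrank k (Module.End k K) := by
    rw [Module.finrank_pi_fintype, Module.finrank_linearMap]
    simp [hmK]
  exact (LinearMap.injective_iff_surjective_of_finrank_eq_finrank (K := k) (V := Fin m → K)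
    (V₂ := Module.End k K) hdim).mp (Psi_end_injective σ hord)

theorem end_gen (hord : orderOf σ = m) (hmK : Module.finrank k K = m) :
    Algebra.adjoin k ((Set.range (Algebra.lmul k K) ∪ {σ⁻¹.toLinearMap} : Set (Module.End k K))) = ⊤ := by
  rw [eq_top_iff]
  intro T _
  obtain ⟨u, rfl⟩ := Psi_end_surjective σ hord hmK T
  rw [Psi_apply]
  refine Subalgebra.sum_mem _ fun t _ => ?_
  have h1 : Algebra.lmul k K (u t) ∈ Algebra.adjoin k
      ((Set.range (Algebra.lmul k K) ∪ {σ⁻¹.toLinearMap} : Set (Module.End k K))) :=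
    Algebra.subset_adjoin (Set.mem_union_left _ ⟨u t, rfl⟩)
  have h2 : (σ⁻¹.toLinearMap : Module.End k K) ∈ Algebra.adjoin k
      ((Set.range (Algebra.lmul k K) ∪ {σ⁻¹.toLinearMap} : Set (Module.End k K))) :=
    Algebra.subset_adjoin (Set.mem_union_right _ rfl)
  exact Subalgebra.mul_mem _ h1 (Subalgebra.pow_mem _ h2 _)

variable {A : Type w} [Ring A] [Algebra k A] {ι : K →ₐ[k] A} {y : A}

theorem pow_iota_mul (h : Rel σ b ι y m) (z : K) (j : ℕ) :
    (ι z * y) ^ j = ι (∏ i ∈ Finset.range j, (σ⁻¹ ^ i) z) * y ^ j := by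
  induction j with
  | zero => simp
  | succ j ih =>
    rw [pow_succ, ih, mul_assoc, ← mul_assoc (y ^ j), h.y_pow_mul, mul_assoc, ← mul_assoc (ι _),
      ← map_mul, ← pow_succ, Finset.prod_range_succ]

theorem split_of_norm (hσ : ∀ τ : K ≃ₐ[k] K, τ ∈ Subgroup.zpowers σ)
    (h : Rel σ b ι y (Module.finrank k K))
    (hgen : Algebra.adjoin k (Set.range ι ∪ {y}) = ⊤)
    (hdim : Module.finrank k A = Module.finrank k K ^ 2)
    (x : K) (hx : Algebra.norm k x = (b : k)) :
    Nonempty (A ≃ₐ[k] Matrix (Fin (Module.finrank k K)) (Fin (Module.finrank k K)) k) := by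
  have hm : 0 < Module.finrank k K := Module.finrank_pos
  have hord := orderOf_eq_finrank σ hσ
  have hσm := pow_finrank_eq_one σ
  have hx0 : x ≠ 0 := by
    rintro rfl
    rw [Algebra.norm_zero] at hx
    exact b.ne_zero hx.symm
  have hrel' : Rel σ (1 : kˣ) ι (ι x⁻¹ * y) (Module.finrank k K) := by
    refine ⟨?_, ?_⟩
    · rw [pow_iota_mul σ b h, h.pow]
      conv_lhs => rw [← hord]
      rw [prod_pow_eq_norm σ hσ, AlgHom.commutes, ← map_mul, ← hx, ← map_mul,
        inv_mul_cancel₀ hx0, map_one, Units.val_one]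
    · intro u
      rw [← mul_assoc, ← map_mul, mul_comm u, map_mul, mul_assoc, h.rel, ← mul_assoc]
  have hgen' : Algebra.adjoin k (Set.range ι ∪ {ι x⁻¹ * y}) = ⊤ := by
    rw [eq_top_iff, ← hgen]
    apply Algebra.adjoin_le
    rintro a (⟨u, rfl⟩ | ha)
    · exact Algebra.subset_adjoin (Set.mem_union_left _ ⟨u, rfl⟩)
    · rw [Set.mem_singleton_iff] at ha
      rw [ha]
      have hmem : ι x * (ι x⁻¹ * y) ∈ Algebra.adjoin k (Set.range ι ∪ {ι x⁻¹ * y}) :=
        Subalgebra.mul_mem _ (Algebra.subset_adjoin (Set.mem_union_left _ ⟨x, rfl⟩))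
          (Algebra.subset_adjoin (Set.mem_union_right _ rfl))
      rwa [← mul_assoc, ← map_mul, mul_inv_cancel₀ hx0, map_one, one_mul] at hmem
  have hdimE : Module.finrank k (Module.End k K) = Module.finrank k K ^ 2 := by
    rw [Module.finrank_linearMap, sq]
  obtain ⟨e, -, -⟩ := nonempty_algEquiv hm hrel' (rel_end σ hσm) hgen' (end_gen σ hord rfl) rfl
    hdim hdimE
  exact ⟨e.trans (algEquivMatrix (Module.finBasis k K))⟩

end NormImpSplit

end Groth.Agent.Helper6.CycSplit
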