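import Mathlib

/-!
Matrix algebra isomorphisms: `M_r(X) ⊗ Y ≃ M_r(X ⊗ Y)`, `M_r(M_s(X)) ≃ M_{rs}(X)`.
-/

set_option autoImplicit false
universe u v w

namespace Groth.Agent.Helper6.MatTensor

open scoped TensorProduct

variable (k : Type u) [CommRing k] (X : Type v) [Ring X] [Algebra k X]
  (Y : Type w) [Ring Y] [Algebra k Y]

/-- `M_r(X) ⊗ Y ≃ M_r(X ⊗ Y)`. -/
noncomputable def matTensor (r : ℕ) :
    Matrix (Fin r) (Fin r) X ⊗[k] Y ≃ₐ[k] Matrix (Fin r) (Fin r) (X ⊗[k] Y) :=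
  (Algebra.TensorProduct.congr (matrixEquivTensor (Fin r) k X) (AlgEquiv.refl : Y ≃ₐ[k] Y)).trans <|
  (Algebra.TensorProduct.assoc k k k X (Matrix (Fin r) (Fin r) k) Y).trans <|
  (Algebra.TensorProduct.congr (AlgEquiv.refl : X ≃ₐ[k] X)
    (Algebra.TensorProduct.comm k (Matrix (Fin r) (Fin r) k) Y)).trans <|
  (Algebra.TensorProduct.assoc k k k X Y (Matrix (Fin r) (Fin r) k)).symm.trans <|
  (matrixEquivTensor (Fin r) k (X ⊗[k] Y)).symm

/-- `M_r(M_s(X)) ≃ M_{r*s}(X)`. -/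
noncomputable def matMat (r s : ℕ) :
    Matrix (Fin r) (Fin r) (Matrix (Fin s) (Fin s) X) ≃ₐ[k] Matrix (Fin (r * s)) (Fin (r * s)) X :=
  (Matrix.compAlgEquiv (Fin r) (Fin s) X k).trans (Matrix.reindexAlgEquiv k X finProdFinEquiv)

end Groth.Agent.Helper6.MatTensor
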