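import Groth.Agent.Lib.Helper6.MatTensor
import Groth.Agent.Lib.Helper8.MatCancel

/-!
If `M_r(C)` is split then so is `C`.
-/

set_option autoImplicit false
universe u v w

namespace Groth.Agent.Helper6.SplitCancel

open scoped TensorProduct
open Groth.Agent.Helper6.MatTensor

/-- `T ≅ M₁(T)`. -/
noncomputable def matOne (R T : Type*) [CommSemiring R] [Semiring T] [Algebra R T] :
    T ≃ₐ[R] Matrix (Fin 1) (Fin 1) T :=
  AlgEquiv.ofBijective (Matrix.scalarAlgHom (Fin 1) R) (by
    constructor
    · intro x y h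
      have := congrFun (congrFun h 0) 0
      simpa using this
    · intro M
      refine ⟨M 0 0, ?_⟩
      ext i j
      have hi : i = 0 := Subsingleton.elim _ _
      have hj : j = 0 := Subsingleton.elim _ _
      subst hi hj
      simp)

variable {k : Type u} [Field k]

theorem eq_one_of_divisionRing_equiv_matrix {D : Type v} [DivisionRing D] [Algebra k D]
    {t : ℕ} (g : D ≃ₐ[k] Matrix (Fin t) (Fin t) k) : t = 1 := by
  by_contra ht
  rcases Nat.lt_or_ge t 2 with h | h
  · have h0 : t = 0 := by omega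
    subst h0
    have : Subsingleton (Matrix (Fin 0) (Fin 0) k) := inferInstance
    have h1 : g 1 = g 0 := Subsingleton.elim _ _
    exact one_ne_zero (g.injective h1)
  · let i0 : Fin t := ⟨0, by omega⟩
    let i1 : Fin t := ⟨1, by omega⟩
    have hne : i0 ≠ i1 := by
      intro h'
      have := congrArg Fin.val h'
      simp [i0, i1] at this
    have hmul : g.symm (Matrix.single i0 i0 1) * g.symm (Matrix.single i1 i1 1) = 0 := by
      rw [← map_mul, Matrix.single_mul_single_of_ne _ _ _ _ hne, map_zero]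
    rcases mul_eq_zero.mp hmul with h' | h'
    · have := g.symm.injective (h'.trans (map_zero g.symm).symm)
      have h2 := congrFun (congrFun this i0) i0
      simp at h2
    · have := g.symm.injective (h'.trans (map_zero g.symm).symm)
      have h2 := congrFun (congrFun this i1) i1
      simp at h2

theorem exists_split_of_matrix_split {C : Type v} [Ring C] [Algebra k C] [IsSimpleRing C]
    [FiniteDimensional k C] {r n : ℕ} (hr : r ≠ 0)
    (f : Matrix (Fin r) (Fin r) C ≃ₐ[k] Matrix (Fin n) (Fin n) k) :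
    ∃ s : ℕ, s ≠ 0 ∧ Nonempty (C ≃ₐ[k] Matrix (Fin s) (Fin s) k) := by
  have : IsArtinianRing C := IsArtinianRing.of_finite k C
  obtain ⟨s, hs, D, _, _, _, ⟨e⟩⟩ := IsSimpleRing.exists_algEquiv_matrix_divisionRing_finite k C
  have hs0 : s ≠ 0 := NeZero.ne s
  let f1 : Matrix (Fin (r * s)) (Fin (r * s)) D ≃ₐ[k] Matrix (Fin n) (Fin n) k :=
    (matMat k D r s).symm.trans ((e.symm.mapMatrix).trans f)
  have hdim : (r * s) * (r * s) * Module.finrank k D = n * n := by
    have := f1.toLinearEquiv.finrank_eq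
    rw [Module.finrank_matrix, Module.finrank_matrix] at this
    simpa using this
  have hdvd : r * s ∣ n := by
    rw [← Nat.pow_dvd_pow_iff (n := 2) two_ne_zero]
    exact ⟨Module.finrank k D, by rw [sq, sq, ← hdim]⟩
  obtain ⟨t, rfl⟩ := hdvd
  have hrs : r * s ≠ 0 := Nat.mul_ne_zero hr hs0
  let f2 : Matrix (Fin (r * s)) (Fin (r * s)) D ≃ₐ[k]
      Matrix (Fin (r * s)) (Fin (r * s)) (Matrix (Fin t) (Fin t) k) :=
    f1.trans (matMat k k (r * s) t).symm
  obtain ⟨g⟩ := Groth.Agent.Helper8.nonempty_algEquiv_of_matrix_algEquiv hrs f2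
  have ht : t = 1 := eq_one_of_divisionRing_equiv_matrix g
  subst ht
  exact ⟨s, hs0, ⟨e.trans ((g.trans (matOne k k).symm).mapMatrix)⟩⟩

end Groth.Agent.Helper6.SplitCancel
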