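import Mathlib

/-!
Tensor powers `⨂[k] _ : Fin e, A` of a (noncommutative) algebra: universal property for commuting
families, and `tpow (e+1) ≃ₐ tpow e ⊗ A`.
-/

set_option autoImplicit false
universe u v w

namespace Groth.Agent.Helper6.TPow

open scoped TensorProduct
open PiTensorProduct

theorem ofFn_prod_mul {E : Type*} [Monoid E] : ∀ (e : ℕ) (a b : Fin e → E)
    (_ : ∀ i j, i ≠ j → Commute (a i) (b j)),
    (List.ofFn fun i => a i * b i).prod = (List.ofFn a).prod * (List.ofFn b).prod := by
  intro e
  induction e with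
  | zero => intro a b _; simp
  | succ e ih =>
    intro a b h
    rw [List.ofFn_succ, List.ofFn_succ, List.ofFn_succ, List.prod_cons, List.prod_cons,
      List.prod_cons, ih (fun i => a i.succ) (fun i => b i.succ)
        (fun i j hij => h _ _ (fun h' => hij (Fin.succ_injective _ h')))]
    have hc : Commute (b 0) (List.ofFn fun i : Fin e => a i.succ).prod := by
      apply Commute.list_prod_right
      intro x hx
      rw [List.mem_ofFn] at hx
      obtain ⟨i, rfl⟩ := hx
      exact (h i.succ 0 (Fin.succ_ne_zero i)).symm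
    calc a 0 * b 0 * ((List.ofFn fun i : Fin e => a i.succ).prod *
          (List.ofFn fun i : Fin e => b i.succ).prod)
        = a 0 * (b 0 * (List.ofFn fun i : Fin e => a i.succ).prod) *
          (List.ofFn fun i : Fin e => b i.succ).prod := by simp only [mul_assoc]
      _ = a 0 * ((List.ofFn fun i : Fin e => a i.succ).prod * b 0) *
          (List.ofFn fun i : Fin e => b i.succ).prod := by rw [hc.eq]
      _ = _ := by simp only [mul_assoc]

theorem ofFn_prod_single {E : Type*} [Monoid E] : ∀ (e : ℕ) (f : Fin e → E) (i : Fin e)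
    (_ : ∀ j, j ≠ i → f j = 1), (List.ofFn f).prod = f i := by
  intro e
  induction e with
  | zero => intro f i; exact i.elim0
  | succ e ih =>
    intro f i h
    rw [List.ofFn_succ, List.prod_cons]
    revert h
    refine Fin.cases ?_ (fun i' => ?_) i
    · intro h
      have : (List.ofFn fun j : Fin e => f j.succ).prod = 1 := by
        apply List.prod_eq_one
        intro x hx
        rw [List.mem_ofFn] at hx
        obtain ⟨j, rfl⟩ := hx
        exact h _ (Fin.succ_ne_zero j)
      rw [this, mul_one]
    · intro h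
      rw [h 0 (Fin.succ_ne_zero i').symm, one_mul]
      exact ih (fun j => f j.succ) i' (fun j hj => h _ (fun h' => hj (Fin.succ_injective _ h')))

section Lift

variable {k : Type u} [CommRing k] {A : Type v} [Ring A] [Algebra k A]
variable {E : Type w} [Ring E] [Algebra k E]

/-- Universal property of the tensor power for pairwise commuting families of algebra maps. -/
noncomputable def liftComm (e : ℕ) (φ : Fin e → (A →ₐ[k] E))
    (hφ : ∀ i j, i ≠ j → ∀ a a', Commute (φ i a) (φ j a')) : (⨂[k] _ : Fin e, A) →ₐ[k] E :=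
  PiTensorProduct.liftAlgHom
    ((MultilinearMap.mkPiAlgebraFin k e E).compLinearMap (fun i => (φ i).toLinearMap))
    (by
      simp only [MultilinearMap.compLinearMap_apply, MultilinearMap.mkPiAlgebraFin_apply,
        AlgHom.toLinearMap_apply, Pi.one_apply, map_one]
      apply List.prod_eq_one
      intro x hx
      rw [List.mem_ofFn] at hx
      obtain ⟨j, rfl⟩ := hx
      rfl)
    (by
      intro x y
      simp only [MultilinearMap.compLinearMap_apply, MultilinearMap.mkPiAlgebraFin_apply,
        AlgHom.toLinearMap_apply, Pi.mul_apply, map_mul]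
      exact ofFn_prod_mul e _ _ (fun i j hij => hφ i j hij _ _))

theorem liftComm_tprod (e : ℕ) (φ : Fin e → (A →ₐ[k] E))
    (hφ : ∀ i j, i ≠ j → ∀ a a', Commute (φ i a) (φ j a')) (x : Fin e → A) :
    liftComm e φ hφ (tprod k x) = (List.ofFn fun i => φ i (x i)).prod := by
  unfold liftComm
  rw [PiTensorProduct.liftAlgHom_apply, PiTensorProduct.lift.tprod]
  simp only [MultilinearMap.compLinearMap_apply, MultilinearMap.mkPiAlgebraFin_apply,
    AlgHom.toLinearMap_apply]

theorem liftComm_single (e : ℕ) (φ : Fin e → (A →ₐ[k] E))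
    (hφ : ∀ i j, i ≠ j → ∀ a a', Commute (φ i a) (φ j a')) (i : Fin e) (a : A) :
    liftComm e φ hφ (singleAlgHom (R := k) (A := fun _ : Fin e => A) i a) = φ i a := by
  rw [singleAlgHom_apply, liftComm_tprod]
  rw [ofFn_prod_single e _ i]
  · simp
  · intro j hj
    simp [Pi.mulSingle_eq_of_ne hj]

theorem single_commute (e : ℕ) (i j : Fin e) (hij : i ≠ j) (a a' : A) :
    Commute (singleAlgHom (R := k) (A := fun _ : Fin e => A) i a)
      (singleAlgHom (R := k) (A := fun _ : Fin e => A) j a') := by
  rw [singleAlgHom_apply, singleAlgHom_apply]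
  apply Commute.tprod
  exact Pi.mulSingle_commute (f := fun _ : Fin e => A) hij a a'

end Lift

section Succ

variable (k : Type u) [CommRing k] (A : Type v) [Ring A] [Algebra k A]

/-- The tensor power. -/
abbrev T (e : ℕ) : Type (max u v) := ⨂[k] _ : Fin e, A

/-- `tpow e → tpow (e+1)`. -/
noncomputable def g1 (e : ℕ) : T k A e →ₐ[k] T k A (e + 1) :=
  liftComm e (fun i => singleAlgHom (R := k) (A := fun _ : Fin (e + 1) => A) (Fin.castSucc i))
    (fun i j hij a a' => single_commute (e + 1) _ _
      (fun h => hij (Fin.castSucc_injective _ h)) a a')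

/-- `A → tpow (e+1)`, last factor. -/
noncomputable def g2 (e : ℕ) : A →ₐ[k] T k A (e + 1) :=
  singleAlgHom (R := k) (A := fun _ : Fin (e + 1) => A) (Fin.last e)

theorem g1_comm_g2 (e : ℕ) (t : T k A e) (a : A) : Commute (g1 k A e t) (g2 k A e a) := by
  induction t using PiTensorProduct.induction_on with
  | smul_tprod r x =>
    rw [map_smul, g1, liftComm_tprod]
    apply Commute.smul_left
    apply Commute.list_prod_left
    intro y hy
    rw [List.mem_ofFn] at hy
    obtain ⟨i, rfl⟩ := hy
    exact single_commute (e + 1) _ _ (Fin.castSucc_lt_last i).ne _ _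
  | add x y hx hy =>
    rw [map_add]
    exact hx.add_left hy

/-- `tpow e ⊗ A → tpow (e+1)`. -/
noncomputable def G (e : ℕ) : T k A e ⊗[k] A →ₐ[k] T k A (e + 1) :=
  Algebra.TensorProduct.lift (g1 k A e) (g2 k A e) (g1_comm_g2 k A e)

/-- The family defining the inverse. -/
noncomputable def psi (e : ℕ) (j : Fin (e + 1)) : A →ₐ[k] T k A e ⊗[k] A :=
  Fin.lastCases (motive := fun _ => A →ₐ[k] T k A e ⊗[k] A)
    Algebra.TensorProduct.includeRight
    (fun i => Algebra.TensorProduct.includeLeft.comp
      (singleAlgHom (R := k) (A := fun _ : Fin e => A) i)) j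

theorem psi_last (e : ℕ) : psi k A e (Fin.last e) = Algebra.TensorProduct.includeRight := by
  unfold psi
  rw [Fin.lastCases_last]

theorem psi_castSucc (e : ℕ) (i : Fin e) : psi k A e (Fin.castSucc i) =
    Algebra.TensorProduct.includeLeft.comp (singleAlgHom (R := k) (A := fun _ : Fin e => A) i) := by
  unfold psi
  rw [Fin.lastCases_castSucc]

theorem psi_comm (e : ℕ) : ∀ i j : Fin (e + 1), i ≠ j → ∀ a a' : A,
    Commute (psi k A e i a) (psi k A e j a') := by
  intro i j
  refine Fin.lastCases ?_ (fun i' => ?_) i <;> refine Fin.lastCases ?_ (fun j' => ?_) j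
  · intro h; exact absurd rfl h
  · intro _ a a'
    rw [psi_last, psi_castSucc, commute_iff_eq]
    simp [Algebra.TensorProduct.tmul_mul_tmul]
  · intro _ a a'
    rw [psi_last, psi_castSucc, commute_iff_eq]
    simp [Algebra.TensorProduct.tmul_mul_tmul]
  · intro h a a'
    rw [psi_castSucc, psi_castSucc, commute_iff_eq]
    have hc := single_commute (k := k) e i' j' (fun h' => h (by rw [h'])) a a'
    simp only [AlgHom.comp_apply, Algebra.TensorProduct.includeLeft_apply,
      Algebra.TensorProduct.tmul_mul_tmul, mul_one]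
    rw [hc.eq]

/-- `tpow (e+1) → tpow e ⊗ A`. -/
noncomputable def H (e : ℕ) : T k A (e + 1) →ₐ[k] T k A e ⊗[k] A :=
  liftComm (e + 1) (psi k A e) (psi_comm k A e)

theorem G_comp_H (e : ℕ) : (G k A e).comp (H k A e) = AlgHom.id k _ := by
  apply PiTensorProduct.algHom_ext
  intro j
  ext a
  simp only [AlgHom.comp_apply, AlgHom.id_apply]
  rw [H, liftComm_single]
  refine Fin.lastCases ?_ (fun i => ?_) j
  · rw [psi_last]
    simp [G, g2]
  · rw [psi_castSucc]
    simp only [AlgHom.comp_apply, Algebra.TensorProduct.includeLeft_apply, G,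
      Algebra.TensorProduct.lift_tmul, map_one, mul_one]
    rw [g1, liftComm_single]

theorem H_comp_G (e : ℕ) : (H k A e).comp (G k A e) = AlgHom.id k _ := by
  apply Algebra.TensorProduct.ext
  · apply PiTensorProduct.algHom_ext
    intro i
    ext a
    simp only [AlgHom.comp_apply, AlgHom.id_apply, Algebra.TensorProduct.includeLeft_apply, G,
      Algebra.TensorProduct.lift_tmul, map_one, mul_one]
    rw [g1, liftComm_single, H, liftComm_single, psi_castSucc]
    rfl
  · ext a
    change H k A e (G k A e (1 ⊗ₜ a)) = 1 ⊗ₜ a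
    rw [G, Algebra.TensorProduct.lift_tmul, map_one, one_mul]
    unfold g2
    rw [H, liftComm_single, psi_last]
    rfl

/-- `tpow (e+1) ≃ₐ tpow e ⊗ A`. -/
noncomputable def succEquiv (e : ℕ) : T k A (e + 1) ≃ₐ[k] T k A e ⊗[k] A :=
  AlgEquiv.ofAlgHom (H k A e) (G k A e) (H_comp_G k A e) (G_comp_H k A e)

/-- `tpow 1 ≃ₐ A`. -/
noncomputable def oneEquiv : T k A 1 ≃ₐ[k] A :=
  AlgEquiv.ofAlgHom
    (liftComm 1 (fun _ => AlgHom.id k A) (fun i j hij => absurd (Subsingleton.elim i j) hij))
    (singleAlgHom (R := k) (A := fun _ : Fin 1 => A) 0)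
    (by
      ext a
      simp only [AlgHom.comp_apply, AlgHom.id_apply]
      rw [liftComm_single]
      rfl)
    (by
      apply PiTensorProduct.algHom_ext
      intro j
      have hj : j = 0 := Subsingleton.elim _ _
      subst hj
      ext a
      simp only [AlgHom.comp_apply, AlgHom.id_apply]
      rw [liftComm_single]
      rfl)

end Succ

end Groth.Agent.Helper6.TPow
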