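import Groth.Agent.Lib.Helper6.CycProd
import Groth.Agent.Lib.Helper6.TPow
import Groth.Agent.Lib.Helper6.MatTensor
import Groth.Agent.Lib.Helper6.CycSplit
import Groth.Agent.Lib.Helper6.SplitCancel

/-!
Tensor powers of cyclic algebras, splitting criterion, period.
-/

set_option autoImplicit false
set_option linter.unusedSectionVars false
universe u v w

namespace Groth.Agent.Helper6.CycPeriod

open scoped TensorProduct MatrixGroups
open Groth.Agent.Helper6.CycMat Groth.Agent.Helper6.CycPres Groth.Agent.Helper6.CycTwist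
  Groth.Agent.Helper6.CycProd Groth.Agent.Helper6.TPow Groth.Agent.Helper6.MatTensor

variable {k : Type u} [Field k] {K : Type v} [Field K] [Algebra k K]
variable [FiniteDimensional k K] [IsGalois k K]
variable (σ : K ≃ₐ[k] K) (b : kˣ) {m : ℕ} (hm : 0 < m) (hσm : σ ^ m = 1)
variable (hσ : ∀ τ : K ≃ₐ[k] K, τ ∈ Subgroup.zpowers σ) (hmK : Module.finrank k K = m)

include hm hσm hσ hmK in
/-- Tensor powers of a cyclic algebra are matrix algebras over cyclic algebras. -/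
theorem tpow_cyclic {A : Type w} [Ring A] [Algebra k A] (eA : A ≃ₐ[k] Bsub σ b m) :
    ∀ e : ℕ, 1 ≤ e → ∃ r : ℕ, r ≠ 0 ∧
      Nonempty (T k A e ≃ₐ[k] Matrix (Fin r) (Fin r) (Bsub σ (b ^ e) m)) := by
  intro e he
  induction e, he using Nat.le_induction with
  | base =>
    refine ⟨1, one_ne_zero, ⟨?_⟩⟩
    rw [pow_one]
    exact (oneEquiv k A).trans (eA.trans (matOne k _))
  | succ e he ih =>
    obtain ⟨r, hr, ⟨φ⟩⟩ := ih
    obtain ⟨Ψ⟩ := nonempty_algEquiv_Bsub σ (b ^ e) b hm hσm hσ hmK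
    refine ⟨r * m, Nat.mul_ne_zero hr hm.ne', ⟨?_⟩⟩
    rw [pow_succ]
    exact (succEquiv k A e).trans <|
      (Algebra.TensorProduct.congr φ eA).trans <|
      (matTensor k _ _ r).trans <|
      (Ψ.mapMatrix).trans (matMat k _ r m)

omit [FiniteDimensional k K] [IsGalois k K] in
theorem splits_self_iff {X : Type w} [Ring X] [Algebra k X] :
    Curves.Splits k X k ↔ ∃ n : ℕ, n ≠ 0 ∧ Nonempty (X ≃ₐ[k] Matrix (Fin n) (Fin n) k) := by
  constructor
  · rintro ⟨n, hn, ⟨φ⟩⟩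
    exact ⟨n, hn, ⟨(Algebra.TensorProduct.lid k X).symm.trans φ⟩⟩
  · rintro ⟨n, hn, ⟨φ⟩⟩
    exact ⟨n, hn, ⟨(Algebra.TensorProduct.lid k X).trans φ⟩⟩

theorem splits_iff_norm (hσ : ∀ τ : K ≃ₐ[k] K, τ ∈ Subgroup.zpowers σ)
    {A : Type w} [Ring A] [Algebra k A] (hA : CSAGal.IsCyclicAlg k K σ b A) :
    Curves.Splits k A k ↔ ∃ x : K, Algebra.norm k x = (b : k) := by
  obtain ⟨ι, y, hy, hrel, hgen, hpos, hdim⟩ := hA
  rw [splits_self_iff]
  constructor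
  · rintro ⟨n, -, ⟨f⟩⟩
    exact CycSplit.norm_of_split σ b hσ ⟨hy, hrel⟩ hdim f
  · rintro ⟨x, hx⟩
    exact ⟨_, hpos.ne', CycSplit.split_of_norm σ b hσ ⟨hy, hrel⟩ hgen hdim x hx⟩

theorem tpow_splits_iff_norm (hσ : ∀ τ : K ≃ₐ[k] K, τ ∈ Subgroup.zpowers σ)
    {A : Type w} [Ring A] [Algebra k A] (hA : CSAGal.IsCyclicAlg k K σ b A) (e : ℕ) (he : 1 ≤ e) :
    Curves.Splits k (CSAGal.tpow k A e) k ↔ ∃ x : K, Algebra.norm k x = (b : k) ^ e := by
  have hpos : 0 < Module.finrank k K := Module.finrank_pos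
  have hσm := pow_finrank_eq_one σ
  have hord := orderOf_eq_finrank σ hσ
  obtain ⟨ι, y, hy, hrel, hgen, -, hdim⟩ := hA
  obtain ⟨eA, -, -⟩ := exists_algEquiv_Bsub σ b ι y hy hrel hgen hdim
  obtain ⟨r, hr, ⟨φ⟩⟩ := tpow_cyclic σ b hpos hσm hσ rfl eA e he
  have hC := isCyclicAlg σ (b ^ e) hpos hσm rfl
  have hCsplit := splits_iff_norm σ (b ^ e) hσ hC
  rw [Units.val_pow_eq_pow_val] at hCsplit
  rw [← hCsplit, splits_self_iff, splits_self_iff]
  have hsimple : IsSimpleRing (Bsub σ (b ^ e) (Module.finrank k K)) :=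
    Bsub_isSimple σ (b ^ e) hpos hσ hord
  have hfin : FiniteDimensional k (Bsub σ (b ^ e) (Module.finrank k K)) :=
    Module.finite_of_finrank_pos (by rw [finrank_Bsub σ (b ^ e) hpos hσm rfl]; positivity)
  constructor
  · rintro ⟨n, -, ⟨f⟩⟩
    exact SplitCancel.exists_split_of_matrix_split hr (φ.symm.trans f)
  · rintro ⟨s, hs, ⟨f⟩⟩
    exact ⟨r * s, Nat.mul_ne_zero hr hs, ⟨φ.trans ((f.mapMatrix).trans (matMat k k r s))⟩⟩

theorem main (hσ : ∀ τ : K ≃ₐ[k] K, τ ∈ Subgroup.zpowers σ)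
    {A : Type w} [Ring A] [Algebra k A] (hA : CSAGal.IsCyclicAlg k K σ b A) :
    (Curves.Splits k A k ↔ ∃ x : K, Algebra.norm k x = (b : k)) ∧
      ∀ e : ℕ, CSAGal.IsPeriod k A e ↔
        (0 < e ∧ (∃ x : K, Algebra.norm k x = (b : k) ^ e) ∧
          ∀ e' : ℕ, 0 < e' → e' < e → ¬ ∃ x : K, Algebra.norm k x = (b : k) ^ e') := by
  refine ⟨splits_iff_norm σ b hσ hA, fun e => ?_⟩
  unfold CSAGal.IsPeriod
  constructor
  · rintro ⟨he, h1, h2⟩
    refine ⟨he, (tpow_splits_iff_norm σ b hσ hA e he).mp h1, fun e' he' hlt h3 => ?_⟩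
    exact h2 e' he' hlt ((tpow_splits_iff_norm σ b hσ hA e' he').mpr h3)
  · rintro ⟨he, h1, h2⟩
    refine ⟨he, (tpow_splits_iff_norm σ b hσ hA e he).mpr h1, fun e' he' hlt h3 => ?_⟩
    exact h2 e' he' hlt ((tpow_splits_iff_norm σ b hσ hA e' he').mp h3)

end Groth.Agent.Helper6.CycPeriod
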