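import Groth.Agent.Lib.Helper6.CycStruct
import Groth.Agent.Lib.Helper6.SplitCancel
import Groth.Agent.Lib.Helper8.CSA2

/-!
Structure theorem, general case: a central simple algebra split by a cyclic extension is Brauer
equivalent to a cyclic algebra.
-/

set_option autoImplicit false
set_option linter.unusedSectionVars false
universe u v w

namespace Groth.Agent.Helper6.CycStruct

open scoped TensorProduct
open Matrix
open Groth.Agent.Helper6.SplitCancel Groth.Agent.Helper6.MatTensor

variable {k : Type u} [Field k] {K : Type v} [Field K] [Algebra k K]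

/-- Base change of a matrix algebra. -/
noncomputable def bcMat (D : Type w) [Ring D] [Algebra k D] (s : ℕ) :
    K ⊗[k] Matrix (Fin s) (Fin s) D ≃ₐ[K] Matrix (Fin s) (Fin s) (K ⊗[k] D) :=
  (Algebra.TensorProduct.congr (matOne K K) (AlgEquiv.refl : Matrix (Fin s) (Fin s) D ≃ₐ[k] _)).trans
    ((Matrix.kroneckerTMulAlgEquiv (Fin 1) (Fin s) k K K D).trans
      (Matrix.reindexAlgEquiv K _ (Equiv.uniqueProd (Fin s) (Fin 1))))

theorem isCentral_of_matrix (D : Type w) [Ring D] [Algebra k D] {s : ℕ} (hs : s ≠ 0)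
    [h : Algebra.IsCentral k (Matrix (Fin s) (Fin s) D)] : Algebra.IsCentral k D where
  out x hx := by
    have hs' : 0 < s := Nat.pos_of_ne_zero hs
    have h1 : Matrix.scalarAlgHom (Fin s) k x ∈ Subalgebra.center k (Matrix (Fin s) (Fin s) D) := by
      rw [Matrix.subalgebraCenter_eq_scalarAlgHom_map]
      exact ⟨x, hx, rfl⟩
    obtain ⟨c, hc⟩ := h.out h1
    refine ⟨c, ?_⟩
    have := congrFun (congrFun hc ⟨0, hs'⟩) ⟨0, hs'⟩
    simpa [Algebra.ofId_apply, Matrix.algebraMap_matrix_apply] using this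

theorem finrank_of_split [FiniteDimensional k K] (D : Type w) [Ring D] [Algebra k D]
    {d : ℕ} (ψ : K ⊗[k] D ≃ₐ[K] Matrix (Fin d) (Fin d) K) : Module.finrank k D = d ^ 2 := by
  rw [← Module.finrank_baseChange (R := K) (S := k) (M' := D), ψ.toLinearEquiv.finrank_eq,
    Module.finrank_matrix]
  simp [sq]

theorem dvd_of_split [FiniteDimensional k K] (D : Type w) [DivisionRing D] [Algebra k D]
    [FiniteDimensional k D] {d : ℕ} (ψ : K ⊗[k] D ≃ₐ[K] Matrix (Fin d) (Fin d) K) :
    d ∣ Module.finrank k K := by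
  classical
  have hD := finrank_of_split D ψ
  have hd : 0 < d := by
    rcases Nat.eq_zero_or_pos d with h | h
    · subst h
      have : 0 < Module.finrank k D := Module.finrank_pos
      omega
    · exact h
  let ρ : D →ₐ[k] Matrix (Fin d) (Fin d) K :=
    (ψ.toAlgHom.restrictScalars k).comp Algebra.TensorProduct.includeRight
  letI instM : Module D (Fin d → K) := Module.compHom (Fin d → K) (ρ : D →+* Matrix (Fin d) (Fin d) K)
  have hsmul : ∀ (a : D) (v : Fin d → K), a • v = ρ a *ᵥ v := fun a v => rfl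
  haveI : IsScalarTower k D (Fin d → K) :=
    ⟨fun c a v => by
      rw [hsmul, hsmul, map_smul, Matrix.smul_mulVec]⟩
  have h1 := Module.finrank_mul_finrank k D (Fin d → K)
  rw [hD, Module.finrank_pi_fintype] at h1
  simp only [Finset.sum_const, Finset.card_univ, Fintype.card_fin, smul_eq_mul] at h1
  refine ⟨Module.finrank D (Fin d → K), ?_⟩
  have h2 : d * (d * Module.finrank D (Fin d → K)) = d * Module.finrank k K := by
    rw [← h1]; ring
  exact (Nat.eq_of_mul_eq_mul_left hd h2).symm

section Main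

variable [FiniteDimensional k K] [IsGalois k K] (σ : K ≃ₐ[k] K)
  (hσ : ∀ τ : K ≃ₐ[k] K, τ ∈ Subgroup.zpowers σ)

include hσ in
/-- A central simple algebra of degree `[K:k]` split by the cyclic extension `K` is cyclic. -/
theorem cyclic_of_split_of_finrank {A : Type w} [Ring A] [Algebra k A] [Algebra.IsCentral k A]
    [IsSimpleRing A] [FiniteDimensional k A] (hA : Curves.Splits k A K)
    (hdim : Module.finrank k A = Module.finrank k K ^ 2) :
    ∃ b : kˣ, CSAGal.IsCyclicAlg k K σ b A := by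
  obtain ⟨n, hn, ⟨φ⟩⟩ := hA
  have h1 := finrank_of_split A φ
  have hnm : n = Module.finrank k K := by
    rw [hdim] at h1
    exact (Nat.pow_left_injective (n := 2) two_ne_zero h1).symm
  have hdim' : Module.finrank k A = n * Module.finrank k K := by
    rw [hdim, hnm, sq]
  obtain ⟨ι⟩ := exists_embedding φ hdim'
  exact cyclic_of_embedding σ ι hσ hdim

include hσ in
/-- A central simple algebra split by the cyclic extension `K` is Brauer equivalent to a cyclic
algebra. -/
theorem brauer_cyclic {A : Type w} [Ring A] [Algebra k A] [Algebra.IsCentral k A]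
    [IsSimpleRing A] [FiniteDimensional k A] (hA : Curves.Splits k A K) :
    ∃ (b : kˣ) (B : Type w) (_ : Ring B) (_ : Algebra k B), CSAGal.IsCyclicAlg k K σ b B ∧
      ∃ n m : ℕ, n ≠ 0 ∧ m ≠ 0 ∧
        Nonempty (Matrix (Fin n) (Fin n) A ≃ₐ[k] Matrix (Fin m) (Fin m) B) := by
  obtain ⟨n, hn, ⟨φ⟩⟩ := hA
  have : IsArtinianRing A := IsArtinianRing.of_finite k A
  obtain ⟨s, hs, D, _, _, _, ⟨e⟩⟩ := IsSimpleRing.exists_algEquiv_matrix_divisionRing_finite k A
  have hs0 : s ≠ 0 := NeZero.ne s
  have hcM : Algebra.IsCentral k (Matrix (Fin s) (Fin s) D) :=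
    Groth.Agent.Helper6.CycTwist.isCentral_of_algEquiv e
  have hcD : Algebra.IsCentral k D := isCentral_of_matrix D hs0
  have hsKD : IsSimpleRing (K ⊗[k] D) := Groth.Agent.Helper8.isSimpleRing_baseChange k K D
  -- `K ⊗ D` is split
  let f : Matrix (Fin s) (Fin s) (K ⊗[k] D) ≃ₐ[K] Matrix (Fin n) (Fin n) K :=
    (bcMat D s).symm.trans ((Algebra.TensorProduct.congr AlgEquiv.refl e.symm).trans φ)
  have hfinKD : FiniteDimensional K (K ⊗[k] D) := inferInstance
  obtain ⟨d, hd, ⟨ψ⟩⟩ := exists_split_of_matrix_split hs0 f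
  obtain ⟨t, ht⟩ := dvd_of_split D ψ
  have hm : 0 < Module.finrank k K := Module.finrank_pos
  have ht0 : t ≠ 0 := by
    rintro rfl
    rw [mul_zero] at ht
    omega
  have : NeZero t := ⟨ht0⟩
  -- the algebra `B = M_t(D)`
  have hBdim : Module.finrank k (Matrix (Fin t) (Fin t) D) = Module.finrank k K ^ 2 := by
    rw [Module.finrank_matrix, finrank_of_split D ψ, ht]
    simp only [Fintype.card_fin]
    ring
  have hBsplit : Curves.Splits k (Matrix (Fin t) (Fin t) D) K := by
    refine ⟨t * d, Nat.mul_ne_zero ht0 hd, ⟨?_⟩⟩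
    exact (bcMat D t).trans ((ψ.mapMatrix).trans (matMat K K t d))
  obtain ⟨b, hb⟩ := cyclic_of_split_of_finrank σ hσ hBsplit hBdim
  refine ⟨b, Matrix (Fin t) (Fin t) D, inferInstance, inferInstance, hb, t, s, ht0, hs0, ⟨?_⟩⟩
  -- `M_t(A) ≃ M_t(M_s(D)) ≃ M_{ts}(D) ≃ M_{st}(D) ≃ M_s(M_t(D))`
  exact (e.mapMatrix).trans <| (matMat k D t s).trans <|
    (Matrix.reindexAlgEquiv k D (finCongr (mul_comm t s))).trans (matMat k D s t).symm

end Main

end Groth.Agent.Helper6.CycStruct
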