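import Mathlib
import Groth.Prelude.Def_DerCA

/-!
# Toolkit for the extended alternating Čech complex `DerCA.extCech`
-/

namespace Groth.Agent.Lib.Helper6.ExtCech

universe u

open CategoryTheory CategoryTheory.Limits CategoryTheory.Pretriangulated

attribute [local instance] HasDerivedCategory.standard

set_option linter.unusedSectionVars false
set_option linter.style.haveILetI false

variable {R : Type u} [CommRing R]

section LES

variable {K L : CochainComplex (ModuleCat.{u} R) ℤ} (φ : K ⟶ L)

/-- the comparison iso between homology in the derived category and homology of complexes. -/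
noncomputable abbrev eH (X : CochainComplex (ModuleCat.{u} R) ℤ) (n : ℤ) :
    (DerivedCategory.homologyFunctor (ModuleCat.{u} R) n).obj (DerivedCategory.Q.obj X) ≅
      X.homology n :=
  (DerivedCategory.homologyFunctorFactors (ModuleCat.{u} R) n).app X

lemma eH_naturality {X Y : CochainComplex (ModuleCat.{u} R) ℤ} (f : X ⟶ Y) (n : ℤ) :
    (DerivedCategory.homologyFunctor (ModuleCat.{u} R) n).map (DerivedCategory.Q.map f) ≫
      (eH Y n).hom = (eH X n).hom ≫ HomologicalComplex.homologyMap f n :=
  (DerivedCategory.homologyFunctorFactors (ModuleCat.{u} R) n).hom.naturality f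

/-- the triangle in the derived category. -/
noncomputable abbrev T : Triangle (DerivedCategory (ModuleCat.{u} R)) :=
  DerivedCategory.Q.mapTriangle.obj (CochainComplex.mappingCocone.triangle φ)

lemma hT : T φ ∈ distTriang _ := DerivedCategory.mappingCocone_triangle_distinguished φ

/-- connecting map in the derived category, with normalized types. -/
noncomputable def δQ (n₀ n₁ : ℤ) (h : n₀ + 1 = n₁) :
    (DerivedCategory.homologyFunctor (ModuleCat.{u} R) n₀).obj (DerivedCategory.Q.obj L) ⟶
      (DerivedCategory.homologyFunctor (ModuleCat.{u} R) n₁).obj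
        (DerivedCategory.Q.obj (CochainComplex.mappingCocone φ)) :=
  DerivedCategory.HomologySequence.δ (T φ) n₀ n₁ h

lemma map_δQ (n₀ n₁ : ℤ) (h : n₀ + 1 = n₁) :
    (DerivedCategory.homologyFunctor (ModuleCat.{u} R) n₀).map (DerivedCategory.Q.map φ) ≫
      δQ φ n₀ n₁ h = 0 :=
  DerivedCategory.HomologySequence.comp_δ (T φ) (hT φ) n₀ n₁ h

lemma δQ_map (n₀ n₁ : ℤ) (h : n₀ + 1 = n₁) :
    δQ φ n₀ n₁ h ≫ (DerivedCategory.homologyFunctor (ModuleCat.{u} R) n₁).map
      (DerivedCategory.Q.map (CochainComplex.mappingCocone.fst φ)) = 0 :=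
  DerivedCategory.HomologySequence.δ_comp (T φ) (hT φ) n₀ n₁ h

lemma exactQ₁ (n₀ n₁ : ℤ) (h : n₀ + 1 = n₁) :
    (ShortComplex.mk _ _ (δQ_map φ n₀ n₁ h)).Exact :=
  DerivedCategory.HomologySequence.exact₁ (T φ) (hT φ) n₀ n₁ h

/-- connecting map `H^{n₀}(L) ⟶ H^{n₁}(cocone)`. -/
noncomputable def delta (n₀ n₁ : ℤ) (h : n₀ + 1 = n₁) :
    L.homology n₀ ⟶ (CochainComplex.mappingCocone φ).homology n₁ :=
  (eH L n₀).inv ≫ δQ φ n₀ n₁ h ≫ (eH (CochainComplex.mappingCocone φ) n₁).hom

lemma homologyMap_eq {X Y : CochainComplex (ModuleCat.{u} R) ℤ} (f : X ⟶ Y) (n : ℤ) :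
    HomologicalComplex.homologyMap f n = (eH X n).inv ≫
      (DerivedCategory.homologyFunctor (ModuleCat.{u} R) n).map (DerivedCategory.Q.map f) ≫
        (eH Y n).hom := by
  rw [eH_naturality, Iso.inv_hom_id_assoc]

/-- (L1) `φ_* ∘ fst_* = 0`. -/
lemma map_fst_map (n : ℤ) (x : (CochainComplex.mappingCocone φ).homology n) :
    HomologicalComplex.homologyMap φ n
      (HomologicalComplex.homologyMap (CochainComplex.mappingCocone.fst φ) n x) = 0 := by
  have h1 : HomologicalComplex.homologyMap (CochainComplex.mappingCocone.fst φ) n ≫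
      HomologicalComplex.homologyMap φ n = 0 := by
    rw [← HomologicalComplex.homologyMap_comp]
    have h0 : (DerivedCategory.homologyFunctor (ModuleCat.{u} R) n).map
        (DerivedCategory.Q.map (CochainComplex.mappingCocone.fst φ ≫ φ)) = 0 := by
      have : DerivedCategory.Q.map (CochainComplex.mappingCocone.fst φ ≫ φ) = 0 := by
        rw [Functor.map_comp]
        exact comp_distTriang_mor_zero₁₂ _ (hT φ)
      rw [this, Functor.map_zero]
    rw [homologyMap_eq, h0, zero_comp, comp_zero]
  have := congrArg (fun f => f.hom x) h1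
  simpa using this

/-- (L4) `δ ∘ φ_* = 0`. -/
lemma delta_map (n₀ n₁ : ℤ) (h : n₀ + 1 = n₁) (w : K.homology n₀) :
    delta φ n₀ n₁ h (HomologicalComplex.homologyMap φ n₀ w) = 0 := by
  have h1 : HomologicalComplex.homologyMap φ n₀ ≫ delta φ n₀ n₁ h = 0 := by
    rw [homologyMap_eq, delta]
    simp only [Category.assoc, Iso.hom_inv_id_assoc]
    rw [reassoc_of% (map_δQ φ n₀ n₁ h), zero_comp, comp_zero]
  have := congrArg (fun f => f.hom w) h1
  simpa using this

lemma iso_hom_inv_apply {A B : ModuleCat.{u} R} (e : A ≅ B) (a : A) : e.inv (e.hom a) = a :=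
  congrArg (fun f => f.hom a) e.hom_inv_id

lemma iso_inv_hom_apply {A B : ModuleCat.{u} R} (e : A ≅ B) (b : B) : e.hom (e.inv b) = b :=
  congrArg (fun f => f.hom b) e.inv_hom_id

/-- (L3) exactness at `H^{n₁}(cocone)`. -/
lemma exists_delta_eq (n₀ n₁ : ℤ) (h : n₀ + 1 = n₁)
    (x : (CochainComplex.mappingCocone φ).homology n₁)
    (hx : HomologicalComplex.homologyMap (CochainComplex.mappingCocone.fst φ) n₁ x = 0) :
    ∃ z : L.homology n₀, delta φ n₀ n₁ h z = x := by
  have hex := exactQ₁ φ n₀ n₁ h
  rw [ShortComplex.ShortExact.moduleCat_exact_iff_function_exact] at hex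
  let eC := eH (CochainComplex.mappingCocone φ) n₁
  let x' := eC.inv x
  have hx0 : (DerivedCategory.homologyFunctor (ModuleCat.{u} R) n₁).map
      (DerivedCategory.Q.map (CochainComplex.mappingCocone.fst φ)) x' = 0 := by
    have h1 := eH_naturality (CochainComplex.mappingCocone.fst φ) n₁
    have h2 := congrArg (fun f => f.hom x') h1
    simp only [ModuleCat.hom_comp, LinearMap.coe_comp, Function.comp_apply] at h2
    have h3 : eC.hom x' = x := iso_inv_hom_apply eC x
    have h2' : (eH K n₁).hom ((DerivedCategory.homologyFunctor (ModuleCat.{u} R) n₁).map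
      (DerivedCategory.Q.map (CochainComplex.mappingCocone.fst φ)) x') =
        HomologicalComplex.homologyMap (CochainComplex.mappingCocone.fst φ) n₁ (eC.hom x') := h2
    rw [h3, hx] at h2'
    have h4 := congrArg (eH K n₁).inv h2'
    rw [map_zero, iso_hom_inv_apply] at h4
    exact h4
  obtain ⟨z', hz'⟩ := (hex x').1 hx0
  refine ⟨(eH L n₀).hom z', ?_⟩
  have hz'' : δQ φ n₀ n₁ h z' = x' := hz'
  change eC.hom (δQ φ n₀ n₁ h ((eH L n₀).inv ((eH L n₀).hom z'))) = x
  rw [iso_hom_inv_apply, hz'']
  exact iso_inv_hom_apply eC x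

end LES

section Loc

variable (S : Submonoid R)

lemma locFunctor_map_exact (T : ShortComplex (ModuleCat.{u} R)) (h : T.Exact) :
    (T.map (DerCA.locFunctor S)).Exact := by
  rw [ShortComplex.ShortExact.moduleCat_exact_iff_function_exact] at h ⊢
  exact IsLocalizedModule.map_exact S (LocalizedModule.mkLinearMap S T.X₁)
    (LocalizedModule.mkLinearMap S T.X₂) (LocalizedModule.mkLinearMap S T.X₃) _ _ h

instance : (DerCA.locFunctor S).PreservesHomology :=
  ((Functor.exact_tfae _).out 1 2).1 (locFunctor_map_exact S)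

lemma exists_isos (K : CochainComplex (ModuleCat.{u} R) ℤ) (q : ℤ) :
    ∃ (a : K.homology q ≅ K.homology q)
      (b : ((DerCA.locCx S).obj K).homology q ≅ (DerCA.locFunctor S).obj (K.homology q)),
      HomologicalComplex.homologyMap (DerCA.locCxUnit S K) q =
        a.hom ≫ (DerCA.locUnit S).app (K.homology q) ≫ b.inv :=
  ⟨(K.sc q).mapHomologyIso (𝟭 (ModuleCat.{u} R)), (K.sc q).mapHomologyIso (DerCA.locFunctor S),
    ShortComplex.homologyMap_mapNatTrans (K.sc q) (DerCA.locUnit S)⟩

variable (K : CochainComplex (ModuleCat.{u} R) ℤ) (q : ℤ)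

/-- (M1) -/
lemma exists_smul_eq_zero (y : K.homology q)
    (hy : HomologicalComplex.homologyMap (DerCA.locCxUnit S K) q y = 0) :
    ∃ s : S, (s : R) • y = 0 := by
  obtain ⟨a, b, hab⟩ := exists_isos S K q
  have h1 : b.inv ((DerCA.locUnit S).app (K.homology q) (a.hom y)) = 0 := by
    rw [← hy, hab]; rfl
  have h2 := congrArg b.hom h1
  rw [iso_inv_hom_apply, map_zero] at h2
  have h3 : LocalizedModule.mkLinearMap S (K.homology q) (a.hom y) = 0 := h2
  obtain ⟨s, hs⟩ := (IsLocalizedModule.eq_zero_iff S (LocalizedModule.mkLinearMap S _)).1 h3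
  refine ⟨s, ?_⟩
  have h4 : a.hom ((s : R) • y) = 0 := by
    rw [map_smul]; exact hs
  have h5 := congrArg a.inv h4
  rw [iso_hom_inv_apply, map_zero] at h5
  exact h5

/-- (M2) -/
lemma exists_smul_eq_map (z : ((DerCA.locCx S).obj K).homology q) :
    ∃ (s : S) (w : K.homology q),
      (s : R) • z = HomologicalComplex.homologyMap (DerCA.locCxUnit S K) q w := by
  obtain ⟨a, b, hab⟩ := exists_isos S K q
  obtain ⟨⟨m, s⟩, hms⟩ := IsLocalizedModule.surj S
    (LocalizedModule.mkLinearMap S (K.homology q)) (b.hom z)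
  refine ⟨s, a.inv m, ?_⟩
  rw [hab]
  change (s : R) • z = b.inv ((DerCA.locUnit S).app (K.homology q) (a.hom (a.inv m)))
  rw [iso_inv_hom_apply]
  have h1 : (DerCA.locUnit S).app (K.homology q) m = (s : R) • b.hom z := hms.symm
  rw [h1, map_smul, iso_hom_inv_apply]

/-- (M3) -/
lemma eq_zero_of_smul_eq_zero (z : ((DerCA.locCx S).obj K).homology q) (s : S)
    (hz : (s : R) • z = 0) : z = 0 := by
  obtain ⟨a, b, hab⟩ := exists_isos S K q
  have h1 : (s : R) • b.hom z = 0 := by rw [← map_smul, hz, map_zero]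
  have h2 : b.hom z = 0 := by
    apply IsLocalizedModule.smul_injective (LocalizedModule.mkLinearMap S (K.homology q)) s
    change (s : R) • b.hom z = (s : R) • (0 : LocalizedModule S (K.homology q))
    rw [h1]
    exact (smul_zero _).symm
  have h3 := congrArg b.inv h2
  rw [iso_hom_inv_apply, map_zero] at h3
  exact h3

end Loc

section Torsion

lemma extCech_cons (M : ModuleCat.{u} R) (f : R) (fs : List R) :
    DerCA.extCech M (f :: fs) =
      CochainComplex.mappingCocone (DerCA.locCxUnit (Submonoid.powers f) (DerCA.extCech M fs)) :=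
  rfl

lemma torsion_step (K : CochainComplex (ModuleCat.{u} R) ℤ) (f g : R)
    (hK : g = f ∨ ∀ (q : ℤ) (w : K.homology q), ∃ n : ℕ, g ^ n • w = 0) (q : ℤ)
    (x : (CochainComplex.mappingCocone (DerCA.locCxUnit (Submonoid.powers f) K)).homology q) :
    ∃ n : ℕ, g ^ n • x = 0 := by
  let φ := DerCA.locCxUnit (Submonoid.powers f) K
  let y := HomologicalComplex.homologyMap (CochainComplex.mappingCocone.fst φ) q x
  have hq : (q - 1) + 1 = q := by omega
  rcases hK with rfl | ih
  · -- g = f
    have h1 : HomologicalComplex.homologyMap φ q y = 0 := map_fst_map φ q x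
    obtain ⟨s, hs⟩ := exists_smul_eq_zero (Submonoid.powers g) K q y h1
    obtain ⟨a, ha⟩ := (Submonoid.mem_powers_iff _ _).1 s.2
    have h2 : HomologicalComplex.homologyMap (CochainComplex.mappingCocone.fst φ) q
        (g ^ a • x) = 0 := by
      rw [map_smul, ha]; exact hs
    obtain ⟨z, hz⟩ := exists_delta_eq φ (q - 1) q hq (g ^ a • x) h2
    obtain ⟨s', w, hw⟩ := exists_smul_eq_map (Submonoid.powers g) K (q - 1) z
    obtain ⟨b, hb⟩ := (Submonoid.mem_powers_iff _ _).1 s'.2
    refine ⟨b + a, ?_⟩
    rw [pow_add, mul_smul, ← hz, ← map_smul, hb, hw]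
    exact delta_map φ (q - 1) q hq w
  · -- g ∈ fs
    obtain ⟨a, ha⟩ := ih q y
    have h2 : HomologicalComplex.homologyMap (CochainComplex.mappingCocone.fst φ) q
        (g ^ a • x) = 0 := by
      rw [map_smul]; exact ha
    obtain ⟨z, hz⟩ := exists_delta_eq φ (q - 1) q hq (g ^ a • x) h2
    obtain ⟨s', w, hw⟩ := exists_smul_eq_map (Submonoid.powers f) K (q - 1) z
    obtain ⟨c, hc⟩ := ih (q - 1) w
    have h3 : (s' : R) • (g ^ c • z) = 0 := by
      rw [smul_comm, hw, ← map_smul, hc, map_zero]
    have h4 : g ^ c • z = 0 := eq_zero_of_smul_eq_zero (Submonoid.powers f) K (q - 1) _ s' h3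
    refine ⟨c + a, ?_⟩
    rw [pow_add, mul_smul, ← hz, ← map_smul, h4, map_zero]

/-- every cohomology class of the extended Čech complex is killed by a power of each `g ∈ fs`. -/
theorem torsion (M : ModuleCat.{u} R) : ∀ (fs : List R) (g : R), g ∈ fs → ∀ (q : ℤ)
    (x : DerCA.extCechH fs M q), ∃ n : ℕ, g ^ n • x = 0 := by
  intro fs
  induction fs with
  | nil => intro g hg; simp at hg
  | cons f fs ih =>
    intro g hg q x
    refine torsion_step (DerCA.extCech M fs) f g ?_ q x
    rcases List.mem_cons.1 hg with h | h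
    · exact Or.inl h
    · exact Or.inr (fun q w => ih g h q w)

lemma common_power {N : Type*} [AddCommGroup N] [Module R N] (x : N) :
    ∀ l : List R, (∀ g ∈ l, ∃ n : ℕ, g ^ n • x = 0) →
      ∃ n : ℕ, 1 ≤ n ∧ ∀ g ∈ l, g ^ n • x = 0 := by
  intro l
  induction l with
  | nil => intro _; exact ⟨1, le_refl _, by simp⟩
  | cons g l ih =>
    intro h
    obtain ⟨n₁, hn₁, h₁⟩ := ih (fun g' hg' => h g' (List.mem_cons_of_mem _ hg'))
    obtain ⟨a, ha⟩ := h g List.mem_cons_self
    refine ⟨n₁ + a, by omega, ?_⟩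
    intro g' hg'
    rcases List.mem_cons.1 hg' with rfl | hg''
    · rw [pow_add, mul_smul, ha, smul_zero]
    · rw [pow_add, mul_comm, mul_smul, h₁ g' hg'', smul_zero]

theorem s9265 (fs : List R) (M : ModuleCat.{u} R) (q : ℤ) (x : DerCA.extCechH fs M q) :
    ∃ n : ℕ, 1 ≤ n ∧ ∀ f ∈ fs, (f ^ n) • x = 0 :=
  common_power x fs (fun g hg => torsion M fs g hg q x)

end Torsion

section Invertible

variable (f : R)

/-- `f` acts invertibly on the object `X`. -/
def ActsIso (X : ModuleCat.{u} R) : Prop := IsIso (f • 𝟙 X)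

lemma actsIso_of_bijective (X : ModuleCat.{u} R) (h : Function.Bijective (fun m : X => f • m)) :
    ActsIso f X := by
  rw [ActsIso, ConcreteCategory.isIso_iff_bijective]
  exact h

lemma actsIso_of_iso {X Y : ModuleCat.{u} R} (e : X ≅ Y) (h : ActsIso f X) : ActsIso f Y := by
  have : f • 𝟙 Y = e.inv ≫ (f • 𝟙 X) ≫ e.hom := by
    rw [Linear.smul_comp, Linear.comp_smul, Category.id_comp, e.inv_hom_id]
  rw [ActsIso, this]
  haveI : IsIso (f • 𝟙 X) := h
  infer_instance

lemma actsIso_of_isZero {X : ModuleCat.{u} R} (h : IsZero X) : ActsIso f X := by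
  have : f • 𝟙 X = 𝟙 X := h.eq_of_src _ _
  rw [ActsIso, this]
  infer_instance

lemma actsIso_biprod {X Y : ModuleCat.{u} R} (hX : ActsIso f X) (hY : ActsIso f Y) :
    ActsIso f (X ⊞ Y) := by
  haveI : IsIso (f • 𝟙 X) := hX
  haveI : IsIso (f • 𝟙 Y) := hY
  have : f • 𝟙 (X ⊞ Y) = biprod.map (f • 𝟙 X) (f • 𝟙 Y) := by
    apply biprod.hom_ext
    · simp [Linear.smul_comp, Linear.comp_smul]
    · simp [Linear.smul_comp, Linear.comp_smul]
  rw [ActsIso, this]
  exact (biprod.mapIso (asIso (f • 𝟙 X)) (asIso (f • 𝟙 Y))).isIso_hom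

lemma locFunctor_map_smul (S : Submonoid R) {X Y : ModuleCat.{u} R} (g : X ⟶ Y) :
    (DerCA.locFunctor S).map (f • g) = f • (DerCA.locFunctor S).map g := by
  ext x
  change (IsLocalizedModule.map S (LocalizedModule.mkLinearMap S X)
    (LocalizedModule.mkLinearMap S Y)) (f • g.hom) x = _
  rw [map_smul]
  rfl

lemma actsIso_loc (S : Submonoid R) {X : ModuleCat.{u} R} (hX : ActsIso f X) :
    ActsIso f ((DerCA.locFunctor S).obj X) := by
  haveI : IsIso (f • 𝟙 X) := hX
  have : f • 𝟙 ((DerCA.locFunctor S).obj X) = (DerCA.locFunctor S).map (f • 𝟙 X) := by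
    rw [locFunctor_map_smul, CategoryTheory.Functor.map_id]
  rw [ActsIso, this]
  infer_instance

/-- `f` acts invertibly on every term of the extended Čech complex. -/
theorem actsIso_terms (M : ModuleCat.{u} R) (hM : ActsIso f M) :
    ∀ (fs : List R) (q : ℤ), ActsIso f ((DerCA.extCech M fs).X q) := by
  intro fs
  induction fs with
  | nil =>
    intro q
    by_cases hq : q = 0
    · subst hq
      exact actsIso_of_iso f (HomologicalComplex.singleObjXSelf (ComplexShape.up ℤ) 0 M).symm hM
    · exact actsIso_of_isZero f (HomologicalComplex.isZero_single_obj_X (ComplexShape.up ℤ) 0 M q hq)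
  | cons g fs ih =>
    intro q
    refine actsIso_of_iso f (DerCA.mappingCoconeXIso
      (DerCA.locCxUnit (Submonoid.powers g) (DerCA.extCech M fs)) q).symm ?_
    exact actsIso_biprod f (ih q) (actsIso_loc f _ (ih (q - 1)))

/-- if `f` acts invertibly on every term of a complex, it acts injectively on homology. -/
lemma smul_injective_homology (C : CochainComplex (ModuleCat.{u} R) ℤ)
    (hC : ∀ q, ActsIso f (C.X q)) (q : ℤ) (x : C.homology q) (hx : f • x = 0) : x = 0 := by
  have hiso : IsIso (f • 𝟙 C) := by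
    apply (config := { allowSynthFailures := true }) HomologicalComplex.Hom.isIso_of_components
    intro i
    exact hC i
  have h1 : HomologicalComplex.homologyMap (f • 𝟙 C) q = f • 𝟙 (C.homology q) := by
    have : (HomologicalComplex.shortComplexFunctor (ModuleCat.{u} R) (ComplexShape.up ℤ) q).map
        (f • 𝟙 C) = f • 𝟙 _ := rfl
    change ShortComplex.homologyMap
      ((HomologicalComplex.shortComplexFunctor (ModuleCat.{u} R) (ComplexShape.up ℤ) q).map
        (f • 𝟙 C)) = _
    rw [this, ShortComplex.homologyMap_smul, ShortComplex.homologyMap_id]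
    rfl
  haveI : IsIso (HomologicalComplex.homologyMap (f • 𝟙 C) q) := inferInstance
  have hinj : Function.Injective (HomologicalComplex.homologyMap (f • 𝟙 C) q) :=
    ((ConcreteCategory.isIso_iff_bijective _).1 inferInstance).1
  apply hinj
  rw [map_zero, h1]
  exact hx

/-- S9266: if `f ∈ (fs)` acts invertibly on `M`, all cohomology of the extended Čech complex
vanishes. -/
theorem s9266 (fs : List R) (M : ModuleCat.{u} R) (hf : f ∈ Ideal.span {a : R | a ∈ fs})
    (hbij : Function.Bijective (fun m : M => f • m)) (q : ℤ) :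
    IsZero (DerCA.extCechH fs M q) := by
  have hterms := actsIso_terms f M (actsIso_of_bijective f M hbij) fs
  rw [ModuleCat.isZero_iff_subsingleton]
  refine ⟨fun x y => ?_⟩
  suffices h : ∀ z : DerCA.extCechH fs M q, z = 0 by rw [h x, h y]
  intro z
  -- annihilator argument
  obtain ⟨n, -, hn⟩ := s9265 fs M q z
  let J : Ideal R := (Submodule.span R {z}).annihilator
  have hJ : ∀ g ∈ fs, g ∈ J.radical := by
    intro g hg
    refine ⟨n, ?_⟩
    rw [Submodule.mem_annihilator_span_singleton]
    exact hn g hg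
  have hfJ : f ∈ J.radical := by
    have : Ideal.span {a : R | a ∈ fs} ≤ J.radical := by
      rw [Ideal.span_le]
      intro g hg
      exact hJ g hg
    exact this hf
  obtain ⟨N, hN⟩ := hfJ
  have hN' : f ^ N • z = 0 := by
    rwa [Submodule.mem_annihilator_span_singleton] at hN
  -- injectivity of f on homology
  have hinj : ∀ (k : ℕ) (w : DerCA.extCechH fs M q), f ^ k • w = 0 → w = 0 := by
    intro k
    induction k with
    | zero => intro w hw; simpa using hw
    | succ k ih =>
      intro w hw
      apply ih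
      apply smul_injective_homology f (DerCA.extCech M fs) hterms q
      rw [← mul_smul, ← pow_succ']
      exact hw
  exact hinj N z hN'

end Invertible

section Range

theorem isZero_terms (M : ModuleCat.{u} R) : ∀ (fs : List R) (q : ℤ),
    (q < 0 ∨ (fs.length : ℤ) < q) → IsZero ((DerCA.extCech M fs).X q) := by
  intro fs
  induction fs with
  | nil =>
    intro q hq
    have hq0 : q ≠ 0 := by
      rcases hq with h | h
      · omega
      · simp at h; omega
    exact HomologicalComplex.isZero_single_obj_X (ComplexShape.up ℤ) 0 M q hq0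
  | cons g fs ih =>
    intro q hq
    refine IsZero.of_iso ?_ (DerCA.mappingCoconeXIso
      (DerCA.locCxUnit (Submonoid.powers g) (DerCA.extCech M fs)) q)
    have h1 : IsZero ((DerCA.extCech M fs).X q) := by
      apply ih
      rcases hq with h | h
      · exact Or.inl h
      · right; simp only [List.length_cons] at h; push_cast at h; omega
    have h2 : IsZero ((DerCA.extCech M fs).X (q - 1)) := by
      apply ih
      rcases hq with h | h
      · left; omega
      · right; simp only [List.length_cons] at h; push_cast at h; omega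
    have h3 : IsZero (((DerCA.locCx (Submonoid.powers g)).obj (DerCA.extCech M fs)).X (q - 1)) :=
      (DerCA.locFunctor (Submonoid.powers g)).map_isZero h2
    rw [IsZero.iff_id_eq_zero]
    apply biprod.hom_ext
    · simp only [Category.id_comp, zero_comp]
      exact h1.eq_of_tgt _ _
    · simp only [Category.id_comp, zero_comp]
      exact h3.eq_of_tgt _ _

theorem s9264 (fs : List R) (M : ModuleCat.{u} R) (q : ℤ) (hq : q < 0 ∨ (fs.length : ℤ) < q) :
    IsZero (DerCA.extCechH fs M q) :=
  ShortComplex.isZero_homology_of_isZero_X₂ _ (isZero_terms M fs q hq)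

end Range

end Groth.Agent.Lib.Helper6.ExtCech
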