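import Mathlib
import Groth.Agent.Lib.Helper8.SpecConn
import Groth.Agent.Lib.Helper8.TensorInj
import Groth.Agent.Lib.Helper8.GeomFibre
import Groth.Agent.Lib.Helper8.GeomAssembly
import Groth.Agent.S9630

set_option autoImplicit false

namespace Groth.Agent.Lib.Helper6.GeomIrr

open Polynomial TensorProduct IntermediateField

universe u

section irr
variable {k K : Type*} [Field k] [Field K] [Algebra k K]

/-- Coefficients of a monic divisor of a separable polynomial over `k` are separable over `k`. -/
theorem coeff_isSeparable {f : k[X]} (hf : f.Monic) (hsep : f.Separable) {g : K[X]}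
    (hg : g.Monic) (hd : g ∣ f.map (algebraMap k K)) (n : ℕ) : IsSeparable k (g.coeff n) := by
  have hmem := (SplittingField.splits g).mem_lift_of_roots_mem_range (hg.map _)
    (algebraMap (separableClosure k g.SplittingField) g.SplittingField) ?_
  · rw [lifts_iff_coeff_lifts] at hmem
    obtain ⟨⟨y, hy⟩, hyn⟩ := hmem n
    rw [coeff_map] at hyn
    have h1 : IsSeparable k (algebraMap K g.SplittingField (g.coeff n)) := by
      rw [← hyn]
      exact hy
    exact h1.tower_bot
  · intro a ha
    have h1 : a ∈ (f.map (algebraMap k g.SplittingField)).roots := by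
      rw [IsScalarTower.algebraMap_eq k K g.SplittingField, ← Polynomial.map_map]
      exact Multiset.mem_of_le
        (roots.le_of_dvd ((hf.map _).map _).ne_zero (map_dvd _ hd)) ha
    have hroot : aeval a f = 0 := by
      have := (mem_roots'.mp h1).2
      rwa [IsRoot.def, eval_map, ← aeval_def] at this
    have hsepa : IsSeparable k a := hsep.of_dvd (minpoly.dvd k a hroot)
    exact ⟨⟨a, hsepa⟩, rfl⟩

/-- If `k` is separably closed in `K`, irreducible separable polynomials over `k` stay
irreducible over `K`. -/
theorem irreducible_map_of_separable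
    (h : ∀ α : K, IsSeparable k α → α ∈ Set.range (algebraMap k K))
    {f : k[X]} (hf : f.Monic) (hsep : f.Separable) (hirr : Irreducible f) :
    Irreducible (f.map (algebraMap k K)) := by
  have hnu : ¬ IsUnit (f.map (algebraMap k K)) := by
    refine Polynomial.not_isUnit_of_natDegree_pos _ ?_
    rw [natDegree_map]
    exact hirr.natDegree_pos
  obtain ⟨g, hgm, hgi, hgd⟩ := Polynomial.exists_monic_irreducible_factor _ hnu
  have hl' : g ∈ lifts (algebraMap k K) := by
    rw [lifts_iff_coeff_lifts]
    intro n
    exact h _ (coeff_isSeparable hf hsep hgm hgd n)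
  obtain ⟨g₀, hg₀, -, hg₀m⟩ := lifts_and_natDegree_eq_and_monic hl' hgm
  rw [← hg₀, Polynomial.map_dvd_map'] at hgd
  have hg₀nu : ¬ IsUnit g₀ := by
    intro hu
    apply hgi.not_isUnit
    rw [← hg₀]
    exact hu.map (Polynomial.mapRingHom (algebraMap k K))
  have hassoc : Associated g₀ f := ((hirr.dvd_iff.mp hgd).resolve_left hg₀nu).symm
  have : g₀ = f := eq_of_monic_of_associated hg₀m hf hassoc
  rw [← this, hg₀]
  exact hgi

/-- base change of `AdjoinRoot p` stays a domain -/
theorem isDomain_tensor_adjoinRoot
    (h : ∀ α : K, IsSeparable k α → α ∈ Set.range (algebraMap k K)) {p : k[X]} (hp : p.Monic)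
    (hsep : p.Separable) (hirr : Irreducible p) : IsDomain (K ⊗[k] AdjoinRoot p) := by
  let q : (K ⊗[k] k)[X] :=
    p.map (Algebra.TensorProduct.includeRight : k →ₐ[k] K ⊗[k] k).toRingHom
  let ρ : (K ⊗[k] k) ≃+* K := (Algebra.TensorProduct.rid k K K).toRingEquiv
  have hqρ : Polynomial.mapEquiv ρ q = p.map (algebraMap k K) := by
    simp only [q, Polynomial.mapEquiv_apply, Polynomial.map_map]
    congr 1
    ext x
    simp [ρ, Algebra.algebraMap_eq_smul_one]
  have hq : Prime q := by
    have key := MulEquiv.prime_iff (p := q) (Polynomial.mapEquiv ρ)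
    rw [← key, hqρ]
    exact (irreducible_map_of_separable h hp hsep hirr).prime
  have : IsDomain (AdjoinRoot q) := AdjoinRoot.isDomain_of_prime hq
  exact MulEquiv.isDomain (AdjoinRoot q) (AdjoinRoot.tensorAlgEquiv p q rfl).toMulEquiv

/-- finite separable case -/
theorem isDomain_tensor_of_finite_separable
    (h : ∀ α : K, IsSeparable k α → α ∈ Set.range (algebraMap k K)) (K₁ : Type*)
    [Field K₁] [Algebra k K₁] [FiniteDimensional k K₁] [Algebra.IsSeparable k K₁] :
    IsDomain (K ⊗[k] K₁) := by
  obtain ⟨α, hα⟩ := Field.exists_primitive_element k K₁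
  have hint : IsIntegral k α := Algebra.IsIntegral.isIntegral α
  let e : AdjoinRoot (minpoly k α) ≃ₐ[k] K₁ :=
    (IntermediateField.adjoinRootEquivAdjoin k hint).trans
      ((IntermediateField.equivOfEq hα).trans IntermediateField.topEquiv)
  have := isDomain_tensor_adjoinRoot h (minpoly.monic hint)
    (Algebra.IsSeparable.isSeparable k α) (minpoly.irreducible hint)
  exact MulEquiv.isDomain (K ⊗[k] AdjoinRoot (minpoly k α))
    (Algebra.TensorProduct.congr (AlgEquiv.refl : K ≃ₐ[k] K) e.symm).toMulEquiv

end irr

/-- If `k` is separably closed in `K`, then `K` is geometrically irreducible over `k`. -/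
theorem irreducibleSpace_of_sepClosedIn {k K : Type u} [Field k] [Field K] [Algebra k K]
    (h : ∀ α : K, IsSeparable k α → α ∈ Set.range (algebraMap k K))
    (k' : Type u) [Field k'] [Algebra k k'] : IrreducibleSpace (PrimeSpectrum (k' ⊗[k] K)) := by
  have h2 : ∀ (k' : Type u) [Field k'] [Algebra k k'] [Module.Finite k k']
      [Algebra.IsSeparable k k'], IrreducibleSpace (PrimeSpectrum (k' ⊗[k] K)) := by
    intro k' _ _ _ _
    have h3 := isDomain_tensor_of_finite_separable h k'
    have h4 : IsDomain (k' ⊗[k] K) :=
      MulEquiv.isDomain _ (Algebra.TensorProduct.comm k k' K).toMulEquiv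
    infer_instance
  have h5 := (Groth.Agent.S9630.result (k := k) (R := K)).out 1 0
  exact h5.mp h2 k'

/-- An étale algebra over a separably closed field with irreducible spectrum has rank one. -/
theorem finrank_eq_one_of_irreducible (Ω A : Type u) [Field Ω] [IsSepClosed Ω] [CommRing A]
    [Algebra Ω A] [Algebra.EssFiniteType Ω A] [Algebra.FormallyEtale Ω A]
    [IrreducibleSpace (PrimeSpectrum A)] : Module.finrank Ω A = 1 := by
  have hfin2 : Module.Finite Ω A := Algebra.FormallyUnramified.finite_of_free Ω A
  have hart : IsArtinianRing A := isArtinian_of_tower Ω inferInstance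
  have hdisc : DiscreteTopology (PrimeSpectrum A) := inferInstance
  have ht2 : T2Space (PrimeSpectrum A) := inferInstance
  have hsub : Subsingleton (PrimeSpectrum A) := by
    have h1 := (PreirreducibleSpace.isPreirreducible_univ (X := PrimeSpectrum A)).subsingleton
    exact ⟨fun x y => h1 (Set.mem_univ x) (Set.mem_univ y)⟩
  have hne : Nonempty (PrimeSpectrum A) := inferInstance
  have hfinP : Finite (PrimeSpectrum A) := inferInstance
  have e := Algebra.FormallyEtale.equivPiOfIsSepClosed Ω A
  rw [LinearEquiv.finrank_eq e.toLinearEquiv]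
  have := Fintype.ofFinite (PrimeSpectrum A)
  rw [Module.finrank_fintype_fun_eq_card]
  exact Fintype.card_eq_one_iff.mpr ⟨hne.some, fun y => Subsingleton.elim _ _⟩

theorem finrank_eq_one_of_geomIrr {k E : Type u} [Field k] [Field E] [Algebra k E]
    [FiniteDimensional k E] [Algebra.IsSeparable k E]
    (h : IrreducibleSpace (PrimeSpectrum (AlgebraicClosure k ⊗[k] E))) :
    Module.finrank k E = 1 := by
  have hfe : Algebra.FormallyEtale k E := Algebra.FormallyEtale.of_isSeparable k E
  have hfe' : Algebra.FormallyEtale (AlgebraicClosure k) (AlgebraicClosure k ⊗[k] E) :=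
    inferInstance
  have hft : Algebra.EssFiniteType (AlgebraicClosure k) (AlgebraicClosure k ⊗[k] E) :=
    inferInstance
  have hrank := finrank_eq_one_of_irreducible (AlgebraicClosure k) (AlgebraicClosure k ⊗[k] E)
  rw [← hrank, Module.finrank_baseChange]

/-- A geometrically irreducible field extension is separably closed. -/
theorem mem_range_of_geomIrr {k K : Type u} [Field k] [Field K] [Algebra k K]
    (hK : ∀ (k' : Type u) [Field k'] [Algebra k k'], IrreducibleSpace (PrimeSpectrum (k' ⊗[k] K)))
    (α : K) (hα : IsSeparable k α) : α ∈ Set.range (algebraMap k K) := by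
  have hfin : FiniteDimensional k k⟮α⟯ := IntermediateField.adjoin.finiteDimensional hα.isIntegral
  have hsepE : Algebra.IsSeparable k k⟮α⟯ :=
    (IntermediateField.isSeparable_adjoin_simple_iff_isSeparable k K).mpr hα
  have hirr : IrreducibleSpace (PrimeSpectrum (AlgebraicClosure k ⊗[k] k⟮α⟯.toSubalgebra)) := by
    have := hK (AlgebraicClosure k)
    exact Groth.Agent.Helper8.irreducibleSpace_primeSpectrum_of_injective
      (Algebra.TensorProduct.map (AlgHom.id k (AlgebraicClosure k)) k⟮α⟯.toSubalgebra.val).toRingHom
      (Groth.Agent.Helper8.tensorMap_id_injective (AlgebraicClosure k) k⟮α⟯.toSubalgebra.val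
        Subtype.val_injective)
  have hirr' : IrreducibleSpace (PrimeSpectrum (AlgebraicClosure k ⊗[k] k⟮α⟯)) := hirr
  have hrank2 : Module.finrank k k⟮α⟯ = 1 := finrank_eq_one_of_geomIrr hirr'
  have hbot : k⟮α⟯ = ⊥ := IntermediateField.finrank_eq_one_iff.mp hrank2
  have hmem : α ∈ (⊥ : IntermediateField k K) := hbot ▸ IntermediateField.mem_adjoin_simple_self k α
  exact IntermediateField.mem_bot.mp hmem

end Groth.Agent.Lib.Helper6.GeomIrr
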