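import Mathlib

/-! Atiyah–Macdonald 10.23 for rings with adic filtrations: if `gr φ` is surjective in each degree,
`A` is `I`-adically precomplete and `B` is `J`-adically separated, then `φ` is surjective (strict)
and `B` is complete. -/

set_option linter.unusedSectionVars false
set_option autoImplicit false
noncomputable section

namespace Groth.Agent.Lib.Helper6.AdicLift

universe u v

variable {A : Type u} {B : Type v} [CommRing A] [CommRing B] (φ : A →+* B) (I : Ideal A)
  (J : Ideal B) (hIJ : I.map φ ≤ J)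

include hIJ in
lemma map_pow_mem {n : ℕ} {a : A} (ha : a ∈ I ^ n) : φ a ∈ J ^ n := by
  have h1 : φ a ∈ (I ^ n).map φ := Ideal.mem_map_of_mem φ ha
  rw [Ideal.map_pow] at h1
  exact Ideal.pow_right_mono hIJ n h1

lemma smodEq_iff {n : ℕ} {x y : A} :
    x ≡ y [SMOD (I ^ n • ⊤ : Submodule A A)] ↔ x - y ∈ I ^ n := by
  rw [SModEq.sub_mem, smul_eq_mul, Ideal.mul_top]

/-- a sequence with consecutive differences in `I^(n0+k)` is Cauchy -/
lemma diff_mem (n0 : ℕ) (s : ℕ → A) (hs : ∀ k, s (k + 1) - s k ∈ I ^ (n0 + k)) :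
    ∀ m n, m ≤ n → s n - s m ∈ I ^ (n0 + m) := by
  intro m n hmn
  induction n, hmn using Nat.le_induction with
  | base => rw [sub_self]; exact Ideal.zero_mem _
  | succ n hn ih =>
    have : s (n + 1) - s m = (s (n + 1) - s n) + (s n - s m) := by ring
    rw [this]
    exact Ideal.add_mem _ (Ideal.pow_le_pow_right (by omega) (hs n)) ih

variable [IsPrecomplete I A] [IsHausdorff J B]
  (hdeg : ∀ n, ∀ b ∈ J ^ n, ∃ a ∈ I ^ n, b - φ a ∈ J ^ (n + 1))

include hIJ hdeg in
theorem exists_lift (n0 : ℕ) (b : B) (hb : b ∈ J ^ n0) : ∃ a ∈ I ^ n0, φ a = b := by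
  -- construct the approximating sequence
  let t : ∀ k : ℕ, {a : A // b - φ a ∈ J ^ (n0 + k)} := fun k =>
    Nat.rec (motive := fun k => {a : A // b - φ a ∈ J ^ (n0 + k)})
      ⟨0, by simpa using hb⟩
      (fun k tk => ⟨tk.1 + Classical.choose (hdeg (n0 + k) (b - φ tk.1) tk.2), by
        have h := (Classical.choose_spec (hdeg (n0 + k) (b - φ tk.1) tk.2)).2
        have e : b - φ (tk.1 + Classical.choose (hdeg (n0 + k) (b - φ tk.1) tk.2)) =
            b - φ tk.1 - φ (Classical.choose (hdeg (n0 + k) (b - φ tk.1) tk.2)) := by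
          rw [map_add]; ring
        rw [e]
        exact h⟩) k
  have ht0 : (t 0).1 = 0 := rfl
  have htsucc : ∀ k, (t (k + 1)).1 - (t k).1 ∈ I ^ (n0 + k) := by
    intro k
    have : (t (k + 1)).1 = (t k).1 +
        Classical.choose (hdeg (n0 + k) (b - φ (t k).1) (t k).2) := rfl
    rw [this, add_sub_cancel_left]
    exact (Classical.choose_spec (hdeg (n0 + k) (b - φ (t k).1) (t k).2)).1
  have hdiff := diff_mem I n0 (fun k => (t k).1) htsucc
  obtain ⟨L, hL⟩ := IsPrecomplete.prec ‹IsPrecomplete I A› (f := fun k => (t k).1) (by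
    intro m n hmn
    rw [smodEq_iff]
    have h1 := hdiff m n hmn
    have h2 : (t m).1 - (t n).1 = -((t n).1 - (t m).1) := by ring
    rw [h2]
    exact Ideal.neg_mem_iff _ |>.2 (Ideal.pow_le_pow_right (by omega) h1))
  have hL' : ∀ n, (t n).1 - L ∈ I ^ n := fun n => (smodEq_iff I).1 (hL n)
  refine ⟨L, ?_, ?_⟩
  · -- L ∈ I^n0
    have h1 : (t n0).1 ∈ I ^ n0 := by
      have := hdiff 0 n0 (Nat.zero_le _)
      simp only [ht0, sub_zero, add_zero] at this
      exact this
    have h2 := hL' n0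
    have : L = (t n0).1 - ((t n0).1 - L) := by ring
    rw [this]
    exact Ideal.sub_mem _ h1 h2
  · -- φ L = b
    have h3 : φ L - b = 0 := by
      apply IsHausdorff.haus ‹IsHausdorff J B›
      intro n
      rw [SModEq.sub_mem, sub_zero, smul_eq_mul, Ideal.mul_top]
      have h4 : φ ((t n).1 - L) ∈ J ^ n := map_pow_mem φ I J hIJ (hL' n)
      have h5 : b - φ (t n).1 ∈ J ^ n := Ideal.pow_le_pow_right (by omega) (t n).2
      have : φ L - b = -(φ ((t n).1 - L)) - (b - φ (t n).1) := by
        rw [map_sub]; ring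
      rw [this]
      exact Ideal.sub_mem _ (Ideal.neg_mem_iff _ |>.2 h4) h5
    exact sub_eq_zero.1 h3

include hIJ hdeg in
theorem surjective : Function.Surjective φ := by
  intro b
  obtain ⟨a, _, ha⟩ := exists_lift φ I J hIJ hdeg 0 b (by simp)
  exact ⟨a, ha⟩

include hIJ hdeg in
theorem map_eq : I.map φ = J := by
  apply le_antisymm hIJ
  intro b hb
  obtain ⟨a, ha, rfl⟩ := exists_lift φ I J hIJ hdeg 1 b (by simpa using hb)
  exact Ideal.mem_map_of_mem φ (by simpa using ha)

include hIJ hdeg in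
theorem isPrecomplete : IsPrecomplete J B := by
  refine ⟨fun {f} hf => ?_⟩
  have hf' : ∀ n, f (n + 1) - f n ∈ J ^ n := by
    intro n
    have := hf (Nat.le_succ n)
    rw [SModEq.sub_mem, smul_eq_mul, Ideal.mul_top] at this
    have h2 : f (n + 1) - f n = -(f n - f (n + 1)) := by ring
    rw [h2]
    exact Ideal.neg_mem_iff _ |>.2 this
  choose c hcI hc using fun n => exists_lift φ I J hIJ hdeg n (f (n + 1) - f n) (hf' n)
  obtain ⟨a0, ha0⟩ := surjective φ I J hIJ hdeg (f 0)
  let g : ℕ → A := fun n => a0 + ∑ j ∈ Finset.range n, c j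
  have hg : ∀ n, φ (g n) = f n := by
    intro n
    induction n with
    | zero => simp [g, ha0]
    | succ n ih =>
      have : g (n + 1) = g n + c n := by
        simp only [g, Finset.sum_range_succ]; ring
      rw [this, map_add, ih, hc]
      ring
  have hgd : ∀ k, g (k + 1) - g k ∈ I ^ (0 + k) := by
    intro k
    have : g (k + 1) - g k = c k := by
      simp only [g, Finset.sum_range_succ]; ring
    rw [this, zero_add]
    exact hcI k
  have hdiff := diff_mem I 0 g hgd
  obtain ⟨L, hL⟩ := IsPrecomplete.prec ‹IsPrecomplete I A› (f := g) (by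
    intro m n hmn
    rw [smodEq_iff]
    have h1 := hdiff m n hmn
    rw [zero_add] at h1
    have h2 : g m - g n = -(g n - g m) := by ring
    rw [h2]
    exact Ideal.neg_mem_iff _ |>.2 h1)
  refine ⟨φ L, fun n => ?_⟩
  rw [SModEq.sub_mem, smul_eq_mul, Ideal.mul_top, ← hg n, ← map_sub]
  exact map_pow_mem φ I J hIJ ((smodEq_iff I).1 (hL n))

end Groth.Agent.Lib.Helper6.AdicLift
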