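import Groth.Agent.Lib.Helper6.AdicLift

/-! Atiyah–Macdonald 10.24/10.25: generators of the associated graded module lift to generators,
and submodules are closed. Stated through degreewise approximation hypotheses. -/

set_option linter.unusedSectionVars false
set_option autoImplicit false
noncomputable section

namespace Groth.Agent.Lib.Helper6.AdicLiftMod

open Groth.Agent.Lib.Helper6.AdicLift

universe u v

variable {A : Type u} [CommRing A] (I : Ideal A) [IsPrecomplete I A]

/-- convergence of a series whose `j`-th term lies in `I^(w j)` -/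
theorem exists_limit_w (w : ℕ → ℕ) (hw : Monotone w) (s : ℕ) (hws : ∀ j, j ≤ w (j + s))
    (c : ℕ → A) (hc : ∀ j, c j ∈ I ^ (w j)) :
    ∃ b : A, ∀ n, (∑ j ∈ Finset.range n, c j) - b ∈ I ^ (w n) := by
  have hS : ∀ m n, m ≤ n →
      (∑ j ∈ Finset.range n, c j) - (∑ j ∈ Finset.range m, c j) ∈ I ^ (w m) := by
    intro m n hmn
    induction n, hmn using Nat.le_induction with
    | base => rw [sub_self]; exact Ideal.zero_mem _
    | succ n hn ih =>
      rw [Finset.sum_range_succ, add_sub_right_comm]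
      exact Ideal.add_mem _ ih (Ideal.pow_le_pow_right (hw hn) (hc n))
  obtain ⟨L, hL⟩ := IsPrecomplete.prec ‹IsPrecomplete I A›
    (f := fun m => ∑ j ∈ Finset.range (m + s), c j) (by
    intro m n hmn
    rw [smodEq_iff]
    have h1 := hS (m + s) (n + s) (by omega)
    have h2 : (∑ j ∈ Finset.range (m + s), c j) - (∑ j ∈ Finset.range (n + s), c j) =
        -((∑ j ∈ Finset.range (n + s), c j) - (∑ j ∈ Finset.range (m + s), c j)) := by ring
    rw [h2]
    exact Ideal.neg_mem_iff _ |>.2 (Ideal.pow_le_pow_right (hws m) h1))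
  refine ⟨L, fun n => ?_⟩
  have h1 := (smodEq_iff I).1 (hL (max (w n) n))
  have h2 := hS n (max (w n) n + s) (by have := le_max_right (w n) n; omega)
  have h3 : (∑ j ∈ Finset.range n, c j) - L =
      ((∑ j ∈ Finset.range (max (w n) n + s), c j) - L) -
        ((∑ j ∈ Finset.range (max (w n) n + s), c j) - (∑ j ∈ Finset.range n, c j)) := by ring
  rw [h3]
  exact Ideal.sub_mem _ (Ideal.pow_le_pow_right (le_max_left _ _) h1) h2

variable {M : Type v} [AddCommGroup M] [Module A M] (F : I.Filtration M)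

lemma smul_mem_of_mem {a : A} {e d n : ℕ} {x : M} (ha : a ∈ I ^ e) (hx : x ∈ F.N d)
    (hn : n ≤ e + d) : a • x ∈ F.N n :=
  F.antitone hn (F.pow_smul_le e d (Submodule.smul_mem_smul ha hx))

variable (hsep : ⨅ n, F.N n = ⊥) {ι : Type*} [Fintype ι] (d : ι → ℕ) (x : ι → M)
  (hx : ∀ i, x i ∈ F.N (d i)) (M' : Submodule A M) (hxM : ∀ i, x i ∈ M')
  (happrox : ∀ n, ∀ y ∈ F.N n, y ∈ M' → ∃ a : ι → A, (∀ i, a i ∈ I ^ (n - d i)) ∧
      y - ∑ i, a i • x i ∈ F.N (n + 1))

include hsep hx hxM happrox in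
theorem decomp_of_approx (n0 : ℕ) (y : M) (hy : y ∈ F.N n0) (hyM : y ∈ M') :
    ∃ b : ι → A, (∀ i, b i ∈ I ^ (n0 - d i)) ∧ y = ∑ i, b i • x i := by
  let t : ∀ n : ℕ, {y' : M // y' ∈ F.N (n0 + n) ∧ y' ∈ M'} := fun n =>
    Nat.rec (motive := fun n => {y' : M // y' ∈ F.N (n0 + n) ∧ y' ∈ M'})
      ⟨y, hy, hyM⟩
      (fun n tn => ⟨tn.1 - ∑ i, (Classical.choose (happrox (n0 + n) tn.1 tn.2.1 tn.2.2)) i • x i,
        (Classical.choose_spec (happrox (n0 + n) tn.1 tn.2.1 tn.2.2)).2,
        Submodule.sub_mem _ tn.2.2 (Submodule.sum_mem _ fun i _ =>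
          Submodule.smul_mem _ _ (hxM i))⟩) n
  let a : ℕ → ι → A := fun n => Classical.choose (happrox (n0 + n) (t n).1 (t n).2.1 (t n).2.2)
  have ha1 : ∀ n i, a n i ∈ I ^ (n0 + n - d i) := fun n =>
    (Classical.choose_spec (happrox (n0 + n) (t n).1 (t n).2.1 (t n).2.2)).1
  have ht0 : (t 0).1 = y := rfl
  have htsucc : ∀ n, (t (n + 1)).1 = (t n).1 - ∑ i, a n i • x i := fun n => rfl
  have hts : ∀ n, (t n).1 = y - ∑ i, (∑ j ∈ Finset.range n, a j i) • x i := by
    intro n
    induction n with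
    | zero => simp [ht0]
    | succ n ih =>
      rw [htsucc, ih]
      simp only [Finset.sum_range_succ, add_smul, Finset.sum_add_distrib]
      abel
  choose b hb using fun i => exists_limit_w I (fun j => n0 + j - d i)
    (fun j₁ j₂ h => by dsimp only; omega) (d i) (fun j => by omega)
    (fun j => a j i) (fun j => ha1 j i)
  have hy0 : y - ∑ i, b i • x i = 0 := by
    have hmem : y - ∑ i, b i • x i ∈ ⨅ n, F.N n := by
      rw [Submodule.mem_iInf]
      intro m
      have h1 : (t m).1 ∈ F.N m := F.antitone (by omega) (t m).2.1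
      have h2 : ∀ i, ((∑ j ∈ Finset.range m, a j i) - b i) • x i ∈ F.N m := fun i =>
        smul_mem_of_mem I F (hb i m) (hx i) (by omega)
      have h6 : y - ∑ i, b i • x i = (t m).1 +
          ∑ i, ((∑ j ∈ Finset.range m, a j i) - b i) • x i := by
        rw [hts]
        simp only [sub_smul, Finset.sum_sub_distrib]
        abel
      rw [h6]
      exact Submodule.add_mem _ h1 (Submodule.sum_mem _ fun i _ => h2 i)
    rw [hsep] at hmem
    exact hmem
  refine ⟨b, fun i => ?_, sub_eq_zero.1 hy0⟩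
  have := hb i 0
  simp only [Finset.range_zero, Finset.sum_empty, zero_sub, add_zero] at this
  exact (Ideal.neg_mem_iff _).1 this

include hsep hx hxM happrox in
theorem le_span_of_approx (h0 : F.N 0 = ⊤) : M' ≤ Submodule.span A (Set.range x) := by
  intro y hyM
  obtain ⟨b, -, rfl⟩ := decomp_of_approx I F hsep d x hx M' hxM happrox 0 y
    (by rw [h0]; exact Submodule.mem_top) hyM
  exact Submodule.sum_mem _ fun i _ => Submodule.smul_mem _ _ (Submodule.subset_span ⟨i, rfl⟩)

include hsep hx hxM happrox in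
theorem closed_of_approx : ⨅ n, M' ⊔ F.N n = M' := by
  apply le_antisymm _ (le_iInf fun n => le_sup_left)
  intro y hy
  rw [Submodule.mem_iInf] at hy
  have h1 : ∀ n, ∃ m ∈ M', y - m ∈ F.N n := by
    intro n
    obtain ⟨m, hm, z, hz, rfl⟩ := Submodule.mem_sup.1 (hy n)
    exact ⟨m, hm, by rwa [add_sub_cancel_left]⟩
  choose m hmM hm using h1
  have he : ∀ n, m (n + 1) - m n ∈ F.N n := by
    intro n
    have : m (n + 1) - m n = (y - m n) - (y - m (n + 1)) := by abel
    rw [this]
    exact Submodule.sub_mem _ (hm n) (F.antitone (Nat.le_succ n) (hm (n + 1)))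
  have heM : ∀ n, m (n + 1) - m n ∈ M' := fun n => Submodule.sub_mem _ (hmM _) (hmM _)
  choose b hbI hb using fun n => decomp_of_approx I F hsep d x hx M' hxM happrox n
    (m (n + 1) - m n) (he n) (heM n)
  choose B hB using fun i => exists_limit_w I (fun j => j - d i)
    (fun j₁ j₂ h => by dsimp only; omega) (d i) (fun j => by omega)
    (fun j => b j i) (fun j => hbI j i)
  have hmn : ∀ n, m n = m 0 + ∑ i, (∑ j ∈ Finset.range n, b j i) • x i := by
    intro n
    induction n with
    | zero => simp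
    | succ n ih =>
      have : m (n + 1) = m n + (m (n + 1) - m n) := by abel
      rw [this, hb n, ih]
      simp only [Finset.sum_range_succ, add_smul, Finset.sum_add_distrib]
      abel
  have hfin : y - (m 0 + ∑ i, B i • x i) = 0 := by
    have hmem : y - (m 0 + ∑ i, B i • x i) ∈ ⨅ n, F.N n := by
      rw [Submodule.mem_iInf]
      intro n
      have h2 : ∀ i, ((∑ j ∈ Finset.range n, b j i) - B i) • x i ∈ F.N n := fun i =>
        smul_mem_of_mem I F (hB i n) (hx i) (by omega)
      have h3 : y - (m 0 + ∑ i, B i • x i) = (y - m n) +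
          ∑ i, ((∑ j ∈ Finset.range n, b j i) - B i) • x i := by
        rw [hmn n]
        simp only [sub_smul, Finset.sum_sub_distrib]
        abel
      rw [h3]
      exact Submodule.add_mem _ (hm n) (Submodule.sum_mem _ fun i _ => h2 i)
    rw [hsep] at hmem
    exact hmem
  rw [sub_eq_zero.1 hfin]
  exact Submodule.add_mem _ (hmM 0) (Submodule.sum_mem _ fun i _ =>
    Submodule.smul_mem _ _ (hxM i))

end Groth.Agent.Lib.Helper6.AdicLiftMod
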