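import Mathlib.Tactic
import Mathlib.RingTheory.AdicCompletion.Basic
import Mathlib.RingTheory.TensorProduct.Basic

/-! If `N` is an `I`-adically complete `R`-module with a compatible `S`-module structure and
`b ∈ I S`, then multiplication by `1 - b` is bijective on `N`. -/

set_option autoImplicit false

namespace Groth.Agent.Helper6.AdicUnit

universe u
variable {R S : Type u} [CommRing R] [CommRing S] [Algebra R S] (I : Ideal R)
  (N : Type u) [AddCommGroup N] [Module S N] [Module R N] [IsScalarTower R S N]

/-- `I^k N` is stable under `S` -/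
theorem smul_mem_pow (k : ℕ) (s : S) (y : N) (hy : y ∈ (I ^ k • ⊤ : Submodule R N)) :
    s • y ∈ (I ^ k • ⊤ : Submodule R N) := by
  refine Submodule.smul_induction_on hy ?_ ?_
  · intro r hr n _
    rw [smul_comm]
    exact Submodule.smul_mem_smul hr Submodule.mem_top
  · intro x y hx hy
    rw [smul_add]; exact Submodule.add_mem _ hx hy

theorem map_smul_mem (b : S) (hb : b ∈ I.map (algebraMap R S)) (k : ℕ) (y : N)
    (hy : y ∈ (I ^ k • ⊤ : Submodule R N)) : b • y ∈ (I ^ (k + 1) • ⊤ : Submodule R N) := by
  unfold Ideal.map at hb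
  revert y
  refine Submodule.span_induction ?_ ?_ ?_ ?_ hb
  · rintro x ⟨r, hr, rfl⟩ y hy
    rw [algebraMap_smul]
    rw [pow_succ', mul_smul]
    exact Submodule.smul_mem_smul hr hy
  · intro y _; rw [zero_smul]; exact Submodule.zero_mem _
  · intro x y _ _ hx hy z hz
    rw [add_smul]; exact Submodule.add_mem _ (hx z hz) (hy z hz)
  · intro s x _ hx z hz
    rw [smul_eq_mul, mul_smul]
    exact smul_mem_pow I N (k + 1) s _ (hx z hz)

theorem pow_smul_mem (b : S) (hb : b ∈ I.map (algebraMap R S)) (k : ℕ) (y : N) :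
    b ^ k • y ∈ (I ^ k • ⊤ : Submodule R N) := by
  induction k with
  | zero => simp
  | succ k ih =>
    have e : b ^ (k + 1) • y = b • b ^ k • y := by rw [pow_succ', mul_smul]
    rw [e]
    exact map_smul_mem I N b hb k _ ih

variable [IsAdicComplete I N]

theorem one_sub_smul_injective (b : S) (hb : b ∈ I.map (algebraMap R S)) :
    Function.Injective (fun y : N => (1 - b) • y) := by
  intro y z hyz
  simp only at hyz
  have h0 : (1 - b) • (y - z) = 0 := by rw [smul_sub, hyz, sub_self]
  have h1 : y - z = b • (y - z) := by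
    rw [sub_smul, one_smul, sub_eq_zero] at h0; exact h0
  have h2 : ∀ k : ℕ, y - z ∈ (I ^ k • ⊤ : Submodule R N) := by
    intro k
    induction k with
    | zero => simp
    | succ k ih => rw [h1]; exact map_smul_mem I N b hb k _ ih
  have : y - z = 0 := by
    apply IsHausdorff.haus' (I := I) (y - z)
    intro n
    rw [SModEq.zero]; exact h2 n
  exact sub_eq_zero.mp this

theorem one_sub_smul_surjective (b : S) (hb : b ∈ I.map (algebraMap R S)) :
    Function.Surjective (fun y : N => (1 - b) • y) := by
  intro z
  let f : ℕ → N := fun n => ∑ k ∈ Finset.range n, b ^ k • z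
  have hf : ∀ {m n}, m ≤ n → f m ≡ f n [SMOD (I ^ m • ⊤ : Submodule R N)] := by
    intro m n hmn
    rw [SModEq.sub_mem]
    have : f m - f n = - ∑ k ∈ Finset.Ico m n, b ^ k • z := by
      simp only [f]
      rw [Finset.sum_Ico_eq_sub _ hmn]; abel
    rw [this]
    apply Submodule.neg_mem
    apply Submodule.sum_mem
    intro k hk
    have hmk : m ≤ k := (Finset.mem_Ico.mp hk).1
    have := pow_smul_mem I N b hb k z
    exact Submodule.smul_mono_left (Ideal.pow_le_pow_right hmk) this
  obtain ⟨L, hL⟩ := IsPrecomplete.prec' (I := I) f hf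
  refine ⟨L, ?_⟩
  simp only
  have hgeom : ∀ n, (1 - b) • f n = z - b ^ n • z := by
    intro n
    simp only [f]
    induction n with
    | zero => simp
    | succ n ih =>
      rw [Finset.sum_range_succ, smul_add, ih, sub_smul, one_smul, ← mul_smul, ← pow_succ']
      abel
  have : (1 - b) • L - z = 0 := by
    apply IsHausdorff.haus' (I := I)
    intro n
    rw [SModEq.zero]
    have h1 : f n - L ∈ (I ^ n • ⊤ : Submodule R N) := by
      have := hL n
      rwa [SModEq.sub_mem] at this
    have h2 : (1 - b) • (f n - L) ∈ (I ^ n • ⊤ : Submodule R N) := smul_mem_pow I N n _ _ h1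
    have h3 : b ^ n • z ∈ (I ^ n • ⊤ : Submodule R N) := pow_smul_mem I N b hb n z
    have : (1 - b) • L - z = -((1 - b) • (f n - L)) - b ^ n • z := by
      rw [smul_sub, hgeom]; abel
    rw [this]
    exact Submodule.sub_mem _ (Submodule.neg_mem _ h2) h3
  exact sub_eq_zero.mp this

end Groth.Agent.Helper6.AdicUnit
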