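import Mathlib
import Groth.Prelude.Def_W4bk4boschfrg79

/-!
Universal property of `A[f_1, …, f_n] ⊂ A ⊗ K` (chart of an admissible formal blowing-up):
pure algebra, needing only that nonzero elements of the base act injectively on the target.
-/

set_option autoImplicit false
universe u
open scoped TensorProduct

namespace Groth.Agent.Lib.Helper6.AdmExt

theorem isUnit_of_inv_integral {D S : Type*} [CommRing D] [CommRing S] (i : D →+* S)
    (hi : Function.Injective i) (d : D) (y : S) (hy : y * i d = 1) (q : Polynomial D)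
    (hq : q.Monic) (hq0 : q.eval₂ i y = 0) : IsUnit d := by
  let _ : Invertible y := ⟨i d, by rw [mul_comm]; exact hy, hy⟩
  have h1 : q.reverse.eval₂ i (⅟y) = 0 := (Polynomial.eval₂_reverse_eq_zero_iff i y q).mpr hq0
  have h2 : q.reverse.eval₂ i (i d) = 0 := h1
  rw [Polynomial.eval₂_hom] at h2
  have h3 : q.reverse.eval d = 0 := hi (by rw [h2, map_zero])
  have h4 : Polynomial.X * q.reverse.divX + Polynomial.C 1 = q.reverse := by
    have := Polynomial.X_mul_divX_add q.reverse
    rw [Polynomial.coeff_zero_reverse, hq.leadingCoeff] at this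
    exact this
  have h5 : (Polynomial.X * q.reverse.divX + Polynomial.C 1).eval d = 0 := by
    rw [h4]; exact h3
  simp only [Polynomial.eval_add, Polynomial.eval_mul, Polynomial.eval_X, Polynomial.eval_C] at h5
  exact IsUnit.of_mul_eq_one (-(q.reverse.divX.eval d)) (by linear_combination -h5)

theorem exists_dvd_pow {R : Type*} [CommRing R] [IsDomain R] [ValuationRing R] (t : R)
    [IsAdicComplete (Ideal.span {t}) R] (r : R) (hr : r ≠ 0) : ∃ n : ℕ, r ∣ t ^ n := by
  by_contra hcon
  push Not at hcon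
  have h1 : ∀ n, t ^ n ∣ r := fun n => (ValuationRing.dvd_total r (t ^ n)).resolve_left (hcon n)
  apply hr
  have hH : IsHausdorff (Ideal.span {t}) R := inferInstance
  refine hH.haus r (fun n => ?_)
  rw [SModEq.zero, Ideal.span_singleton_pow, smul_eq_mul, Ideal.mul_top, Ideal.mem_span_singleton]
  exact h1 n

theorem eq_zero_of_smul_eq_zero {R : Type u} [CommRing R] [IsDomain R] [ValuationRing R] (t : R)
    [IsAdicComplete (Ideal.span {t}) R] {D : Type u} [CommRing D] [Algebra R D]
    (hD : AdicRing.NoPowTorsion (Ideal.span {t}) D) (r : R) (hr : r ≠ 0) (x : D)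
    (hx : r • x = 0) : x = 0 := by
  obtain ⟨n, b, hb⟩ := exists_dvd_pow t r hr
  refine hD x n (fun a ha => ?_)
  rw [Ideal.span_singleton_pow, Ideal.mem_span_singleton'] at ha
  obtain ⟨a', rfl⟩ := ha
  rw [hb, show a' * (r * b) = (a' * b) * r by ring, mul_smul, hx, smul_zero]

section Main

variable {R : Type u} [CommRing R] [IsDomain R]
  {A : Type u} [CommRing A] [Algebra R A]
  {D : Type u} [CommRing D] [Algebra R D]

theorem includeLeft_injective (hTF : ∀ r : R, r ≠ 0 → ∀ x : D, r • x = 0 → x = 0) :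
    Function.Injective (Algebra.TensorProduct.includeLeft : D →ₐ[R] D ⊗[R] FractionRing R) := by
  intro x y hxy
  have h1 : algebraMap D (D ⊗[R] FractionRing R) x = algebraMap D (D ⊗[R] FractionRing R) y := hxy
  obtain ⟨⟨m, hm⟩, hmxy⟩ := IsLocalization.exists_of_eq
    (M := Algebra.algebraMapSubmonoid D (nonZeroDivisors R)) h1
  obtain ⟨r, hr, rfl⟩ := hm
  have hr0 : r ≠ 0 := nonZeroDivisors.ne_zero hr
  have h2 : r • (x - y) = 0 := by
    rw [Algebra.smul_def, mul_sub, sub_eq_zero]; exact hmxy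
  exact sub_eq_zero.mp (hTF r hr0 _ h2)

theorem main (hTF : ∀ r : R, r ≠ 0 → ∀ x : D, r • x = 0 → x = 0)
    (n : ℕ) (f : Fin n → A ⊗[R] FractionRing R) (hf : ∀ i, IsIntegral A (f i))
    (c : R) (hc : c ≠ 0) (g : Fin n → A)
    (hg : ∀ i, algebraMap A (A ⊗[R] FractionRing R) (g i) = c • f i)
    (φ : A →ₐ[R] D)
    (hgen : (Ideal.span (insert (algebraMap R A c) (Set.range g))).map φ =
          Ideal.span {algebraMap R D c} ∨
      ∃ i, (Ideal.span (insert (algebraMap R A c) (Set.range g))).map φ = Ideal.span {φ (g i)}) :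
    (Ideal.span (insert (algebraMap R A c) (Set.range g))).map φ = Ideal.span {algebraMap R D c} ∧
      ∃! ψ : ↥(Algebra.adjoin A (Set.range f)) →ₐ[R] D,
        ψ.comp (IsScalarTower.toAlgHom R A ↥(Algebra.adjoin A (Set.range f))) = φ := by
  obtain ⟨ι', hι'⟩ : ∃ j : D →ₐ[R] D ⊗[R] FractionRing R,
      j = Algebra.TensorProduct.includeLeft := ⟨_, rfl⟩
  obtain ⟨φK, hφK⟩ : ∃ j : A ⊗[R] FractionRing R →ₐ[R] D ⊗[R] FractionRing R,
      j = Algebra.TensorProduct.map φ (AlgHom.id R (FractionRing R)) := ⟨_, rfl⟩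
  have hinj : Function.Injective ι' := by rw [hι']; exact includeLeft_injective hTF
  have hcK : algebraMap R (FractionRing R) c ≠ 0 := by
    intro h
    exact hc ((IsFractionRing.injective R (FractionRing R)) (by rw [h, map_zero]))
  obtain ⟨u, hu⟩ : ∃ u : D ⊗[R] FractionRing R,
      u = (1 : D) ⊗ₜ[R] (algebraMap R (FractionRing R) c)⁻¹ := ⟨_, rfl⟩
  have hU : ∀ y : D ⊗[R] FractionRing R, u * (c • y) = y := by
    intro y
    have h0 : c • y = algebraMap R (D ⊗[R] FractionRing R) c * y := Algebra.smul_def c y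
    rw [h0, Algebra.TensorProduct.algebraMap_apply', ← mul_assoc, hu,
      Algebra.TensorProduct.tmul_mul_tmul, mul_one, inv_mul_cancel₀ hcK]
    exact one_mul y
  have hcancel : ∀ y y' : D ⊗[R] FractionRing R, c • y = c • y' → y = y' := by
    intro y y' h
    rw [← hU y, h, hU y']
  have hφKA : ∀ a : A, φK (algebraMap A (A ⊗[R] FractionRing R) a) = ι' (φ a) := by
    intro a
    rw [hφK, hι', Algebra.TensorProduct.algebraMap_apply, Algebra.TensorProduct.map_tmul,
      Algebra.TensorProduct.includeLeft_apply]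
    rfl
  have hF2 : ∀ i, c • φK (f i) = ι' (φ (g i)) := by
    intro i
    rw [← map_smul φK, ← hg i, hφKA]
  have hF3 : ι' (algebraMap R D c) = c • (1 : D ⊗[R] FractionRing R) := by
    rw [AlgHom.commutes, Algebra.algebraMap_eq_smul_one]
  -- part 1
  have hpart1 : (Ideal.span (insert (algebraMap R A c) (Set.range g))).map φ =
      Ideal.span {algebraMap R D c} := by
    rcases hgen with h | ⟨i, hi⟩
    · exact h
    · have hcmem : algebraMap R D c ∈
          (Ideal.span (insert (algebraMap R A c) (Set.range g))).map φ := by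
        have := Ideal.mem_map_of_mem φ
          (Ideal.subset_span (Set.mem_insert (algebraMap R A c) (Set.range g)))
        rwa [AlgHom.commutes] at this
      rw [hi, Ideal.mem_span_singleton'] at hcmem
      obtain ⟨e, he⟩ := hcmem
      have hye : φK (f i) * ι' e = 1 := by
        apply hcancel
        rw [← smul_mul_assoc, hF2, ← map_mul, mul_comm, he, hF3]
      obtain ⟨p, hpm, hp0⟩ := hf i
      have hp1 : Polynomial.eval₂ ((ι' : D →+* D ⊗[R] FractionRing R).comp (φ : A →+* D))
          (φK (f i)) p = 0 := by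
        have h1 := Polynomial.hom_eval₂ p (algebraMap A (A ⊗[R] FractionRing R))
          (φK : A ⊗[R] FractionRing R →+* D ⊗[R] FractionRing R) (f i)
        rw [hp0, map_zero] at h1
        have h2 : (φK : A ⊗[R] FractionRing R →+* D ⊗[R] FractionRing R).comp
            (algebraMap A (A ⊗[R] FractionRing R)) =
            (ι' : D →+* D ⊗[R] FractionRing R).comp (φ : A →+* D) :=
          RingHom.ext (fun a => hφKA a)
        rw [h2] at h1
        exact h1.symm
      have heu : IsUnit e := isUnit_of_inv_integral (ι' : D →+* D ⊗[R] FractionRing R) hinj e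
        (φK (f i)) hye (p.map (φ : A →+* D)) (hpm.map _)
        (by rw [Polynomial.eval₂_map]; exact hp1)
      rw [hi, ← he, Ideal.span_singleton_mul_left_unit heu]
  refine ⟨hpart1, ?_⟩
  have hdi : ∀ i, ∃ d : D, ι' d = φK (f i) := by
    intro i
    have hmem : φ (g i) ∈ (Ideal.span (insert (algebraMap R A c) (Set.range g))).map φ :=
      Ideal.mem_map_of_mem φ
        (Ideal.subset_span (Set.mem_insert_of_mem _ (Set.mem_range_self i)))
    rw [hpart1, Ideal.mem_span_singleton'] at hmem
    obtain ⟨d, hd⟩ := hmem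
    refine ⟨d, ?_⟩
    apply hcancel
    rw [hF2, ← hd, map_mul, hF3, mul_smul_comm, mul_one]
  have hex : ∀ x : A ⊗[R] FractionRing R, x ∈ Algebra.adjoin A (Set.range f) →
      ∃ d : D, ι' d = φK x := by
    intro x hx
    induction hx using Algebra.adjoin_induction with
    | mem x hx =>
      obtain ⟨i, rfl⟩ := hx
      exact hdi i
    | algebraMap a => exact ⟨φ a, (hφKA a).symm⟩
    | add x y _ _ ihx ihy =>
      obtain ⟨dx, hdx⟩ := ihx
      obtain ⟨dy, hdy⟩ := ihy
      exact ⟨dx + dy, by rw [map_add, map_add, hdx, hdy]⟩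
    | mul x y _ _ ihx ihy =>
      obtain ⟨dx, hdx⟩ := ihx
      obtain ⟨dy, hdy⟩ := ihy
      exact ⟨dx * dy, by rw [map_mul, map_mul, hdx, hdy]⟩
  have hex' : ∀ x : ↥(Algebra.adjoin A (Set.range f)), ∃ d : D, ι' d = φK x.1 :=
    fun x => hex x.1 x.2
  choose s hs using hex'
  obtain ⟨ψ, hψ⟩ : ∃ ψ : ↥(Algebra.adjoin A (Set.range f)) →ₐ[R] D,
      ∀ x, ι' (ψ x) = φK x.1 := by
    refine ⟨{ toFun := s, map_one' := ?_, map_mul' := ?_, map_zero' := ?_, map_add' := ?_,
              commutes' := ?_ }, hs⟩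
    · apply hinj
      show ι' (s 1) = ι' 1
      rw [hs, map_one]
      exact map_one φK
    · intro x y
      apply hinj
      show ι' (s (x * y)) = ι' (s x * s y)
      rw [hs, map_mul, hs, hs]
      exact map_mul φK x.1 y.1
    · apply hinj
      show ι' (s 0) = ι' 0
      rw [hs, map_zero]
      exact map_zero φK
    · intro x y
      apply hinj
      show ι' (s (x + y)) = ι' (s x + s y)
      rw [hs, map_add, hs, hs]
      exact map_add φK x.1 y.1
    · intro r
      apply hinj
      show ι' (s (algebraMap R _ r)) = ι' (algebraMap R D r)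
      rw [hs, AlgHom.commutes]
      exact AlgHom.commutes φK r
  have hψφ : ψ.comp (IsScalarTower.toAlgHom R A ↥(Algebra.adjoin A (Set.range f))) = φ := by
    apply AlgHom.ext
    intro a
    apply hinj
    rw [AlgHom.comp_apply, hψ]
    exact hφKA a
  refine ⟨ψ, hψφ, ?_⟩
  intro ψ' hψ'
  have hkey : ∀ x : A ⊗[R] FractionRing R, ∀ hx : x ∈ Algebra.adjoin A (Set.range f),
      ι' (ψ' ⟨x, hx⟩) = φK x := by
    intro x hx
    induction hx using Algebra.adjoin_induction with
    | mem x hx =>
      obtain ⟨i, rfl⟩ := hx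
      apply hcancel
      have h1 : c • (⟨f i, Algebra.subset_adjoin ⟨i, rfl⟩⟩ : ↥(Algebra.adjoin A (Set.range f))) =
          algebraMap A ↥(Algebra.adjoin A (Set.range f)) (g i) := Subtype.ext (hg i).symm
      have h2 := AlgHom.congr_fun hψ' (g i)
      rw [AlgHom.comp_apply] at h2
      calc c • ι' (ψ' ⟨f i, Algebra.subset_adjoin ⟨i, rfl⟩⟩)
          = ι' (ψ' (c • (⟨f i, Algebra.subset_adjoin ⟨i, rfl⟩⟩ :
              ↥(Algebra.adjoin A (Set.range f))))) := by rw [map_smul ψ', map_smul ι']
        _ = ι' (ψ' (algebraMap A ↥(Algebra.adjoin A (Set.range f)) (g i))) := by rw [h1]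
        _ = ι' (φ (g i)) := congrArg ι' h2
        _ = c • φK (f i) := (hF2 i).symm
    | algebraMap a =>
      have h2 := AlgHom.congr_fun hψ' a
      rw [AlgHom.comp_apply] at h2
      rw [hφKA]
      exact congrArg ι' h2
    | add x y hx hy ihx ihy =>
      have h0 : (⟨x + y, add_mem hx hy⟩ : ↥(Algebra.adjoin A (Set.range f))) =
          ⟨x, hx⟩ + ⟨y, hy⟩ := rfl
      rw [h0, map_add, map_add, ihx, ihy, map_add]
    | mul x y hx hy ihx ihy =>
      have h0 : (⟨x * y, mul_mem hx hy⟩ : ↥(Algebra.adjoin A (Set.range f))) =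
          ⟨x, hx⟩ * ⟨y, hy⟩ := rfl
      rw [h0, map_mul, map_mul, ihx, ihy, map_mul]
  apply AlgHom.ext
  intro x
  apply hinj
  rw [hψ]
  exact hkey x.1 x.2

end Main

end Groth.Agent.Lib.Helper6.AdmExt
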