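import Mathlib.AlgebraicGeometry.Morphisms.Immersion
import Mathlib.AlgebraicGeometry.Morphisms.Affine
import Mathlib.RingTheory.Ideal.Prime

set_option autoImplicit false

namespace Groth.Agent.Helper6.AffNbhd
open AlgebraicGeometry CategoryTheory

universe u

/-- prime avoidance: a finite set of points in an open subset of a prime spectrum lies in a
basic open contained in that open subset -/
theorem exists_basicOpen (R : Type u) [CommRing R] (W : Set (PrimeSpectrum R)) (hW : IsOpen W)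
    (s : Finset (PrimeSpectrum R)) (hs : (↑s : Set (PrimeSpectrum R)) ⊆ W) :
    ∃ g : R, (PrimeSpectrum.basicOpen g : Set (PrimeSpectrum R)) ⊆ W ∧
      (↑s : Set (PrimeSpectrum R)) ⊆ (PrimeSpectrum.basicOpen g : Set (PrimeSpectrum R)) := by
  classical
  let I : Ideal R := PrimeSpectrum.vanishingIdeal Wᶜ
  have hI : PrimeSpectrum.zeroLocus (I : Set R) = Wᶜ := by
    rw [PrimeSpectrum.zeroLocus_vanishingIdeal_eq_closure]
    exact hW.isClosed_compl.closure_eq
  have hs' : ∀ p ∈ s, ¬ (I ≤ p.asIdeal) := by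
    intro p hp hIp
    have h1 : p ∈ PrimeSpectrum.zeroLocus (I : Set R) := by
      rw [PrimeSpectrum.mem_zeroLocus]; exact hIp
    rw [hI] at h1
    exact h1 (hs hp)
  have hnot : ¬ ((I : Set R) ⊆ ⋃ p ∈ (↑s : Set (PrimeSpectrum R)), (p.asIdeal : Set R)) := by
    intro hsub
    by_cases hne : s.Nonempty
    · obtain ⟨a, ha⟩ := hne
      rw [Ideal.subset_union_prime (f := fun p : PrimeSpectrum R => p.asIdeal) a a
        (fun p _ _ _ => p.isPrime)] at hsub
      obtain ⟨p, hp, hIp⟩ := hsub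
      exact hs' p hp hIp
    · rw [Finset.not_nonempty_iff_eq_empty] at hne
      subst hne
      have h0 : (0 : R) ∈ (I : Set R) := I.zero_mem
      have := hsub h0
      simp at this
  rw [Set.not_subset] at hnot
  obtain ⟨g, hgI, hg⟩ := hnot
  refine ⟨g, ?_, ?_⟩
  · intro x hx
    by_contra hxW
    have h1 : x ∈ PrimeSpectrum.zeroLocus (I : Set R) := by rw [hI]; exact hxW
    rw [PrimeSpectrum.mem_zeroLocus] at h1
    exact hx (h1 hgI)
  · intro p hp
    show g ∉ p.asIdeal
    intro hgp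
    apply hg
    simp only [Set.mem_iUnion]
    exact ⟨p, hp, hgp⟩

/-- a finite set of points of a scheme immersed in `Spec R` has an affine open nbhd -/
theorem exists_affine_of_immersion_Spec {X : Scheme.{u}} (R : CommRingCat.{u}) (j : X ⟶ Spec R)
    [IsImmersion j] (E : Set X) (hE : E.Finite) :
    ∃ U : X.Opens, IsAffineOpen U ∧ E ⊆ U := by
  classical
  let W : (Spec R).Opens := j.coborderRange
  obtain ⟨s, hs⟩ : ∃ s : Finset (PrimeSpectrum R),
      ∀ p, p ∈ s ↔ p ∈ (fun x => (j x : PrimeSpectrum R)) '' E :=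
    ⟨(hE.image _).toFinset, fun p => Set.Finite.mem_toFinset _⟩
  have hsW : (↑s : Set (PrimeSpectrum R)) ⊆ (W : Set (Spec R)) := by
    intro p hp
    have hp' : p ∈ (fun x => (j x : PrimeSpectrum R)) '' E := (hs p).mp hp
    obtain ⟨x, hx, rfl⟩ := hp'
    have h2 : j x ∈ Set.range j := ⟨x, rfl⟩
    exact subset_coborder h2
  obtain ⟨g, hgW, hsg⟩ := exists_basicOpen R (W : Set (Spec R)) W.isOpen s hsW
  let D : (Spec R).Opens := PrimeSpectrum.basicOpen g
  have hD : IsAffineOpen D := IsAffineOpen.Spec_basicOpen g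
  have hDW : D ≤ W := hgW
  refine ⟨j ⁻¹ᵁ D, ?_, ?_⟩
  · have h1 : IsAffineOpen (W.ι ⁻¹ᵁ D) :=
      hD.preimage_of_isOpenImmersion W.ι (by rw [Scheme.Opens.opensRange_ι]; exact hDW)
    have h2 : IsAffineOpen (j.liftCoborder ⁻¹ᵁ (W.ι ⁻¹ᵁ D)) := h1.preimage j.liftCoborder
    have h3 : j.liftCoborder ⁻¹ᵁ (W.ι ⁻¹ᵁ D) = j ⁻¹ᵁ D := by
      rw [← Scheme.Hom.comp_preimage, Scheme.Hom.liftCoborder_ι]
    rwa [h3] at h2
  · intro x hx
    have : (j x : PrimeSpectrum R) ∈ (↑s : Set (PrimeSpectrum R)) :=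
      (hs _).mpr ⟨x, hx, rfl⟩
    exact hsg this

/-- a finite set of points of a scheme immersed in an affine scheme has an affine open nbhd -/
theorem exists_affine_of_immersion {X Y : Scheme.{u}} [IsAffine Y] (ι : X ⟶ Y)
    [IsImmersion ι] (E : Set X) (hE : E.Finite) :
    ∃ U : X.Opens, IsAffineOpen U ∧ E ⊆ U :=
  exists_affine_of_immersion_Spec _ (ι ≫ Y.isoSpec.hom) E hE

end Groth.Agent.Helper6.AffNbhd
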