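import Mathlib.Tactic
import Mathlib.RingTheory.Ideal.AssociatedPrime.Basic
import Mathlib.RingTheory.Ideal.AssociatedPrime.Finiteness
import Mathlib.RingTheory.Ideal.Operations
import Mathlib.Algebra.Ring.NonZeroDivisors

/-! In a Noetherian ring, an ideal has zero annihilator iff it contains a regular element. -/

set_option autoImplicit false

namespace Groth.Agent.Helper6.AnnRegular

universe u
variable {R : Type u} [CommRing R]

theorem annihilator_eq_bot_of_regular (I : Ideal R) (a : R) (ha : a ∈ I) (hreg : IsRegular a) :
    I.annihilator = ⊥ := by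
  rw [eq_bot_iff]
  intro x hx
  rw [Submodule.mem_annihilator] at hx
  have h1 : x * a = 0 := by simpa using hx a ha
  have : x = 0 := hreg.right (by simp only [h1, zero_mul])
  rw [this]; exact Submodule.zero_mem _

theorem exists_regular_of_annihilator_eq_bot [IsNoetherianRing R] (I : Ideal R)
    (h : I.annihilator = ⊥) : ∃ a ∈ I, IsRegular a := by
  classical
  by_contra hcon
  push Not at hcon
  have hsub : (I : Set R) ⊆ ⋃ p ∈ associatedPrimes R R, (p : Set R) := by
    rw [biUnion_associatedPrimes_eq_compl_nonZeroDivisors]
    intro a ha hmem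
    exact hcon a ha (isRegular_iff_mem_nonZeroDivisors.mpr hmem)
  have hfin : (associatedPrimes R R).Finite := associatedPrimes.finite R R
  have hsub' : (I : Set R) ⊆ ⋃ p ∈ ((hfin.toFinset : Finset (Ideal R)) : Set (Ideal R)), ((id p : Ideal R) : Set R) := by
    simpa using hsub
  obtain ⟨p, hp, hIp⟩ := (Ideal.subset_union_prime (R := R) (s := hfin.toFinset) (f := id) ⊥ ⊥
    (fun i hi _ _ => by
      have : i ∈ associatedPrimes R R := by simpa using hi
      exact this.isPrime)).mp hsub'
  have hp' : IsAssociatedPrime p R := by
    have : p ∈ associatedPrimes R R := by simpa using hp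
    exact this
  have hp2 := hp'
  rw [isAssociatedPrime_iff] at hp2
  obtain ⟨hprime, x, hx⟩ := hp2
  have hxann : x ∈ I.annihilator := by
    rw [Submodule.mem_annihilator]
    intro a ha
    have : a ∈ Submodule.colon (⊥ : Submodule R R) {x} := by rw [← hx]; exact hIp ha
    rw [Submodule.mem_colon_singleton] at this
    have h2 : a * x = 0 := by simpa using this
    simp only [smul_eq_mul]
    rw [mul_comm]; exact h2
  rw [h] at hxann
  have hx0 : x = 0 := by simpa using hxann
  apply hprime.ne_top
  rw [hx, hx0, Ideal.eq_top_iff_one, Submodule.mem_colon_singleton]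
  simp

theorem annihilator_eq_bot_iff [IsNoetherianRing R] (I : Ideal R) :
    I.annihilator = ⊥ ↔ (I = ⊤ ∨ ∃ a ∈ I, IsRegular a) := by
  constructor
  · intro h; exact Or.inr (exists_regular_of_annihilator_eq_bot I h)
  · rintro (h | ⟨a, ha, hreg⟩)
    · exact annihilator_eq_bot_of_regular I 1 (by rw [h]; exact Submodule.mem_top) isRegular_one
    · exact annihilator_eq_bot_of_regular I a ha hreg

end Groth.Agent.Helper6.AnnRegular
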