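import Mathlib
import Groth.Prelude.Def_W4c2arithlefschetzNode

set_option linter.unusedSectionVars false
set_option linter.unusedVariables false
set_option autoImplicit false
set_option maxHeartbeats 400000

/-!
# Fixed-point ideals of automorphisms of `B⟦X⟧` over a DVR: length computations
-/

noncomputable section

namespace Groth.Agent.Lib.Helper6.ArLefPS

section General

variable {R : Type*} [CommRing R]

lemma mem_span_pair_of_mul [IsDomain R] {a f : R} (ha : Prime a) (haf : ¬ a ∣ f) (l : ℕ) {r : R}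
    (h : a * r ∈ Ideal.span {a ^ (l + 1), f}) : r ∈ Ideal.span {a ^ l, f} := by
  rw [Ideal.mem_span_pair] at h ⊢
  obtain ⟨x, y, hxy⟩ := h
  have hdvd : a ∣ y * f := by
    have : y * f = a * r - x * a ^ (l + 1) := by rw [← hxy]; ring
    rw [this, pow_succ, ← mul_assoc]
    exact dvd_sub (Dvd.intro _ rfl) (Dvd.intro_left _ rfl)
  rcases ha.dvd_or_dvd hdvd with h1 | h1
  · obtain ⟨y', rfl⟩ := h1
    refine ⟨x, y', ?_⟩
    apply mul_left_cancel₀ ha.ne_zero
    rw [← hxy]; ring
  · exact absurd h1 haf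

lemma length_step [IsDomain R] {a f : R} (ha : Prime a) (haf : ¬ a ∣ f) (l : ℕ) :
    Module.length R (R ⧸ Ideal.span {a ^ (l + 1), f}) =
      Module.length R (R ⧸ Ideal.span {a ^ l, f}) + Module.length R (R ⧸ Ideal.span {a, f}) := by
  have h1 : Ideal.span {a ^ l, f} ≤
      Submodule.comap (LinearMap.mulLeft R a) (Ideal.span {a ^ (l + 1), f}) := by
    intro z hz
    rw [Submodule.mem_comap, LinearMap.mulLeft_apply]
    rw [Ideal.mem_span_pair] at hz ⊢
    obtain ⟨x, y, rfl⟩ := hz
    exact ⟨x, a * y, by ring⟩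
  have h2 : Ideal.span {a ^ (l + 1), f} ≤
      Submodule.comap (LinearMap.id : R →ₗ[R] R) (Ideal.span {a, f}) := by
    intro z hz
    rw [Submodule.mem_comap, LinearMap.id_apply]
    rw [Ideal.mem_span_pair] at hz ⊢
    obtain ⟨x, y, rfl⟩ := hz
    exact ⟨x * a ^ l, y, by ring⟩
  let φ : (R ⧸ Ideal.span {a ^ l, f}) →ₗ[R] (R ⧸ Ideal.span {a ^ (l + 1), f}) :=
    Submodule.mapQ _ _ (LinearMap.mulLeft R a) h1
  let ψ : (R ⧸ Ideal.span {a ^ (l + 1), f}) →ₗ[R] (R ⧸ Ideal.span {a, f}) :=
    Submodule.mapQ _ _ LinearMap.id h2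
  have hφ : ∀ r : R, φ (Submodule.Quotient.mk r) = Submodule.Quotient.mk (a * r) := fun r => rfl
  have hψ : ∀ r : R, ψ (Submodule.Quotient.mk r) = Submodule.Quotient.mk r := fun r => rfl
  apply Module.length_eq_add_of_exact φ ψ
  · rw [← LinearMap.ker_eq_bot, LinearMap.ker_eq_bot']
    intro x hx
    obtain ⟨r, rfl⟩ := Submodule.Quotient.mk_surjective _ x
    rw [hφ, Submodule.Quotient.mk_eq_zero] at hx
    rw [Submodule.Quotient.mk_eq_zero]
    exact mem_span_pair_of_mul ha haf l hx
  · intro x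
    obtain ⟨r, rfl⟩ := Submodule.Quotient.mk_surjective _ x
    exact ⟨Submodule.Quotient.mk r, hψ r⟩
  · intro y
    obtain ⟨r, rfl⟩ := Submodule.Quotient.mk_surjective _ y
    rw [hψ, Submodule.Quotient.mk_eq_zero]
    constructor
    · intro hr
      rw [Ideal.mem_span_pair] at hr
      obtain ⟨x, z, hxz⟩ := hr
      refine ⟨Submodule.Quotient.mk x, ?_⟩
      rw [hφ, ← sub_eq_zero, ← Submodule.Quotient.mk_sub, Submodule.Quotient.mk_eq_zero]
      have : a * x - r = -z * f := by rw [← hxz]; ring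
      rw [this]
      exact Ideal.mul_mem_left _ _ (Ideal.subset_span (by simp))
    · rintro ⟨x, hx⟩
      obtain ⟨s, rfl⟩ := Submodule.Quotient.mk_surjective _ x
      rw [hφ, Submodule.Quotient.eq] at hx
      have h3 : a * s - r ∈ Ideal.span {a, f} := h2 hx
      have h4 : a * s ∈ Ideal.span {a, f} :=
        Ideal.mul_mem_right _ _ (Ideal.subset_span (by simp))
      have := Ideal.sub_mem _ h4 h3
      rwa [sub_sub_cancel] at this

lemma length_pow [IsDomain R] {a f : R} (ha : Prime a) (haf : ¬ a ∣ f) (l : ℕ) :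
    Module.length R (R ⧸ Ideal.span {a ^ l, f}) =
      (l : ℕ∞) * Module.length R (R ⧸ Ideal.span {a, f}) := by
  induction l with
  | zero =>
    rw [Nat.cast_zero, zero_mul, Module.length_eq_zero_iff]
    have : Ideal.span {a ^ 0, f} = ⊤ := by
      rw [Ideal.eq_top_iff_one]
      exact Ideal.subset_span (by simp)
    rw [this]
    infer_instance
  | succ l ih =>
    rw [length_step ha haf l, ih, Nat.cast_succ, add_mul, one_mul]

end General

universe u

open PowerSeries IsLocalRing

section PS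

variable {B : Type u} [CommRing B]

lemma C_dvd_iff {d : B} {r : PowerSeries B} : C d ∣ r ↔ ∀ n, d ∣ coeff n r := by
  constructor
  · rintro ⟨s, rfl⟩ n
    rw [coeff_C_mul]
    exact Dvd.intro _ rfl
  · intro h
    choose q hq using h
    refine ⟨PowerSeries.mk q, ?_⟩
    ext n
    rw [coeff_C_mul, coeff_mk, hq n]

variable [IsDomain B] [IsDiscreteValuationRing B] {π : B}

lemma map_eq_zero_iff (hπ : Irreducible π) {r : PowerSeries B} :
    PowerSeries.map (IsLocalRing.residue B) r = 0 ↔ C π ∣ r := by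
  rw [C_dvd_iff, PowerSeries.ext_iff]
  apply forall_congr'
  intro n
  rw [coeff_map, map_zero, IsLocalRing.residue_eq_zero_iff, hπ.maximalIdeal_eq,
    Ideal.mem_span_singleton]

lemma prime_C (hπ : Irreducible π) : Prime (C π : PowerSeries B) := by
  refine ⟨?_, ?_, ?_⟩
  · intro h
    have : (C π : PowerSeries B) = C 0 := by rw [h, map_zero]
    exact hπ.ne_zero (PowerSeries.C_injective this)
  · intro h
    have := (PowerSeries.isUnit_iff_constantCoeff).mp h
    rw [constantCoeff_C] at this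
    exact hπ.not_isUnit this
  · intro g h hgh
    rw [← map_eq_zero_iff hπ, map_mul] at hgh
    rcases mul_eq_zero.mp hgh with h1 | h1
    · left; exact (map_eq_zero_iff hπ).mp h1
    · right; exact (map_eq_zero_iff hπ).mp h1

lemma exists_X_pow_mem (hπ : Irreducible π) {f : PowerSeries B} (hf : ¬ C π ∣ f) (l : ℕ) :
    ∃ N, (X : PowerSeries B) ^ N ∈ Ideal.span {C π ^ l, f} := by
  have hf' : PowerSeries.map (IsLocalRing.residue B) f ≠ 0 := fun h => hf ((map_eq_zero_iff hπ).mp h)
  set g := PowerSeries.map (IsLocalRing.residue B) f with hg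
  have hu := isUnit_divided_by_X_pow_order hf'
  obtain ⟨u', hu'⟩ := isUnit_iff_exists_inv.mp hu
  obtain ⟨v, hv⟩ := PowerSeries.map_surjective (IsLocalRing.residue B)
    IsLocalRing.residue_surjective u'
  set m := g.order.toNat with hm
  have h1 : PowerSeries.map (IsLocalRing.residue B) (X ^ m - f * v) = 0 := by
    rw [map_sub, map_pow, map_X, map_mul, hv, ← hg]
    have : g = X ^ m * divXPowOrder g := (X_pow_order_mul_divXPowOrder (f := g)).symm
    conv_lhs => rw [this]
    rw [mul_assoc, hu', mul_one, sub_self]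
  obtain ⟨w, hw⟩ := (map_eq_zero_iff hπ).mp h1
  have h2 : (X : PowerSeries B) ^ m = f * v + C π * w := by rw [← hw]; ring
  refine ⟨m * l, ?_⟩
  rw [pow_mul, h2]
  obtain ⟨z, hz⟩ := sub_dvd_pow_sub_pow (f * v + C π * w) (C π * w) l
  have h3 : (f * v + C π * w) ^ l = (C π * w) ^ l + (f * v + C π * w - C π * w) * z := by
    rw [← hz]; ring
  rw [h3, Ideal.mem_span_pair]
  refine ⟨w ^ l, v * z, ?_⟩
  ring

variable (σ : PowerSeries B ≃+* PowerSeries B)

lemma lemT (K : Ideal (PowerSeries B)) (hB : ∀ b : B, σ (C b) - C b ∈ K) (hX : σ X - X ∈ K) :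
    ∀ (N : ℕ) (r : PowerSeries B), ∃ s, σ r - r - X ^ N * (σ s - s) ∈ K := by
  intro N
  induction N with
  | zero =>
    intro r
    refine ⟨r, ?_⟩
    rw [pow_zero, one_mul, sub_self]
    exact K.zero_mem
  | succ N ih =>
    intro r
    obtain ⟨r₁, c, hr⟩ : ∃ r₁ c, r = X * r₁ + C c := ⟨_, _, eq_X_mul_shift_add_const r⟩
    subst hr
    obtain ⟨s, hs⟩ := ih r₁
    refine ⟨s, ?_⟩
    have e : σ (X * r₁ + C c) - (X * r₁ + C c) - X ^ (N + 1) * (σ s - s) =
        (σ X - X) * σ r₁ + (σ (C c) - C c) + X * (σ r₁ - r₁ - X ^ N * (σ s - s)) := by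
      rw [map_add, map_mul]; ring
    rw [e]
    exact K.add_mem (K.add_mem (K.mul_mem_right _ hX) (hB c)) (K.mul_mem_left _ hs)

lemma step1 {i j : ℕ} (hij : i ≤ j) {f : PowerSeries B}
    (hσB : ∀ b : B, σ (C b) - C b ∈ Ideal.span {(C π : PowerSeries B) ^ j})
    (hX : σ X - X = C π ^ i * f) (r : PowerSeries B) : (C π : PowerSeries B) ^ i ∣ σ r - r := by
  have hle : Ideal.span {(C π : PowerSeries B) ^ j} ≤ Ideal.span {(C π : PowerSeries B) ^ i} := by
    rw [Ideal.span_singleton_le_span_singleton]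
    exact pow_dvd_pow _ hij
  have hB' : ∀ b : B, σ (C b) - C b ∈ Ideal.span {(C π : PowerSeries B) ^ i} :=
    fun b => hle (hσB b)
  have hX' : σ X - X ∈ Ideal.span {(C π : PowerSeries B) ^ i} := by
    rw [hX]; exact Ideal.mul_mem_right _ _ (Ideal.subset_span (by simp))
  rw [← map_pow, C_dvd_iff]
  intro n
  obtain ⟨s, hs⟩ := lemT σ _ hB' hX' (n + 1) r
  rw [Ideal.mem_span_singleton, ← map_pow, C_dvd_iff] at hs
  have := hs n
  rw [map_sub, coeff_X_pow_mul', if_neg (by omega), sub_zero] at this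
  exact this

lemma C_pow_mem_fixIdeal {j : ℕ} {γ : B} (hγ : IsUnit γ)
    (hσπ : σ (C π) = C (π + γ * π ^ j)) : (C π : PowerSeries B) ^ j ∈ ArLef.fixIdeal σ := by
  obtain ⟨γ', hγ'⟩ := isUnit_iff_exists_inv.mp hγ
  have h1 : σ (C π) - C π ∈ ArLef.fixIdeal σ := Ideal.subset_span ⟨C π, rfl⟩
  have h2 : (C π : PowerSeries B) ^ j = C γ' * (σ (C π) - C π) := by
    rw [hσπ, ← map_sub, ← map_mul, ← map_pow]
    congr 1
    have : π + γ * π ^ j - π = γ * π ^ j := by ring
    rw [this, ← mul_assoc, mul_comm γ' γ, hγ', one_mul]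
  rw [h2]
  exact Ideal.mul_mem_left _ _ h1

theorem colon_eq (hπ : Irreducible π) {i j : ℕ} (hij : i < j) {γ : B} (hγ : IsUnit γ)
    {f : PowerSeries B}
    (hσB : ∀ b : B, σ (C b) - C b ∈ Ideal.span {(C π : PowerSeries B) ^ j})
    (hσπ : σ (C π) = C (π + γ * π ^ j))
    (hX : σ X - X = C π ^ i * f) (hf : ¬ C π ∣ f) :
    (ArLef.fixIdeal σ).colon {(C π : PowerSeries B) ^ i} =
      Ideal.span {(C π : PowerSeries B) ^ (j - i), f} := by
  have hpow : (C π : PowerSeries B) ^ j = C π ^ i * C π ^ (j - i) := by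
    rw [← pow_add]; congr 1; omega
  have hCne : (C π : PowerSeries B) ^ i ≠ 0 := pow_ne_zero _ (prime_C hπ).ne_zero
  apply le_antisymm
  · intro r hr
    rw [Submodule.mem_colon_singleton, smul_eq_mul] at hr
    obtain ⟨N₀, hN₀⟩ := exists_X_pow_mem hπ hf (j - i)
    have hle : ArLef.fixIdeal σ ≤
        Ideal.span {(C π : PowerSeries B) ^ j, C π ^ i * f} ⊔
          Ideal.span {(X : PowerSeries B) ^ N₀ * C π ^ i} := by
      unfold ArLef.fixIdeal
      rw [Ideal.span_le]
      rintro _ ⟨s, rfl⟩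
      have hB' : ∀ b : B, σ (C b) - C b ∈ Ideal.span {(C π : PowerSeries B) ^ j, C π ^ i * f} :=
        fun b => (Ideal.span_mono (by simp)) (hσB b)
      have hX' : σ X - X ∈ Ideal.span {(C π : PowerSeries B) ^ j, C π ^ i * f} := by
        rw [hX]; exact Ideal.subset_span (by simp)
      obtain ⟨s', hs'⟩ := lemT σ _ hB' hX' N₀ s
      obtain ⟨c, hc⟩ := step1 σ hij.le hσB hX s'
      have e : σ s - s = (σ s - s - X ^ N₀ * (σ s' - s')) + c * (X ^ N₀ * C π ^ i) := by
        rw [hc]; ring
      show σ s - s ∈ _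
      rw [e]
      exact Submodule.add_mem_sup hs' (Ideal.mul_mem_left _ _ (Ideal.subset_span rfl))
    have hr' := hle hr
    rw [Submodule.mem_sup] at hr'
    obtain ⟨k₁, hk₁, k₂, hk₂, hk⟩ := hr'
    rw [Ideal.mem_span_pair] at hk₁
    obtain ⟨x, y, rfl⟩ := hk₁
    rw [Ideal.mem_span_singleton'] at hk₂
    obtain ⟨c, rfl⟩ := hk₂
    have e : r = x * C π ^ (j - i) + y * f + c * X ^ N₀ := by
      apply mul_left_cancel₀ hCne
      rw [mul_comm _ r, ← hk, hpow]; ring
    rw [e]
    refine Ideal.add_mem _ ?_ (Ideal.mul_mem_left _ _ hN₀)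
    rw [Ideal.mem_span_pair]
    exact ⟨x, y, rfl⟩
  · rw [Ideal.span_le]
    rintro z (rfl | rfl)
    · show _ ∈ (ArLef.fixIdeal σ).colon _
      rw [Submodule.mem_colon_singleton, smul_eq_mul, mul_comm, ← hpow]
      exact C_pow_mem_fixIdeal σ hγ hσπ
    · show _ ∈ (ArLef.fixIdeal σ).colon _
      rw [Submodule.mem_colon_singleton, smul_eq_mul, mul_comm, ← hX]
      exact Ideal.subset_span ⟨X, rfl⟩

end PS

section Restrict

lemma length_of_surjective {A A' : Type*} [CommRing A] [CommRing A'] [Algebra A A']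
    (hs : Function.Surjective (algebraMap A A')) (N' : Type*) [AddCommGroup N'] [Module A' N']
    [Module A N'] [IsScalarTower A A' N'] :
    Module.length A N' = Module.length A' N' := by
  let e : Submodule A' N' ≃o Submodule A N' :=
    { toFun := fun P => P.restrictScalars A
      invFun := fun P =>
        { carrier := P
          add_mem' := P.add_mem
          zero_mem' := P.zero_mem
          smul_mem' := fun a' x hx => by
            obtain ⟨a, rfl⟩ := hs a'
            rw [algebraMap_smul]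
            exact P.smul_mem a hx }
      left_inv := fun P => by ext; rfl
      right_inv := fun P => by ext; rfl
      map_rel_iff' := by
        intro P Q
        exact Iff.rfl }
  apply WithBot.coe_injective
  rw [Module.coe_length, Module.coe_length, Order.krullDim_eq_of_orderIso e]

end Restrict

section PS2

variable {B : Type u} [CommRing B] [IsDomain B] [IsDiscreteValuationRing B] {π : B}

lemma length_mod (hπ : Irreducible π) (f : PowerSeries B) :
    Module.length (PowerSeries B) (PowerSeries B ⧸ Ideal.span {C π, f}) =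
      Module.length (PowerSeries (IsLocalRing.ResidueField B))
        (PowerSeries (IsLocalRing.ResidueField B) ⧸
          Ideal.span {PowerSeries.map (IsLocalRing.residue B) f}) := by
  letI : Algebra (PowerSeries B) (PowerSeries (IsLocalRing.ResidueField B)) :=
    (PowerSeries.map (IsLocalRing.residue B)).toAlgebra
  have halg : ∀ r : PowerSeries B, algebraMap (PowerSeries B)
      (PowerSeries (IsLocalRing.ResidueField B)) r = PowerSeries.map (IsLocalRing.residue B) r :=
    fun r => rfl
  have hsurj : Function.Surjective (algebraMap (PowerSeries B)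
      (PowerSeries (IsLocalRing.ResidueField B))) :=
    PowerSeries.map_surjective _ IsLocalRing.residue_surjective
  rw [← length_of_surjective hsurj]
  set J : Ideal (PowerSeries (IsLocalRing.ResidueField B)) :=
    Ideal.span {PowerSeries.map (IsLocalRing.residue B) f} with hJ
  let g : PowerSeries B →ₗ[PowerSeries B] (PowerSeries (IsLocalRing.ResidueField B) ⧸ J) :=
    ((Submodule.mkQ J).restrictScalars (PowerSeries B)) ∘ₗ
      (Algebra.linearMap (PowerSeries B) (PowerSeries (IsLocalRing.ResidueField B)))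
  have hg : ∀ r, g r = Submodule.Quotient.mk (PowerSeries.map (IsLocalRing.residue B) r) :=
    fun r => rfl
  have hgsurj : Function.Surjective g := by
    intro y
    obtain ⟨y', rfl⟩ := Submodule.Quotient.mk_surjective _ y
    obtain ⟨r, rfl⟩ := hsurj y'
    exact ⟨r, rfl⟩
  have hker : LinearMap.ker g = Ideal.span {C π, f} := by
    ext r
    rw [LinearMap.mem_ker, hg, Submodule.Quotient.mk_eq_zero, hJ, Ideal.mem_span_singleton',
      Ideal.mem_span_pair]
    constructor
    · rintro ⟨c', hc'⟩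
      obtain ⟨c, rfl⟩ := hsurj c'
      rw [halg, ← map_mul, ← sub_eq_zero, ← map_sub, map_eq_zero_iff hπ] at hc'
      obtain ⟨w, hw⟩ := hc'
      refine ⟨-w, c, ?_⟩
      linear_combination hw
    · rintro ⟨x, y, rfl⟩
      refine ⟨PowerSeries.map (IsLocalRing.residue B) y, ?_⟩
      have h0 : PowerSeries.map (IsLocalRing.residue B) (C π) = 0 :=
        (map_eq_zero_iff hπ).mpr (dvd_refl _)
      rw [map_add, map_mul, map_mul, h0, mul_zero, zero_add]
  have e1 := (Submodule.quotEquivOfEq _ _ hker).symm.trans (g.quotKerEquivOfSurjective hgsurj)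
  exact e1.length_eq

theorem main_colon (hπ : Irreducible π) (j i : ℕ) (hij : i < j) (γ : B) (hγ : IsUnit γ)
    (σ : PowerSeries B ≃+* PowerSeries B)
    (hσB : ∀ b : B, σ (algebraMap B (PowerSeries B) b) - algebraMap B (PowerSeries B) b ∈
      Ideal.span ({algebraMap B (PowerSeries B) (π ^ j)} : Set (PowerSeries B)))
    (hσπ : σ (algebraMap B (PowerSeries B) π) = algebraMap B (PowerSeries B) (π + γ * π ^ j))
    (f : PowerSeries B)
    (hf : σ PowerSeries.X - PowerSeries.X = algebraMap B (PowerSeries B) (π ^ i) * f)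
    (hfπ : ¬ (algebraMap B (PowerSeries B) π ∣ f)) :
    Module.length (PowerSeries B) (PowerSeries B ⧸ (ArLef.fixIdeal σ).colon
        ({algebraMap B (PowerSeries B) (π ^ i)} : Set (PowerSeries B))) =
      ((j - i : ℕ) : ℕ∞) * Module.length (PowerSeries (IsLocalRing.ResidueField B))
        (PowerSeries (IsLocalRing.ResidueField B) ⧸
          Ideal.span ({PowerSeries.map (IsLocalRing.residue B) f} :
            Set (PowerSeries (IsLocalRing.ResidueField B)))) := by
  have hC : ∀ b : B, algebraMap B (PowerSeries B) b = C b := fun b => rfl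
  have e : ∀ l : ℕ, algebraMap B (PowerSeries B) (π ^ l) = C π ^ l := fun l => by
    rw [hC, map_pow]
  rw [e]
  simp only [hC, map_pow] at hσB hσπ hf hfπ
  rw [colon_eq σ hπ hij hγ hσB hσπ hf hfπ, length_pow (prime_C hπ) hfπ,
    length_mod hπ]

theorem main_fix (hπ : Irreducible π) (j : ℕ) (hj : 1 ≤ j) (γ : B) (hγ : IsUnit γ)
    (σ : PowerSeries B ≃+* PowerSeries B)
    (hσB : ∀ b : B, σ (algebraMap B (PowerSeries B) b) - algebraMap B (PowerSeries B) b ∈
      Ideal.span ({algebraMap B (PowerSeries B) (π ^ j)} : Set (PowerSeries B)))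
    (hσπ : σ (algebraMap B (PowerSeries B) π) = algebraMap B (PowerSeries B) (π + γ * π ^ j))
    (h0 : ¬ (algebraMap B (PowerSeries B) π ∣ σ PowerSeries.X - PowerSeries.X)) :
    Module.length (PowerSeries B) (PowerSeries B ⧸ ArLef.fixIdeal σ) =
      (j : ℕ∞) * Module.length (PowerSeries (IsLocalRing.ResidueField B))
        (PowerSeries (IsLocalRing.ResidueField B) ⧸
          Ideal.span ({PowerSeries.map (IsLocalRing.residue B) (σ PowerSeries.X - PowerSeries.X)} :
            Set (PowerSeries (IsLocalRing.ResidueField B)))) := by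
  have h := main_colon hπ j 0 (by omega) γ hγ σ hσB hσπ (σ PowerSeries.X - PowerSeries.X)
    (by rw [pow_zero, map_one, one_mul]) h0
  have hcol : (ArLef.fixIdeal σ).colon
      ({algebraMap B (PowerSeries B) (π ^ 0)} : Set (PowerSeries B)) = ArLef.fixIdeal σ := by
    ext r
    rw [Submodule.mem_colon_singleton, pow_zero, map_one, smul_eq_mul, mul_one]
  rw [hcol, Nat.sub_zero] at h
  exact h

end PS2

end Groth.Agent.Lib.Helper6.ArLefPS
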