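import Mathlib

/-!
# Finite type over an Artinian local ring is detected on the residue field (helper6)
-/

universe u

namespace Groth.Agent.Lib.Helper6.ArtinFT

open Pointwise

/-- Let `A` be an Artinian local ring, `π : A → K` a surjective ring hom onto a field, `ψ : R → A`
with `π ∘ ψ` of finite type. Then `ψ` is of finite type. -/
theorem finiteType_of_comp {R A K : Type u} [CommRing R] [CommRing A] [Field K]
    [IsArtinianRing A] [IsLocalRing A] (ψ : R →+* A) (π : A →+* K) (hπ : Function.Surjective π)
    (h : (π.comp ψ).FiniteType) : ψ.FiniteType := by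
  classical
  let _ : Algebra R A := ψ.toAlgebra
  let _ : Algebra R K := (π.comp ψ).toAlgebra
  let πa : A →ₐ[R] K := { π with commutes' := fun r => rfl }
  have hft : Algebra.FiniteType R K := h
  obtain ⟨s, hs⟩ := hft.out
  -- the maximal ideal
  set m := IsLocalRing.maximalIdeal A with hm
  have hker : RingHom.ker π = m := by
    have : (RingHom.ker π).IsMaximal := RingHom.ker_isMaximal_of_surjective π hπ
    exact IsLocalRing.eq_maximalIdeal this
  have hmfg : m.FG := (isNoetherianRing_iff_ideal_fg A).mp inferInstance m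
  obtain ⟨t, ht⟩ := hmfg
  have hnil : IsNilpotent m := by
    have := IsArtinianRing.isNilpotent_jacobson_bot (R := A)
    rwa [IsLocalRing.jacobson_eq_maximalIdeal ⊥ bot_ne_top] at this
  obtain ⟨N, hN⟩ := hnil
  -- lifts of generators
  let lift : K → A := fun k => (hπ k).choose
  have hlift : ∀ k, π (lift k) = k := fun k => (hπ k).choose_spec
  let gens : Finset A := s.image lift ∪ t
  let A'' : Subalgebra R A := Algebra.adjoin R (gens : Set A)
  have hgens : ∀ x ∈ gens, x ∈ A'' := fun x hx => Algebra.subset_adjoin hx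
  -- π maps A'' onto K
  have hsurj : ∀ a : A, ∃ b ∈ A'', a - b ∈ m := by
    intro a
    have h1 : A''.map πa = ⊤ := by
      rw [eq_top_iff, ← hs]
      apply Algebra.adjoin_le
      intro k hk
      refine ⟨lift k, hgens _ ?_, hlift k⟩
      exact Finset.mem_union_left _ (Finset.mem_image_of_mem _ hk)
    have h2 : πa a ∈ A''.map πa := by rw [h1]; trivial
    obtain ⟨b, hb, hbe⟩ := h2
    refine ⟨b, hb, ?_⟩
    rw [← hker, RingHom.mem_ker, map_sub]
    have : π b = π a := hbe
    rw [this, sub_self]
  -- the ideal J of A'' generated by t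
  have htA : ∀ x ∈ t, x ∈ A'' := fun x hx => hgens x (Finset.mem_union_right _ hx)
  let J : Ideal A'' := Ideal.span {x : A'' | x.1 ∈ t}
  let Nn : Submodule A'' A := LinearMap.range (Algebra.linearMap A'' A)
  have hNn : ∀ a : A, a ∈ Nn ↔ a ∈ A'' := by
    intro a
    constructor
    · rintro ⟨b, rfl⟩
      exact b.2
    · intro ha
      exact ⟨⟨a, ha⟩, rfl⟩
  have hJN : J • Nn ≤ Nn := by
    rw [Submodule.smul_le]
    intro r _ n hn
    rw [hNn] at hn ⊢
    exact A''.mul_mem r.2 hn
  have hstep : (⊤ : Submodule A'' A) ≤ Nn ⊔ J • ⊤ := by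
    intro a _
    obtain ⟨b, hb, hab⟩ := hsurj a
    have h3 : a - b ∈ J • (⊤ : Submodule A'' A) := by
      rw [← ht] at hab
      refine Submodule.span_induction (p := fun x _ => x ∈ J • (⊤ : Submodule A'' A))
        ?_ ?_ ?_ ?_ hab
      · intro x hx
        have : x = (⟨x, htA x hx⟩ : A'') • (1 : A) := by
          rw [Subalgebra.smul_def]; simp
        rw [this]
        exact Submodule.smul_mem_smul (Ideal.subset_span hx) trivial
      · exact Submodule.zero_mem _
      · intro x y _ _ hx hy
        exact Submodule.add_mem _ hx hy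
      · intro c x _ hx
        -- c • x = c * x, need J • ⊤ stable under multiplication by A
        refine Submodule.smul_induction_on hx ?_ ?_
        · intro r hr n _
          have : c • (r • n) = r • (c * n) := by
            rw [Subalgebra.smul_def, Subalgebra.smul_def, smul_eq_mul, smul_eq_mul, smul_eq_mul]
            ring
          rw [this]
          exact Submodule.smul_mem_smul hr trivial
        · intro x y hx hy
          rw [smul_add]
          exact Submodule.add_mem _ hx hy
    have : a = b + (a - b) := by ring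
    rw [this]
    exact Submodule.add_mem_sup ((hNn b).mpr hb) h3
  have hpow : ∀ n : ℕ, (⊤ : Submodule A'' A) ≤ Nn ⊔ (J ^ n) • ⊤ := by
    intro n
    induction n with
    | zero =>
      rw [pow_zero, Ideal.one_eq_top, Submodule.top_smul]
      exact le_sup_right
    | succ n ih =>
      calc (⊤ : Submodule A'' A) ≤ Nn ⊔ J • ⊤ := hstep
        _ ≤ Nn ⊔ J • (Nn ⊔ (J ^ n) • ⊤) := by
            gcongr
        _ = Nn ⊔ (J • Nn ⊔ J • ((J ^ n) • ⊤)) := by rw [Submodule.smul_sup]
        _ ≤ Nn ⊔ (J ^ (n + 1)) • ⊤ := by
            rw [← Submodule.mul_smul, ← pow_succ']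
            refine sup_le le_sup_left (sup_le (hJN.trans le_sup_left) le_sup_right)
  have hJpow : J ^ N = ⊥ := by
    rw [eq_bot_iff]
    intro x hx
    have h4 : (x : A) ∈ (J ^ N).map A''.val.toRingHom := Ideal.mem_map_of_mem _ hx
    rw [Ideal.map_pow] at h4
    have h5 : J.map A''.val.toRingHom ≤ m := by
      rw [Ideal.map_span, Ideal.span_le]
      rintro _ ⟨y, hy, rfl⟩
      rw [← ht]
      exact Ideal.subset_span hy
    have h6 := Ideal.pow_right_mono h5 N h4
    rw [hN] at h6
    have : (x : A) = 0 := h6
    exact Subtype.ext this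
  have htop : A'' = ⊤ := by
    rw [eq_top_iff]
    intro a _
    have := hpow N (show a ∈ (⊤ : Submodule A'' A) from trivial)
    rw [hJpow, Submodule.bot_smul, sup_bot_eq] at this
    exact (hNn a).mp this
  exact ⟨⟨gens, htop⟩⟩

end Groth.Agent.Lib.Helper6.ArtinFT
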