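import Mathlib

/-!
# Artinian rings: regular iff reduced (helper for S9256)
-/

namespace Groth.Agent.Lib.Helper6.ArtinReg

universe u

set_option linter.style.haveILetI false

open IsLocalRing

/-- A reduced Artinian ring is regular. -/
theorem isRegularRing_of_isReduced (A : Type u) [CommRing A] [IsArtinianRing A] [IsReduced A] :
    IsRegularRing A := by
  rw [isRegularRing_iff]
  intro P hP
  have : IsArtinianRing (Localization.AtPrime P) := inferInstance
  have : IsReduced (Localization.AtPrime P) := inferInstance
  have hf : IsField (Localization.AtPrime P) :=
    IsArtinianRing.isField_of_isReduced_of_isLocalRing _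
  letI := hf.toField
  infer_instance

/-- A regular Artinian ring is reduced. -/
theorem isReduced_of_isRegularRing (A : Type u) [CommRing A] [IsArtinianRing A] [IsRegularRing A] :
    IsReduced A := by
  apply isReduced_ofLocalizationMaximal
  intro m hm
  have : IsArtinianRing (Localization.AtPrime m) := inferInstance
  have hreg : IsRegularLocalRing (Localization.AtPrime m) := inferInstance
  have h0 : ringKrullDim (Localization.AtPrime m) = 0 := by
    have : Ring.KrullDimLE 0 (Localization.AtPrime m) := inferInstance
    exact ringKrullDimZero_iff_ringKrullDim_eq_zero.1 this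
  have h1 := hreg.spanFinrank_maximalIdeal
  rw [h0] at h1
  have h2 : (maximalIdeal (Localization.AtPrime m)).spanFinrank = 0 := by exact_mod_cast h1
  have h3 : maximalIdeal (Localization.AtPrime m) = ⊥ :=
    (Submodule.spanFinrank_eq_zero_iff_eq_bot (IsNoetherian.noetherian _)).1 h2
  have hf : IsField (Localization.AtPrime m) := IsLocalRing.isField_iff_maximalIdeal_eq.2 h3
  letI := hf.toField
  infer_instance

end Groth.Agent.Lib.Helper6.ArtinReg
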