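import Mathlib

set_option linter.unusedSectionVars false
set_option linter.unusedVariables false
set_option autoImplicit false
set_option maxHeartbeats 400000

noncomputable section

namespace Groth.Agent.Lib.Helper6.SignPerm

open Module

section
variable {S : Type*} [CommRing S] [Nontrivial S] {M : Type*} [AddCommGroup M] [Module S M]
  {ι : Type*} [Fintype ι] [DecidableEq ι]
  (b : Module.Basis ι S M) (T : M →ₗ[S] M) (σ : ι → ι) (ε : ι → ℤ)
  (hσ : ∀ i, σ (σ i) = i) (hε : ∀ i, ε i = 1 ∨ ε i = -1) (hεσ : ∀ i, ε (σ i) = ε i)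
  (hT : ∀ i, T (b i) = ε i • b (σ i)) (h2 : IsUnit (2 : S))
  (g : ι → ℕ) (hg : Function.Injective g)

include hσ hεσ hT in
theorem repr_T (x : M) (j : ι) : b.repr (T x) j = (ε j : S) * b.repr x (σ j) := by
  let L1 : M →ₗ[S] S := (Finsupp.lapply j) ∘ₗ b.repr.toLinearMap ∘ₗ T
  let L2 : M →ₗ[S] S := (ε j : S) • ((Finsupp.lapply (σ j)) ∘ₗ b.repr.toLinearMap)
  have h : L1 = L2 := by
    apply b.ext
    intro i
    show b.repr (T (b i)) j = (ε j : S) * b.repr (b i) (σ j)
    rw [hT, map_zsmul, Finsupp.smul_apply, b.repr_self, b.repr_self, Finsupp.single_apply,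
      Finsupp.single_apply]
    by_cases hij : σ i = j
    · have hi : i = σ j := by rw [← hij, hσ]
      rw [if_pos hij, if_pos hi, ← hεσ j, ← hi]
      simp
    · have hi : i ≠ σ j := by
        intro h
        apply hij
        rw [h, hσ]
      rw [if_neg hij, if_neg hi]
      simp
  exact LinearMap.congr_fun h x

theorem mem_fix (x : M) : x ∈ LinearMap.ker (T - LinearMap.id) ↔ T x = x := by
  rw [LinearMap.mem_ker, LinearMap.sub_apply, LinearMap.id_apply, sub_eq_zero]

/-- the index set of the fixed module. -/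
def DP (j : ι) : Prop := g j < g (σ j) ∨ (σ j = j ∧ ε j = 1)


open Classical in
/-- the restriction-of-coordinates map on the fixed module. -/
def F : LinearMap.ker (T - LinearMap.id) →ₗ[S] ({j : ι // DP σ ε g j} → S) :=
  (LinearMap.funLeft S S (Subtype.val : {j : ι // DP σ ε g j} → ι)) ∘ₗ
    b.equivFun.toLinearMap ∘ₗ (LinearMap.ker (T - LinearMap.id)).subtype

theorem F_apply (x : LinearMap.ker (T - LinearMap.id)) (d : {j : ι // DP σ ε g j}) :
    F b T σ ε g x d = b.repr x.1 d.1 := rfl

include hσ hε hεσ hT h2 hg in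
theorem F_injective : Function.Injective (F b T σ ε g) := by
  classical
  rw [← LinearMap.ker_eq_bot, LinearMap.ker_eq_bot']
  intro x hx
  have hfix : T x.1 = x.1 := (mem_fix T x.1).1 x.2
  have hD : ∀ j, DP σ ε g j → b.repr x.1 j = 0 := by
    intro j hj
    have := congrFun hx ⟨j, hj⟩
    rw [F_apply] at this
    exact this
  have hrel : ∀ j, b.repr x.1 j = (ε j : S) * b.repr x.1 (σ j) := by
    intro j
    rw [← repr_T b T σ ε hσ hεσ hT, hfix]
  apply Subtype.ext
  apply b.ext_elem
  intro j
  rw [ZeroMemClass.coe_zero, map_zero, Finsupp.zero_apply]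
  by_cases hj : DP σ ε g j
  · exact hD j hj
  · by_cases hsj : σ j = j
    · have he : ε j = -1 := by
        rcases hε j with h | h
        · exact absurd (Or.inr ⟨hsj, h⟩) hj
        · exact h
      have h1 := hrel j
      rw [hsj, he] at h1
      push_cast at h1
      have h3 : (2 : S) * b.repr x.1 j = 0 := by
        have : b.repr x.1 j + b.repr x.1 j = 0 := by
          nth_rewrite 1 [h1]
          ring
        rw [two_mul]
        exact this
      exact (h2.mul_right_eq_zero).1 h3
    · have hlt : g (σ j) < g j := by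
        have hne : g (σ j) ≠ g j := fun h => hsj (hg h)
        have hnlt : ¬ g j < g (σ j) := fun h => hj (Or.inl h)
        omega
      have hsD : DP σ ε g (σ j) := Or.inl (by rw [hσ]; exact hlt)
      rw [hrel j, hD (σ j) hsD, mul_zero]

include hσ hε hεσ hT hg in
theorem F_surjective : Function.Surjective (F b T σ ε g) := by
  classical
  intro y
  let y' : ι → S := fun j => if h : DP σ ε g j then y ⟨j, h⟩ else 0
  let c : ι → S := fun j => if DP σ ε g j then y' j else if DP σ ε g (σ j) then (ε j : S) * y' (σ j)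
    else 0
  let x : M := b.equivFun.symm c
  have hrepr : ∀ j, b.repr x j = c j := by
    intro j
    have := b.equivFun.apply_symm_apply c
    exact congrFun this j
  have hsq : ∀ j, (ε j : S) * (ε j : S) = 1 := by
    intro j
    rcases hε j with h | h <;> rw [h] <;> push_cast <;> ring
  have hfix : T x = x := by
    apply b.ext_elem
    intro j
    rw [repr_T b T σ ε hσ hεσ hT, hrepr, hrepr]
    show (ε j : S) * c (σ j) = c j
    by_cases hj : DP σ ε g j
    · rcases hj with hlt | ⟨hsj, he⟩
      · have hnot : ¬ DP σ ε g (σ j) := by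
          rintro (h | ⟨h, _⟩)
          · rw [hσ] at h
            omega
          · rw [hσ] at h
            rw [← h] at hlt
            exact lt_irrefl _ hlt
        have hj' : DP σ ε g j := Or.inl hlt
        have hc1 : c j = y' j := if_pos hj'
        have hc2 : c (σ j) = (ε (σ j) : S) * y' (σ (σ j)) := by
          show (if DP σ ε g (σ j) then y' (σ j) else if DP σ ε g (σ (σ j)) then
            (ε (σ j) : S) * y' (σ (σ j)) else 0) = _
          rw [if_neg hnot, hσ, if_pos hj']
        rw [hc1, hc2, hσ, hεσ, ← mul_assoc, hsq, one_mul]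
      · rw [hsj, he]
        push_cast
        ring
    · by_cases hsD : DP σ ε g (σ j)
      · have hc1 : c j = (ε j : S) * y' (σ j) := by
          show (if DP σ ε g j then y' j else if DP σ ε g (σ j) then (ε j : S) * y' (σ j)
            else 0) = _
          rw [if_neg hj, if_pos hsD]
        have hc2 : c (σ j) = y' (σ j) := if_pos hsD
        rw [hc1, hc2]
      · have hc1 : c j = 0 := by
          show (if DP σ ε g j then y' j else if DP σ ε g (σ j) then (ε j : S) * y' (σ j)
            else 0) = _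
          rw [if_neg hj, if_neg hsD]
        have hc2 : c (σ j) = 0 := by
          show (if DP σ ε g (σ j) then y' (σ j) else if DP σ ε g (σ (σ j)) then
            (ε (σ j) : S) * y' (σ (σ j)) else 0) = _
          rw [if_neg hsD, hσ, if_neg hj]
        rw [hc1, hc2, mul_zero]
  refine ⟨⟨x, (mem_fix T x).2 hfix⟩, ?_⟩
  funext d
  rw [F_apply]
  show b.repr x d.1 = y d
  rw [hrepr]
  show (if DP σ ε g d.1 then y' d.1 else _) = y d
  rw [if_pos d.2]
  show (if h : DP σ ε g d.1 then y ⟨d.1, h⟩ else 0) = y d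
  rw [dif_pos d.2]

include hσ hε hεσ hT h2 hg in
open Classical in
theorem finrank_fix : Module.finrank S (LinearMap.ker (T - LinearMap.id)) =
    Fintype.card {j : ι // g j < g (σ j)} + Fintype.card {j : ι // σ j = j ∧ ε j = 1} := by
  have e : LinearMap.ker (T - LinearMap.id) ≃ₗ[S] ({j : ι // DP σ ε g j} → S) :=
    LinearEquiv.ofBijective (F b T σ ε g)
      ⟨F_injective b T σ ε hσ hε hεσ hT h2 g hg, F_surjective b T σ ε hσ hε hεσ hT g hg⟩
  rw [e.finrank_eq, Module.finrank_fintype_fun_eq_card]
  unfold DP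
  rw [Fintype.card_subtype_or_disjoint]
  rw [Pi.disjoint_iff]
  intro j
  simp only [Prop.disjoint_iff, not_and]
  intro hlt hh
  rw [hh] at hlt
  exact absurd hlt (lt_irrefl _)


include hσ hε hεσ hT h2 hg in
open Classical in
theorem finrank_antifix : Module.finrank S (LinearMap.ker (T + LinearMap.id)) =
    Fintype.card {j : ι // g j < g (σ j)} + Fintype.card {j : ι // σ j = j ∧ ε j = -1} := by
  have hker : LinearMap.ker (T + LinearMap.id) = LinearMap.ker (-T - LinearMap.id) := by
    ext x
    rw [LinearMap.mem_ker, LinearMap.mem_ker, LinearMap.add_apply, LinearMap.sub_apply,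
      LinearMap.neg_apply, LinearMap.id_apply]
    constructor
    · intro h
      rw [← neg_add', h, neg_zero]
    · intro h
      rw [← neg_add', neg_eq_zero] at h
      exact h
  rw [hker]
  have h := finrank_fix b (-T) σ (fun j => - ε j) hσ
    (fun i => by rcases hε i with h | h <;> simp [h])
    (fun i => by simp only [hεσ]) (fun i => by rw [LinearMap.neg_apply, hT, neg_smul]) h2 g hg
  rw [h]
  congr 1
  apply Fintype.card_congr
  apply Equiv.subtypeEquivRight
  intro j
  constructor
  · rintro ⟨h1, h2⟩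
    exact ⟨h1, by omega⟩
  · rintro ⟨h1, h2⟩
    exact ⟨h1, by omega⟩

end

section compare

variable {S : Type*} [CommRing S] [Nontrivial S] {M M' : Type*} [AddCommGroup M] [Module S M]
  [AddCommGroup M'] [Module S M']
  {ι ι' : Type*} [Fintype ι] [DecidableEq ι] [Fintype ι'] [DecidableEq ι']

theorem finrank_ker_eq (T : M →ₗ[S] M) (T' : M' →ₗ[S] M') (f : M ≃ₗ[S] M')
    (hf : ∀ x, f (T x) = T' (f x)) (c : S) :
    Module.finrank S (LinearMap.ker (T + c • LinearMap.id)) =
      Module.finrank S (LinearMap.ker (T' + c • LinearMap.id)) := by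
  have hcomap : LinearMap.ker (T + c • LinearMap.id) =
      (LinearMap.ker (T' + c • LinearMap.id)).comap f.toLinearMap := by
    ext x
    rw [Submodule.mem_comap, LinearMap.mem_ker, LinearMap.mem_ker, LinearMap.add_apply,
      LinearMap.add_apply, LinearMap.smul_apply, LinearMap.smul_apply, LinearMap.id_apply,
      LinearMap.id_apply, LinearEquiv.coe_coe, ← hf, ← map_smul, ← map_add]
    constructor
    · intro h
      rw [h, map_zero]
    · intro h
      exact f.injective (by rw [h, map_zero])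
  rw [hcomap]
  exact (f.ofSubmodule' (LinearMap.ker (T' + c • LinearMap.id))).finrank_eq

theorem compare (b : Module.Basis ι S M) (b' : Module.Basis ι' S M')
    (T : M →ₗ[S] M) (T' : M' →ₗ[S] M') (σ : ι → ι) (σ' : ι' → ι') (ε : ι → ℤ) (ε' : ι' → ℤ)
    (hσ : ∀ i, σ (σ i) = i) (hε : ∀ i, ε i = 1 ∨ ε i = -1) (hεσ : ∀ i, ε (σ i) = ε i)
    (hT : ∀ i, T (b i) = ε i • b (σ i))
    (hσ' : ∀ i, σ' (σ' i) = i) (hε' : ∀ i, ε' i = 1 ∨ ε' i = -1) (hεσ' : ∀ i, ε' (σ' i) = ε' i)
    (hT' : ∀ i, T' (b' i) = ε' i • b' (σ' i))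
    (h2 : IsUnit (2 : S)) (f : M ≃ₗ[S] M') (hf : ∀ x, f (T x) = T' (f x))
    (hp : ∃ j, σ j = j ∧ ε j = 1) (hm : ∀ j, ¬ (σ j = j ∧ ε j = -1))
    (hp' : ∀ j, ¬ (σ' j = j ∧ ε' j = 1)) : False := by
  classical
  let g : ι → ℕ := fun i => (Fintype.equivFin ι i : ℕ)
  have hg : Function.Injective g := fun i j h => (Fintype.equivFin ι).injective (Fin.ext h)
  let g' : ι' → ℕ := fun i => (Fintype.equivFin ι' i : ℕ)
  have hg' : Function.Injective g' := fun i j h => (Fintype.equivFin ι').injective (Fin.ext h)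
  have e1 := finrank_fix b T σ ε hσ hε hεσ hT h2 g hg
  have e2 := finrank_antifix b T σ ε hσ hε hεσ hT h2 g hg
  have e1' := finrank_fix b' T' σ' ε' hσ' hε' hεσ' hT' h2 g' hg'
  have e2' := finrank_antifix b' T' σ' ε' hσ' hε' hεσ' hT' h2 g' hg'
  have k1 := finrank_ker_eq T T' f hf (-1)
  have k2 := finrank_ker_eq T T' f hf 1
  have r1 : ∀ (U : M →ₗ[S] M), U + (-1 : S) • LinearMap.id = U - LinearMap.id := by
    intro U; rw [neg_smul, one_smul, sub_eq_add_neg]
  have r1' : ∀ (U : M' →ₗ[S] M'), U + (-1 : S) • LinearMap.id = U - LinearMap.id := by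
    intro U; rw [neg_smul, one_smul, sub_eq_add_neg]
  rw [r1, r1'] at k1
  rw [one_smul, one_smul] at k2
  have a1 : 1 ≤ Fintype.card {j : ι // σ j = j ∧ ε j = 1} := by
    obtain ⟨j, hj⟩ := hp
    exact Fintype.card_pos_iff.2 ⟨⟨j, hj⟩⟩
  have a2 : Fintype.card {j : ι // σ j = j ∧ ε j = -1} = 0 :=
    Fintype.card_eq_zero_iff.2 ⟨fun x => hm x.1 x.2⟩
  have a3 : Fintype.card {j : ι' // σ' j = j ∧ ε' j = 1} = 0 :=
    Fintype.card_eq_zero_iff.2 ⟨fun x => hp' x.1 x.2⟩
  omega

end compare

end Groth.Agent.Lib.Helper6.SignPerm
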