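import Mathlib
import Groth.Prelude.Def_AzInv
import Groth.Agent.Lib.Helper6.SignPerm

set_option linter.unusedSectionVars false
set_option linter.unusedVariables false
set_option autoImplicit false
set_option maxHeartbeats 400000

noncomputable section

namespace Groth.Agent.Lib.Helper6.AzInvL

open AzInv TensorProduct

universe u

variable {R : Type u} [CommRing R]

theorem matrix_single {A : Type*} [Ring A] [Algebra R A] {lam : R → R} (t : LamInv R A lam)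
    {n : ℕ} (i j : Fin n) (m : A) :
    (t.matrix (Fin n)) (Matrix.single i j m) = Matrix.single j i (t m) := by
  ext a c
  rw [LamInv.matrix_apply, Matrix.single_apply, Matrix.single_apply]
  by_cases h : i = c ∧ j = a
  · rw [if_pos h, if_pos ⟨h.2, h.1⟩]
  · rw [if_neg h, if_neg (fun h' => h ⟨h'.2, h'.1⟩), t.map_zero]

def sig2 (p : Fin 2 × Fin 2) : Fin 2 × Fin 2 := if p.1 = p.2 then (p.1.rev, p.2.rev) else p

def eps2 (p : Fin 2 × Fin 2) : ℤ := if p.1 = p.2 then 1 else -1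

theorem sig2_sig2 (p : Fin 2 × Fin 2) : sig2 (sig2 p) = p := by
  obtain ⟨k, l⟩ := p
  fin_cases k <;> fin_cases l <;> rfl

theorem eps2_sig2 (p : Fin 2 × Fin 2) : eps2 (sig2 p) = eps2 p := by
  obtain ⟨k, l⟩ := p
  fin_cases k <;> fin_cases l <;> rfl

theorem eps2_cases (p : Fin 2 × Fin 2) : eps2 p = 1 ∨ eps2 p = -1 := by
  unfold eps2
  split_ifs
  · exact Or.inl rfl
  · exact Or.inr rfl

theorem sig2_ne_of_eps2 (p : Fin 2 × Fin 2) (h : eps2 p = 1) : sig2 p ≠ p := by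
  obtain ⟨k, l⟩ := p
  fin_cases k <;> fin_cases l <;> simp [eps2, sig2] at h ⊢

theorem Jinv (J : (Matrix (Fin 2) (Fin 2) R)ˣ)
    (hJ : (↑J : Matrix (Fin 2) (Fin 2) R) = Matrix.of ![![0, -1], ![1, 0]]) :
    (↑J⁻¹ : Matrix (Fin 2) (Fin 2) R) = Matrix.of ![![0, 1], ![-1, 0]] := by
  rw [Units.inv_eq_of_mul_eq_one_right]
  rw [hJ]
  ext a c
  fin_cases a <;> fin_cases c <;> simp [Matrix.mul_apply, Fin.sum_univ_two]

theorem transpose_single (hlam : ∀ r : R, (AlgEquiv.refl : R ≃ₐ[R] R) ((AlgEquiv.refl : R ≃ₐ[R] R) r) = r)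
    (k l : Fin 2) :
    (AzInv.LamInv.transpose (AlgEquiv.refl : R ≃ₐ[R] R) (Fin 2) hlam) (Matrix.single k l (1 : R)) =
      Matrix.single l k (1 : R) := by
  ext a c
  rw [LamInv.transpose_apply, Matrix.single_apply, Matrix.single_apply]
  by_cases h : k = c ∧ l = a
  · rw [if_pos h, if_pos ⟨h.2, h.1⟩]
    rfl
  · rw [if_neg h, if_neg (fun h' => h ⟨h'.2, h'.1⟩)]
    rfl

theorem sympl_single (hlam : ∀ r : R, (AlgEquiv.refl : R ≃ₐ[R] R) ((AlgEquiv.refl : R ≃ₐ[R] R) r) = r)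
    (J : (Matrix (Fin 2) (Fin 2) R)ˣ)
    (hJ : (↑J : Matrix (Fin 2) (Fin 2) R) = Matrix.of ![![0, -1], ![1, 0]])
    (hJt : AzInv.LamInv.transpose (AlgEquiv.refl : R ≃ₐ[R] R) (Fin 2) hlam (↑J : Matrix (Fin 2) (Fin 2) R) = (-1 : R) • (↑J : Matrix (Fin 2) (Fin 2) R))
    (hneg : (AlgEquiv.refl : R ≃ₐ[R] R) (-1) * (-1) = 1) (p : Fin 2 × Fin 2) :
    ((AzInv.LamInv.transpose (AlgEquiv.refl : R ≃ₐ[R] R) (Fin 2) hlam).conj J (-1) hJt hneg)
      (Matrix.single p.1 p.2 (1 : R)) = eps2 p • Matrix.single (sig2 p).1 (sig2 p).2 (1 : R) := by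
  rw [LamInv.conj_apply, Jinv J hJ, hJ, transpose_single]
  obtain ⟨k, l⟩ := p
  fin_cases k <;> fin_cases l <;>
  · ext a c
    fin_cases a <;> fin_cases c <;>
      simp [Matrix.mul_apply, Fin.sum_univ_two, sig2, eps2, Matrix.single_apply, Matrix.vecMul,
        dotProduct]


theorem not_sameType (hlam : ∀ r : R, (AlgEquiv.refl : R ≃ₐ[R] R) ((AlgEquiv.refl : R ≃ₐ[R] R) r) = r)
    [Nontrivial R] (h2 : IsUnit (2 : R))
    (J : (Matrix (Fin 2) (Fin 2) R)ˣ)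
    (hJ : (↑J : Matrix (Fin 2) (Fin 2) R) = Matrix.of ![![0, -1], ![1, 0]])
    (hJt : AzInv.LamInv.transpose (AlgEquiv.refl : R ≃ₐ[R] R) (Fin 2) hlam (↑J : Matrix (Fin 2) (Fin 2) R) = (-1 : R) • (↑J : Matrix (Fin 2) (Fin 2) R))
    (hneg : (AlgEquiv.refl : R ≃ₐ[R] R) (-1) * (-1) = 1) :
    ¬ AzInv.SameType R (AlgEquiv.refl : R ≃ₐ[R] R) (AzInv.LamInv.self (AlgEquiv.refl : R ≃ₐ[R] R) hlam)
      ((AzInv.LamInv.transpose (AlgEquiv.refl : R ≃ₐ[R] R) (Fin 2) hlam).conj J (-1) hJt hneg) := by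
  rintro ⟨n, n', hn, hn', S', iCR, iAlg, iEt, iFF, f, _, hfT⟩
  haveI : Nontrivial S' := by
    haveI : Nontrivial (S' ⊗[R] R) := Module.FaithfullyFlat.lTensor_nontrivial R S' R
    exact (TensorProduct.rid R S').symm.toEquiv.nontrivial
  have h2' : IsUnit (2 : S') := by
    have := h2.map (algebraMap R S')
    rwa [map_ofNat] at this
  set τ₂ := (AzInv.LamInv.transpose (AlgEquiv.refl : R ≃ₐ[R] R) (Fin 2) hlam).conj J (-1) hJt hneg
    with hτ₂
  set t₁ := (AzInv.LamInv.self (AlgEquiv.refl : R ≃ₐ[R] R) hlam).matrix (Fin n) with ht₁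
  set t₂ := τ₂.matrix (Fin n') with ht₂
  let b := (Matrix.stdBasis R (Fin n) (Fin n)).baseChange S'
  let b' := ((Matrix.stdBasis R (Fin 2) (Fin 2)).matrix (Fin n') (Fin n')).baseChange S'
  refine Groth.Agent.Lib.Helper6.SignPerm.compare b b'
    (t₁.bc R (AlgEquiv.refl : R ≃ₐ[R] R) S') (t₂.bc R (AlgEquiv.refl : R ≃ₐ[R] R) S')
    Prod.swap (fun q => (q.2.1, q.1, sig2 q.2.2)) (fun _ => 1) (fun q => eps2 q.2.2)
    (fun i => Prod.swap_swap i) (fun _ => Or.inl rfl) (fun _ => rfl) ?_ ?_ ?_ ?_ ?_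
    h2' f.toLinearEquiv hfT ?_ ?_ ?_
  · -- hT
    rintro ⟨i, j⟩
    show (t₁.bc R (AlgEquiv.refl : R ≃ₐ[R] R) S') (b (i, j)) = (1 : ℤ) • b (j, i)
    rw [one_smul]
    show (t₁.bc R (AlgEquiv.refl : R ≃ₐ[R] R) S')
      ((Matrix.stdBasis R (Fin n) (Fin n)).baseChange S' (i, j)) =
      (Matrix.stdBasis R (Fin n) (Fin n)).baseChange S' (j, i)
    rw [Module.Basis.baseChange_apply, Module.Basis.baseChange_apply, Matrix.stdBasis_eq_single,
      Matrix.stdBasis_eq_single, LamInv.bc_tmul, ht₁, matrix_single, LamInv.self_apply]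
    rfl
  · -- hσ'
    rintro ⟨i, j, p⟩
    show (i, j, sig2 (sig2 p)) = (i, j, p)
    rw [sig2_sig2]
  · -- hε'
    rintro ⟨i, j, p⟩
    exact eps2_cases p
  · -- hεσ'
    rintro ⟨i, j, p⟩
    exact eps2_sig2 p
  · -- hT'
    rintro ⟨i, j, p⟩
    show (t₂.bc R (AlgEquiv.refl : R ≃ₐ[R] R) S')
      (((Matrix.stdBasis R (Fin 2) (Fin 2)).matrix (Fin n') (Fin n')).baseChange S' (i, j, p)) =
      eps2 p • ((Matrix.stdBasis R (Fin 2) (Fin 2)).matrix (Fin n') (Fin n')).baseChange S'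
        (j, i, sig2 p)
    rw [Module.Basis.baseChange_apply, Module.Basis.baseChange_apply, Module.Basis.matrix_apply,
      Module.Basis.matrix_apply, Matrix.stdBasis_eq_single, Matrix.stdBasis_eq_single,
      LamInv.bc_tmul, ht₂, matrix_single, hτ₂, sympl_single hlam J hJ hJt hneg p]
    let φ : Matrix (Fin 2) (Fin 2) R →+ S' ⊗[R] Matrix (Fin n') (Fin n') (Matrix (Fin 2) (Fin 2) R) :=
      ((TensorProduct.mk R S' (Matrix (Fin n') (Fin n') (Matrix (Fin 2) (Fin 2) R)) 1).toAddMonoidHom).comp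
        (Matrix.singleAddMonoidHom j i)
    exact map_zsmul φ (eps2 p) _
  · -- hp
    exact ⟨(⟨0, hn⟩, ⟨0, hn⟩), rfl, rfl⟩
  · -- hm
    rintro j ⟨_, h⟩
    norm_num at h
  · -- hp'
    rintro ⟨i, j, p⟩ ⟨h1, h2⟩
    have h3 : sig2 p = p := by
      have := congrArg (fun q => q.2.2) h1
      exact this
    exact sig2_ne_of_eps2 p h2 h3

end Groth.Agent.Lib.Helper6.AzInvL
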