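import Mathlib

set_option linter.unusedSectionVars false
set_option linter.unusedVariables false
set_option autoImplicit false
set_option maxHeartbeats 400000

/-!
# Affine Bezout count in the plane

For `F, G ∈ k[X,Y]` of degrees `n, m` whose top-degree forms are coprime, the quotient
`k[X,Y]/(F,G)` has dimension `n * m`.
-/

noncomputable section

namespace Groth.Agent.Lib.Helper6.Bezout

open MvPolynomial

variable {k : Type*} [Field k]

/-- Polynomials in two variables all of whose monomials have degree `< e`. -/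
def D (k : Type*) [Field k] (e : ℕ) : Submodule k (MvPolynomial (Fin 2) k) :=
  restrictSupport k {s | s.degree < e}

lemma mem_D {e : ℕ} {p : MvPolynomial (Fin 2) k} :
    p ∈ D k e ↔ ∀ s : Fin 2 →₀ ℕ, e ≤ s.degree → coeff s p = 0 := by
  unfold D
  rw [mem_restrictSupport_iff]
  constructor
  · intro h s hs
    by_contra hne
    have : s ∈ p.support := mem_support_iff.mpr hne
    have := h (Finset.mem_coe.mpr this)
    simp only [Set.mem_setOf_eq] at this
    omega
  · intro h s hs
    have hs' := mem_support_iff.mp (Finset.mem_coe.mp hs)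
    simp only [Set.mem_setOf_eq]
    by_contra hlt
    exact hs' (h s (not_lt.mp hlt))

lemma D_mono {a b : ℕ} (h : a ≤ b) : D k a ≤ D k b := by
  intro p hp
  rw [mem_D] at hp ⊢
  intro s hs
  exact hp s (h.trans hs)

lemma eq_zero_of_mem_D_zero {p : MvPolynomial (Fin 2) k} (h : p ∈ D k 0) : p = 0 := by
  rw [mem_D] at h
  ext s
  simpa using h s (Nat.zero_le _)

lemma mul_mem_D {a b : ℕ} {p q : MvPolynomial (Fin 2) k} (hp : p ∈ D k a) (hq : q ∈ D k (b + 1)) :
    p * q ∈ D k (a + b) := by
  classical
  rw [mem_D] at hp hq ⊢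
  intro s hs
  rw [coeff_mul]
  apply Finset.sum_eq_zero
  rintro ⟨s1, s2⟩ h12
  rw [Finset.HasAntidiagonal.mem_antidiagonal] at h12
  simp only at h12 ⊢
  have hdeg : s.degree = s1.degree + s2.degree := by rw [← h12, map_add]
  by_cases h1 : a ≤ s1.degree
  · rw [hp s1 h1, zero_mul]
  · have h2 : b + 1 ≤ s2.degree := by omega
    rw [hq s2 h2, mul_zero]

lemma hc_eq_zero_of_mem_D {e i : ℕ} {p : MvPolynomial (Fin 2) k} (hp : p ∈ D k e) (h : e ≤ i) :
    homogeneousComponent i p = 0 := by
  rw [mem_D] at hp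
  ext s
  rw [coeff_homogeneousComponent, coeff_zero]
  split_ifs with hs
  · exact hp s (by omega)
  · rfl

lemma sub_hc_mem {a : ℕ} {p : MvPolynomial (Fin 2) k} (hp : p ∈ D k (a + 1)) :
    p - homogeneousComponent a p ∈ D k a := by
  rw [mem_D] at hp ⊢
  intro s hs
  rw [coeff_sub, coeff_homogeneousComponent]
  split_ifs with h
  · exact sub_self _
  · rw [sub_zero]
    exact hp s (by omega)

lemma mem_D_of_hc {a : ℕ} {p : MvPolynomial (Fin 2) k} (hp : p ∈ D k (a + 1))
    (h : homogeneousComponent a p = 0) : p ∈ D k a := by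
  have := sub_hc_mem hp
  rwa [h, sub_zero] at this

lemma isHomogeneous_mem_D {a : ℕ} {p : MvPolynomial (Fin 2) k} (hp : p.IsHomogeneous a) :
    p ∈ D k (a + 1) := by
  rw [mem_D]
  intro s hs
  exact hp.coeff_eq_zero (by omega)

lemma hc_mem_D (a : ℕ) (p : MvPolynomial (Fin 2) k) : homogeneousComponent a p ∈ D k (a + 1) :=
  isHomogeneous_mem_D (homogeneousComponent_isHomogeneous a p)

lemma mem_D_totalDegree (p : MvPolynomial (Fin 2) k) : p ∈ D k (p.totalDegree + 1) := by
  rw [mem_D]
  intro s hs
  by_contra hne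
  have := le_totalDegree (mem_support_iff.mpr hne)
  rw [Finsupp.degree_apply] at hs
  simp only [Finsupp.sum] at this
  omega

lemma hc_mul {a b : ℕ} {p q : MvPolynomial (Fin 2) k} (hp : p ∈ D k (a + 1))
    (hq : q ∈ D k (b + 1)) :
    homogeneousComponent (a + b) (p * q) = homogeneousComponent a p * homogeneousComponent b q := by
  have h1 : p * q = homogeneousComponent a p * homogeneousComponent b q +
      ((q - homogeneousComponent b q) * homogeneousComponent a p +
        (p - homogeneousComponent a p) * q) := by ring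
  have h2 : (q - homogeneousComponent b q) * homogeneousComponent a p ∈ D k (b + a) :=
    mul_mem_D (sub_hc_mem hq) (hc_mem_D a p)
  have h3 : (p - homogeneousComponent a p) * q ∈ D k (a + b) := mul_mem_D (sub_hc_mem hp) hq
  rw [add_comm b a] at h2
  have h4 := hc_eq_zero_of_mem_D (Submodule.add_mem _ h2 h3) le_rfl
  have h5 : (homogeneousComponent a p * homogeneousComponent b q).IsHomogeneous (a + b) :=
    (homogeneousComponent_isHomogeneous a p).mul (homogeneousComponent_isHomogeneous b q)
  conv_lhs => rw [h1]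
  rw [map_add, h4, add_zero]
  exact homogeneousComponent_eq_self h5

attribute [local instance] MvPolynomial.gradedAlgebra in
lemma hc_homog_mul {n e : ℕ} {f₀ : MvPolynomial (Fin 2) k} (hf : f₀.IsHomogeneous n)
    (w : MvPolynomial (Fin 2) k) :
    homogeneousComponent e (f₀ * w) =
      if n ≤ e then f₀ * homogeneousComponent (e - n) w else 0 := by
  have hmem : f₀ ∈ homogeneousSubmodule (Fin 2) k n := (mem_homogeneousSubmodule n f₀).mpr hf
  have := DirectSum.coe_decompose_mul_of_left_mem (homogeneousSubmodule (Fin 2) k) (b := w) e hmem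
  have e1 : ∀ (φ : MvPolynomial (Fin 2) k) (i : ℕ),
      (DirectSum.decompose (homogeneousSubmodule (Fin 2) k) φ i : MvPolynomial (Fin 2) k) =
        homogeneousComponent i φ := fun φ i => decomposition.decompose'_apply φ i
  rw [e1, e1] at this
  exact this

/-- The data of two plane curves `F, G` of degrees `n, m` with coprime leading forms. -/
structure Setup (k : Type*) [Field k] (n m : ℕ) (F G f₀ g₀ : MvPolynomial (Fin 2) k) : Prop where
  hF : F ∈ D k (n + 1)
  hG : G ∈ D k (m + 1)
  hf : homogeneousComponent n F = f₀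
  hg : homogeneousComponent m G = g₀
  f_ne : f₀ ≠ 0
  g_ne : g₀ ≠ 0
  rel : IsRelPrime f₀ g₀

namespace Setup

variable {n m : ℕ} {F G f₀ g₀ : MvPolynomial (Fin 2) k}

lemma f_hom (S : Setup k n m F G f₀ g₀) : f₀.IsHomogeneous n := by
  rw [← S.hf]; exact homogeneousComponent_isHomogeneous n F

lemma g_hom (S : Setup k n m F G f₀ g₀) : g₀.IsHomogeneous m := by
  rw [← S.hg]; exact homogeneousComponent_isHomogeneous m G

lemma F_ne (S : Setup k n m F G f₀ g₀) : F ≠ 0 := by
  intro h
  apply S.f_ne
  rw [← S.hf, h, map_zero]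

lemma G_ne (S : Setup k n m F G f₀ g₀) : G ≠ 0 := by
  intro h
  apply S.g_ne
  rw [← S.hg, h, map_zero]

/-- The basic cancellation step. -/
lemma step (S : Setup k n m F G f₀ g₀) (a b : ℕ) (hab : a + n = b + m)
    {u v : MvPolynomial (Fin 2) k} (hu : u ∈ D k (a + 1)) (hv : v ∈ D k (b + 1))
    (h : homogeneousComponent (a + n) (u * F + v * G) = 0) :
    ∃ w ∈ D k (b + 1 - n), u + w * G ∈ D k a ∧ v - w * F ∈ D k b := by
  have h1 : homogeneousComponent (a + n) (u * F) = homogeneousComponent a u * f₀ := by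
    rw [hc_mul hu S.hF, S.hf]
  have h2 : homogeneousComponent (a + n) (v * G) = homogeneousComponent b v * g₀ := by
    rw [hab, hc_mul hv S.hG, S.hg]
  rw [map_add, h1, h2] at h
  set ut := homogeneousComponent a u with hut
  set vt := homogeneousComponent b v with hvt
  have hdvd : f₀ ∣ vt * g₀ := by
    refine ⟨-ut, ?_⟩
    linear_combination h
  have hdvd' : f₀ ∣ vt := S.rel.dvd_of_dvd_mul_right hdvd
  obtain ⟨w₀, hw₀⟩ := hdvd'
  have hvt_self : homogeneousComponent b vt = vt :=
    homogeneousComponent_eq_self (homogeneousComponent_isHomogeneous b v)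
  have hvt2 : vt = if n ≤ b then f₀ * homogeneousComponent (b - n) w₀ else 0 := by
    rw [← hc_homog_mul S.f_hom, ← hw₀, hvt_self]
  by_cases hnb : n ≤ b
  · rw [if_pos hnb] at hvt2
    set w := homogeneousComponent (b - n) w₀ with hw
    have hwD : w ∈ D k (b - n + 1) := hc_mem_D _ _
    have hw_self : homogeneousComponent (b - n) w = w :=
      homogeneousComponent_eq_self (homogeneousComponent_isHomogeneous _ w₀)
    have hut2 : ut = -(w * g₀) := by
      have : f₀ * (ut + w * g₀) = 0 := by
        rw [hvt2] at h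
        linear_combination h
      rcases mul_eq_zero.mp this with h0 | h0
      · exact absurd h0 S.f_ne
      · linear_combination h0
    have hwG : w * G ∈ D k (a + 1) := by
      have := mul_mem_D hwD S.hG
      have e : b - n + 1 + m = a + 1 := by omega
      rwa [e] at this
    have hwF : w * F ∈ D k (b + 1) := by
      have := mul_mem_D hwD S.hF
      have e : b - n + 1 + n = b + 1 := by omega
      rwa [e] at this
    have hcG : homogeneousComponent a (w * G) = w * g₀ := by
      have e : a = (b - n) + m := by omega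
      rw [e, hc_mul hwD S.hG, hw_self, S.hg]
    have hcF : homogeneousComponent b (w * F) = w * f₀ := by
      have e : b = (b - n) + n := by omega
      conv_lhs => rw [e]
      rw [hc_mul hwD S.hF, hw_self, S.hf]
    refine ⟨w, ?_, ?_, ?_⟩
    · have e : b + 1 - n = b - n + 1 := by omega
      rw [e]; exact hwD
    · apply mem_D_of_hc (Submodule.add_mem _ hu hwG)
      rw [map_add, hcG, ← hut, hut2]
      ring
    · apply mem_D_of_hc (Submodule.sub_mem _ hv hwF)
      rw [map_sub, hcF, ← hvt, hvt2]
      ring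
  · rw [if_neg hnb] at hvt2
    have hut2 : ut = 0 := by
      rw [hvt2, zero_mul, add_zero] at h
      rcases mul_eq_zero.mp h with h0 | h0
      · exact h0
      · exact absurd h0 S.f_ne
    refine ⟨0, Submodule.zero_mem _, ?_, ?_⟩
    · rw [zero_mul, add_zero]
      exact mem_D_of_hc hu hut2
    · rw [zero_mul, sub_zero]
      exact mem_D_of_hc hv hvt2

/-- Syzygies of `(F, G)` are the obvious ones, with degree control. -/
lemma syz (S : Setup k n m F G f₀ g₀) : ∀ (a b : ℕ), a + n = b + m →
    ∀ {u v : MvPolynomial (Fin 2) k}, u ∈ D k a → v ∈ D k b → u * F + v * G = 0 →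
    ∃ w ∈ D k (b - n), u = w * G ∧ v = -(w * F) := by
  intro a
  induction a with
  | zero =>
    intro b hab u v hu hv h
    have hu0 := eq_zero_of_mem_D_zero hu
    subst hu0
    rw [zero_mul, zero_add] at h
    have hv0 : v = 0 := by
      rcases mul_eq_zero.mp h with h0 | h0
      · exact h0
      · exact absurd h0 S.G_ne
    subst hv0
    exact ⟨0, Submodule.zero_mem _, by simp, by simp⟩
  | succ a ih =>
    intro b hab u v hu hv h
    cases b with
    | zero =>
      have hv0 := eq_zero_of_mem_D_zero hv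
      subst hv0
      rw [zero_mul, add_zero] at h
      have hu0 : u = 0 := by
        rcases mul_eq_zero.mp h with h0 | h0
        · exact h0
        · exact absurd h0 S.F_ne
      subst hu0
      exact ⟨0, Submodule.zero_mem _, by simp, by simp⟩
    | succ b =>
      have hab' : a + n = b + m := by omega
      obtain ⟨w₁, hw₁, hu', hv'⟩ := S.step a b hab' hu hv (by rw [h, map_zero])
      have h' : (u + w₁ * G) * F + (v - w₁ * F) * G = 0 := by linear_combination h
      obtain ⟨w', hw', e1, e2⟩ := ih b hab' hu' hv' h'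
      refine ⟨w' - w₁, ?_, ?_, ?_⟩
      · exact Submodule.sub_mem _ (D_mono (by omega) hw') hw₁
      · linear_combination e1
      · linear_combination e2

/-- No cancellation: an element of `(F, G)` of degree `< n + m + t` is a combination with
coefficients of degrees `< m + t` and `< n + t`. -/
lemma reduce (S : Setup k n m F G f₀ g₀) (t : ℕ) : ∀ (c : ℕ), t ≤ c →
    ∀ {u v : MvPolynomial (Fin 2) k}, u ∈ D k (m + c) → v ∈ D k (n + c) →
    u * F + v * G ∈ D k (n + m + t) →
    ∃ u' ∈ D k (m + t), ∃ v' ∈ D k (n + t), u' * F + v' * G = u * F + v * G := by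
  intro c
  induction c with
  | zero =>
    intro htc u v hu hv h
    have : t = 0 := by omega
    subst this
    exact ⟨u, hu, v, hv, rfl⟩
  | succ c ih =>
    intro htc u v hu hv h
    by_cases htc' : t = c + 1
    · subst htc'
      exact ⟨u, hu, v, hv, rfl⟩
    · have htc'' : t ≤ c := by omega
      have hab : (m + c) + n = (n + c) + m := by omega
      have h0 : homogeneousComponent (m + c + n) (u * F + v * G) = 0 :=
        hc_eq_zero_of_mem_D h (by omega)
      obtain ⟨w, hw, hu', hv'⟩ := S.step (m + c) (n + c) hab hu hv h0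
      have e : (u + w * G) * F + (v - w * F) * G = u * F + v * G := by ring
      obtain ⟨u'', hu'', v'', hv'', e'⟩ := ih htc'' hu' hv' (by rw [e]; exact h)
      exact ⟨u'', hu'', v'', hv'', e'.trans e⟩

end Setup


/-- pairs of naturals with sum `< e` -/
def T (e : ℕ) : Finset (ℕ × ℕ) :=
  (Finset.range e).biUnion fun i => Finset.HasAntidiagonal.antidiagonal i

lemma mem_T {e : ℕ} {p : ℕ × ℕ} : p ∈ T e ↔ p.1 + p.2 < e := by
  simp [T]

lemma card_T (e : ℕ) : (T e).card * 2 = e * (e + 1) := by
  have h1 : (T e).card = ∑ i ∈ Finset.range e, (i + 1) := by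
    unfold T
    rw [Finset.card_biUnion]
    · simp
    · intro i _ j _ hij
      rw [Function.onFun, Finset.disjoint_left]
      intro p hp hp'
      rw [Finset.HasAntidiagonal.mem_antidiagonal] at hp hp'
      exact hij (hp.symm.trans hp')
  have h2 : ∑ i ∈ Finset.range e, (i + 1) = ∑ i ∈ Finset.range (e + 1), i := by
    rw [Finset.sum_range_succ']
    simp
  rw [h1, h2, Finset.sum_range_id_mul_two]
  simp [mul_comm]

/-- index equivalence -/
noncomputable def E2 : (Fin 2 →₀ ℕ) ≃ ℕ × ℕ := (Finsupp.equivFunOnFinite).trans (finTwoArrowEquiv ℕ)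

lemma E2_apply (s : Fin 2 →₀ ℕ) : E2 s = (s 0, s 1) := rfl

noncomputable def idxEquiv (e : ℕ) : ({s : Fin 2 →₀ ℕ | s.degree < e} : Set (Fin 2 →₀ ℕ)) ≃ ↥(T e) :=
  Equiv.subtypeEquiv E2 (fun s => by
    rw [mem_T, E2_apply, Set.mem_ofPred_eq, Finsupp.degree_eq_sum, Fin.sum_univ_two])

lemma finrank_D (e : ℕ) : Module.finrank k (D k e) * 2 = e * (e + 1) := by
  have b := basisRestrictSupport k ({s : Fin 2 →₀ ℕ | s.degree < e} : Set (Fin 2 →₀ ℕ))
  have h1 : Module.finrank k (D k e) = Nat.card ({s : Fin 2 →₀ ℕ | s.degree < e} : Set (Fin 2 →₀ ℕ)) :=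
    Module.finrank_eq_nat_card_basis b
  rw [h1, Nat.card_congr (idxEquiv e), Nat.card_eq_fintype_card, Fintype.card_coe, card_T]

instance finite_D (e : ℕ) : Module.Finite k (D k e) := by
  have b := basisRestrictSupport k ({s : Fin 2 →₀ ℕ | s.degree < e} : Set (Fin 2 →₀ ℕ))
  have : Finite ({s : Fin 2 →₀ ℕ | s.degree < e} : Set (Fin 2 →₀ ℕ)) :=
    Finite.of_equiv _ (idxEquiv e).symm
  exact Module.Finite.of_basis b

lemma finrank_map_add_finrank_inf_ker {K M N : Type*} [Field K] [AddCommGroup M] [Module K M]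
    [AddCommGroup N] [Module K N] (f : M →ₗ[K] N) (p : Submodule K M) [FiniteDimensional K p] :
    Module.finrank K (p.map f) + Module.finrank K (p ⊓ LinearMap.ker f : Submodule K M) =
      Module.finrank K p := by
  have h := LinearMap.finrank_range_add_finrank_ker (f.domRestrict p)
  rw [LinearMap.range_domRestrict, LinearMap.ker_domRestrict] at h
  rw [← h, ← Submodule.map_comap_subtype p (LinearMap.ker f), Submodule.finrank_map_subtype_eq]

lemma finrank_map_mulRight {q : MvPolynomial (Fin 2) k} (hq : q ≠ 0)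
    (p : Submodule k (MvPolynomial (Fin 2) k)) :
    Module.finrank k (p.map (LinearMap.mulRight k q)) = Module.finrank k p := by
  have hinj : Function.Injective (LinearMap.mulRight k q) := by
    intro x y hxy
    simp only [LinearMap.mulRight_apply] at hxy
    exact mul_right_cancel₀ hq hxy
  exact (LinearEquiv.finrank_eq (Submodule.equivMapOfInjective _ hinj p)).symm

namespace Setup

variable {n m : ℕ} {F G f₀ g₀ : MvPolynomial (Fin 2) k}

lemma inf_eq (S : Setup k n m F G f₀ g₀) (t : ℕ) :
    (D k (m + t)).map (LinearMap.mulRight k F) ⊓ (D k (n + t)).map (LinearMap.mulRight k G) =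
      (D k t).map (LinearMap.mulRight k (G * F)) := by
  apply le_antisymm
  · rintro x ⟨⟨u, hu, hux⟩, ⟨v, hv, hvx⟩⟩
    simp only [LinearMap.mulRight_apply] at hux hvx
    have h0 : u * F + (-v) * G = 0 := by rw [hux, neg_mul, hvx, add_neg_cancel]
    obtain ⟨w, hw, e1, e2⟩ := S.syz (m + t) (n + t) (by omega) hu (Submodule.neg_mem _ hv) h0
    have e : n + t - n = t := by omega
    rw [e] at hw
    refine ⟨w, hw, ?_⟩
    simp only [LinearMap.mulRight_apply]
    rw [← hux, e1]; ring
  · rintro x ⟨w, hw, hwx⟩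
    simp only [LinearMap.mulRight_apply] at hwx
    refine ⟨⟨w * G, ?_, ?_⟩, ⟨w * F, ?_, ?_⟩⟩
    · have := mul_mem_D hw S.hG
      rwa [add_comm] at this
    · simp only [LinearMap.mulRight_apply]; rw [← hwx]; ring
    · have := mul_mem_D hw S.hF
      rwa [add_comm] at this
    · simp only [LinearMap.mulRight_apply]; rw [← hwx]; ring

lemma sup_eq (S : Setup k n m F G f₀ g₀) (t : ℕ) :
    (D k (m + t)).map (LinearMap.mulRight k F) ⊔ (D k (n + t)).map (LinearMap.mulRight k G) =
      D k (n + m + t) ⊓ (Ideal.span {F, G}).restrictScalars k := by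
  apply le_antisymm
  · apply sup_le
    · rintro x ⟨u, hu, hux⟩
      simp only [LinearMap.mulRight_apply] at hux
      refine ⟨?_, ?_⟩
      · have := mul_mem_D hu S.hF
        have e : m + t + n = n + m + t := by omega
        rw [e, hux] at this
        exact this
      · rw [← hux]
        exact Ideal.mul_mem_left _ _ (Ideal.subset_span (by simp))
    · rintro x ⟨u, hu, hux⟩
      simp only [LinearMap.mulRight_apply] at hux
      refine ⟨?_, ?_⟩
      · have := mul_mem_D hu S.hG
        have e : n + t + m = n + m + t := by omega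
        rw [e, hux] at this
        exact this
      · rw [← hux]
        exact Ideal.mul_mem_left _ _ (Ideal.subset_span (by simp))
  · rintro x ⟨hxD, hxI⟩
    have hxI' : x ∈ Ideal.span {F, G} := hxI
    rw [Ideal.mem_span_pair] at hxI'
    obtain ⟨a, b, hab⟩ := hxI'
    set c := a.totalDegree + b.totalDegree + 1 + t with hc
    have ha : a ∈ D k (m + c) := D_mono (by omega) (mem_D_totalDegree a)
    have hb : b ∈ D k (n + c) := D_mono (by omega) (mem_D_totalDegree b)
    obtain ⟨u', hu', v', hv', e⟩ := S.reduce t c (by omega) ha hb (by rw [hab]; exact hxD)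
    rw [← hab, ← e]
    exact Submodule.add_mem_sup ⟨u', hu', rfl⟩ ⟨v', hv', rfl⟩

/-- The quotient map as a `k`-linear map. -/
noncomputable def qmap (F G : MvPolynomial (Fin 2) k) :
    MvPolynomial (Fin 2) k →ₗ[k] (MvPolynomial (Fin 2) k ⧸ Ideal.span {F, G}) :=
  (Ideal.Quotient.mkₐ k (Ideal.span {F, G})).toLinearMap

lemma qmap_apply (x : MvPolynomial (Fin 2) k) :
    qmap F G x = Ideal.Quotient.mk (Ideal.span {F, G}) x := rfl

lemma ker_qmap : LinearMap.ker (qmap F G) = (Ideal.span {F, G}).restrictScalars k := by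
  ext x
  rw [LinearMap.mem_ker, qmap_apply, Ideal.Quotient.eq_zero_iff_mem]
  rfl

lemma finrank_V (S : Setup k n m F G f₀ g₀) (t : ℕ) :
    Module.finrank k ((D k (n + m + t)).map (qmap F G)) = n * m := by
  have h1 := finrank_map_add_finrank_inf_ker (qmap F G) (D k (n + m + t))
  rw [ker_qmap, ← S.sup_eq t] at h1
  have h2 := Submodule.finrank_sup_add_finrank_inf_eq
    ((D k (m + t)).map (LinearMap.mulRight k F)) ((D k (n + t)).map (LinearMap.mulRight k G))
  rw [S.inf_eq, finrank_map_mulRight S.F_ne, finrank_map_mulRight S.G_ne,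
    finrank_map_mulRight (mul_ne_zero S.G_ne S.F_ne)] at h2
  have d1 := finrank_D (k := k) (n + m + t)
  have d2 := finrank_D (k := k) (m + t)
  have d3 := finrank_D (k := k) (n + t)
  have d4 := finrank_D (k := k) t
  have key : (n + m + t) * (n + m + t + 1) + t * (t + 1) =
      (m + t) * (m + t + 1) + (n + t) * (n + t + 1) + 2 * (n * m) := by ring
  nlinarith [h1, h2, d1, d2, d3, d4, key]

theorem core (S : Setup k n m F G f₀ g₀) :
    Module.finrank k (MvPolynomial (Fin 2) k ⧸ Ideal.span {F, G}) = n * m := by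
  have hV : ∀ t, (D k (n + m + t)).map (qmap F G) = (D k (n + m + 0)).map (qmap F G) := by
    intro t
    symm
    apply Submodule.eq_of_le_of_finrank_eq
    · exact Submodule.map_mono (D_mono (by omega))
    · rw [S.finrank_V, S.finrank_V]
  have htop : (⊤ : Submodule k (MvPolynomial (Fin 2) k ⧸ Ideal.span {F, G})) ≤
      (D k (n + m + 0)).map (qmap F G) := by
    intro x _
    obtain ⟨p, rfl⟩ := Ideal.Quotient.mk_surjective x
    rw [← hV (p.totalDegree + 1)]
    exact ⟨p, D_mono (by omega) (mem_D_totalDegree p), rfl⟩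
  have := S.finrank_V 0
  rw [top_le_iff.mp htop, finrank_top] at this
  exact this

end Setup


/-- substitution `(X, Y, T) ↦ (X, Y, c)` -/
noncomputable def sub3 (c : MvPolynomial (Fin 2) k) : Fin 3 → MvPolynomial (Fin 2) k :=
  Fin.cons (X 0) (Fin.cons (X 1) (Fin.cons c Fin.elim0))

lemma sub3_zero (c : MvPolynomial (Fin 2) k) : sub3 c 0 = X 0 := rfl
lemma sub3_one (c : MvPolynomial (Fin 2) k) : sub3 c 1 = X 1 := rfl
lemma sub3_two (c : MvPolynomial (Fin 2) k) : sub3 c 2 = c := rfl

lemma aeval_sub3_monomial (c : MvPolynomial (Fin 2) k) (s : Fin 3 →₀ ℕ) (a : k) :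
    aeval (sub3 c) (monomial s a) = C a * (X 0 ^ s 0 * (X 1 ^ s 1 * c ^ s 2)) := by
  rw [aeval_monomial, Finsupp.prod_fintype _ _ (by simp), Fin.prod_univ_three, sub3_zero, sub3_one,
    sub3_two, algebraMap_eq, mul_assoc]

lemma dehom_hom {n : ℕ} {f : MvPolynomial (Fin 3) k} (hf : f.IsHomogeneous n) :
    (aeval (sub3 (0 : MvPolynomial (Fin 2) k)) f).IsHomogeneous n := by
  have := hf.aeval (sub3 (0 : MvPolynomial (Fin 2) k)) (n := 1) (fun i => by
    fin_cases i
    · exact isHomogeneous_X _ _
    · exact isHomogeneous_X _ _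
    · exact isHomogeneous_zero _ _ _)
  simpa using this

lemma dehom_sub {n : ℕ} {f : MvPolynomial (Fin 3) k} (hf : f.IsHomogeneous n) :
    aeval (sub3 (1 : MvPolynomial (Fin 2) k)) f - aeval (sub3 (0 : MvPolynomial (Fin 2) k)) f
      ∈ D k n := by
  have h1 : aeval (sub3 (1 : MvPolynomial (Fin 2) k)) f -
      aeval (sub3 (0 : MvPolynomial (Fin 2) k)) f =
      ∑ s ∈ f.support, (aeval (sub3 (1 : MvPolynomial (Fin 2) k)) (monomial s (coeff s f)) -
        aeval (sub3 (0 : MvPolynomial (Fin 2) k)) (monomial s (coeff s f))) := by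
    conv_lhs => rw [← support_sum_monomial_coeff f]
    rw [map_sum, map_sum, Finset.sum_sub_distrib]
  rw [h1]
  apply Submodule.sum_mem
  intro s hs
  have hdeg : s.degree = n := by
    by_contra hne
    exact (mem_support_iff.mp hs) (hf.coeff_eq_zero hne)
  rw [Finsupp.degree_eq_sum, Fin.sum_univ_three] at hdeg
  rw [aeval_sub3_monomial, aeval_sub3_monomial]
  by_cases h2 : s 2 = 0
  · rw [h2, pow_zero, pow_zero, sub_self]
    exact Submodule.zero_mem _
  · rw [zero_pow h2, one_pow, mul_zero, mul_zero, mul_zero, sub_zero, mul_one]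
    have hh : (C (coeff s f) * (X 0 ^ s 0 * X 1 ^ s 1) : MvPolynomial (Fin 2) k).IsHomogeneous
        (s 0 + s 1) := by
      have := ((isHomogeneous_X_pow (R := k) (0 : Fin 2) (s 0)).mul
        (isHomogeneous_X_pow (R := k) (1 : Fin 2) (s 1))).C_mul (coeff s f)
      exact this
    exact D_mono (by omega) (isHomogeneous_mem_D hh)

lemma not_isUnit_of_homog {n : ℕ} {p : MvPolynomial (Fin 2) k} (hp : p.IsHomogeneous n)
    (hn : 0 < n) : ¬ IsUnit p := by
  intro hu
  have hp0 : p ≠ 0 := hu.ne_zero
  have hd := hp.totalDegree hp0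
  obtain ⟨q, hq⟩ := isUnit_iff_exists_inv.mp hu
  have hq0 : q ≠ 0 := by
    rintro rfl
    rw [mul_zero] at hq
    exact zero_ne_one hq
  have := totalDegree_mul_of_isDomain hp0 hq0
  rw [hq, totalDegree_one] at this
  omega

theorem bezout (n m : ℕ) (f g : MvPolynomial (Fin 3) k) (hf : f.IsHomogeneous n)
    (hg : g.IsHomogeneous m) (hn : 0 < n) (hm : 0 < m)
    (hT : IsRelPrime (aeval (sub3 (0 : MvPolynomial (Fin 2) k)) f)
      (aeval (sub3 (0 : MvPolynomial (Fin 2) k)) g)) :
    Module.finrank k (MvPolynomial (Fin 2) k ⧸ Ideal.span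
      {aeval (sub3 (1 : MvPolynomial (Fin 2) k)) f,
        aeval (sub3 (1 : MvPolynomial (Fin 2) k)) g}) = n * m := by
  have S : Setup k n m (aeval (sub3 (1 : MvPolynomial (Fin 2) k)) f)
      (aeval (sub3 (1 : MvPolynomial (Fin 2) k)) g)
      (aeval (sub3 (0 : MvPolynomial (Fin 2) k)) f)
      (aeval (sub3 (0 : MvPolynomial (Fin 2) k)) g) := by
    have hf0 := dehom_hom hf
    have hg0 := dehom_hom hg
    have hfs := dehom_sub hf
    have hgs := dehom_sub hg
    refine ⟨?_, ?_, ?_, ?_, ?_, ?_, hT⟩
    · have := Submodule.add_mem _ (isHomogeneous_mem_D hf0) (D_mono (Nat.le_succ n) hfs)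
      rwa [add_sub_cancel] at this
    · have := Submodule.add_mem _ (isHomogeneous_mem_D hg0) (D_mono (Nat.le_succ m) hgs)
      rwa [add_sub_cancel] at this
    · have := hc_eq_zero_of_mem_D hfs le_rfl
      rw [map_sub, homogeneousComponent_eq_self hf0, sub_eq_zero] at this
      exact this
    · have := hc_eq_zero_of_mem_D hgs le_rfl
      rw [map_sub, homogeneousComponent_eq_self hg0, sub_eq_zero] at this
      exact this
    · intro h0
      rw [h0, isRelPrime_zero_left] at hT
      exact not_isUnit_of_homog hg0 hm hT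
    · intro h0
      rw [h0, isRelPrime_zero_right] at hT
      exact not_isUnit_of_homog hf0 hn hT
  exact S.core

end Groth.Agent.Lib.Helper6.Bezout
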