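import Mathlib

set_option linter.unusedSectionVars false
set_option linter.unusedVariables false
set_option autoImplicit false
set_option maxHeartbeats 400000

noncomputable section

namespace Groth.Agent.Lib.Helper6.Birkhoff

open Polynomial LaurentPolynomial Matrix

variable {k : Type*} [Field k]

theorem coeff_toLaurent_nat (p : k[X]) (m : ℕ) : (toLaurent p).coeff (m : ℤ) = p.coeff m := by
  rw [coeff_toLaurent]
  exact Finsupp.mapDomain_apply Nat.cast_injective _ _

theorem coeff_toLaurent_neg (p : k[X]) (n : ℤ) (h : n < 0) : (toLaurent p).coeff n = 0 := by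
  rw [coeff_toLaurent]
  apply Finsupp.mapDomain_of_notMem_range
  rintro ⟨m, hm⟩
  have : (0:ℤ) ≤ n := by rw [← hm]; exact Int.natCast_nonneg m
  omega

theorem coeff_mul_T (f : k[T;T⁻¹]) (n m : ℤ) : (f * T n).coeff m = f.coeff (m - n) := by
  unfold T
  rw [AddMonoidAlgebra.coeff_mul_single_eq_coeff_mul (m₂ := m - n)]
  · simp
  · intro m' _
    constructor <;> intro h <;> omega

/-- the embedding `k[X] → k[T,T⁻¹]`, `X ↦ T⁻¹`. -/
def im : k[X] →+* k[T;T⁻¹] :=
  ((invert (R := k)) : k[T;T⁻¹] →+* k[T;T⁻¹]).comp toLaurent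

theorem im_apply (p : k[X]) : im p = invert (toLaurent p) := rfl

theorem im_X : im (X : k[X]) = T (-1) := by
  rw [im_apply, toLaurent_X, invert_T]

theorem im_C (a : k) : im (Polynomial.C a) = LaurentPolynomial.C a := by
  rw [im_apply, toLaurent_C, invert_C]

theorem invert_im (p : k[X]) : invert (im p) = toLaurent p := by
  rw [im_apply]; exact involutive_invert _

/-- `ι₊(p)·T = ι₋(q)` forces `p = 0`. -/
theorem eq_zero_of_mul_T_eq_im (p q : k[X]) (h : toLaurent p * T 1 = im q) : p = 0 := by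
  ext m
  have h1 : (toLaurent p * T 1).coeff ((m : ℤ) + 1) = (im q).coeff ((m : ℤ) + 1) := by rw [h]
  rw [coeff_mul_T, im_apply, invert_apply, add_sub_cancel_right, coeff_toLaurent_nat,
    coeff_toLaurent_neg _ _ (by omega)] at h1
  simpa using h1

/-- a polynomial with nonzero constant term which becomes a unit in `k[T,T⁻¹]` is a unit. -/
theorem isUnit_of_isUnit_toLaurent (q : k[X]) (hu : IsUnit (toLaurent q)) (h0 : q.coeff 0 ≠ 0) :
    IsUnit q := by
  obtain ⟨r, hr⟩ := hu.exists_right_inv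
  obtain ⟨N, s, hs⟩ := exists_T_pow r
  have hqs : q * s = X ^ N := by
    apply toLaurent_injective
    rw [map_mul, hs, ← mul_assoc, hr, one_mul, toLaurent_X_pow]
  have hcop : IsCoprime q X := by
    refine ⟨Polynomial.C (q.coeff 0)⁻¹, - Polynomial.C (q.coeff 0)⁻¹ * divX q, ?_⟩
    have hq : divX q * X + Polynomial.C (q.coeff 0) = q := divX_mul_X_add q
    have hC : Polynomial.C (q.coeff 0)⁻¹ * Polynomial.C (q.coeff 0) = (1 : k[X]) := by
      rw [← Polynomial.C_mul, inv_mul_cancel₀ h0, Polynomial.C_1]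
    calc Polynomial.C (q.coeff 0)⁻¹ * q + - Polynomial.C (q.coeff 0)⁻¹ * divX q * X
        = Polynomial.C (q.coeff 0)⁻¹ * (q - divX q * X) := by ring
      _ = Polynomial.C (q.coeff 0)⁻¹ * Polynomial.C (q.coeff 0) := by
          congr 1
          exact sub_eq_of_eq_add (by rw [add_comm]; exact hq.symm)
      _ = 1 := hC
  have hcop' : IsCoprime q (X ^ N) := hcop.pow_right
  exact hcop'.isUnit_of_dvd' (dvd_refl q) (Dvd.intro s hqs)

/-- common denominators. -/
theorem exists_common_T_pow {α : Type*} [Fintype α] (f : α → k[T;T⁻¹]) :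
    ∃ N : ℕ, ∀ x, ∃ p : k[X], toLaurent p = f x * T N := by
  classical
  choose n p hp using fun x => exists_T_pow (f x)
  refine ⟨∑ x, n x, fun x => ⟨p x * X ^ ((∑ y, n y) - n x), ?_⟩⟩
  have hle : n x ≤ ∑ y, n y := Finset.single_le_sum (fun _ _ => Nat.zero_le _) (Finset.mem_univ x)
  rw [map_mul, hp, toLaurent_X_pow, mul_T_assoc]
  congr 2
  push_cast [hle]
  ring


theorem isUnit_map_of_isUnit {ι : Type*} [Fintype ι] [DecidableEq ι] {R S : Type*} [CommRing R]
    [CommRing S] (f : R →+* S) {M : Matrix ι ι R} (h : IsUnit M) : IsUnit (M.map f) :=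
  h.map (RingHom.mapMatrix f)

theorem det_updateRow_one {ι : Type*} [Fintype ι] [DecidableEq ι] {R : Type*} [CommRing R]
    (i : ι) (r : ι → R) : ((1 : Matrix ι ι R).updateRow i r).det = r i := by
  rw [← cramer_transpose_apply, transpose_one, cramer_one]
  rfl

/-- the base case: `Q(0)` invertible. -/
theorem isUnit_of_const {ι : Type*} [Fintype ι] [DecidableEq ι] (d : ι → ℕ)
    (Q M : Matrix ι ι k[X])
    (hM : ∀ i j, toLaurent (M i j) = T (d i) * im (Q i j))
    (hU : IsUnit (M.map toLaurent))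
    (hdet : (Q.map (constantCoeff : k[X] →+* k)).det ≠ 0) : IsUnit Q := by
  rw [Matrix.isUnit_iff_isUnit_det]
  apply isUnit_of_isUnit_toLaurent
  · have hfac : M.map toLaurent = diagonal (fun i => (T (d i) : k[T;T⁻¹])) * Q.map im := by
      ext i j
      rw [diagonal_mul, map_apply, map_apply, hM]
    have h1 : IsUnit ((M.map toLaurent).det) := (Matrix.isUnit_iff_isUnit_det _).1 hU
    rw [hfac, det_mul] at h1
    have h2 : IsUnit ((Q.map im).det) := isUnit_of_mul_isUnit_right h1
    have h3 : (Q.map im).det = im Q.det := by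
      rw [RingHom.map_det]; rfl
    rw [h3] at h2
    have h4 : IsUnit (invert (im Q.det)) := h2.map invert
    rwa [invert_im] at h4
  · have : (constantCoeff : k[X] →+* k) Q.det = (Q.map (constantCoeff : k[X] →+* k)).det := by
      rw [RingHom.map_det]; rfl
    rw [← constantCoeff_apply, this]
    exact hdet


/-- the reduction step: `Q(0)` singular. -/
theorem step {ι : Type*} [Fintype ι] [DecidableEq ι] (d : ι → ℕ)
    (Q M : Matrix ι ι k[X])
    (hM : ∀ i j, toLaurent (M i j) = T (d i) * im (Q i j))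
    (hU : IsUnit (M.map toLaurent))
    (hdet : (Q.map (constantCoeff : k[X] →+* k)).det = 0) :
    ∃ (E : Matrix ι ι k[X]) (d' : ι → ℕ) (Q' : Matrix ι ι k[X]), IsUnit E ∧
      (∑ i, d' i < ∑ i, d i) ∧
      ∀ i j, toLaurent ((E * M) i j) = T (d' i) * im (Q' i j) := by
  classical
  obtain ⟨c, hc0, hc⟩ := exists_vecMul_eq_zero_iff.2 hdet
  have hS : (Finset.univ.filter (fun i => c i ≠ 0)).Nonempty := by
    by_contra h
    rw [Finset.not_nonempty_iff_eq_empty] at h
    apply hc0
    funext i
    by_contra hi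
    have : i ∈ Finset.univ.filter (fun i => c i ≠ 0) := by
      rw [Finset.mem_filter]
      exact ⟨Finset.mem_univ _, hi⟩
    rw [h] at this
    simp at this
  obtain ⟨i₀, hi₀, hmax⟩ := Finset.exists_max_image _ d hS
  have hci₀ : c i₀ ≠ 0 := (Finset.mem_filter.1 hi₀).2
  have hmax' : ∀ i, c i ≠ 0 → d i ≤ d i₀ := fun i hi => hmax i (by simp [hi])
  let r : ι → k[X] := fun i => Polynomial.C (c i) * X ^ (d i₀ - d i)
  let E : Matrix ι ι k[X] := (1 : Matrix ι ι k[X]).updateRow i₀ r
  have hEu : IsUnit E := by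
    rw [Matrix.isUnit_iff_isUnit_det]
    show IsUnit (((1 : Matrix ι ι k[X]).updateRow i₀ r).det)
    rw [det_updateRow_one]
    show IsUnit (Polynomial.C (c i₀) * X ^ (d i₀ - d i₀))
    rw [Nat.sub_self, pow_zero, mul_one]
    exact Polynomial.isUnit_C.2 (isUnit_iff_ne_zero.2 hci₀)
  have hEM : E * M = M.updateRow i₀ (r ᵥ* M) := by
    show (1 : Matrix ι ι k[X]).updateRow i₀ r * M = _
    rw [updateRow_mul, one_mul]
  let g : ι → k[X] := fun j => ∑ i, Polynomial.C (c i) * Q i j
  have hg0 : ∀ j, (g j).coeff 0 = 0 := by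
    intro j
    have h1 := congrFun hc j
    simp only [vecMul, dotProduct, map_apply, Pi.zero_apply, constantCoeff_apply] at h1
    show (∑ i, Polynomial.C (c i) * Q i j).coeff 0 = 0
    rw [Polynomial.finsetSum_coeff]
    simpa using h1
  let q' : ι → k[X] := fun j => divX (g j)
  have hgq : ∀ j, g j = q' j * X := by
    intro j
    have h1 := divX_mul_X_add (g j)
    rw [hg0 j, Polynomial.C_0, add_zero] at h1
    exact h1.symm
  have hrow : ∀ j, toLaurent ((r ᵥ* M) j) = T (d i₀) * im (g j) := by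
    intro j
    show toLaurent (∑ i, r i * M i j) = T (d i₀) * im (∑ i, Polynomial.C (c i) * Q i j)
    rw [map_sum, map_sum, Finset.mul_sum]
    apply Finset.sum_congr rfl
    intro i _
    show toLaurent (Polynomial.C (c i) * X ^ (d i₀ - d i) * M i j) = _
    rw [map_mul, hM, map_mul, map_mul (im : k[X] →+* k[T;T⁻¹]), im_C, toLaurent_C,
      toLaurent_X_pow]
    by_cases hci : c i = 0
    · simp [hci]
    · have hle := hmax' i hci
      have hT : (T ((d i₀ - d i : ℕ) : ℤ) : k[T;T⁻¹]) * T (d i) = T (d i₀) := by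
        rw [← T_add]
        congr 1
        push_cast [hle]
        ring
      calc LaurentPolynomial.C (c i) * T ((d i₀ - d i : ℕ) : ℤ) * (T (d i) * im (Q i j))
          = LaurentPolynomial.C (c i) * (T ((d i₀ - d i : ℕ) : ℤ) * T (d i)) * im (Q i j) := by
            ring
        _ = T (d i₀) * (LaurentPolynomial.C (c i) * im (Q i j)) := by rw [hT]; ring
  have hrow' : ∀ j, toLaurent ((r ᵥ* M) j) * T 1 = T (d i₀) * im (q' j) := by
    intro j
    rw [hrow, hgq, map_mul, im_X]
    have : (T (-1) : k[T;T⁻¹]) * T 1 = 1 := by rw [← T_add]; exact T_zero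
    calc T (d i₀) * (im (q' j) * T (-1)) * T 1 = T (d i₀) * im (q' j) * (T (-1) * T 1) := by ring
      _ = _ := by rw [this, mul_one]
  have hEMu : IsUnit ((E * M).map toLaurent) := by
    have : (E * M).map toLaurent = E.map toLaurent * M.map toLaurent := Matrix.map_mul
    rw [this]
    exact (isUnit_map_of_isUnit _ hEu).mul hU
  by_cases hd0 : d i₀ = 0
  · exfalso
    have hz : ∀ j, (r ᵥ* M) j = 0 := by
      intro j
      apply eq_zero_of_mul_T_eq_im _ (q' j)
      rw [hrow', hd0]
      simp [T_zero]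
    have hdet0 : (E * M).det = 0 := by
      apply det_eq_zero_of_row_eq_zero i₀
      intro j
      rw [hEM, updateRow_self]
      exact hz j
    have h1 : IsUnit (((E * M).map toLaurent).det) := (Matrix.isUnit_iff_isUnit_det _).1 hEMu
    have h2 : ((E * M).map toLaurent).det = toLaurent ((E * M).det) := by
      rw [RingHom.map_det]; rfl
    rw [h2, hdet0, map_zero] at h1
    exact not_isUnit_zero h1
  · refine ⟨E, Function.update d i₀ (d i₀ - 1), Q.updateRow i₀ q', hEu, ?_, ?_⟩
    · rw [← Finset.add_sum_erase Finset.univ d (Finset.mem_univ i₀),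
        ← Finset.add_sum_erase Finset.univ (Function.update d i₀ (d i₀ - 1)) (Finset.mem_univ i₀)]
      have h1 : Function.update d i₀ (d i₀ - 1) i₀ = d i₀ - 1 := Function.update_self ..
      have h2 : ∑ i ∈ Finset.univ.erase i₀, Function.update d i₀ (d i₀ - 1) i
          = ∑ i ∈ Finset.univ.erase i₀, d i := by
        apply Finset.sum_congr rfl
        intro i hi
        exact Function.update_of_ne (Finset.ne_of_mem_erase hi) _ _
      rw [h1, h2]
      omega
    · intro i j
      by_cases hi : i = i₀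
      · subst hi
        rw [hEM, updateRow_self, updateRow_self, Function.update_self]
        have h1 := hrow' j
        have hT : (T (d i : ℤ) : k[T;T⁻¹]) = T ((d i - 1 : ℕ) : ℤ) * T 1 := by
          rw [← T_add]
          congr 1
          have : 1 ≤ d i := Nat.one_le_iff_ne_zero.2 hd0
          push_cast [this]
          ring
        have hT1 : IsUnit (T 1 : k[T;T⁻¹]) := isUnit_T 1
        apply hT1.mul_left_injective
        show toLaurent ((r ᵥ* M) j) * T 1 = T ((d i - 1 : ℕ) : ℤ) * im (q' j) * T 1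
        rw [h1, hT]
        ring
      · rw [hEM, updateRow_ne hi, updateRow_ne hi, Function.update_of_ne hi]
        exact hM i j


/-- row reduction. -/
theorem rr {ι : Type*} [Fintype ι] [DecidableEq ι] : ∀ (s : ℕ) (d : ι → ℕ)
    (Q M : Matrix ι ι k[X]), ∑ i, d i = s →
    (∀ i j, toLaurent (M i j) = T (d i) * im (Q i j)) →
    IsUnit (M.map toLaurent) →
    ∃ (P Q' : Matrix ι ι k[X]) (d' : ι → ℤ), IsUnit P ∧ IsUnit Q' ∧
      M.map toLaurent = P.map toLaurent * diagonal (fun i => (T (d' i) : k[T;T⁻¹])) *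
        Q'.map im := by
  intro s
  induction s using Nat.strong_induction_on with
  | _ s ih =>
    intro d Q M hs hM hU
    by_cases hdet : (Q.map (constantCoeff : k[X] →+* k)).det = 0
    · obtain ⟨E, d', Q', hEu, hlt, hEM⟩ := step d Q M hM hU hdet
      have hEMu : IsUnit ((E * M).map toLaurent) := by
        have : (E * M).map toLaurent = E.map toLaurent * M.map toLaurent := Matrix.map_mul
        rw [this]
        exact (isUnit_map_of_isUnit _ hEu).mul hU
      obtain ⟨P, Q'', d'', hP, hQ'', hfac⟩ := ih (∑ i, d' i) (hs ▸ hlt) d' Q' (E * M) rfl hEM hEMu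
      refine ⟨E⁻¹ * P, Q'', d'', ?_, hQ'', ?_⟩
      · have hEi : IsUnit E⁻¹ := by
          rw [Matrix.isUnit_iff_isUnit_det] at hEu ⊢
          rw [Matrix.det_nonsing_inv]
          exact hEu.ringInverse
        exact hEi.mul hP
      · have hEdet : IsUnit E.det := (Matrix.isUnit_iff_isUnit_det _).1 hEu
        have h1 : M = E⁻¹ * (E * M) := by
          rw [← Matrix.mul_assoc, Matrix.nonsing_inv_mul _ hEdet, Matrix.one_mul]
        have h2 : M.map toLaurent = E⁻¹.map toLaurent * (E * M).map toLaurent := by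
          conv_lhs => rw [h1]
          exact Matrix.map_mul
        rw [h2, hfac]
        have h3 : (E⁻¹ * P).map toLaurent = E⁻¹.map toLaurent * P.map toLaurent := Matrix.map_mul
        rw [h3]
        simp only [Matrix.mul_assoc]
    · refine ⟨1, Q, fun i => (d i : ℤ), isUnit_one, isUnit_of_const d Q M hM hU hdet, ?_⟩
      ext i j
      have h1 : ((1 : Matrix ι ι k[X]).map toLaurent) = 1 := by
        rw [Matrix.map_one] <;> simp
      rw [h1, Matrix.one_mul, diagonal_mul, map_apply, map_apply, hM]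


theorem birkhoff_unsorted {ι : Type*} [Fintype ι] [DecidableEq ι] (A : Matrix ι ι k[T;T⁻¹])
    (hA : IsUnit A) :
    ∃ (P Q : Matrix ι ι k[X]) (d : ι → ℤ), IsUnit P ∧ IsUnit Q ∧
      A = P.map toLaurent * diagonal (fun i => (T (d i) : k[T;T⁻¹])) * Q.map im := by
  obtain ⟨N, hN⟩ := exists_common_T_pow (fun x : ι × ι => A x.1 x.2)
  choose Mf hMf using hN
  let M : Matrix ι ι k[X] := Matrix.of fun i j => Mf (i, j)
  have hM : ∀ i j, toLaurent (M i j) = A i j * T N := fun i j => hMf (i, j)
  obtain ⟨D₀, hD⟩ := exists_common_T_pow (fun x : ι × ι => invert (toLaurent (M x.1 x.2)))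
  choose Qf hQf using hD
  let Q : Matrix ι ι k[X] := Matrix.of fun i j => Qf (i, j)
  have hQ : ∀ i j, toLaurent (M i j) = T ((fun _ => D₀) i : ℕ) * im (Q i j) := by
    intro i j
    have h1 : toLaurent (Q i j) = invert (toLaurent (M i j)) * T D₀ := hQf (i, j)
    have h2 : im (Q i j) = toLaurent (M i j) * T (-(D₀ : ℤ)) := by
      rw [im_apply, h1, map_mul, invert_T]
      congr 1
      exact involutive_invert _
    rw [h2]
    have : (T (D₀ : ℤ) : k[T;T⁻¹]) * T (-(D₀ : ℤ)) = 1 := by
      rw [← T_add, add_neg_cancel, T_zero]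
    calc toLaurent (M i j) = toLaurent (M i j) * (T (D₀ : ℤ) * T (-(D₀ : ℤ))) := by
          rw [this, mul_one]
      _ = _ := by ring
  have hMA : M.map toLaurent = (T (N : ℤ) : k[T;T⁻¹]) • A := by
    ext i j
    rw [map_apply, hM, Matrix.smul_apply, smul_eq_mul, mul_comm]
  have hTN : IsUnit (T (N : ℤ) : k[T;T⁻¹]) := isUnit_T _
  have hU : IsUnit (M.map toLaurent) := by
    rw [hMA, Matrix.isUnit_iff_isUnit_det, det_smul]
    exact (hTN.pow _).mul ((Matrix.isUnit_iff_isUnit_det _).1 hA)
  obtain ⟨P, Q', d', hP, hQ', hfac⟩ := rr (∑ i : ι, D₀) (fun _ => D₀) Q M rfl hQ hU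
  refine ⟨P, Q', fun i => d' i - N, hP, hQ', ?_⟩
  have hA' : A = (T (-(N : ℤ)) : k[T;T⁻¹]) • M.map toLaurent := by
    rw [hMA, smul_smul, ← T_add, neg_add_cancel, T_zero, one_smul]
  rw [hA', hfac, ← Matrix.smul_mul, ← Matrix.mul_smul]
  congr 2
  apply Matrix.ext
  intro i j
  rw [Matrix.smul_apply, smul_eq_mul]
  by_cases hij : i = j
  · subst hij
    rw [diagonal_apply_eq, diagonal_apply_eq, ← T_add]
    congr 1
    ring
  · rw [diagonal_apply_ne _ hij, diagonal_apply_ne _ hij, mul_zero]

theorem birkhoff {k : Type*} [Field k] (n : ℕ) (A : Matrix (Fin n) (Fin n) k[T;T⁻¹])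
    (hA : IsUnit A) :
    ∃ (P Q : Matrix (Fin n) (Fin n) k[X]) (d : Fin n → ℤ), IsUnit P ∧ IsUnit Q ∧ Antitone d ∧
      A = P.map toLaurent * diagonal (fun i => (T (d i) : k[T;T⁻¹])) *
        (Q.map toLaurent).map invert := by
  obtain ⟨P, Q, d, hP, hQ, hfac⟩ := birkhoff_unsorted A hA
  let σ : Equiv.Perm (Fin n) := Tuple.sort (fun i => - d i)
  have hmono : Monotone ((fun i => - d i) ∘ σ) := Tuple.monotone_sort _
  refine ⟨P.submatrix id σ, Q.submatrix σ id, d ∘ σ, ?_, ?_, ?_, ?_⟩
  · exact (Matrix.isUnit_submatrix_equiv (Equiv.refl _) σ).2 hP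
  · exact (Matrix.isUnit_submatrix_equiv σ (Equiv.refl _)).2 hQ
  · intro i j hij
    have := hmono hij
    simp only [Function.comp_apply] at this ⊢
    linarith
  · have h1 : (P.submatrix id σ).map toLaurent = (P.map toLaurent).submatrix id σ := by
      rw [Matrix.submatrix_map]
    have h2 : ((Q.submatrix σ id).map toLaurent).map invert = (Q.map im).submatrix σ id := by
      ext i j
      rfl
    have h3 : diagonal (fun i => (T ((d ∘ σ) i) : k[T;T⁻¹]))
        = (diagonal (fun i => (T (d i) : k[T;T⁻¹]))).submatrix σ σ := by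
      rw [Matrix.submatrix_diagonal_equiv]
      rfl
    rw [h1, h2, h3, Matrix.submatrix_mul_equiv, Matrix.submatrix_mul_equiv, ← hfac]
    rfl

end Groth.Agent.Lib.Helper6.Birkhoff
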