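import Mathlib.Tactic
import Mathlib.LinearAlgebra.Matrix.DotProduct
import Mathlib.LinearAlgebra.Matrix.NonsingularInverse
import Mathlib.LinearAlgebra.Matrix.ToLin
import Groth.Prelude.Def_W4c2arithlefschetzGraph

/-! Linear algebra of blow-up graphs: `mat = -(Uᵀ U)`, `tt = U⁻ᵀ`, `mult = -mat⁻¹`. -/

set_option autoImplicit false

namespace Groth.Agent.Helper6.Blowup

open ArLef ArLef.BlowupGraph Matrix

variable {n : ℕ} (G : BlowupGraph n)

/-- the recursion for `ttN` -/
theorem ttN_eq (k m : ℕ) : G.ttN k m = if m < k then 0 else if m = k then 1 else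
      ∑ p ∈ (G.parN m).attach, G.ttN k p.1 := by
  rw [ttN]

theorem ttN_of_lt {k m : ℕ} (h : m < k) : G.ttN k m = 0 := by
  rw [ttN_eq, if_pos h]

theorem ttN_self (k : ℕ) : G.ttN k k = 1 := by
  rw [ttN_eq, if_neg (lt_irrefl k), if_pos rfl]

theorem ttN_of_gt {k m : ℕ} (h : k < m) : G.ttN k m = ∑ p ∈ G.parN m, G.ttN k p := by
  rw [ttN_eq, if_neg (by omega), if_neg (by omega)]
  exact Finset.sum_attach (G.parN m) (fun p => G.ttN k p)

theorem parN_val (m : Fin n) : G.parN m.1 = (G.par m).map Fin.valEmbedding := by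
  unfold parN
  rw [dif_pos m.2]

theorem sum_parN (k : ℕ) (m : Fin n) :
    ∑ p ∈ G.parN m.1, G.ttN k p = ∑ q ∈ G.par m, G.ttN k q.1 := by
  rw [parN_val, Finset.sum_map]
  rfl

/-- `T_{kl} = δ_{kl} + Σ_{m ∈ par l} T_{km}` -/
theorem tt_rec (k l : Fin n) :
    G.tt k l = (if k = l then 1 else 0) + ∑ m ∈ G.par l, G.tt k m := by
  unfold tt
  rcases lt_trichotomy l.1 k.1 with h | h | h
  · rw [ttN_of_lt G h, if_neg (by intro e; rw [e] at h; exact lt_irrefl _ h)]
    rw [Finset.sum_eq_zero]; · simp
    intro m hm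
    have := G.par_lt l m hm
    exact ttN_of_lt G (lt_trans this h)
  · have e : k = l := Fin.ext h.symm
    rw [e, ttN_self, if_pos rfl, Finset.sum_eq_zero]; · simp
    intro m hm
    exact ttN_of_lt G (G.par_lt l m hm)
  · rw [ttN_of_gt G h, sum_parN, if_neg (by intro e; rw [e] at h; exact lt_irrefl _ h), zero_add]

/-- the matrix `U = 1 - Par` -/
def U : Matrix (Fin n) (Fin n) ℚ :=
  fun k m => (if k = m then 1 else 0) - (if m ∈ G.par k then 1 else 0)

/-- the matrix `T` of total transforms -/
def T : Matrix (Fin n) (Fin n) ℚ := fun k m => (G.tt k m : ℚ)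

theorem T_mul_Ut : T G * (U G)ᵀ = 1 := by
  ext k l
  rw [Matrix.mul_apply]
  simp only [Matrix.transpose_apply, U, T]
  have h := tt_rec G k l
  have h2 : ∑ j, (G.tt k j : ℚ) * ((if l = j then 1 else 0) - (if j ∈ G.par l then 1 else 0))
      = (G.tt k l : ℚ) - ∑ m ∈ G.par l, (G.tt k m : ℚ) := by
    simp only [mul_sub, Finset.sum_sub_distrib, mul_ite, mul_one, mul_zero]
    congr 1
    · simp
    · rw [← Finset.sum_filter]; congr 1; ext j; simp
  rw [h2, h]
  push_cast
  rw [Matrix.one_apply]
  ring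

theorem mult_eq (i j : Fin n) : (G.mult i j : ℚ) = ((T G)ᵀ * T G) i j := by
  rw [Matrix.mul_apply]
  unfold mult T
  push_cast
  rfl

/-- number of centres lying on both `E_p` and `E_q` -/
def cnt (p q : Fin n) : ℕ := (Finset.univ.filter fun k => p ∈ G.par k ∧ q ∈ G.par k).card

theorem cnt_comm (p q : Fin n) : cnt G p q = cnt G q p := by
  unfold cnt; congr 1; ext k; simp [and_comm]

theorem par_eq_pair {p q k : Fin n} (hpq : p ≠ q) (hp : p ∈ G.par k) (hq : q ∈ G.par k) :
    G.par k = {p, q} := by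
  symm
  apply Finset.eq_of_subset_of_card_le
  · intro x hx
    rcases Finset.mem_insert.mp hx with rfl | hx
    · exact hp
    · rw [Finset.mem_singleton.mp hx]; exact hq
  · rw [Finset.card_pair hpq]; exact G.card_le_two k

theorem pair_unique {p q k k' : Fin n} (hpq : p < q) (hk : G.par k = {p, q}) (hk' : G.par k' = {p, q}) :
    k = k' := by
  have hpk : p ∈ G.par k := by rw [hk]; simp
  have hqk : q ∈ G.par k := by rw [hk]; simp
  have hpk' : p ∈ G.par k' := by rw [hk']; simp
  have hqk' : q ∈ G.par k' := by rw [hk']; simp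
  rcases lt_trichotomy k k' with h | h | h
  · exact absurd hk ((G.meet_of_two k' p q hpk' hqk' hpq).2 k (G.par_lt k q hqk) h)
  · exact h
  · exact absurd hk' ((G.meet_of_two k p q hpk hqk hpq).2 k' (G.par_lt k' q hqk') h)

theorem cnt_le_one {p q : Fin n} (hpq : p < q) : cnt G p q ≤ 1 := by
  unfold cnt
  rw [Finset.card_le_one]
  intro a ha b hb
  simp only [Finset.mem_filter, Finset.mem_univ, true_and] at ha hb
  exact pair_unique G hpq (par_eq_pair G (ne_of_lt hpq) ha.1 ha.2) (par_eq_pair G (ne_of_lt hpq) hb.1 hb.2)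

theorem adj_comm (p q : Fin n) : G.Adj p q ↔ G.Adj q p := by
  unfold Adj
  rw [or_comm]

theorem adj_key {p q : Fin n} (hpq : p < q) :
    ((if G.Adj p q then 1 else 0 : ℚ)) = (if p ∈ G.par q then 1 else 0) - (cnt G p q : ℚ) := by
  have hne : p ≠ q := ne_of_lt hpq
  have hq : q ∉ G.par p := fun h => absurd (G.par_lt p q h) (not_lt.mpr (le_of_lt hpq))
  by_cases hp : p ∈ G.par q
  · by_cases hA : G.Adj p q
    · have hc : cnt G p q = 0 := by
        unfold cnt
        rw [Finset.card_eq_zero, Finset.filter_eq_empty_iff]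
        intro k _ hk
        rcases hA with hA | hA
        · exact hA.2 k (G.par_lt k q hk.2) (par_eq_pair G hne hk.1 hk.2)
        · exact hq hA.1
      rw [if_pos hA, if_pos hp, hc]; simp
    · have hex : ∃ m, q < m ∧ G.par m = {p, q} := by
        by_contra hcon
        apply hA
        left
        refine ⟨hp, fun m hm hm' => hcon ⟨m, hm, hm'⟩⟩
      obtain ⟨m, hm, hm'⟩ := hex
      have hc : cnt G p q = 1 := by
        apply le_antisymm (cnt_le_one G hpq)
        unfold cnt
        rw [Nat.succ_le_iff, Finset.card_pos]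
        refine ⟨m, ?_⟩
        simp only [Finset.mem_filter, Finset.mem_univ, true_and]
        rw [hm']; simp
      rw [if_neg hA, if_pos hp, hc]; simp
  · have hA : ¬ G.Adj p q := by
      rintro (hA | hA)
      · exact hp hA.1
      · exact hq hA.1
    have hc : cnt G p q = 0 := by
      unfold cnt
      rw [Finset.card_eq_zero, Finset.filter_eq_empty_iff]
      intro k _ hk
      exact hp (G.meet_of_two k p q hk.1 hk.2 hpq).1
    rw [if_neg hA, if_neg hp, hc]; simp

theorem UtU_apply (p q : Fin n) : ((U G)ᵀ * U G) p q =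
    (if p = q then 1 else 0) - (if q ∈ G.par p then 1 else 0) - (if p ∈ G.par q then 1 else 0)
      + (cnt G p q : ℚ) := by
  rw [Matrix.mul_apply]
  simp only [Matrix.transpose_apply, U]
  have e : ∀ k : Fin n, ((if k = p then (1:ℚ) else 0) - (if p ∈ G.par k then 1 else 0)) *
      ((if k = q then 1 else 0) - (if q ∈ G.par k then 1 else 0)) =
      (if k = p then (if k = q then 1 else 0) else 0) - (if k = p then (if q ∈ G.par k then 1 else 0) else 0)
      - (if k = q then (if p ∈ G.par k then 1 else 0) else 0)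
      + (if (p ∈ G.par k ∧ q ∈ G.par k) then 1 else 0) := by
    intro k
    have i1 : ∀ (P Q : Prop) [Decidable P] [Decidable Q],
        (if P then (if Q then (1:ℚ) else 0) else 0) = (if P then 1 else 0) * (if Q then 1 else 0) := by
      intro P Q _ _; by_cases hP : P <;> by_cases hQ : Q <;> simp [hP, hQ]
    have i2 : ∀ (P Q : Prop) [Decidable P] [Decidable Q],
        (if P ∧ Q then (1:ℚ) else 0) = (if P then 1 else 0) * (if Q then 1 else 0) := by
      intro P Q _ _; by_cases hP : P <;> by_cases hQ : Q <;> simp [hP, hQ]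
    rw [i1, i1, i1, i2]; ring
  rw [Finset.sum_congr rfl (fun k _ => e k)]
  rw [Finset.sum_add_distrib, Finset.sum_sub_distrib, Finset.sum_sub_distrib]
  rw [Finset.sum_ite_eq' Finset.univ p, Finset.sum_ite_eq' Finset.univ p, Finset.sum_ite_eq' Finset.univ q]
  simp only [Finset.mem_univ, if_true]
  congr 1
  unfold cnt
  rw [Finset.card_filter]
  push_cast
  rfl

theorem mat_eq : G.mat = -((U G)ᵀ * U G) := by
  ext p q
  rw [Matrix.neg_apply, UtU_apply]
  unfold mat
  rcases lt_trichotomy p q with h | h | h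
  · have hne : p ≠ q := ne_of_lt h
    have hq : q ∉ G.par p := fun h' => absurd (G.par_lt p q h') (not_lt.mpr (le_of_lt h))
    rw [if_neg hne, adj_key G h, if_neg hne, if_neg hq]; ring
  · subst h
    have hp : p ∉ G.par p := fun h' => absurd (G.par_lt p p h') (lt_irrefl _)
    rw [if_pos rfl, if_pos rfl, if_neg hp]
    unfold selfInt cnt
    push_cast
    have : (Finset.univ.filter fun k => p ∈ G.par k ∧ p ∈ G.par k) = Finset.univ.filter fun m => p ∈ G.par m := by
      ext k; simp
    rw [this]; ring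
  · have hne : p ≠ q := ne_of_gt h
    have hp : p ∉ G.par q := fun h' => absurd (G.par_lt q p h') (not_lt.mpr (le_of_lt h))
    have hA : (if G.Adj p q then 1 else 0 : ℚ) = (if G.Adj q p then 1 else 0 : ℚ) := by
      simp only [adj_comm G p q]
    rw [if_neg hne, hA, adj_key G h, if_neg hne, if_neg hp, cnt_comm G p q]; ring

theorem Ut_mul_T : (U G)ᵀ * T G = 1 := mul_eq_one_comm.mp (T_mul_Ut G)

theorem U_mul_Tt : U G * (T G)ᵀ = 1 := by
  have := congrArg Matrix.transpose (T_mul_Ut G)
  rwa [Matrix.transpose_mul, Matrix.transpose_transpose, Matrix.transpose_one] at this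

theorem Tt_mul_U : (T G)ᵀ * U G = 1 := mul_eq_one_comm.mp (U_mul_Tt G)

/-- `N = -(Tᵀ T)`, the inverse of the intersection matrix -/
def N : Matrix (Fin n) (Fin n) ℚ := -((T G)ᵀ * T G)

theorem N_apply (i j : Fin n) : N G i j = -(G.mult i j : ℚ) := by
  rw [mult_eq]; rfl

theorem N_symm (i j : Fin n) : N G i j = N G j i := by
  rw [N_apply, N_apply]
  unfold mult
  congr 2
  apply Finset.sum_congr rfl
  intro k _; ring

theorem mat_mul_N : G.mat * N G = 1 := by
  rw [mat_eq, N, neg_mul_neg]
  calc (U G)ᵀ * U G * ((T G)ᵀ * T G) = (U G)ᵀ * (U G * (T G)ᵀ) * T G := by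
        simp only [Matrix.mul_assoc]
    _ = 1 := by rw [U_mul_Tt, Matrix.mul_one, Ut_mul_T]

/-- principal submatrices of the intersection matrix are invertible -/
theorem det_sub_ne_zero (I : Finset (Fin n)) :
    (G.mat.submatrix (fun x : I => x.1) (fun x : I => x.1)).det ≠ 0 := by
  intro hdet
  obtain ⟨v, hv0, hv⟩ := Matrix.exists_mulVec_eq_zero_iff.mpr hdet
  apply hv0
  set f : I → Fin n := fun x => x.1 with hf
  set W : Matrix (Fin n) I ℚ := (U G).submatrix id f with hW
  set L : Matrix I (Fin n) ℚ := ((T G)ᵀ).submatrix f id with hL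
  have hLW : L * W = 1 := by
    rw [hL, hW, ← Matrix.submatrix_mul _ _ f id f Function.bijective_id, Tt_mul_U]
    exact Matrix.submatrix_one f Subtype.val_injective
  have hA : G.mat.submatrix f f = -(Wᵀ * W) := by
    rw [mat_eq, hW, Matrix.transpose_submatrix,
      ← Matrix.submatrix_mul _ _ f id f Function.bijective_id]
    rfl
  rw [hA, Matrix.neg_mulVec, neg_eq_zero] at hv
  have h1 : (W *ᵥ v) ⬝ᵥ (W *ᵥ v) = 0 := by
    have : v ⬝ᵥ ((Wᵀ * W) *ᵥ v) = 0 := by rw [hv]; simp
    rw [← Matrix.mulVec_mulVec, Matrix.dotProduct_mulVec, Matrix.vecMul_transpose] at this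
    exact this
  have h2 : W *ᵥ v = 0 := _root_.dotProduct_self_eq_zero.mp h1
  calc v = (L * W) *ᵥ v := by rw [hLW, Matrix.one_mulVec]
    _ = L *ᵥ (W *ᵥ v) := by rw [Matrix.mulVec_mulVec]
    _ = 0 := by rw [h2, Matrix.mulVec_zero]

/-- the pairing as a matrix -/
theorem pairing_eq (I : Finset (Fin n)) (x y : Fin n) :
    G.pairing I x y = (G.mat - G.mat.submatrix id (fun a : I => a.1) *
      (G.mat.submatrix (fun a : I => a.1) (fun a : I => a.1))⁻¹ *
      G.mat.submatrix (fun a : I => a.1) id) x y := by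
  unfold pairing
  rw [Matrix.sub_apply, Matrix.mul_apply]
  congr 1
  simp only [Matrix.mul_apply, Matrix.submatrix_apply, id, Finset.sum_mul]
  rw [Finset.sum_comm]

/-- pairing with a contracted curve vanishes -/
theorem pairing_right_mem (I : Finset (Fin n)) (x : Fin n) (a : I) : G.pairing I x a.1 = 0 := by
  set f : I → Fin n := fun a => a.1 with hf
  set A := G.mat.submatrix f f with hA
  have hAinv : A⁻¹ * A = 1 := Matrix.nonsing_inv_mul _ (isUnit_iff_ne_zero.mpr (det_sub_ne_zero G I))
  have e1 : (G.mat.submatrix id f * A⁻¹ * G.mat.submatrix f id).submatrix id f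
      = G.mat.submatrix id f * A⁻¹ * A := by
    ext x b
    simp only [Matrix.submatrix_apply, Matrix.mul_apply, id, hA]
  rw [pairing_eq, Matrix.sub_apply]
  have e2 := congrFun (congrFun e1 x) a
  rw [Matrix.submatrix_apply] at e2
  change G.mat x (f a) - (G.mat.submatrix id f * A⁻¹ * G.mat.submatrix f id) (id x) (f a) = 0
  rw [e2, Matrix.mul_assoc, hAinv, Matrix.mul_one, Matrix.submatrix_apply, id, sub_self]

theorem pairing_mul_N (I : Finset (Fin n)) (x i : Fin n) (hi : i ∉ I) :
    ∑ j, G.pairing I x j * N G j i = if x = i then 1 else 0 := by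
  set f : I → Fin n := fun a => a.1 with hf
  set A := G.mat.submatrix f f with hA
  have e : ∑ j, G.pairing I x j * N G j i =
      ((G.mat - G.mat.submatrix id f * A⁻¹ * G.mat.submatrix f id) * N G) x i := by
    rw [Matrix.mul_apply]
    apply Finset.sum_congr rfl
    intro j _
    rw [pairing_eq]
  rw [e, Matrix.sub_mul, mat_mul_N, Matrix.mul_assoc _ _ (N G)]
  have e2 : G.mat.submatrix f id * N G = (1 : Matrix (Fin n) (Fin n) ℚ).submatrix f id := by
    rw [← mat_mul_N G]
    ext b y
    simp only [Matrix.submatrix_apply, Matrix.mul_apply, id]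
  rw [e2, Matrix.sub_apply, Matrix.mul_apply]
  have : ∑ b : I, (G.mat.submatrix id f * A⁻¹) x b * ((1 : Matrix (Fin n) (Fin n) ℚ).submatrix f id) b i = 0 := by
    apply Finset.sum_eq_zero
    intro b _
    have hb : f b ≠ i := by
      intro h; apply hi; rw [← h]; exact b.2
    simp [Matrix.one_apply, hb]
  rw [this, sub_zero, Matrix.one_apply]

theorem lNum_eq_rNum (I : Finset (Fin n)) (σ : Equiv.Perm (Fin n)) :
    G.lNum I σ = BlowupGraph.rNum I σ := by
  unfold lNum rNum
  have h1 : ∀ i ∈ Finset.univ.filter (fun i => i ∉ I),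
      ∑ j ∈ Finset.univ.filter (fun j => j ∉ I), (G.mult i j : ℚ) * G.pairing I (σ i) j
        = -(if σ i = i then (1:ℚ) else 0) := by
    intro i hi
    have hi' : i ∉ I := (Finset.mem_filter.mp hi).2
    rw [← pairing_mul_N G I (σ i) i hi', ← Finset.sum_neg_distrib]
    rw [Finset.sum_filter]
    apply Finset.sum_congr rfl
    intro j _
    by_cases hj : j ∈ I
    · have := pairing_right_mem G I (σ i) ⟨j, hj⟩
      simp only at this
      rw [if_neg (not_not.mpr hj), this]; ring
    · rw [if_pos hj, N_symm, N_apply]; ring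
  rw [Finset.sum_congr rfl h1, Finset.sum_neg_distrib]
  congr 1
  rw [Finset.sum_filter, Finset.card_filter]
  push_cast
  apply Finset.sum_congr rfl
  intro i _
  by_cases h : i ∈ I <;> by_cases h' : σ i = i <;> simp [h, h']

end Groth.Agent.Helper6.Blowup
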