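import Groth.Agent.Lib.Helper6.PolyFrobLift
import Mathlib.RingTheory.Regular.RegularSequence

/-!
# Frobenius liftability of complete intersections `k[x]/(f_1,…,f_m)` (helper for S13139)
-/

set_option autoImplicit false
set_option linter.unusedSectionVars false
set_option linter.style.haveILetI false
universe u
open FrobAlg MvPolynomial

namespace Groth.Agent.Lib.Helper6.W2Arith

section Reg

variable {R : Type*} [CommRing R] {m : ℕ}

/-- usable form of weak regularity of `List.ofFn f`. -/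
theorem regular_conv (f : Fin m → R) (hreg : RingTheory.Sequence.IsWeaklyRegular R (List.ofFn f))
    (i : ℕ) (hi : i < m) (a : R)
    (h : f ⟨i, hi⟩ * a ∈ Ideal.span (f '' {j : Fin m | (j : ℕ) < i})) :
    a ∈ Ideal.span (f '' {j : Fin m | (j : ℕ) < i}) := by
  have hlen : i < (List.ofFn f).length := by simpa using hi
  have h1 := hreg.regular_mod_prev i hlen
  have hget : (List.ofFn f)[i]'hlen = f ⟨i, hi⟩ := by simp
  have hset : {r | r ∈ (List.ofFn f).take i} = f '' {j : Fin m | (j : ℕ) < i} := by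
    ext r
    simp only [Set.mem_setOf_eq, Set.mem_image]
    rw [List.mem_take_iff_getElem]
    constructor
    · rintro ⟨j, hj, rfl⟩
      have hj' : j < i ∧ j < m := by simpa using hj
      exact ⟨⟨j, hj'.2⟩, hj'.1, by simp⟩
    · rintro ⟨j, hj, rfl⟩
      refine ⟨j, ?_, by simp⟩
      simp only [List.length_ofFn, lt_inf_iff]
      exact ⟨hj, j.2⟩
  rw [hget] at h1
  have hN : (Ideal.ofList ((List.ofFn f).take i) • (⊤ : Submodule R R)) =
      Ideal.span (f '' {j : Fin m | (j : ℕ) < i}) := by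
    rw [smul_eq_mul, Ideal.mul_top, Ideal.ofList, hset]
  have h2 : (f ⟨i, hi⟩) • (Submodule.Quotient.mk a :
      R ⧸ (Ideal.ofList ((List.ofFn f).take i) • (⊤ : Submodule R R))) =
      (f ⟨i, hi⟩) • (0 : R ⧸ (Ideal.ofList ((List.ofFn f).take i) • (⊤ : Submodule R R))) := by
    rw [smul_zero, ← Submodule.Quotient.mk_smul, Submodule.Quotient.mk_eq_zero, hN, smul_eq_mul]
    exact h
  have h3 := h1 h2
  rw [Submodule.Quotient.mk_eq_zero, hN] at h3
  exact h3

end Reg

section CI

variable (p : ℕ) [hp : Fact p.Prime] (k : Type u) [Field k] [CharP k p] [PerfectRing k p] {n m : ℕ}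

local notation "W" => W2 p k
local notation "R'" => MvPolynomial (Fin n) (W2 p k)
local notation "R" => MvPolynomial (Fin n) k

/-- Elements reducing into `I.map` lie in `I + p R'` (general ideal version). -/
theorem exists_decomp_of_map_mem' (I : Ideal R') (g : R')
    (hg : MvPolynomial.map (res p k) g ∈ I.map (MvPolynomial.map (res p k))) :
    ∃ g' ∈ I, ∃ u : R', g = g' + (p : R') * u := by
  have hsurj : Function.Surjective (MvPolynomial.map (σ := Fin n) (res p k)) :=
    MvPolynomial.map_surjective _ (res_surjective p k)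
  obtain ⟨g', hg', hgg'⟩ := (Ideal.mem_map_iff_of_surjective _ hsurj).mp hg
  have hker : g - g' ∈ RingHom.ker (MvPolynomial.map (σ := Fin n) (res p k)) := by
    rw [RingHom.mem_ker, map_sub, hgg', sub_self]
  rw [MvPolynomial.ker_map, ker_res_eq, Ideal.map_span, Set.image_singleton, map_natCast,
    Ideal.mem_span_singleton'] at hker
  obtain ⟨u, hu⟩ := hker
  exact ⟨g', hg', u, by rw [mul_comm, hu]; ring⟩

/-- partial ideals -/
noncomputable def Jp (f' : Fin m → R') (i : ℕ) : Ideal R' :=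
  Ideal.span (f' '' {j : Fin m | (j : ℕ) < i})

theorem Jp_top (f' : Fin m → R') : Jp p k f' m = Ideal.span (Set.range f') := by
  unfold Jp
  congr 1
  ext r
  simp

theorem Jp_succ (f' : Fin m → R') (i : ℕ) (hi : i < m) :
    Jp p k f' (i + 1) = Jp p k f' i ⊔ Ideal.span {f' ⟨i, hi⟩} := by
  unfold Jp
  rw [← Ideal.span_union]
  congr 1
  ext r
  simp only [Set.mem_image, Set.mem_setOf_eq, Set.union_singleton, Set.mem_insert_iff]
  constructor
  · rintro ⟨j, hj, rfl⟩
    rcases Nat.lt_succ_iff_lt_or_eq.mp hj with h | h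
    · exact Or.inr ⟨j, h, rfl⟩
    · left
      congr 1
      exact Fin.ext h
  · rintro (rfl | ⟨j, hj, rfl⟩)
    · exact ⟨⟨i, hi⟩, Nat.lt_succ_self i, rfl⟩
    · exact ⟨j, Nat.lt_succ_of_lt hj, rfl⟩

theorem Jp_mono (f' : Fin m → R') {i j : ℕ} (h : i ≤ j) : Jp p k f' i ≤ Jp p k f' j := by
  unfold Jp
  apply Ideal.span_mono
  apply Set.image_mono
  intro x hx
  exact lt_of_lt_of_le hx h

theorem map_Jp (f : Fin m → R) (f' : Fin m → R')
    (hf : ∀ i, MvPolynomial.map (res p k) (f' i) = f i) (i : ℕ) :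
    (Jp p k f' i).map (MvPolynomial.map (res p k)) =
      Ideal.span (f '' {j : Fin m | (j : ℕ) < i}) := by
  unfold Jp
  rw [Ideal.map_span, Set.image_image]
  congr 1
  ext r
  simp only [Set.mem_image, hf]

/-- key flatness computation: `(p) ∩ J'_i = p J'_i` by induction along the regular sequence. -/
theorem inf_Jp_le (f : Fin m → R) (f' : Fin m → R')
    (hf : ∀ i, MvPolynomial.map (res p k) (f' i) = f i)
    (hreg : RingTheory.Sequence.IsWeaklyRegular R (List.ofFn f)) :
    ∀ i : ℕ, i ≤ m → Ideal.span {(p : R')} ⊓ Jp p k f' i ≤ Ideal.span {(p : R')} * Jp p k f' i := by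
  intro i
  induction i with
  | zero =>
    intro _ g hg
    have : Jp p k f' 0 = ⊥ := by
      unfold Jp
      simp
    rw [this] at hg
    have hg0 : g = 0 := by simpa using hg.2
    rw [hg0]; exact zero_mem _
  | succ i ih =>
    intro him g hg
    have hi : i < m := him
    obtain ⟨hgp, hgJ⟩ := hg
    rw [Jp_succ p k f' i hi] at hgJ
    obtain ⟨g₀, hg₀, c, hc, rfl⟩ := Submodule.mem_sup.mp hgJ
    obtain ⟨a, rfl⟩ := Ideal.mem_span_singleton'.mp hc
    obtain ⟨u, hu⟩ := Ideal.mem_span_singleton'.mp hgp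
    -- reduce mod p
    have hred : MvPolynomial.map (res p k) (g₀ + a * f' ⟨i, hi⟩) = 0 := by
      rw [← hu, map_mul, map_res_p, mul_zero]
    rw [map_add, map_mul, hf] at hred
    have hg₀' : MvPolynomial.map (res p k) g₀ ∈ Ideal.span (f '' {j : Fin m | (j : ℕ) < i}) := by
      rw [← map_Jp p k f f' hf i]
      exact Ideal.mem_map_of_mem _ hg₀
    have hfa : f ⟨i, hi⟩ * MvPolynomial.map (res p k) a ∈
        Ideal.span (f '' {j : Fin m | (j : ℕ) < i}) := by
      have : f ⟨i, hi⟩ * MvPolynomial.map (res p k) a = -MvPolynomial.map (res p k) g₀ := by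
        rw [eq_neg_iff_add_eq_zero, add_comm, mul_comm]; exact hred
      rw [this]
      exact neg_mem hg₀'
    have ha := regular_conv f hreg i hi _ hfa
    rw [← map_Jp p k f f' hf i] at ha
    obtain ⟨b, hb, v, hv⟩ := exists_decomp_of_map_mem' p k _ a ha
    -- g₁ = g₀ + b f'_i ∈ J'_i ∩ (p)
    have hfi : f' ⟨i, hi⟩ ∈ Jp p k f' (i + 1) := by
      unfold Jp
      exact Ideal.subset_span ⟨⟨i, hi⟩, Nat.lt_succ_self i, rfl⟩
    have hg₁J : g₀ + b * f' ⟨i, hi⟩ ∈ Jp p k f' i :=
      Ideal.add_mem _ hg₀ (Ideal.mul_mem_right _ _ hb)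
    have hg₁p : g₀ + b * f' ⟨i, hi⟩ ∈ Ideal.span {(p : R')} := by
      have : g₀ + b * f' ⟨i, hi⟩ = (u - v * f' ⟨i, hi⟩) * (p : R') := by
        rw [sub_mul, hu, hv]; ring
      rw [this]
      exact Ideal.mul_mem_left _ _ (Ideal.subset_span rfl)
    have h1 := ih (Nat.le_of_lt hi) ⟨hg₁p, hg₁J⟩
    have h2 : Ideal.span {(p : R')} * Jp p k f' i ≤ Ideal.span {(p : R')} * Jp p k f' (i + 1) :=
      Ideal.mul_mono_right (Jp_mono p k f' (Nat.le_succ i))
    have hsplit : g₀ + a * f' ⟨i, hi⟩ = (g₀ + b * f' ⟨i, hi⟩) + (p : R') * (v * f' ⟨i, hi⟩) := by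
      rw [hv]; ring
    rw [hsplit]
    refine Ideal.add_mem _ (h2 h1) ?_
    exact Ideal.mul_mem_mul (Ideal.subset_span rfl) (Ideal.mul_mem_left _ _ hfi)

theorem inf_eq_mul_of_regular (f : Fin m → R) (f' : Fin m → R')
    (hf : ∀ i, MvPolynomial.map (res p k) (f' i) = f i)
    (hreg : RingTheory.Sequence.IsWeaklyRegular R (List.ofFn f)) :
    Ideal.span {(p : R')} ⊓ Ideal.span (Set.range f') =
      Ideal.span {(p : R')} * Ideal.span (Set.range f') := by
  apply le_antisymm
  · have := inf_Jp_le p k f f' hf hreg m le_rfl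
    rwa [Jp_top] at this
  · exact Ideal.mul_le_inf

theorem flat_of_regular (f : Fin m → R) (f' : Fin m → R')
    (hf : ∀ i, MvPolynomial.map (res p k) (f' i) = f i)
    (hreg : RingTheory.Sequence.IsWeaklyRegular R (List.ofFn f)) :
    ((Ideal.Quotient.mk (Ideal.span (Set.range f'))).comp
      (MvPolynomial.C : W →+* R')).Flat := by
  have h1 := (Groth.Agent.S13137.result p k R' (Ideal.span (Set.range f'))).mpr
    (inf_eq_mul_of_regular p k f f' hf hreg)
  have halg : ((Ideal.Quotient.mk (Ideal.span (Set.range f'))).comp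
      (MvPolynomial.C : W →+* R')).toAlgebra =
      (Ideal.Quotient.algebra W : Algebra W (R' ⧸ Ideal.span (Set.range f'))) :=
    Algebra.algebra_ext _ _ (fun r => rfl)
  change @Module.Flat W (R' ⧸ Ideal.span (Set.range f')) _ _
      (@Algebra.toModule _ _ _ _ ((Ideal.Quotient.mk (Ideal.span (Set.range f'))).comp
      (MvPolynomial.C : W →+* R')).toAlgebra)
  rw [halg]
  exact h1

end CI

end Groth.Agent.Lib.Helper6.W2Arith
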