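import Groth.Agent.Lib.Helper6.W2Ghost
import Groth.Agent.S13136

/-!
# Frobenius lifts on a flat `W₂(k)`-lifting `B` of `A` and ring maps `B → W₂(A)` (helper for S13150)
-/

set_option autoImplicit false
set_option linter.unusedSectionVars false
set_option linter.style.haveILetI false
universe u
open FrobAlg

namespace Groth.Agent.Lib.Helper6.W2Arith

section Main

variable (p : ℕ) [hp : Fact p.Prime] (k : Type u) [Field k] [CharP k p] [PerfectRing k p]
  (A B : Type u) [CommRing A] [Algebra k A] [CommRing B]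
  (ι : W2 p k →+* B) (π : B →+* A)

variable {p k A B ι π}

theorem pi_p (hB : IsLift p k A B ι π) : π (p : B) = 0 := by
  have h := congrArg (fun g => g (p : W2 p k)) hB.comm
  simp only [RingHom.comp_apply] at h
  rw [map_natCast ι, map_natCast (res p k), CharP.cast_eq_zero k p, map_zero] at h
  exact h

theorem pB_sq (hB : IsLift p k A B ι π) : (p : B) * (p : B) = 0 := by
  have := congrArg ι (p_mul_p p k)
  simpa using this

theorem exists_p_mul_of_pi (hB : IsLift p k A B ι π) (b : B) (hb : π b = 0) :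
    ∃ c, b = (p : B) * c := by
  have h1 : b ∈ RingHom.ker π := hb
  rw [hB.ker_eq, ker_res_eq, Ideal.map_span, Set.image_singleton, map_natCast,
    Ideal.mem_span_singleton'] at h1
  obtain ⟨c, hc⟩ := h1
  exact ⟨c, by rw [← hc, mul_comm]⟩

theorem exists_p_mul_of_p_mul (hB : IsLift p k A B ι π) (c : B) (hc : (p : B) * c = 0) :
    ∃ d, c = (p : B) * d := by
  have hflat := hB.flat
  letI := ι.toAlgebra
  have hflat' : Module.Flat (W2 p k) B := hflat
  have hsmul : ∀ z : B, (p : W2 p k) • z = (p : B) * z := by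
    intro z
    rw [Algebra.smul_def]
    congr 1
    change ι (p : W2 p k) = _
    rw [map_natCast]
  obtain ⟨d, hd⟩ := (Groth.Agent.S13136.result p k B).mp hflat' c (by rw [hsmul]; exact hc)
  exact ⟨d, by rw [hd, hsmul]⟩

theorem truncMap_pi_eq (hB : IsLift p k A B ι π) {z z' : W2 p B} (h0 : z.coeff 0 = z'.coeff 0)
    (hg : gh1 p z = gh1 p z') : WittGrp.truncMap p 2 π z = WittGrp.truncMap p 2 π z' := by
  apply W2_ext
  · rw [WittGrp.coeff_truncMap, WittGrp.coeff_truncMap, h0]
  · rw [WittGrp.coeff_truncMap, WittGrp.coeff_truncMap]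
    rw [gh1_apply, gh1_apply, h0] at hg
    have h1 : (p : B) * (z.coeff 1 - z'.coeff 1) = 0 := by
      rw [mul_sub]; exact sub_eq_zero.mpr (add_left_cancel hg)
    obtain ⟨d, hd⟩ := exists_p_mul_of_p_mul hB _ h1
    have : π (z.coeff 1 - z'.coeff 1) = 0 := by rw [hd, map_mul, pi_p hB, zero_mul]
    rw [map_sub] at this
    exact sub_eq_zero.mp this

theorem truncMap_pi_surjective (hB : IsLift p k A B ι π) :
    Function.Surjective (WittGrp.truncMap p 2 π) := by
  intro w
  obtain ⟨b₀, h₀⟩ := hB.surj (w.coeff 0)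
  obtain ⟨b₁, h₁⟩ := hB.surj (w.coeff 1)
  refine ⟨mk2 p b₀ b₁, ?_⟩
  apply W2_ext
  · rw [WittGrp.coeff_truncMap, mk2_coeff_zero, h₀]
  · rw [WittGrp.coeff_truncMap, mk2_coeff_one, h₁]

/-- `⇒`: from a Frobenius lift to `θ`. -/
theorem theta_of_frobLift (Φ : B →+* B) (hF : IsFrobLift p k A B ι π Φ) :
    ∃ θ : B →+* W2 p A, (res p A).comp θ = π ∧ θ.comp ι = WittGrp.truncMap p 2 (algebraMap k A) := by
  have hB : IsLift p k A B ι π := hF.toIsLift
  have hex : ∀ b : B, ∃ z : W2 p B, z.coeff 0 = b ∧ gh1 p z = Φ b := by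
    intro b
    have h1 : π (Φ b - b ^ p) = 0 := by rw [map_sub, hF.red, map_pow, sub_self]
    obtain ⟨β, hβ⟩ := exists_p_mul_of_pi hB _ h1
    refine ⟨mk2 p b β, mk2_coeff_zero p b β, ?_⟩
    rw [gh1_apply, mk2_coeff_zero, mk2_coeff_one, ← hβ]
    ring
  choose zf hz0 hzg using hex
  have spec : ∀ (b : B) (z : W2 p B), z.coeff 0 = b → gh1 p z = Φ b →
      WittGrp.truncMap p 2 π (zf b) = WittGrp.truncMap p 2 π z := by
    intro b z h0 hg
    exact truncMap_pi_eq hB (by rw [hz0, h0]) (by rw [hzg, hg])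
  let θ : B →+* W2 p A :=
    { toFun := fun b => WittGrp.truncMap p 2 π (zf b)
      map_one' := by
        rw [spec 1 1 (coeff_zero_one p) (by rw [map_one, map_one]), map_one]
      map_mul' := by
        intro b c
        rw [spec (b * c) (zf b * zf c) (by rw [coeff_zero_mul, hz0, hz0])
          (by rw [map_mul, map_mul, hzg, hzg]), map_mul]
      map_zero' := by
        rw [spec 0 0 (TruncatedWittVector.coeff_zero p 2 B 0) (by rw [map_zero, map_zero]), map_zero]
      map_add' := by
        intro b c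
        rw [spec (b + c) (zf b + zf c) (by rw [coeff_zero_add, hz0, hz0])
          (by rw [map_add, map_add, hzg, hzg]), map_add] }
  have θ_apply : ∀ b, θ b = WittGrp.truncMap p 2 π (zf b) := fun _ => rfl
  refine ⟨θ, ?_, ?_⟩
  · ext b
    rw [RingHom.comp_apply, res_apply, θ_apply, WittGrp.coeff_truncMap, hz0]
  · apply ringHom_ext_tau p k
    intro x
    rw [RingHom.comp_apply, θ_apply, truncMap_tau]
    have hsemi : Φ (ι (tau p x)) = ι (tau p x) ^ p := by
      have := congrArg (fun g => g (tau p x)) hF.semi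
      simp only [RingHom.comp_apply] at this
      rw [this, frob_tau, tau_pow, map_pow]
    rw [spec (ι (tau p x)) (tau p (ι (tau p x))) (tau_coeff_zero p _) (by rw [gh1_tau, hsemi]),
      truncMap_tau]
    congr 1
    have := congrArg (fun g => g (tau p x)) hB.comm
    simp only [RingHom.comp_apply, res_apply, tau_coeff_zero] at this
    exact this

/-- `⇐`: from `θ` to a Frobenius lift. -/
theorem frobLift_of_theta (hB : IsLift p k A B ι π) (θ : B →+* W2 p A)
    (h1 : (res p A).comp θ = π) (h2 : θ.comp ι = WittGrp.truncMap p 2 (algebraMap k A)) :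
    ∃ Φ : B →+* B, IsFrobLift p k A B ι π Φ := by
  have hsurj := truncMap_pi_surjective hB
  have h2p : 2 ≤ p := hp.out.two_le
  have hker : RingHom.ker (WittGrp.truncMap p 2 π) ≤ RingHom.ker (gh1 p (B := B)) := by
    intro z hz
    rw [RingHom.mem_ker] at hz ⊢
    have c0 : π (z.coeff 0) = 0 := by
      have := congrArg (fun w => w.coeff 0) hz
      simpa [WittGrp.coeff_truncMap, TruncatedWittVector.coeff_zero] using this
    have c1 : π (z.coeff 1) = 0 := by
      have := congrArg (fun w => w.coeff 1) hz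
      simpa [WittGrp.coeff_truncMap, TruncatedWittVector.coeff_zero] using this
    obtain ⟨u, hu⟩ := exists_p_mul_of_pi hB _ c0
    obtain ⟨v, hv⟩ := exists_p_mul_of_pi hB _ c1
    rw [gh1_apply, hu, hv, ← mul_assoc, pB_sq hB, zero_mul, add_zero, mul_pow]
    obtain ⟨n, rfl⟩ : ∃ n, p = n + 2 := ⟨p - 2, by omega⟩
    rw [pow_succ, pow_succ, mul_assoc ((((n + 2 : ℕ) : B)) ^ n), pB_sq hB, mul_zero, zero_mul]
  let ψ : W2 p A →+* B := RingHom.liftOfSurjective (WittGrp.truncMap p 2 π) hsurj ⟨gh1 p, hker⟩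
  have ψ_spec : ∀ z : W2 p B, ψ (WittGrp.truncMap p 2 π z) = gh1 p z :=
    fun z => RingHom.liftOfRightInverse_comp_apply _ _ _ _ z
  refine ⟨ψ.comp θ, hB, ?_, ?_⟩
  · -- semilinearity
    apply ringHom_ext_tau p k
    intro x
    have hθ : θ (ι (tau p x)) = WittGrp.truncMap p 2 π (tau p (ι (tau p x))) := by
      have := congrArg (fun g => g (tau p x)) h2
      simp only [RingHom.comp_apply] at this
      rw [this, truncMap_tau, truncMap_tau]
      congr 1
      have := congrArg (fun g => g (tau p x)) hB.comm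
      simp only [RingHom.comp_apply, res_apply, tau_coeff_zero] at this
      exact this.symm
    rw [RingHom.comp_apply, RingHom.comp_apply, RingHom.comp_apply, hθ, ψ_spec, gh1_tau, frob_tau,
      tau_pow, map_pow]
  · intro b
    obtain ⟨z, hz⟩ := hsurj (θ b)
    rw [RingHom.comp_apply, ← hz, ψ_spec, gh1_apply, map_add, map_mul, map_pow, pi_p hB, zero_mul,
      add_zero]
    have h3 : π (z.coeff 0) = (θ b).coeff 0 := by
      rw [← hz, WittGrp.coeff_truncMap]
    have h4 : (θ b).coeff 0 = π b := by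
      have := congrArg (fun g => g b) h1
      simpa using this
    rw [h3, h4]

end Main

end Groth.Agent.Lib.Helper6.W2Arith
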