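import Groth.Agent.Lib.Helper6.CIFrobLift
import Groth.Agent.Lib.Helper6.FrobLiftTheta

/-!
# Frobenius liftability of complete intersections: the two directions (helper for S13139)
-/

set_option autoImplicit false
set_option linter.unusedSectionVars false
set_option linter.style.haveILetI false
universe u
open FrobAlg MvPolynomial

namespace Groth.Agent.Lib.Helper6.W2Arith

section CI

variable (p : ℕ) [hp : Fact p.Prime] (k : Type u) [Field k] [CharP k p] [PerfectRing k p] {n m : ℕ}

local notation "W" => W2 p k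
local notation "R'" => MvPolynomial (Fin n) (W2 p k)
local notation "R" => MvPolynomial (Fin n) k

theorem map_span_range (f : Fin m → R) (f' : Fin m → R')
    (hf : ∀ i, MvPolynomial.map (res p k) (f' i) = f i) :
    (Ideal.span (Set.range f')).map (MvPolynomial.map (res p k)) = Ideal.span (Set.range f) := by
  rw [Ideal.map_span, ← Set.range_comp]
  congr 2
  ext i : 1
  exact hf i

theorem mk_p_eq_zero (J : Ideal R) : Ideal.Quotient.mk J (p : R) = 0 := by
  have : (p : R) = 0 := by
    rw [← map_natCast (C : k →+* R), CharP.cast_eq_zero k p, map_zero]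
  rw [this, map_zero]

/-- (⇒) -/
theorem main13139_mp (f : Fin m → R) (B : Type u) [CommRing B] (ι : W →+* B)
    (π : B →+* R ⧸ Ideal.span (Set.range f)) (Φ : B →+* B)
    (hL : IsFrobLift p k (R ⧸ Ideal.span (Set.range f)) B ι π Φ) :
    ∃ (f' : Fin m → R') (h : Fin n → R'),
      (∀ i, MvPolynomial.map (res p k) (f' i) = f i) ∧
      ∀ i, polyFrob p k (Fin n) (f' i) - f' i ^ p
        - (p : R') * ∑ j, MvPolynomial.pderiv j (f' i) ^ p * h j
        ∈ Ideal.span {(p : R')} * Ideal.span (Set.range f') := by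
  have hB : IsLift p k (R ⧸ Ideal.span (Set.range f)) B ι π := hL.toIsLift
  have hppos : 0 < p := hp.out.pos
  have hsurjres : Function.Surjective (MvPolynomial.map (σ := Fin n) (res p k)) :=
    MvPolynomial.map_surjective _ (res_surjective p k)
  -- lift the variables
  have hb : ∀ j : Fin n, ∃ b : B, π b = Ideal.Quotient.mk _ (X j) := fun j => hB.surj _
  choose b hb using hb
  let q : R' →+* B := MvPolynomial.eval₂Hom ι b
  have hqC : ∀ c, q (C c) = ι c := fun c => by simp [q]
  have hqX : ∀ j, q (X j) = b j := fun j => by simp [q]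
  have hqp : q (p : R') = (p : B) := map_natCast q p
  have hπq : ∀ g : R', π (q g) = Ideal.Quotient.mk _ (MvPolynomial.map (res p k) g) := by
    have : π.comp q = (Ideal.Quotient.mk (Ideal.span (Set.range f))).comp
        (MvPolynomial.map (res p k)) := by
      apply MvPolynomial.ringHom_ext
      · intro c
        have h1 := congrArg (fun g => g c) hB.comm
        simp only [RingHom.comp_apply] at h1
        rw [RingHom.comp_apply, RingHom.comp_apply, hqC, h1, MvPolynomial.map_C]
        rfl
      · intro j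
        rw [RingHom.comp_apply, RingHom.comp_apply, hqX, hb, MvPolynomial.map_X]
    intro g
    have := congrArg (fun φ => φ g) this
    simpa only [RingHom.comp_apply] using this
  -- q is surjective
  have hstep : ∀ y : B, ∃ g : R', ∃ y' : B, y = q g + (p : B) * y' := by
    intro y
    obtain ⟨r, hr⟩ := Ideal.Quotient.mk_surjective (π y)
    obtain ⟨g, rfl⟩ := hsurjres r
    have : π (y - q g) = 0 := by rw [map_sub, hπq, hr, sub_self]
    obtain ⟨y', hy'⟩ := exists_p_mul_of_pi hB _ this
    exact ⟨g, y', by rw [← hy']; ring⟩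
  have hqsurj : Function.Surjective q := by
    intro y
    obtain ⟨g, y', hy⟩ := hstep y
    obtain ⟨g', y'', hy'⟩ := hstep y'
    refine ⟨g + (p : R') * g', ?_⟩
    rw [map_add, map_mul, hqp, hy, hy', mul_add, ← mul_assoc, pB_sq hB, zero_mul, add_zero]
  -- the corrected lifts
  have hf' : ∀ i : Fin m, ∃ g : R', MvPolynomial.map (res p k) g = f i ∧ q g = 0 := by
    intro i
    obtain ⟨F, hF⟩ := hsurjres (f i)
    have h0 : π (q F) = 0 := by
      rw [hπq, hF]
      exact Ideal.Quotient.eq_zero_iff_mem.mpr (Ideal.subset_span ⟨i, rfl⟩)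
    obtain ⟨y, hy⟩ := exists_p_mul_of_pi hB _ h0
    obtain ⟨u, rfl⟩ := hqsurj y
    refine ⟨F - (p : R') * u, ?_, ?_⟩
    · rw [map_sub, map_mul, map_res_p, zero_mul, sub_zero, hF]
    · rw [map_sub, map_mul, hqp, hy, sub_self]
  choose f' hf'res hf'q using hf'
  have hJ := map_span_range p k f f' hf'res
  have hJ'ker : ∀ g ∈ Ideal.span (Set.range f'), q g = 0 := by
    intro g hg
    have : Ideal.span (Set.range f') ≤ RingHom.ker q := by
      rw [Ideal.span_le]
      rintro _ ⟨i, rfl⟩
      exact hf'q i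
    exact this hg
  -- key lemma
  have key : ∀ w : R', (p : B) * q w = 0 →
      ∃ w' ∈ Ideal.span (Set.range f'), (p : R') * w = (p : R') * w' := by
    intro w hw
    obtain ⟨y, hy⟩ := exists_p_mul_of_p_mul hB _ hw
    have h0 : π (q w) = 0 := by rw [hy, map_mul, pi_p hB, zero_mul]
    rw [hπq, Ideal.Quotient.eq_zero_iff_mem, ← hJ] at h0
    obtain ⟨w', hw', v, hv⟩ := exists_decomp_of_map_mem p k f' _ h0
    refine ⟨w', hw', ?_⟩
    rw [hv, mul_add, ← mul_assoc, pR_sq, zero_mul, add_zero]
  have hker : ∀ g : R', q g = 0 → g ∈ Ideal.span (Set.range f') := by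
    intro g hg
    have h0 : π (q g) = 0 := by rw [hg, map_zero]
    rw [hπq, Ideal.Quotient.eq_zero_iff_mem, ← hJ] at h0
    obtain ⟨g', hg', u, hu⟩ := exists_decomp_of_map_mem p k f' _ h0
    have hpu : (p : B) * q u = 0 := by
      have := congrArg q hu
      rw [map_add, map_mul, hqp, hg, hJ'ker g' hg', zero_add] at this
      exact this.symm
    obtain ⟨w', hw', hww'⟩ := key u hpu
    rw [hu, hww']
    exact Ideal.add_mem _ hg' (Ideal.mul_mem_left _ _ hw')
  -- the h_j
  have hex : ∀ j : Fin n, ∃ u : R', Φ (q (X j)) = q (X j ^ p + (p : R') * u) := by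
    intro j
    have h0 : π (Φ (q (X j)) - q (X j ^ p)) = 0 := by
      rw [map_sub, hL.red, map_pow q, map_pow π, sub_self]
    obtain ⟨y, hy⟩ := exists_p_mul_of_pi hB _ h0
    obtain ⟨u, rfl⟩ := hqsurj y
    refine ⟨u, ?_⟩
    rw [map_add, map_mul, hqp, ← hy]; ring
  choose u hu using hex
  have hcomp : Φ.comp q = q.comp (PsiH p k u) := by
    apply MvPolynomial.ringHom_ext
    · intro c
      have := congrArg (fun g => g c) hL.semi
      simp only [RingHom.comp_apply] at this
      rw [RingHom.comp_apply, RingHom.comp_apply, PsiH_C, hqC, hqC, this]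
    · intro j
      rw [RingHom.comp_apply, RingHom.comp_apply, PsiH_X, hu]
  have hPsi : ∀ i, PsiH p k u (f' i) ∈ Ideal.span (Set.range f') := by
    intro i
    apply hker
    have := congrArg (fun g => g (f' i)) hcomp
    simp only [RingHom.comp_apply] at this
    rw [← this, hf'q, map_zero]
  have hfi : ∀ i, f' i ∈ Ideal.span (Set.range f') := fun i => Ideal.subset_span ⟨i, rfl⟩
  refine ⟨f', fun j => -u j, hf'res, fun i => ?_⟩
  have hD : polyFrob p k (Fin n) (f' i) - f' i ^ p
      - (p : R') * ∑ j, MvPolynomial.pderiv j (f' i) ^ p * (-u j) =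
      PsiH p k u (f' i) - f' i ^ p := by
    rw [PsiH_eq]
    simp only [mul_neg, Finset.sum_neg_distrib]
    ring
  have h2 : polyFrob p k (Fin n) (f' i) - f' i ^ p
      - (p : R') * ∑ j, MvPolynomial.pderiv j (f' i) ^ p * (-u j) ∈ Ideal.span {(p : R')} :=
    Ideal.sub_mem _ (polyFrob_sub_pow_mem p k (f' i))
      (Ideal.mul_mem_right _ _ (Ideal.subset_span rfl))
  obtain ⟨w, hw⟩ := Ideal.mem_span_singleton'.mp h2
  have hE : PsiH p k u (f' i) - f' i ^ p ∈ Ideal.span (Set.range f') :=
    Ideal.sub_mem _ (hPsi i) (Ideal.pow_mem_of_mem _ (hfi i) p hppos)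
  have hpw : (p : B) * q w = 0 := by
    have := hJ'ker _ hE
    rw [← hD, ← hw, map_mul, hqp, mul_comm] at this
    exact this
  obtain ⟨w', hw', hww'⟩ := key w hpw
  rw [← hw, mul_comm w, hww']
  exact Ideal.mul_mem_mul (Ideal.subset_span rfl) hw'


/-- (⇐) -/
theorem main13139_mpr (f : Fin m → R)
    (hreg : RingTheory.Sequence.IsWeaklyRegular R (List.ofFn f))
    (f' : Fin m → R') (h : Fin n → R')
    (hf : ∀ i, MvPolynomial.map (res p k) (f' i) = f i)
    (hh : ∀ i, polyFrob p k (Fin n) (f' i) - f' i ^ p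
        - (p : R') * ∑ j, MvPolynomial.pderiv j (f' i) ^ p * h j
        ∈ Ideal.span {(p : R')} * Ideal.span (Set.range f')) :
    IsFLiftable p k (R ⧸ Ideal.span (Set.range f)) := by
  have hflat := flat_of_regular p k f f' hf hreg
  have hJ := map_span_range p k f f' hf
  obtain ⟨Φ, hsemi, hred⟩ := (main13138 p k f' hflat).mpr ⟨h, hh⟩
  have hle : Ideal.span (Set.range f') ≤
      Ideal.comap (MvPolynomial.map (res p k)) (Ideal.span (Set.range f)) := by
    rw [← hJ]; exact Ideal.le_comap_map
  let π : (R' ⧸ Ideal.span (Set.range f')) →+* (R ⧸ Ideal.span (Set.range f)) :=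
    Ideal.quotientMap (Ideal.span (Set.range f)) (MvPolynomial.map (res p k)) hle
  have hπ : ∀ g : R', π (Ideal.Quotient.mk _ g) =
      Ideal.Quotient.mk _ (MvPolynomial.map (res p k) g) := fun g => Ideal.quotientMap_mk
  have hsurjres : Function.Surjective (MvPolynomial.map (σ := Fin n) (res p k)) :=
    MvPolynomial.map_surjective _ (res_surjective p k)
  refine ⟨R' ⧸ Ideal.span (Set.range f'), inferInstance,
    (Ideal.Quotient.mk (Ideal.span (Set.range f'))).comp (MvPolynomial.C : W →+* R'), π, Φ, ?_⟩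
  refine { flat := hflat, surj := ?_, ker_eq := ?_, comm := ?_, semi := hsemi, red := ?_ }
  · intro a
    obtain ⟨r, rfl⟩ := Ideal.Quotient.mk_surjective a
    obtain ⟨g, rfl⟩ := hsurjres r
    exact ⟨Ideal.Quotient.mk _ g, hπ g⟩
  · rw [ker_res_eq, Ideal.map_span, Set.image_singleton, map_natCast]
    ext x
    obtain ⟨g, rfl⟩ := Ideal.Quotient.mk_surjective x
    rw [RingHom.mem_ker, hπ, Ideal.Quotient.eq_zero_iff_mem, Ideal.mem_span_singleton']
    constructor
    · intro hg
      rw [← hJ] at hg
      obtain ⟨g', hg', u, hu⟩ := exists_decomp_of_map_mem p k f' _ hg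
      refine ⟨Ideal.Quotient.mk _ u, ?_⟩
      rw [hu, map_add, Ideal.Quotient.eq_zero_iff_mem.mpr hg', zero_add, map_mul, map_natCast,
        mul_comm]
    · rintro ⟨y, hy⟩
      obtain ⟨u, rfl⟩ := Ideal.Quotient.mk_surjective y
      have h1 : Ideal.Quotient.mk (Ideal.span (Set.range f')) (u * (p : R')) =
          Ideal.Quotient.mk (Ideal.span (Set.range f')) g := by
        rw [map_mul, map_natCast]; exact hy
      have h2 := congrArg π h1
      rw [hπ, hπ, map_mul, map_res_p, mul_zero, map_zero] at h2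
      exact Ideal.Quotient.eq_zero_iff_mem.mp h2.symm
  · ext c
    simp only [RingHom.comp_apply]
    rw [hπ, MvPolynomial.map_C]
    rfl
  · intro b
    obtain ⟨g, rfl⟩ := Ideal.Quotient.mk_surjective b
    obtain ⟨g₂, hg₂⟩ := Ideal.Quotient.mk_surjective (Φ (Ideal.Quotient.mk _ g))
    have h1 := hred (Ideal.Quotient.mk _ g)
    rw [← hg₂, Ideal.quotientMap_mk, Ideal.quotientMap_mk, ← map_pow, ← map_pow,
      Ideal.Quotient.eq, hJ] at h1
    rw [← hg₂, hπ, hπ, ← map_pow, ← map_pow, Ideal.Quotient.eq]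
    exact h1

end CI

end Groth.Agent.Lib.Helper6.W2Arith
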