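import Mathlib
import Groth.Agent.Lib.Helper7.CatLib3
import Groth.Prelude.Def_Found

set_option linter.unusedSectionVars false
set_option autoImplicit false
set_option maxHeartbeats 400000

noncomputable section

namespace Groth.Agent.Lib.Helper6.Caten

open Groth.Agent.Helper7.CatLib Groth.Agent.Helper7.CatLib2 TopologicalSpace

universe u

section Order

variable {P Q : Type*} [PartialOrder P] [PartialOrder Q] (f : P ↪o Q)
  (hconv : (Set.range f).OrdConnected)

/-- catenary condition for a single pair -/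
def CatPair (a b : P) : Prop :=
  cd a b ≠ ⊤ ∧ ∀ s : LTSeries P, s.head = a → s.last = b →
    (∀ i : Fin s.length, s i.castSucc ⋖ s i.succ) → (s.length : ℕ∞) = cd a b

lemma isCat_iff_catPair : IsCat P ↔ ∀ a b : P, a ≤ b → CatPair a b := Iff.rfl

include hconv in
/-- pull back a chain lying between two image points -/
lemma exists_pullback (a b : P) (t : LTSeries Q) (h1 : t.head = f a) (h2 : t.last ≤ f b) :
    ∃ s : LTSeries P, s.length = t.length ∧ s.head = a ∧ f s.last = t.last ∧
      ∀ i : Fin (s.length + 1), ∀ j : Fin (t.length + 1), i.val = j.val → f (s i) = t j := by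
  have hmem : ∀ i : Fin (t.length + 1), t i ∈ Set.range f := by
    intro i
    refine hconv.out ⟨a, rfl⟩ ⟨b, rfl⟩ ⟨?_, ?_⟩
    · rw [← h1]; exact t.monotone (Fin.zero_le i)
    · exact (t.monotone (Fin.le_last i)).trans h2
  choose g hg using hmem
  have hmono : StrictMono g := by
    intro i j hij
    rw [← f.lt_iff_lt, hg, hg]
    exact t.strictMono hij
  refine ⟨LTSeries.mk t.length g hmono, rfl, ?_, ?_, ?_⟩
  · apply f.injective
    change f (g 0) = f a
    rw [hg, ← h1]; rfl
  · change f (g (Fin.last _)) = _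
    rw [hg]; rfl
  · intro i j hij
    have : i = j := Fin.ext hij
    subst this
    exact hg i

include hconv in
lemma cd_map (a b : P) : cd (f a) (f b) = cd a b := by
  apply le_antisymm
  · refine cd_le fun t h1 h2 => ?_
    obtain ⟨s, hlen, hh, hl, _⟩ := exists_pullback f hconv a b t h1 h2
    rw [← hlen]
    refine le_cd s hh ?_
    rw [← f.le_iff_le, hl]; exact h2
  · refine cd_le fun s h1 h2 => ?_
    have := le_cd (a := f a) (b := f b) (s.map f f.strictMono) (by simp [h1])
      (by simpa using f.monotone h2)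
    simpa using this

include hconv in
lemma catPair_of_map {a b : P} (h : CatPair (f a) (f b)) : CatPair a b := by
  refine ⟨by rw [← cd_map f hconv]; exact h.1, fun s h1 h2 hsat => ?_⟩
  have := h.2 (s.map f f.strictMono) (by simp [h1]) (by simp [h2]) (fun i => by
    have := hsat i
    rw [← hconv.apply_covBy_apply_iff f] at this
    exact this)
  rw [cd_map f hconv] at this
  simpa using this

include hconv in
lemma catPair_map {a b : P} (h : CatPair a b) : CatPair (f a) (f b) := by
  refine ⟨by rw [cd_map f hconv]; exact h.1, fun t h1 h2 hsat => ?_⟩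
  obtain ⟨s, hlen, hh, hl, hpt⟩ := exists_pullback f hconv a b t h1 h2.le
  have hlast : s.last = b := by
    apply f.injective; rw [hl, h2]
  have := h.2 s hh hlast (fun i => by
    rw [← hconv.apply_covBy_apply_iff f]
    have h3 := hsat ⟨i.val, by rw [← hlen]; exact i.2⟩
    rw [hpt i.castSucc (Fin.castSucc ⟨i.val, by rw [← hlen]; exact i.2⟩) rfl,
      hpt i.succ (Fin.succ ⟨i.val, by rw [← hlen]; exact i.2⟩) rfl]
    exact h3)
  rw [cd_map f hconv, ← hlen]
  exact this

include hconv in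
lemma isCat_of_embedding (h : IsCat Q) : IsCat P := fun a b hab =>
  catPair_of_map f hconv (h (f a) (f b) (f.monotone hab))

end Order

section Top

variable {X : Type u} [TopologicalSpace X]

/-- the order embedding of irreducible closed subsets of a subspace -/
def emb (S : Set X) : IrreducibleCloseds S ↪o IrreducibleCloseds X :=
  OrderEmbedding.ofMapLEIff (IrreducibleCloseds.map Subtype.val continuous_subtype_val)
    (fun a b => by
      refine ⟨fun hle => ?_, fun hle => IrreducibleCloseds.map_mono continuous_subtype_val hle⟩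
      have hind : Topology.IsInducing (Subtype.val : S → X) := Topology.IsInducing.subtypeVal
      have h1 := Set.preimage_mono (f := (Subtype.val : S → X)) hle
      simp only [IrreducibleCloseds.coe_map] at h1
      rw [← hind.closure_eq_preimage_closure_image, ← hind.closure_eq_preimage_closure_image,
        a.isClosed.closure_eq, b.isClosed.closure_eq] at h1
      exact h1)

lemma coe_emb (S : Set X) (a : IrreducibleCloseds S) :
    (emb S a : Set X) = closure (Subtype.val '' (a : Set S)) := rfl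

/-- criterion for lying in the range, for `S = U ∩ Z` -/
lemma mem_range_emb {S U Z : Set X} (hU : IsOpen U) (hZ : IsClosed Z) (hS : S = U ∩ Z)
    (V : IrreducibleCloseds X) (hVZ : (V : Set X) ⊆ Z) (hVU : ((V : Set X) ∩ U).Nonempty) :
    V ∈ Set.range (emb S) := by
  have hSU : S ⊆ U := by rw [hS]; exact Set.inter_subset_left
  have hVS : (V : Set X) ∩ S = (V : Set X) ∩ U := by
    rw [hS]; ext y; constructor
    · rintro ⟨h1, h2, _⟩; exact ⟨h1, h2⟩
    · rintro ⟨h1, h2⟩; exact ⟨h1, h2, hVZ h1⟩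
  have hirr : IsIrreducible ((Subtype.val : S → X) ⁻¹' (V : Set X)) := by
    constructor
    · obtain ⟨y, hyV, hyU⟩ := hVU
      exact ⟨⟨y, by rw [hS]; exact ⟨hyU, hVZ hyV⟩⟩, hyV⟩
    · intro u v hu hv ⟨p, hpV, hpu⟩ ⟨q, hqV, hqv⟩
      obtain ⟨u', hu', rfl⟩ := isOpen_induced_iff.mp hu
      obtain ⟨v', hv', rfl⟩ := isOpen_induced_iff.mp hv
      have hpS : (p : X) ∈ U := hSU p.2
      have hqS : (q : X) ∈ U := hSU q.2
      obtain ⟨y, hyV, ⟨hyu, hyU⟩, ⟨hyv, _⟩⟩ := V.isIrreducible.isPreirreducible (u' ∩ U) (v' ∩ U)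
        (hu'.inter hU) (hv'.inter hU) ⟨p, hpV, hpu, hpS⟩ ⟨q, hqV, hqv, hqS⟩
      exact ⟨⟨y, by rw [hS]; exact ⟨hyU, hVZ hyV⟩⟩, hyV, hyu, hyv⟩
  refine ⟨⟨_, hirr, V.isClosed.preimage continuous_subtype_val⟩, ?_⟩
  apply IrreducibleCloseds.ext
  rw [coe_emb]
  simp only [IrreducibleCloseds.coe_mk, Subtype.image_preimage_coe]
  rw [Set.inter_comm, hVS]
  apply subset_antisymm
  · exact closure_minimal Set.inter_subset_left V.isClosed
  · exact subset_closure_inter_of_isPreirreducible_of_isOpen V.isIrreducible.isPreirreducible hU hVU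

lemma ordConnected_range_emb {S : Set X} (hS : IsLocallyClosed S) :
    (Set.range (emb S)).OrdConnected := by
  obtain ⟨U, Z, hU, hZ, hSeq⟩ := hS
  have hSU : S ⊆ U := by rw [hSeq]; exact Set.inter_subset_left
  have hSZ : S ⊆ Z := by rw [hSeq]; exact Set.inter_subset_right
  constructor
  rintro _ ⟨a, rfl⟩ _ ⟨b, rfl⟩ V ⟨h1, h2⟩
  refine mem_range_emb hU hZ hSeq V ?_ ?_
  · have hb : (emb S b : Set X) ⊆ Z := by
      rw [coe_emb]
      refine closure_minimal ?_ hZ
      rintro _ ⟨y, _, rfl⟩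
      exact hSZ y.2
    exact (SetLike.coe_subset_coe.mpr h2).trans hb
  · obtain ⟨y, hy⟩ := a.isIrreducible.nonempty
    refine ⟨y, ?_, ?_⟩
    · apply SetLike.coe_subset_coe.mpr h1
      rw [coe_emb]
      exact subset_closure ⟨y, hy, rfl⟩
    · exact hSU y.2

theorem isCatenarySpace_of_isLocallyClosed (hX : PtTop.IsCatenarySpace X) {S : Set X}
    (hS : IsLocallyClosed S) : PtTop.IsCatenarySpace S :=
  isCat_of_embedding (emb S) (ordConnected_range_emb hS) hX

theorem isCatenarySpace_of_local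
    (h : ∀ x : X, ∃ U : Opens X, x ∈ U ∧ PtTop.IsCatenarySpace U) : PtTop.IsCatenarySpace X := by
  intro T T' hTT'
  obtain ⟨x, hx⟩ := T.isIrreducible.nonempty
  obtain ⟨U, hxU, hU⟩ := h x
  have hS : (U : Set X) = (U : Set X) ∩ Set.univ := (Set.inter_univ _).symm
  obtain ⟨a, ha⟩ := mem_range_emb U.isOpen isClosed_univ hS T (Set.subset_univ _) ⟨x, hx, hxU⟩
  obtain ⟨b, hb⟩ := mem_range_emb U.isOpen isClosed_univ hS T' (Set.subset_univ _)
    ⟨x, hTT' hx, hxU⟩
  have hab : a ≤ b := by
    rw [← (emb (U : Set X)).le_iff_le, ha, hb]; exact hTT'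
  have h1 : CatPair a b := hU a b hab
  have h2 := catPair_map (emb (U : Set X)) (ordConnected_range_emb U.isOpen.isLocallyClosed) h1
  rw [ha, hb] at h2
  exact h2

theorem catenary_main :
    (PtTop.IsCatenarySpace X ↔
      ∀ x : X, ∃ U : Opens X, x ∈ U ∧ PtTop.IsCatenarySpace U) ∧
    (PtTop.IsCatenarySpace X → ∀ S : Set X, IsLocallyClosed S → PtTop.IsCatenarySpace S) := by
  refine ⟨⟨fun hX x => ⟨⊤, trivial, ?_⟩, isCatenarySpace_of_local⟩,
    fun hX S hS => isCatenarySpace_of_isLocallyClosed hX hS⟩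
  exact isCatenarySpace_of_isLocallyClosed hX (S := ((⊤ : Opens X) : Set X))
    (⊤ : Opens X).isOpen.isLocallyClosed

end Top

section DimFun

variable {X : Type u} [TopologicalSpace X]

/-- finite cover of a closed set by irreducible closed subsets -/
lemma fin_cover [NoetherianSpace X] (C : Set X) (hC : IsClosed C) :
    ∃ F : Set (IrreducibleCloseds X), F.Finite ∧ (∀ Y ∈ F, (Y : Set X) ⊆ C) ∧
      ∀ x ∈ C, ∃ Y ∈ F, x ∈ (Y : Set X) := by
  obtain ⟨S, hSf, hSc, hSi, hSU⟩ := NoetherianSpace.exists_finite_set_isClosed_irreducible hC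
  refine ⟨{Y : IrreducibleCloseds X | (Y : Set X) ∈ S},
    hSf.preimage (SetLike.coe_injective.injOn), ?_, ?_⟩
  · intro Y hY
    rw [hSU]
    exact Set.subset_sUnion_of_mem hY
  · intro x hx
    rw [hSU] at hx
    obtain ⟨t, ht, hxt⟩ := hx
    exact ⟨⟨t, hSi t ht, hSc t ht⟩, ht, hxt⟩

/-- integer-valued codimension -/
def cdN (a b : IrreducibleCloseds X) : ℤ := ((cd a b).toNat : ℤ)

lemma cdN_add (hX : IsCat (IrreducibleCloseds X)) {a b c : IrreducibleCloseds X}
    (hab : a ≤ b) (hbc : b ≤ c) : cdN a c = cdN a b + cdN b c := by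
  obtain ⟨hfin, hadd⟩ := isCat_iff.mp hX
  unfold cdN
  rw [hadd a b c hab hbc, ENat.toNat_add (hfin a b hab) (hfin b c hbc)]
  push_cast
  rfl

lemma cdN_pos (hX : IsCat (IrreducibleCloseds X)) {a b : IrreducibleCloseds X} (hab : a < b) :
    1 ≤ cdN a b := by
  have hfin := (hX a b hab.le).1
  have h1 := le_cd (a := a) (b := b) ((RelSeries.singleton _ a).snoc b hab) (by simp) (by simp)
  simp only [RelSeries.snoc_length, RelSeries.singleton_length, zero_add, Nat.cast_one] at h1
  unfold cdN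
  have h2 : (1 : ℕ) ≤ (cd a b).toNat := by
    rw [← ENat.natCast_le_natCast, ENat.natCast_toNat hfin]
    exact_mod_cast h1
  exact_mod_cast h2

lemma cdN_covBy {a b : IrreducibleCloseds X} (hab : a ⋖ b) : cdN a b = 1 := by
  unfold cdN
  rw [cd_covBy hab]
  rfl

lemma cl_le_of_mem (y : X) (Z : IrreducibleCloseds X) (hy : y ∈ (Z : Set X)) : cl y ≤ Z := by
  change closure {y} ⊆ (Z : Set X)
  exact closure_minimal (Set.singleton_subset_iff.mpr hy) Z.isClosed

theorem exists_local_dimFun [QuasiSober X] [T0Space X] [NoetherianSpace X]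
    (hX : PtTop.IsCatenarySpace X) (s : X) :
    ∃ U : Opens X, s ∈ U ∧ ∃ δ : U → ℤ, PtTop.IsDimensionFunction δ := by
  classical
  have hCat : IsCat (IrreducibleCloseds X) := hX
  obtain ⟨F1, hF1fin, -, hF1cov⟩ := fin_cover (Set.univ : Set X) isClosed_univ
  have hpair : ∀ Z Z' : IrreducibleCloseds X, ∃ F : Set (IrreducibleCloseds X), F.Finite ∧
      (∀ Y ∈ F, (Y : Set X) ⊆ (Z : Set X) ∩ Z') ∧
      ∀ x ∈ (Z : Set X) ∩ Z', ∃ Y ∈ F, x ∈ (Y : Set X) :=
    fun Z Z' => fin_cover _ (Z.isClosed.inter Z'.isClosed)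
  choose F2 hF2fin hF2sub hF2cov using hpair
  set F2all : Set (IrreducibleCloseds X) := ⋃ Z ∈ F1, ⋃ Z' ∈ F1, F2 Z Z' with hF2all
  have hF2allfin : F2all.Finite :=
    hF1fin.biUnion fun Z _ => hF1fin.biUnion fun Z' _ => hF2fin Z Z'
  set G : Set (IrreducibleCloseds X) := {Y ∈ F1 ∪ F2all | s ∉ (Y : Set X)} with hG
  have hGfin : G.Finite := (hF1fin.union hF2allfin).subset (Set.sep_subset _ _)
  set W : Set X := ⋃ Y ∈ G, (Y : Set X) with hW
  have hWclosed : IsClosed W := hGfin.isClosed_biUnion fun Y _ => Y.isClosed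
  have hsW : s ∉ W := by
    rw [hW]
    simp only [Set.mem_iUnion, not_exists]
    intro Y hY hs
    exact hY.2 hs
  have hkey : ∀ y, y ∉ W → ∀ Y ∈ F1 ∪ F2all, y ∈ (Y : Set X) → s ∈ (Y : Set X) := by
    intro y hy Y hY hyY
    by_contra hs
    exact hy (Set.mem_biUnion (show Y ∈ G from ⟨hY, hs⟩) hyY)
  have hcomp : ∀ y : X, ∃ Z ∈ F1, y ∈ (Z : Set X) := fun y => hF1cov y trivial
  choose comp hcompF hcompmem using hcomp
  have hindep : ∀ y, y ∉ W → ∀ Z ∈ F1, ∀ Z' ∈ F1, y ∈ (Z : Set X) → y ∈ (Z' : Set X) →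
      cdN (cl s) Z - cdN (cl y) Z = cdN (cl s) Z' - cdN (cl y) Z' := by
    intro y hy Z hZ Z' hZ' hyZ hyZ'
    obtain ⟨Y, hYF, hyY⟩ := hF2cov Z Z' y ⟨hyZ, hyZ'⟩
    have hYall : Y ∈ F2all := Set.mem_biUnion hZ (Set.mem_biUnion hZ' hYF)
    have hsY : s ∈ (Y : Set X) := hkey y hy Y (Or.inr hYall) hyY
    have hYZ : Y ≤ Z := fun x hx => (hF2sub Z Z' Y hYF hx).1
    have hYZ' : Y ≤ Z' := fun x hx => (hF2sub Z Z' Y hYF hx).2
    rw [cdN_add hCat (cl_le_of_mem s Y hsY) hYZ, cdN_add hCat (cl_le_of_mem y Y hyY) hYZ,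
      cdN_add hCat (cl_le_of_mem s Y hsY) hYZ', cdN_add hCat (cl_le_of_mem y Y hyY) hYZ']
    ring
  have hstep : ∀ y y', y ∉ W → y' ∉ W → y ⤳ y' →
      cdN (cl s) (comp y) - cdN (cl y) (comp y)
        = cdN (cl s) (comp y') - cdN (cl y') (comp y') + cdN (cl y') (cl y) := by
    intro y y' hy hy' hsp
    have hy'Z : y' ∈ (comp y : Set X) := hsp.mem_closed (comp y).isClosed (hcompmem y)
    rw [hindep y' hy' _ (hcompF y') _ (hcompF y) (hcompmem y') hy'Z,
      cdN_add hCat (cl_le_cl.mpr hsp) (cl_le_of_mem y _ (hcompmem y))]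
    ring
  refine ⟨⟨Wᶜ, hWclosed.isOpen_compl⟩, hsW,
    fun y => cdN (cl s) (comp y.1) - cdN (cl y.1) (comp y.1), ?_, ?_⟩
  · intro x y hxy hne
    have hxy' : x.1 ⤳ y.1 := (subtype_specializes_iff x y).mp hxy
    have h1 := hstep x.1 y.1 x.2 y.2 hxy'
    have hlt : cl y.1 < cl x.1 := by
      refine lt_of_le_of_ne (cl_le_cl.mpr hxy') fun h => hne ?_
      apply Subtype.ext
      rw [← gp_cl x.1, ← gp_cl y.1, h]
    have h2 := cdN_pos hCat hlt
    simp only
    omega
  · intro x y himm
    obtain ⟨hxy, hne, hbetween⟩ := himm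
    have hxy' : x.1 ⤳ y.1 := (subtype_specializes_iff x y).mp hxy
    have h1 := hstep x.1 y.1 x.2 y.2 hxy'
    have hlt : cl y.1 < cl x.1 := by
      refine lt_of_le_of_ne (cl_le_cl.mpr hxy') fun h => hne ?_
      apply Subtype.ext
      rw [← gp_cl x.1, ← gp_cl y.1, h]
    have hcov : cl y.1 ⋖ cl x.1 := by
      refine ⟨hlt, fun T hT1 hT2 => ?_⟩
      have hz1 : x.1 ⤳ gp T := by
        rw [← cl_le_cl, cl_gp]; exact hT2.le
      have hz2 : gp T ⤳ y.1 := by
        rw [← cl_le_cl, cl_gp]; exact hT1.le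
      have hzU : gp T ∈ Wᶜ := hz2.mem_open hWclosed.isOpen_compl y.2
      rcases hbetween ⟨gp T, hzU⟩ ((subtype_specializes_iff _ _).mpr hz1)
        ((subtype_specializes_iff _ _).mpr hz2) with h | h
      · have : T = cl x.1 := by
          rw [← cl_gp T]; congr 1; exact congrArg Subtype.val h
        exact hT2.ne this
      · have : T = cl y.1 := by
          rw [← cl_gp T]; congr 1; exact congrArg Subtype.val h
        exact hT1.ne this.symm
    rw [cdN_covBy hcov] at h1
    simp only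
    omega

end DimFun

section Transport

lemma isDimensionFunction_comp {Y Y' : Type*} [TopologicalSpace Y] [TopologicalSpace Y']
    (φ : Y → Y') (hφ : Function.Bijective φ) (hsp : ∀ a b, a ⤳ b ↔ φ a ⤳ φ b)
    (δ : Y' → ℤ) (hδ : PtTop.IsDimensionFunction δ) : PtTop.IsDimensionFunction (δ ∘ φ) := by
  refine ⟨fun a b hab hne => hδ.1 _ _ ((hsp a b).mp hab) (fun h => hne (hφ.1 h)), ?_⟩
  rintro a b ⟨hab, hne, hbet⟩
  refine hδ.2 _ _ ⟨(hsp a b).mp hab, fun h => hne (hφ.1 h), fun z' h1 h2 => ?_⟩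
  obtain ⟨z, rfl⟩ := hφ.2 z'
  rcases hbet z ((hsp _ _).mpr h1) ((hsp _ _).mpr h2) with h | h
  · left; rw [h]
  · right; rw [h]

end Transport

section Scheme

open AlgebraicGeometry

theorem scheme_main (S : Scheme.{u}) [IsLocallyNoetherian S] :
    PtTop.IsCatenarySpace S ↔
      ∀ s : S, ∃ U : S.Opens, s ∈ U ∧ ∃ δ : U → ℤ, PtTop.IsDimensionFunction δ := by
  constructor
  · intro hS s
    obtain ⟨V, hVaff, hsV, -⟩ := exists_isAffineOpen_mem_and_subset (x := s) (U := ⊤) trivial
    have : IsNoetherianRing Γ(S, V) := IsLocallyNoetherian.component_noetherian ⟨V, hVaff⟩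
    have : NoetherianSpace ↥V := noetherianSpace_of_isAffineOpen V hVaff
    have : QuasiSober ↥V := V.isOpenEmbedding'.quasiSober
    have hVcat : PtTop.IsCatenarySpace ↥V :=
      isCatenarySpace_of_isLocallyClosed hS (S := (V : Set S)) V.isOpen.isLocallyClosed
    obtain ⟨U', hsU', δ, hδ⟩ := exists_local_dimFun hVcat ⟨s, hsV⟩
    let U : S.Opens := ⟨Subtype.val '' (U' : Set ↥V), V.isOpen.isOpenMap_subtype_val _ U'.isOpen⟩
    have hmemV : ∀ x : U, x.1 ∈ V := by
      rintro ⟨_, y, _, rfl⟩; exact y.2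
    have hmemU' : ∀ x : U, (⟨x.1, hmemV x⟩ : ↥V) ∈ U' := by
      rintro ⟨_, y, hy, rfl⟩; exact hy
    let φ : U → U' := fun x => ⟨⟨x.1, hmemV x⟩, hmemU' x⟩
    have hφ : Function.Bijective φ := by
      constructor
      · intro a b hab
        apply Subtype.ext
        exact congrArg (fun z : U' => (z.1.1 : S)) hab
      · intro z
        exact ⟨⟨z.1.1, z.1, z.2, rfl⟩, rfl⟩
    have hsp : ∀ a b : U, a ⤳ b ↔ φ a ⤳ φ b := by
      intro a b
      exact (subtype_specializes_iff a b).trans
        ((subtype_specializes_iff (φ a) (φ b)).trans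
          (subtype_specializes_iff (φ a).1 (φ b).1)).symm
    exact ⟨U, ⟨⟨s, hsV⟩, hsU', rfl⟩, δ ∘ φ, isDimensionFunction_comp φ hφ hsp δ hδ⟩
  · intro h
    apply isCatenarySpace_of_local
    intro s
    obtain ⟨U, hs, δ, hδ⟩ := h s
    have : QuasiSober ↥U := U.isOpenEmbedding'.quasiSober
    exact ⟨U, hs, isCat_of_isDimensionFunction δ hδ⟩

end Scheme

section RingCond

variable {P Q : Type*} [PartialOrder P] [PartialOrder Q]

/-- the ring-style catenary condition on a poset -/
def RC (P : Type*) [PartialOrder P] : Prop :=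
  (∀ p q : P, p ≤ q → ∃ n : ℕ, ∀ s : LTSeries P, s.head = p → s.last = q → s.length ≤ n) ∧
  ∀ s t : LTSeries P, s.head = t.head → s.last = t.last →
    (∀ i : Fin s.length, s (Fin.castSucc i) ⋖ s (Fin.succ i)) →
    (∀ i : Fin t.length, t (Fin.castSucc i) ⋖ t (Fin.succ i)) →
    s.length = t.length

lemma isCat_iff_RC : IsCat P ↔ RC P := by
  constructor
  · intro h
    refine ⟨fun p q hpq => ⟨(cd p q).toNat, fun s h1 h2 => ?_⟩, fun s t h1 h2 hs ht => ?_⟩
    · have hfin := (h p q hpq).1
      have := le_cd s h1 h2.le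
      rw [← ENat.natCast_le_natCast, ENat.natCast_toNat hfin]
      exact this
    · have hle : s.head ≤ s.last := LTSeries.head_le_last s
      have e1 := (h _ _ hle).2 s rfl rfl hs
      have e2 := (h _ _ hle).2 t h1.symm h2.symm ht
      rw [← e2] at e1
      exact_mod_cast e1
  · rintro ⟨hb, heq⟩ a b hab
    obtain ⟨n, hn⟩ := hb a b hab
    have hfin : cd a b ≠ ⊤ := by
      have : cd a b ≤ (n : ℕ∞) := by
        refine cd_le fun s h1 h2 => ?_
        rcases eq_or_lt_of_le h2 with h3 | h3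
        · exact_mod_cast hn s h1 h3
        · have := hn (s.snoc b h3) (by simp [h1]) (by simp)
          rw [RelSeries.snoc_length] at this
          have : s.length ≤ n := by omega
          exact_mod_cast this
      exact ne_top_of_le_ne_top (ENat.natCast_ne_top n) this
    refine ⟨hfin, fun s h1 h2 hs => ?_⟩
    obtain ⟨s', h1', h2', h3', h4'⟩ := exists_saturated hab hfin
    rw [← h3', heq s s' (h1.trans h1'.symm) (h2.trans h2'.symm) hs h4']

/-- transfer of the ring-style condition along an order-reversing bijection -/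
lemma RC_of_anti (g : P → Q) (hg : Function.Bijective g) (hlt : ∀ a b : P, a < b ↔ g b < g a)
    (h : RC Q) : RC P := by
  have hle : ∀ a b : P, a ≤ b ↔ g b ≤ g a := by
    intro a b
    rw [le_iff_lt_or_eq, le_iff_lt_or_eq, hlt a b]
    constructor
    · rintro (h1 | h1)
      · exact Or.inl h1
      · exact Or.inr (by rw [h1])
    · rintro (h1 | h1)
      · exact Or.inl h1
      · exact Or.inr (hg.1 h1).symm
  have hcov : ∀ a b : P, a ⋖ b → g b ⋖ g a := by
    intro a b hab
    refine ⟨(hlt a b).mp hab.lt, fun c hc1 hc2 => ?_⟩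
    obtain ⟨c', rfl⟩ := hg.2 c
    exact hab.2 ((hlt _ _).mpr hc2) ((hlt _ _).mpr hc1)
  let rev : LTSeries P → LTSeries Q := fun s =>
    LTSeries.mk s.length (fun i => g (s i.rev)) (fun i j hij =>
      (hlt _ _).mp (s.strictMono (Fin.rev_lt_rev.mpr hij)))
  have hrev_len : ∀ s, (rev s).length = s.length := fun s => rfl
  have hrev_head : ∀ s, (rev s).head = g s.last := fun s => by
    change g (s (Fin.rev 0)) = g s.last
    rw [Fin.rev_zero]; rfl
  have hrev_last : ∀ s, (rev s).last = g s.head := fun s => by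
    change g (s (Fin.rev (Fin.last _))) = g s.head
    rw [Fin.rev_last]; rfl
  have hrev_sat : ∀ s : LTSeries P, (∀ i : Fin s.length, s (Fin.castSucc i) ⋖ s (Fin.succ i)) →
      ∀ i : Fin (rev s).length, (rev s) (Fin.castSucc i) ⋖ (rev s) (Fin.succ i) := by
    intro s hs i
    change g (s (Fin.rev (Fin.castSucc i))) ⋖ g (s (Fin.rev (Fin.succ i)))
    rw [Fin.rev_castSucc, Fin.rev_succ]
    exact hcov _ _ (hs i.rev)
  refine ⟨fun p q hpq => ?_, fun s t h1 h2 hs ht => ?_⟩
  · obtain ⟨n, hn⟩ := h.1 (g q) (g p) ((hle p q).mp hpq)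
    refine ⟨n, fun s h1 h2 => ?_⟩
    have := hn (rev s) (by rw [hrev_head, h2]) (by rw [hrev_last, h1])
    exact this
  · have := h.2 (rev s) (rev t) (by rw [hrev_head, hrev_head, h2]) (by rw [hrev_last, hrev_last, h1])
      (hrev_sat s hs) (hrev_sat t ht)
    exact this

end RingCond

section Affine

open AlgebraicGeometry

/-- order embedding of irreducible closed sets along an open embedding -/
def embOpen {Y Y' : Type*} [TopologicalSpace Y] [TopologicalSpace Y'] (j : Y → Y')
    (hj : Topology.IsOpenEmbedding j) : IrreducibleCloseds Y ↪o IrreducibleCloseds Y' :=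
  (IrreducibleCloseds.orderIsoOfIsOpenEmbedding j hj).toOrderEmbedding.trans
    (OrderEmbedding.subtype _)

lemma range_embOpen {Y Y' : Type*} [TopologicalSpace Y] [TopologicalSpace Y'] (j : Y → Y')
    (hj : Topology.IsOpenEmbedding j) :
    Set.range (embOpen j hj) = {V : IrreducibleCloseds Y' | (j ⁻¹' (V : Set Y')).Nonempty} := by
  ext V
  constructor
  · rintro ⟨a, rfl⟩
    exact ((IrreducibleCloseds.orderIsoOfIsOpenEmbedding j hj) a).2
  · intro hV
    exact ⟨(IrreducibleCloseds.orderIsoOfIsOpenEmbedding j hj).symm ⟨V, hV⟩, by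
      simp [embOpen]⟩

lemma ordConnected_range_embOpen {Y Y' : Type*} [TopologicalSpace Y] [TopologicalSpace Y']
    (j : Y → Y') (hj : Topology.IsOpenEmbedding j) : (Set.range (embOpen j hj)).OrdConnected := by
  rw [range_embOpen]
  apply IsUpperSet.ordConnected
  intro V V' hVV' hV
  obtain ⟨y, hy⟩ := hV
  exact ⟨y, hVV' hy⟩

lemma isCatenarySpace_of_homeo {Y Y' : Type u} [TopologicalSpace Y] [TopologicalSpace Y']
    (h : Y ≃ₜ Y') (hY' : PtTop.IsCatenarySpace Y') : PtTop.IsCatenarySpace Y :=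
  isCat_of_embedding (embOpen h h.isOpenEmbedding) (ordConnected_range_embOpen h h.isOpenEmbedding)
    hY'

lemma isCatenarySpace_primeSpectrum_iff (R : Type u) [CommRing R] :
    PtTop.IsCatenarySpace (PrimeSpectrum R) ↔ CAlg.IsCatenary R := by
  have e := PrimeSpectrum.pointsEquivIrreducibleCloseds R
  change IsCat (IrreducibleCloseds (PrimeSpectrum R)) ↔ RC (PrimeSpectrum R)
  rw [isCat_iff_RC]
  constructor
  · intro h
    refine RC_of_anti (fun p => OrderDual.ofDual (e p)) ?_ ?_ h
    · exact (OrderDual.ofDual.bijective).comp e.bijective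
    · intro a b
      rw [← e.lt_iff_lt]
      exact Iff.rfl
  · intro h
    refine RC_of_anti (fun V => e.symm (OrderDual.toDual V)) ?_ ?_ h
    · exact e.symm.bijective.comp (OrderDual.toDual.bijective)
    · intro a b
      rw [e.symm.lt_iff_lt]
      exact Iff.rfl

theorem affine_iff (S : Scheme.{u}) (U : S.Opens) (hU : IsAffineOpen U) :
    PtTop.IsCatenarySpace ↥U ↔ CAlg.IsCatenary Γ(S, U) := by
  rw [← isCatenarySpace_primeSpectrum_iff]
  have h : ↥U ≃ₜ PrimeSpectrum Γ(S, U) := Scheme.homeoOfIso hU.isoSpec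
  exact ⟨fun h1 => isCatenarySpace_of_homeo h.symm h1, fun h1 => isCatenarySpace_of_homeo h h1⟩

theorem affine_main (S : Scheme.{u}) :
    (PtTop.IsCatenarySpace S ↔ ∀ U : S.affineOpens, CAlg.IsCatenary Γ(S, U)) ∧
    (PtTop.IsCatenarySpace S ↔
      ∀ s : S, ∃ U : S.affineOpens, s ∈ (U : S.Opens) ∧ CAlg.IsCatenary Γ(S, U)) := by
  have h12 : PtTop.IsCatenarySpace S → ∀ U : S.affineOpens, CAlg.IsCatenary Γ(S, U) := by
    intro hS U
    rw [← affine_iff S U.1 U.2]
    exact isCatenarySpace_of_isLocallyClosed hS (S := ((U : S.Opens) : Set S))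
      (U : S.Opens).isOpen.isLocallyClosed
  have h23 : (∀ U : S.affineOpens, CAlg.IsCatenary Γ(S, U)) →
      ∀ s : S, ∃ U : S.affineOpens, s ∈ (U : S.Opens) ∧ CAlg.IsCatenary Γ(S, U) := by
    intro h s
    obtain ⟨V, hVaff, hsV, -⟩ := exists_isAffineOpen_mem_and_subset (x := s) (U := ⊤) trivial
    exact ⟨⟨V, hVaff⟩, hsV, h ⟨V, hVaff⟩⟩
  have h31 : (∀ s : S, ∃ U : S.affineOpens, s ∈ (U : S.Opens) ∧ CAlg.IsCatenary Γ(S, U)) →
      PtTop.IsCatenarySpace S := by
    intro h
    apply isCatenarySpace_of_local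
    intro s
    obtain ⟨U, hsU, hU⟩ := h s
    exact ⟨U.1, hsU, (affine_iff S U.1 U.2).mpr hU⟩
  exact ⟨⟨h12, fun h => h31 (h23 h)⟩, ⟨fun h => h23 (h12 h), h31⟩⟩

end Affine

section Stalk

open AlgebraicGeometry

/-- order embedding of irreducible closed sets along an inducing map -/
def embInd {Y Y' : Type*} [TopologicalSpace Y] [TopologicalSpace Y'] (j : Y → Y')
    (hj : Topology.IsInducing j) : IrreducibleCloseds Y ↪o IrreducibleCloseds Y' :=
  OrderEmbedding.ofMapLEIff (IrreducibleCloseds.map j hj.continuous)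
    (fun a b => by
      refine ⟨fun hle => ?_, fun hle => IrreducibleCloseds.map_mono hj.continuous hle⟩
      have h1 := Set.preimage_mono (f := j) hle
      simp only [IrreducibleCloseds.coe_map] at h1
      rw [← hj.closure_eq_preimage_closure_image, ← hj.closure_eq_preimage_closure_image,
        a.isClosed.closure_eq, b.isClosed.closure_eq] at h1
      exact h1)

lemma coe_embInd {Y Y' : Type*} [TopologicalSpace Y] [TopologicalSpace Y'] (j : Y → Y')
    (hj : Topology.IsInducing j) (a : IrreducibleCloseds Y) :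
    (embInd j hj a : Set Y') = closure (j '' (a : Set Y)) := rfl

lemma range_embStalk (X : Scheme.{u}) (x : X) :
    Set.range (embInd (X.fromSpecStalk x) (X.fromSpecStalk x).isEmbedding.isInducing)
      = {Z : IrreducibleCloseds X | x ∈ (Z : Set X)} := by
  ext Z
  constructor
  · rintro ⟨V, rfl⟩
    change x ∈ ((embInd (X.fromSpecStalk x) (X.fromSpecStalk x).isEmbedding.isInducing V :
      IrreducibleCloseds X) : Set X)
    rw [coe_embInd]
    apply subset_closure
    obtain ⟨p, hp⟩ := V.isIrreducible.nonempty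
    have hsp : @Specializes (Spec (X.presheaf.stalk x)) _ p
        (IsLocalRing.closedPoint (X.presheaf.stalk x)) :=
      IsLocalRing.specializes_closedPoint (R := X.presheaf.stalk x) p
    have hcl := hsp.mem_closed V.isClosed hp
    exact ⟨_, hcl, Scheme.fromSpecStalk_closedPoint⟩
  · intro hx
    have hgen : gp Z ⤳ x := by
      rw [← cl_le_cl, cl_gp]
      exact cl_le_of_mem x Z hx
    have hmem : gp Z ∈ Set.range (X.fromSpecStalk x) := by
      rw [Scheme.range_fromSpecStalk]; exact hgen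
    obtain ⟨p, hp⟩ := hmem
    refine ⟨cl p, ?_⟩
    apply IrreducibleCloseds.ext
    rw [coe_embInd, coe_cl, closure_image_closure (X.fromSpecStalk x).continuous,
      Set.image_singleton, hp, closure_gp]

lemma ordConnected_range_embStalk (X : Scheme.{u}) (x : X) :
    (Set.range (embInd (X.fromSpecStalk x)
      (X.fromSpecStalk x).isEmbedding.isInducing)).OrdConnected := by
  rw [range_embStalk]
  apply IsUpperSet.ordConnected
  intro V V' hVV' hV
  exact hVV' hV

theorem stalk_main (X : Scheme.{u}) :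
    PtTop.IsCatenarySpace X ↔ ∀ x : X, CAlg.IsCatenary (X.presheaf.stalk x) := by
  constructor
  · intro hX x
    rw [← isCatenarySpace_primeSpectrum_iff]
    exact isCat_of_embedding _ (ordConnected_range_embStalk X x) hX
  · intro h T T' hTT'
    obtain ⟨x, hx⟩ := T.isIrreducible.nonempty
    have hx' : x ∈ (T' : Set X) := hTT' hx
    have hT : T ∈ Set.range (embInd (X.fromSpecStalk x)
        (X.fromSpecStalk x).isEmbedding.isInducing) := by
      rw [range_embStalk]; exact hx
    have hT' : T' ∈ Set.range (embInd (X.fromSpecStalk x)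
        (X.fromSpecStalk x).isEmbedding.isInducing) := by
      rw [range_embStalk]; exact hx'
    obtain ⟨a, ha⟩ := hT
    obtain ⟨b, hb⟩ := hT'
    have hab : a ≤ b := by
      rw [← (embInd (X.fromSpecStalk x) (X.fromSpecStalk x).isEmbedding.isInducing).le_iff_le,
        ha, hb]
      exact hTT'
    have hcat : PtTop.IsCatenarySpace (PrimeSpectrum (X.presheaf.stalk x)) :=
      (isCatenarySpace_primeSpectrum_iff _).mpr (h x)
    have h1 : CatPair a b := hcat a b hab
    have h2 := catPair_map _ (ordConnected_range_embStalk X x) h1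
    rw [ha, hb] at h2
    exact h2

end Stalk

end Groth.Agent.Lib.Helper6.Caten
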