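import Groth.Prelude.Def_W4c2conddiscmodels
import Mathlib

/-!
# Contraction of a connecting chain in a multigraph with multiplicity function

Helper library for S14800 / S14801 / S14802.
-/

set_option autoImplicit false
set_option linter.unusedSectionVars false
universe u
open Finset LabGraph DualGr

namespace Groth.Agent.Lib.Helper6.ChainCtr

section Basic

variable {V E : Type u} [Fintype V] [Fintype E] [DecidableEq V] [DecidableEq E]
variable (ends : E → V × V) (β : V → ℤ)

omit [Fintype V] in
theorem edgeMult_comm (v w : V) : edgeMult ends v w = edgeMult ends w v := by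
  unfold edgeMult
  congr 1
  ext e
  simp only [mem_filter, mem_univ, true_and]
  exact Or.comm

omit [Fintype V] in
theorem edgeMult_eq_sum (v w : V) :
    (edgeMult ends v w : ℤ) = ∑ e : E, if ends e = (v, w) ∨ ends e = (w, v) then 1 else 0 := by
  unfold edgeMult
  rw [card_filter]
  push_cast
  rfl

/-- Edge-sum formula for weighted neighbour sums. -/
theorem sum_erase_edgeMult (v : V) (g : V → ℤ) :
    ∑ w ∈ univ.erase v, g w * (edgeMult ends v w : ℤ) =
      ∑ e : E, ((if (ends e).1 = v ∧ (ends e).2 ≠ v then g (ends e).2 else 0) +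
        (if (ends e).2 = v ∧ (ends e).1 ≠ v then g (ends e).1 else 0)) := by
  simp_rw [edgeMult_eq_sum, mul_sum]
  rw [sum_comm]
  refine sum_congr rfl fun e _ => ?_
  have key : ∀ w ∈ univ.erase v, g w * (if ends e = (v, w) ∨ ends e = (w, v) then (1 : ℤ) else 0) =
      (if (ends e).2 = w then (if (ends e).1 = v ∧ (ends e).2 ≠ v then g (ends e).2 else 0) else 0) +
      (if (ends e).1 = w then (if (ends e).2 = v ∧ (ends e).1 ≠ v then g (ends e).1 else 0) else 0) := by
    intro w hw
    have hwv : w ≠ v := (mem_erase.mp hw).1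
    rcases hE : ends e with ⟨a, b⟩
    simp only [Prod.mk.injEq]
    by_cases h1 : a = v <;> by_cases h2 : b = w <;> by_cases h3 : a = w <;> by_cases h4 : b = v <;>
      simp_all
  rw [sum_congr rfl key, sum_add_distrib]
  congr 1
  · by_cases h : (ends e).1 = v ∧ (ends e).2 ≠ v
    · rw [sum_ite_eq]
      simp [h]
    · simp [h]
  · by_cases h : (ends e).2 = v ∧ (ends e).1 ≠ v
    · rw [sum_ite_eq]
      simp [h]
    · simp [h]

variable {ends β}

theorem mfMatrix_off {v w : V} (h : v ≠ w) : mfMatrix ends β v w = (edgeMult ends v w : ℤ) := by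
  simp [mfMatrix, h]

theorem mfMatrix_diag (hβ : IsMultFn ends β) (v : V) :
    β v * mfMatrix ends β v v = -∑ u ∈ univ.erase v, β u * (edgeMult ends v u : ℤ) := by
  simp only [mfMatrix, if_true]
  exact Int.mul_ediv_cancel' ((dvd_neg).mpr (hβ v).2)

theorem mfMatrix_symm (v w : V) : mfMatrix ends β v w = mfMatrix ends β w v := by
  by_cases h : v = w
  · subst h; rfl
  · rw [mfMatrix_off h, mfMatrix_off (Ne.symm h), edgeMult_comm]

theorem mfMatrix_transpose : (mfMatrix ends β).transpose = mfMatrix ends β := by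
  ext v w
  exact mfMatrix_symm w v

/-- The edge-sum formula for `β v * (α y) v`. -/
theorem beta_mul_mulVec (hβ : IsMultFn ends β) (y : V → ℤ) (v : V) :
    β v * (mfMatrix ends β).mulVec y v =
      ∑ e : E, ((if (ends e).1 = v then β v * y (ends e).2 - β (ends e).2 * y v else 0) +
        (if (ends e).2 = v then β v * y (ends e).1 - β (ends e).1 * y v else 0)) := by
  have h1 : (mfMatrix ends β).mulVec y v =
      mfMatrix ends β v v * y v + ∑ w ∈ univ.erase v, (edgeMult ends v w : ℤ) * y w := by
    rw [Matrix.mulVec, dotProduct, ← add_sum_erase _ _ (mem_univ v)]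
    congr 1
    refine sum_congr rfl fun w hw => ?_
    rw [mfMatrix_off (Ne.symm (mem_erase.mp hw).1)]
  rw [h1, mul_add, ← mul_assoc, mfMatrix_diag hβ, neg_mul, sum_mul, mul_sum, ← sub_eq_neg_add,
    ← sum_sub_distrib]
  have h2 : ∀ w ∈ univ.erase v, β v * ((edgeMult ends v w : ℤ) * y w) - β w * (edgeMult ends v w : ℤ) * y v =
      (β v * y w - β w * y v) * (edgeMult ends v w : ℤ) := by
    intro w _; ring
  rw [sum_congr rfl h2, sum_erase_edgeMult ends v (fun w => β v * y w - β w * y v)]
  refine sum_congr rfl fun e _ => ?_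
  congr 1
  · by_cases h : (ends e).1 = v
    · by_cases h' : (ends e).2 = v
      · simp [h, h']
      · simp [h, h']
    · simp [h]
  · by_cases h : (ends e).2 = v
    · by_cases h' : (ends e).1 = v
      · simp [h, h']
      · simp [h, h']
    · simp [h]

theorem mulVec_beta (hβ : IsMultFn ends β) : (mfMatrix ends β).mulVec β = 0 := by
  funext v
  have h := beta_mul_mulVec hβ β v
  have h0 : ∑ e : E, ((if (ends e).1 = v then β v * β (ends e).2 - β (ends e).2 * β v else 0) +
        (if (ends e).2 = v then β v * β (ends e).1 - β (ends e).1 * β v else 0)) = 0 := by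
    refine sum_eq_zero fun e _ => ?_
    have e1 : β v * β (ends e).2 - β (ends e).2 * β v = 0 := by ring
    have e2 : β v * β (ends e).1 - β (ends e).1 * β v = 0 := by ring
    simp [e1, e2]
  rw [h0] at h
  rcases mul_eq_zero.mp h with h | h
  · exact absurd h (hβ v).1.ne'
  · simpa using h

end Basic

section Contract

variable {V E : Type u} [Fintype V] [Fintype E] [DecidableEq V] [DecidableEq E]
variable {V' E' : Type u} [Fintype V'] [Fintype E'] [DecidableEq V'] [DecidableEq E']

/-- Abstract contraction data: `π` on vertices, `ι` embedding the surviving edges. -/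
structure IsCtr (ends : E → V × V) (β : V → ℤ) (ends' : E' → V' × V') (β' : V' → ℤ)
    (π : V → V') (ι : E' → E) : Prop where
  inj : Function.Injective ι
  surj : Function.Surjective π
  ends_eq : ∀ e', ends' e' = (π (ends (ι e')).1, π (ends (ι e')).2)
  loop : ∀ e, e ∉ Set.range ι → π (ends e).1 = π (ends e).2
  beta_eq : ∀ v, β' (π v) = β v

variable {ends : E → V × V} {β : V → ℤ} {ends' : E' → V' × V'} {β' : V' → ℤ}
  {π : V → V'} {ι : E' → E}

theorem IsCtr.sum_comp (h : IsCtr ends β ends' β' π ι) (G : E → ℤ)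
    (hG : ∀ e, π (ends e).1 = π (ends e).2 → G e = 0) :
    ∑ e' : E', G (ι e') = ∑ e : E, G e := by
  rw [← sum_image (f := G) (g := ι) (s := univ) (fun a _ b _ hab => h.inj hab)]
  refine sum_subset (subset_univ _) fun e _ he => ?_
  refine hG e (h.loop e ?_)
  rintro ⟨e', rfl⟩
  exact he (mem_image_of_mem _ (mem_univ _))

/-- The multiplicity function property passes to the contraction. -/
theorem IsCtr.isMultFn (h : IsCtr ends β ends' β' π ι) (hβ : IsMultFn ends β) :
    IsMultFn ends' β' := by
  intro c
  obtain ⟨u₀, rfl⟩ := h.surj c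
  refine ⟨by rw [h.beta_eq]; exact (hβ u₀).1, ?_⟩
  rw [sum_erase_edgeMult ends' (π u₀) β']
  set c := π u₀ with hc
  -- rewrite as a sum over `E`
  have e1 : ∑ e' : E', ((if (ends' e').1 = c ∧ (ends' e').2 ≠ c then β' (ends' e').2 else 0) +
        (if (ends' e').2 = c ∧ (ends' e').1 ≠ c then β' (ends' e').1 else 0)) =
      ∑ e : E, ((if π (ends e).1 = c ∧ π (ends e).2 ≠ c then β (ends e).2 else 0) +
        (if π (ends e).2 = c ∧ π (ends e).1 ≠ c then β (ends e).1 else 0)) := by
    rw [← h.sum_comp (fun e => (if π (ends e).1 = c ∧ π (ends e).2 ≠ c then β (ends e).2 else 0) +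
        (if π (ends e).2 = c ∧ π (ends e).1 ≠ c then β (ends e).1 else 0))]
    · refine sum_congr rfl fun e' _ => ?_
      simp only [h.ends_eq, h.beta_eq]
    · intro e he
      have : ¬ (π (ends e).1 = c ∧ π (ends e).2 ≠ c) := fun hh => hh.2 (he ▸ hh.1)
      have : ¬ (π (ends e).2 = c ∧ π (ends e).1 ≠ c) := fun hh => hh.2 (he.symm ▸ hh.1)
      simp [*]
  rw [e1]
  -- the sum over the class of the divisible sums
  have e2 : β' c ∣ ∑ u ∈ univ.filter (fun u => π u = c),
      ∑ w ∈ univ.erase u, β w * (edgeMult ends u w : ℤ) := by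
    refine dvd_sum fun u hu => ?_
    have : β' c = β u := by rw [← (mem_filter.mp hu).2, h.beta_eq]
    rw [this]
    exact (hβ u).2
  have e3 : ∑ u ∈ univ.filter (fun u => π u = c), ∑ w ∈ univ.erase u, β w * (edgeMult ends u w : ℤ) =
      ∑ e : E, ((if π (ends e).1 = c ∧ (ends e).2 ≠ (ends e).1 then β (ends e).2 else 0) +
        (if π (ends e).2 = c ∧ (ends e).1 ≠ (ends e).2 then β (ends e).1 else 0)) := by
    simp_rw [sum_erase_edgeMult ends _ β]
    rw [sum_comm]
    refine sum_congr rfl fun e _ => ?_
    rw [sum_add_distrib]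
    congr 1
    · have : ∀ u ∈ univ.filter (fun u => π u = c),
          (if (ends e).1 = u ∧ (ends e).2 ≠ u then β (ends e).2 else 0) =
          if (ends e).1 = u then (if (ends e).2 ≠ (ends e).1 then β (ends e).2 else 0) else 0 := by
        intro u _
        by_cases hu : (ends e).1 = u
        · subst hu; simp
        · simp [hu]
      rw [sum_congr rfl this, sum_ite_eq]
      by_cases h1 : π (ends e).1 = c <;> by_cases h2 : (ends e).2 = (ends e).1 <;> simp [h1, h2]
    · have : ∀ u ∈ univ.filter (fun u => π u = c),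
          (if (ends e).2 = u ∧ (ends e).1 ≠ u then β (ends e).1 else 0) =
          if (ends e).2 = u then (if (ends e).1 ≠ (ends e).2 then β (ends e).1 else 0) else 0 := by
        intro u _
        by_cases hu : (ends e).2 = u
        · subst hu; simp
        · simp [hu]
      rw [sum_congr rfl this, sum_ite_eq]
      by_cases h1 : π (ends e).2 = c <;> by_cases h2 : (ends e).1 = (ends e).2 <;> simp [h1, h2]
  rw [e3] at e2
  have e4 : ∑ e : E, ((if π (ends e).1 = c ∧ (ends e).2 ≠ (ends e).1 then β (ends e).2 else 0) +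
        (if π (ends e).2 = c ∧ (ends e).1 ≠ (ends e).2 then β (ends e).1 else 0)) =
      ∑ e : E, ((if π (ends e).1 = c ∧ π (ends e).2 ≠ c then β (ends e).2 else 0) +
        (if π (ends e).2 = c ∧ π (ends e).1 ≠ c then β (ends e).1 else 0)) +
      ∑ e : E, (if π (ends e).1 = c ∧ π (ends e).2 = c ∧ (ends e).1 ≠ (ends e).2 then 2 * β' c else 0) := by
    rw [← sum_add_distrib]
    refine sum_congr rfl fun e _ => ?_
    have b1 : π (ends e).1 = c → β (ends e).1 = β' c := fun hh => by rw [← hh, h.beta_eq]
    have b2 : π (ends e).2 = c → β (ends e).2 = β' c := fun hh => by rw [← hh, h.beta_eq]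
    generalize (ends e).1 = a at *
    generalize (ends e).2 = b at *
    by_cases h3 : a = b
    · subst h3
      by_cases h1 : π a = c <;> simp [h1]
    · have h3' : ¬ b = a := fun hh => h3 hh.symm
      by_cases h1 : π a = c <;> by_cases h2 : π b = c
      · simp [h1, h2, h3, h3', b1 h1, b2 h2]; ring
      · simp [h1, h2, h3, h3']
      · simp [h1, h2, h3, h3']
      · simp [h1, h2, h3, h3']
  rw [e4] at e2
  refine (dvd_add_left ?_).mp e2
  refine dvd_sum fun e _ => ?_
  split_ifs
  · exact Dvd.intro_left 2 rfl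
  · exact dvd_zero _

/-- The contraction identity: `α' y' = pushV (α (y' ∘ π))`. -/
theorem IsCtr.mulVec_eq (h : IsCtr ends β ends' β' π ι) (hβ : IsMultFn ends β)
    (y' : V' → ℤ) (c : V') :
    (mfMatrix ends' β').mulVec y' c =
      ∑ u ∈ univ.filter (fun u => π u = c), (mfMatrix ends β).mulVec (y' ∘ π) u := by
  have hβ' := h.isMultFn hβ
  have hpos : β' c ≠ 0 := (hβ' c).1.ne'
  refine mul_left_cancel₀ hpos ?_
  rw [beta_mul_mulVec hβ', mul_sum]
  have e1 : ∀ u ∈ univ.filter (fun u => π u = c),
      β' c * (mfMatrix ends β).mulVec (y' ∘ π) u = β u * (mfMatrix ends β).mulVec (y' ∘ π) u := by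
    intro u hu
    rw [← (mem_filter.mp hu).2, h.beta_eq]
  rw [sum_congr rfl e1]
  simp_rw [beta_mul_mulVec hβ]
  rw [sum_comm]
  set G : E → ℤ := fun e =>
    (if π (ends e).1 = c then β (ends e).1 * y' (π (ends e).2) - β (ends e).2 * y' (π (ends e).1) else 0) +
    (if π (ends e).2 = c then β (ends e).2 * y' (π (ends e).1) - β (ends e).1 * y' (π (ends e).2) else 0)
    with hG
  have e2 : ∑ e' : E', ((if (ends' e').1 = c then β' c * y' (ends' e').2 - β' (ends' e').2 * y' c else 0) +
      (if (ends' e').2 = c then β' c * y' (ends' e').1 - β' (ends' e').1 * y' c else 0)) =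
      ∑ e' : E', G (ι e') := by
    refine sum_congr rfl fun e' _ => ?_
    simp only [hG, h.ends_eq, h.beta_eq]
    congr 1
    · by_cases h1 : π (ends (ι e')).1 = c
      · simp only [h1, if_true]
        rw [← h1, h.beta_eq]
      · simp [h1]
    · by_cases h1 : π (ends (ι e')).2 = c
      · simp only [h1, if_true]
        rw [← h1, h.beta_eq]
      · simp [h1]
  rw [e2, h.sum_comp G]
  · refine sum_congr rfl fun e _ => ?_
    rw [sum_add_distrib]
    simp only [hG, Function.comp]
    congr 1
    · rw [sum_ite_eq]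
      simp
    · rw [sum_ite_eq]
      simp
  · intro e he
    have b : β (ends e).1 = β (ends e).2 := by rw [← h.beta_eq, he, h.beta_eq]
    simp only [hG, he, b]
    split_ifs <;> ring

end Contract

section Concrete

variable {V E : Type u} [Fintype V] [Fintype E] [DecidableEq V] [DecidableEq E]
variable {ends : E → V × V} {β : V → ℤ}

theorem isCtr_ctr (D : Finset E)
    (hcl : ∀ u w, ctrMk ends D u = ctrMk ends D w → β u = β w) :
    IsCtr ends β (ctrEnds ends D) (ctrFn ends D β) (ctrMk ends D) (Subtype.val : CtrEdge D → E) where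
  inj := Subtype.val_injective
  surj := ctrMk_surjective ends D
  ends_eq := fun _ => rfl
  loop := fun e he => by
    have : e ∈ D := by
      by_contra h
      exact he ⟨⟨e, h⟩, rfl⟩
    exact ctrMk_fst_eq_ctrMk_snd ends D this
  beta_eq := fun v => by
    unfold ctrFn
    apply hcl
    exact Quotient.out_eq _

/-- Concrete contraction identity in terms of `pushV`. -/
theorem mulVec_ctr (D : Finset E) (hβ : IsMultFn ends β)
    (hcl : ∀ u w, ctrMk ends D u = ctrMk ends D w → β u = β w)
    (y' : CtrVert ends D → ℤ) :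
    (mfMatrix (ctrEnds ends D) (ctrFn ends D β)).mulVec y' =
      pushV ends D ((mfMatrix ends β).mulVec (y' ∘ ctrMk ends D)) := by
  funext c
  rw [(isCtr_ctr D hcl).mulVec_eq hβ y' c]
  rfl

section Chain

variable {k : ℕ} {f : Fin (k + 1) → V} {e : Fin k → E}

theorem chain_ctrMk (hC : IsChain ends f e) (i : Fin (k + 1)) :
    ctrMk ends (univ.image e) (f i) = ctrMk ends (univ.image e) (f 0) := by
  induction i using Fin.induction with
  | zero => rfl
  | succ i ih =>
    rw [← ih]
    have he : e i ∈ univ.image e := mem_image_of_mem _ (mem_univ _)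
    have h := ctrMk_fst_eq_ctrMk_snd ends (univ.image e) he
    rcases hC.2.2 i with h' | h'
    · rw [h'] at h; exact h.symm
    · rw [h'] at h; exact h

theorem ctrMk_eq_iff (hC : IsChain ends f e) (u w : V) :
    ctrMk ends (univ.image e) u = ctrMk ends (univ.image e) w ↔
      u = w ∨ (u ∈ Set.range f ∧ w ∈ Set.range f) := by
  constructor
  · intro h
    have h' : Relation.EqvGen (CtrRel ends (univ.image e)) u w := Quotient.exact h
    induction h' with
    | rel a b hab =>
      obtain ⟨e', he', hab⟩ := hab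
      obtain ⟨i, -, rfl⟩ := mem_image.mp he'
      right
      rcases hC.2.2 i with h' | h'
      · rw [h'] at hab
        simp only [Prod.mk.injEq] at hab
        exact ⟨⟨_, hab.1⟩, ⟨_, hab.2⟩⟩
      · rw [h'] at hab
        simp only [Prod.mk.injEq] at hab
        exact ⟨⟨_, hab.1⟩, ⟨_, hab.2⟩⟩
    | refl a => exact Or.inl rfl
    | symm a b _ ih =>
      rcases ih (Quotient.sound (Relation.EqvGen.symm _ _ ‹_›)).symm with h1 | h1
      · exact Or.inl h1.symm
      · exact Or.inr ⟨h1.2, h1.1⟩
    | trans a b c hab hbc ih1 ih2 =>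
      rcases ih1 (Quotient.sound hab) with h1 | h1
      · subst h1; exact ih2 (Quotient.sound hbc)
      · rcases ih2 (Quotient.sound hbc) with h2 | h2
        · subst h2; exact Or.inr h1
        · exact Or.inr ⟨h1.1, h2.2⟩
  · rintro (rfl | ⟨⟨i, rfl⟩, ⟨j, rfl⟩⟩)
    · rfl
    · rw [chain_ctrMk hC i, chain_ctrMk hC j]

/-- S14800 core. -/
theorem isMultFn_ctr_chain (hβ : IsMultFn ends β) (hC : IsChain ends f e)
    (hconst : ∀ i j, β (f i) = β (f j)) :
    IsMultFn (ctrEnds ends (univ.image e)) (ctrFn ends (univ.image e) β) := by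
  refine (isCtr_ctr (univ.image e) ?_).isMultFn hβ
  intro u w h
  rcases (ctrMk_eq_iff hC u w).mp h with rfl | ⟨⟨i, rfl⟩, ⟨j, rfl⟩⟩
  · rfl
  · exact hconst i j

end Chain

end Concrete

end Groth.Agent.Lib.Helper6.ChainCtr
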