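import Groth.Agent.Lib.Helper6.ChainCtr

/-!
# Chains of `(-2)`-vertices with multiplicity `m` and length `m` (helper for S14801 / S14802)
-/

set_option autoImplicit false
set_option linter.unusedSectionVars false
universe u
open Finset LabGraph DualGr

namespace Groth.Agent.Lib.Helper6.ChainCtr

section ChainData

variable {V E : Type u} [Fintype V] [Fintype E] [DecidableEq V] [DecidableEq E]

/-- `ℕ`-indexed chain data. -/
structure ChainData (ends : E → V × V) (β : V → ℤ) (m : ℕ) (fn : ℕ → V) (en : ℕ → E) : Prop where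
  m_pos : 0 < m
  inj : ∀ i j, i ≤ m → j ≤ m → fn i = fn j → i = j
  einj : ∀ i j, i < m → j < m → en i = en j → i = j
  edge : ∀ j, j < m → ends (en j) = (fn j, fn (j + 1)) ∨ ends (en j) = (fn (j + 1), fn j)
  beta : ∀ j, j ≤ m → β (fn j) = m
  diag : ∀ j, j ≤ m → mfMatrix ends β (fn j) (fn j) = -2
  conn : IsConnecting ends (en (m - 1))

variable {ends : E → V × V} {β : V → ℤ} {m : ℕ} {fn : ℕ → V} {en : ℕ → E}

theorem edgeMult_pos_of_edge {v w : V} {e₀ : E} (h : ends e₀ = (v, w) ∨ ends e₀ = (w, v)) :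
    0 < edgeMult ends v w := by
  unfold edgeMult
  exact card_pos.mpr ⟨e₀, by simp [h]⟩

/-- Row of an interior chain vertex. -/
theorem row_interior (hβ : IsMultFn ends β) (cd : ChainData ends β m fn en) {j : ℕ} (hj0 : 0 < j)
    (hjm : j < m) (w : V) :
    mfMatrix ends β (fn j) w =
      (if w = fn (j - 1) then 1 else 0) + (if w = fn (j + 1) then 1 else 0) -
        (if w = fn j then 2 else 0) := by
  have hav : fn (j - 1) ≠ fn j := fun h => by
    have := cd.inj _ _ (by omega) (by omega) h; omega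
  have hbv : fn (j + 1) ≠ fn j := fun h => by
    have := cd.inj _ _ (by omega) (by omega) h; omega
  have hab : fn (j - 1) ≠ fn (j + 1) := fun h => by
    have := cd.inj _ _ (by omega) (by omega) h; omega
  have hsum : ∑ u ∈ univ.erase (fn j), β u * (edgeMult ends (fn j) u : ℤ) = 2 * m := by
    have h := mfMatrix_diag hβ (fn j)
    rw [cd.diag j hjm.le, cd.beta j hjm.le] at h
    linarith
  have ha : fn (j - 1) ∈ univ.erase (fn j) := mem_erase.mpr ⟨hav, mem_univ _⟩
  have hb : fn (j + 1) ∈ (univ.erase (fn j)).erase (fn (j - 1)) :=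
    mem_erase.mpr ⟨hab.symm, mem_erase.mpr ⟨hbv, mem_univ _⟩⟩
  rw [← add_sum_erase _ _ ha, ← add_sum_erase _ _ hb, cd.beta _ (by omega), cd.beta _ (by omega)] at hsum
  have h1 : 0 < edgeMult ends (fn j) (fn (j - 1)) := by
    have := cd.edge (j - 1) (by omega)
    rw [show j - 1 + 1 = j by omega] at this
    exact edgeMult_pos_of_edge this.symm
  have h2 : 0 < edgeMult ends (fn j) (fn (j + 1)) := edgeMult_pos_of_edge (cd.edge j hjm)
  have hR : 0 ≤ ∑ u ∈ ((univ.erase (fn j)).erase (fn (j - 1))).erase (fn (j + 1)),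
      β u * (edgeMult ends (fn j) u : ℤ) :=
    sum_nonneg fun u _ => mul_nonneg (hβ u).1.le (Int.natCast_nonneg _)
  have hm : (0 : ℤ) < m := by exact_mod_cast cd.m_pos
  have h1' : (1 : ℤ) ≤ edgeMult ends (fn j) (fn (j - 1)) := by exact_mod_cast h1
  have h2' : (1 : ℤ) ≤ edgeMult ends (fn j) (fn (j + 1)) := by exact_mod_cast h2
  have hprod : 0 ≤ (m : ℤ) * ((edgeMult ends (fn j) (fn (j - 1)) : ℤ) +
      (edgeMult ends (fn j) (fn (j + 1)) : ℤ) - 2) := mul_nonneg hm.le (by linarith)
  have hR0 : ∑ u ∈ ((univ.erase (fn j)).erase (fn (j - 1))).erase (fn (j + 1)),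
      β u * (edgeMult ends (fn j) u : ℤ) = 0 := by nlinarith
  have hprod0 : (m : ℤ) * ((edgeMult ends (fn j) (fn (j - 1)) : ℤ) +
      (edgeMult ends (fn j) (fn (j + 1)) : ℤ) - 2) = 0 := by nlinarith
  have hsum2 : (edgeMult ends (fn j) (fn (j - 1)) : ℤ) + (edgeMult ends (fn j) (fn (j + 1)) : ℤ) = 2 := by
    rcases mul_eq_zero.mp hprod0 with h | h
    · exact absurd h hm.ne'
    · linarith
  have e1 : (edgeMult ends (fn j) (fn (j - 1)) : ℤ) = 1 := by linarith
  have e2 : (edgeMult ends (fn j) (fn (j + 1)) : ℤ) = 1 := by linarith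
  have hrest : ∀ u, u ≠ fn j → u ≠ fn (j - 1) → u ≠ fn (j + 1) → (edgeMult ends (fn j) u : ℤ) = 0 := by
    intro u hu1 hu2 hu3
    have hmem : u ∈ ((univ.erase (fn j)).erase (fn (j - 1))).erase (fn (j + 1)) :=
      mem_erase.mpr ⟨hu3, mem_erase.mpr ⟨hu2, mem_erase.mpr ⟨hu1, mem_univ _⟩⟩⟩
    have := (sum_eq_zero_iff_of_nonneg
      (fun u _ => mul_nonneg (hβ u).1.le (Int.natCast_nonneg _))).mp hR0 u hmem
    rcases mul_eq_zero.mp this with h | h
    · exact absurd h (hβ u).1.ne'
    · exact h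
  by_cases hw1 : w = fn j
  · subst hw1
    rw [cd.diag j hjm.le]
    simp [hav.symm, hbv.symm]
  · rw [mfMatrix_off (Ne.symm hw1)]
    by_cases hw2 : w = fn (j - 1)
    · subst hw2
      simp [e1, hab, hw1]
    · by_cases hw3 : w = fn (j + 1)
      · subst hw3
        simp [e2, hw1, hw2]
      · simp [hrest w hw1 hw2 hw3, hw1, hw2, hw3]

/-- The side of the last (connecting) edge containing `fn m`. -/
theorem exists_side (cd : ChainData ends β m fn en) :
    ∃ T : Finset V, fn m ∈ T ∧ fn (m - 1) ∉ T ∧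
      ∀ e', e' ≠ en (m - 1) → ((ends e').1 ∈ T ↔ (ends e').2 ∈ T) := by
  obtain ⟨S₀, hS₀⟩ := cd.conn
  have hmpos := cd.m_pos
  have hedge := cd.edge (m - 1) (by omega)
  rw [show m - 1 + 1 = m by omega] at hedge
  have hcross : (fn (m - 1) ∈ S₀ ↔ fn m ∉ S₀) := by
    have := (hS₀ (en (m - 1))).mpr rfl
    rcases hedge with h | h
    · rw [h] at this; exact this
    · rw [h] at this
      simp only at this
      tauto
  refine ⟨univ.filter (fun u => (u ∈ S₀ ↔ fn m ∈ S₀)), by simp, ?_, ?_⟩
  · simp only [mem_filter, mem_univ, true_and]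
    tauto
  · intro e' he'
    have := (not_congr (hS₀ e')).mpr he'
    simp only [mem_filter, mem_univ, true_and]
    tauto

theorem chain_not_mem_side (cd : ChainData ends β m fn en) {T : Finset V}
    (hT2 : fn (m - 1) ∉ T)
    (hT3 : ∀ e', e' ≠ en (m - 1) → ((ends e').1 ∈ T ↔ (ends e').2 ∈ T)) :
    ∀ j, j < m → fn j ∉ T := by
  have key : ∀ d, d < m → fn (m - 1 - d) ∉ T := by
    intro d
    induction d with
    | zero => intro _; simpa using hT2
    | succ d ih =>
      intro hd
      have ih' := ih (by omega)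
      have hne : en (m - 1 - (d + 1)) ≠ en (m - 1) := fun h => by
        have := cd.einj _ _ (by omega) (by omega) h; omega
      have h3 := hT3 _ hne
      have hedge := cd.edge (m - 1 - (d + 1)) (by omega)
      rw [show m - 1 - (d + 1) + 1 = m - 1 - d by omega] at hedge
      rcases hedge with h | h
      · rw [h] at h3; exact fun hh => ih' (h3.mp hh)
      · rw [h] at h3; exact fun hh => ih' (h3.mpr hh)
  intro j hj
  have := key (m - 1 - j) (by omega)
  rwa [show m - 1 - (m - 1 - j) = j by omega] at this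

/-- Edges crossing the side `T`. -/
theorem edgeMult_cross (cd : ChainData ends β m fn en) {T : Finset V}
    (hT1 : fn m ∈ T) (hT2 : fn (m - 1) ∉ T)
    (hT3 : ∀ e', e' ≠ en (m - 1) → ((ends e').1 ∈ T ↔ (ends e').2 ∈ T))
    {u w : V} (hu : u ∈ T) (hw : w ∉ T) :
    edgeMult ends u w = if u = fn m ∧ w = fn (m - 1) then 1 else 0 := by
  have hmpos := cd.m_pos
  have hedge := cd.edge (m - 1) (by omega)
  rw [show m - 1 + 1 = m by omega] at hedge
  have hsub : ∀ e', (ends e' = (u, w) ∨ ends e' = (w, u)) → e' = en (m - 1) := by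
    intro e' he'
    by_contra hne
    have h3 := hT3 e' hne
    rcases he' with h | h
    · rw [h] at h3; exact hw (h3.mp hu)
    · rw [h] at h3; exact hw (h3.mpr hu)
  unfold edgeMult
  split_ifs with hc
  · obtain ⟨rfl, rfl⟩ := hc
    rw [card_eq_one]
    refine ⟨en (m - 1), ?_⟩
    ext e'
    simp only [mem_filter, mem_univ, true_and, mem_singleton]
    constructor
    · exact hsub e'
    · rintro rfl; exact hedge.symm
  · rw [card_eq_zero, filter_eq_empty_iff]
    intro e' _ he'
    have := hsub e' he'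
    subst this
    apply hc
    rcases hedge with h | h <;> rcases he' with h' | h' <;> rw [h] at h' <;>
      simp only [Prod.mk.injEq] at h'
    · obtain ⟨rfl, rfl⟩ := h'; exact absurd hu hT2
    · exact ⟨h'.2.symm, h'.1.symm⟩
    · exact ⟨h'.1.symm, h'.2.symm⟩
    · obtain ⟨rfl, rfl⟩ := h'; exact absurd hu hT2

/-- `α (β · 1_T) = m (δ_{v_{m-1}} - δ_{v_m})`. -/
theorem mulVec_betaT (hβ : IsMultFn ends β) (cd : ChainData ends β m fn en) {T : Finset V}
    (hT1 : fn m ∈ T) (hT2 : fn (m - 1) ∉ T)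
    (hT3 : ∀ e', e' ≠ en (m - 1) → ((ends e').1 ∈ T ↔ (ends e').2 ∈ T)) :
    (mfMatrix ends β).mulVec (fun w => if w ∈ T then β w else 0) =
      fun u => (m : ℤ) * ((if u = fn (m - 1) then 1 else 0) - (if u = fn m then 1 else 0)) := by
  have hmpos := cd.m_pos
  funext u
  by_cases hu : u ∈ T
  · have hne : u ≠ fn (m - 1) := fun h => hT2 (h ▸ hu)
    have h0 : (mfMatrix ends β).mulVec β u = 0 := by rw [mulVec_beta hβ]; rfl
    have : (mfMatrix ends β).mulVec (fun w => if w ∈ T then β w else 0) u =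
        (mfMatrix ends β).mulVec β u -
          ∑ w : V, (if w ∈ T then 0 else mfMatrix ends β u w * β w) := by
      simp only [Matrix.mulVec, dotProduct]
      rw [← sum_sub_distrib]
      refine sum_congr rfl fun w _ => ?_
      split_ifs <;> ring
    rw [this, h0, zero_sub]
    have h2 : ∀ w ∈ (univ : Finset V), (if w ∈ T then 0 else mfMatrix ends β u w * β w) =
        if w = fn (m - 1) then (if u = fn m then (m : ℤ) else 0) else 0 := by
      intro w _
      by_cases hw : w ∈ T
      · have : w ≠ fn (m - 1) := fun h => hT2 (h ▸ hw)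
        simp [hw, this]
      · have huw : u ≠ w := fun h => hw (h ▸ hu)
        rw [if_neg hw, mfMatrix_off huw, edgeMult_cross cd hT1 hT2 hT3 hu hw]
        by_cases h1 : w = fn (m - 1)
        · subst h1
          by_cases h2 : u = fn m
          · simp [h2, cd.beta (m - 1) (by omega)]
          · simp [h2]
        · simp [h1]
    rw [sum_congr rfl h2, sum_ite_eq' univ (fn (m - 1))]
    simp only [mem_univ, if_true, hne, if_false]
    split_ifs <;> ring
  · have hne : u ≠ fn m := fun h => hu (h ▸ hT1)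
    simp only [Matrix.mulVec, dotProduct]
    have h2 : ∀ w ∈ (univ : Finset V), mfMatrix ends β u w * (if w ∈ T then β w else 0) =
        if w = fn m then (if u = fn (m - 1) then (m : ℤ) else 0) else 0 := by
      intro w _
      by_cases hw : w ∈ T
      · have huw : u ≠ w := fun h => hu (h ▸ hw)
        rw [if_pos hw, mfMatrix_off huw, edgeMult_comm, edgeMult_cross cd hT1 hT2 hT3 hw hu]
        by_cases h1 : w = fn m
        · subst h1
          by_cases h2 : u = fn (m - 1)
          · simp [h2, cd.beta m le_rfl]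
          · simp [h2]
        · simp [h1]
      · have : w ≠ fn m := fun h => hw (h ▸ hT1)
        simp [hw, this]
    rw [sum_congr rfl h2, sum_ite_eq' univ (fn m)]
    simp only [mem_univ, if_true, hne, if_false]
    split_ifs <;> ring

/-- Column of an interior chain vertex. -/
theorem col_interior (hβ : IsMultFn ends β) (cd : ChainData ends β m fn en) {j : ℕ} (hj0 : 0 < j)
    (hjm : j < m) :
    (mfMatrix ends β).mulVec (Pi.single (fn j) (1 : ℤ)) =
      Pi.single (fn (j - 1)) (1 : ℤ) + Pi.single (fn (j + 1)) (1 : ℤ) -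
        (2 : ℤ) • Pi.single (fn j) (1 : ℤ) := by
  funext u
  rw [Matrix.mulVec_single_one]
  simp only [Matrix.col_apply, Pi.add_apply, Pi.sub_apply, Pi.smul_apply, Pi.single_apply, smul_eq_mul]
  rw [mfMatrix_symm, row_interior hβ cd hj0 hjm u]
  split_ifs <;> ring

/-- Row of an interior chain vertex applied to a vector. -/
theorem mulVec_interior (hβ : IsMultFn ends β) (cd : ChainData ends β m fn en) {j : ℕ} (hj0 : 0 < j)
    (hjm : j < m) (y : V → ℤ) :
    (mfMatrix ends β).mulVec y (fn j) = y (fn (j - 1)) + y (fn (j + 1)) - 2 * y (fn j) := by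
  simp only [Matrix.mulVec, dotProduct]
  simp_rw [row_interior hβ cd hj0 hjm, sub_mul, add_mul, ite_mul, one_mul, zero_mul]
  rw [sum_sub_distrib, sum_add_distrib, sum_ite_eq' univ, sum_ite_eq' univ, sum_ite_eq' univ]
  simp

theorem tele (g : ℕ → V → ℤ) (k : ℕ) :
    ∑ j ∈ Ico 1 (k + 1), (j : ℤ) • (g (j - 1) + g (j + 1) - (2 : ℤ) • g j) =
      g 0 - ((k : ℤ) + 1) • g k + (k : ℤ) • g (k + 1) := by
  induction k with
  | zero => simp
  | succ k ih =>
    rw [sum_Ico_succ_top (by omega), ih]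
    funext v
    simp only [Pi.add_apply, Pi.sub_apply, Pi.smul_apply, smul_eq_mul, Nat.add_sub_cancel]
    push_cast
    ring

/-- The vector `w₀` with `α w₀ = δ_{v₀} - δ_{v_m}`. -/
noncomputable def w0 (β : V → ℤ) (m : ℕ) (fn : ℕ → V) (T : Finset V) : V → ℤ :=
  (fun w => if w ∈ T then β w else 0) + ∑ j ∈ Ico 1 m, (j : ℤ) • Pi.single (fn j) (1 : ℤ)

theorem mulVec_w0 (hβ : IsMultFn ends β) (cd : ChainData ends β m fn en) {T : Finset V}
    (hT1 : fn m ∈ T) (hT2 : fn (m - 1) ∉ T)
    (hT3 : ∀ e', e' ≠ en (m - 1) → ((ends e').1 ∈ T ↔ (ends e').2 ∈ T)) :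
    (mfMatrix ends β).mulVec (w0 β m fn T) =
      Pi.single (fn 0) (1 : ℤ) - Pi.single (fn m) (1 : ℤ) := by
  have hmpos := cd.m_pos
  obtain ⟨k, rfl⟩ : ∃ k, m = k + 1 := ⟨m - 1, by omega⟩
  unfold w0
  rw [Matrix.mulVec_add, mulVec_betaT hβ cd hT1 hT2 hT3, Matrix.mulVec_sum]
  have h1 : ∀ j ∈ Ico 1 (k + 1), (mfMatrix ends β).mulVec ((j : ℤ) • Pi.single (fn j) (1 : ℤ)) =
      (j : ℤ) • (Pi.single (fn (j - 1)) (1 : ℤ) + Pi.single (fn (j + 1)) (1 : ℤ) -
        (2 : ℤ) • Pi.single (fn j) (1 : ℤ)) := by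
    intro j hj
    rw [mem_Ico] at hj
    rw [Matrix.mulVec_smul, col_interior hβ cd (by omega) (by omega)]
  rw [sum_congr rfl h1, tele (fun j => Pi.single (fn j) (1 : ℤ)) k]
  funext u
  simp only [Pi.add_apply, Pi.sub_apply, Pi.smul_apply, smul_eq_mul, Pi.single_apply,
    Nat.add_sub_cancel]
  push_cast
  split_ifs <;> ring

theorem w0_apply (cd : ChainData ends β m fn en) {T : Finset V}
    (hT1 : fn m ∈ T) (hnot : ∀ j, j < m → fn j ∉ T) (j : ℕ) (hj : j ≤ m) :
    w0 β m fn T (fn j) = j := by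
  have hmpos := cd.m_pos
  have hsum : (∑ i ∈ Ico 1 m, (i : ℤ) • (Pi.single (fn i) (1 : ℤ) : V → ℤ)) (fn j) =
      ∑ i ∈ Ico 1 m, if i = j then (i : ℤ) else 0 := by
    rw [Finset.sum_apply]
    refine sum_congr rfl fun i hi => ?_
    rw [mem_Ico] at hi
    simp only [Pi.smul_apply, Pi.single_apply, smul_eq_mul, mul_ite, mul_one, mul_zero]
    by_cases h : i = j
    · subst h; simp
    · rw [if_neg h, if_neg]
      intro h'
      exact h (cd.inj i j (by omega) hj h'.symm)
  unfold w0
  rw [Pi.add_apply, hsum, sum_ite_eq' (Ico 1 m) j]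
  rcases Nat.lt_or_ge j m with hjm | hjm
  · rw [if_neg (hnot j hjm), zero_add]
    rcases Nat.eq_zero_or_pos j with rfl | hj0
    · simp
    · rw [if_pos (mem_Ico.mpr ⟨hj0, hjm⟩)]
  · obtain rfl : j = m := le_antisymm hj hjm
    rw [if_pos hT1, cd.beta j le_rfl, if_neg (by simp), add_zero]

/-- Vanishing of the interior rows forces `y` to be affine along the chain. -/
theorem affine_of_interior (hβ : IsMultFn ends β) (cd : ChainData ends β m fn en) (y : V → ℤ)
    (hy : ∀ j, 0 < j → j < m → (mfMatrix ends β).mulVec y (fn j) = 0) :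
    ∀ j, j ≤ m → y (fn j) = y (fn 0) + (j : ℤ) * (y (fn 1) - y (fn 0)) := by
  intro j
  induction j using Nat.strong_induction_on with
  | _ j ih =>
    intro hj
    rcases j with _ | _ | j
    · simp
    · simp
    · have h1 := ih (j + 1) (by omega) (by omega)
      have h0 := ih j (by omega) (by omega)
      have := hy (j + 1) (by omega) (by omega)
      rw [mulVec_interior hβ cd (by omega) (by omega)] at this
      simp only [Nat.add_sub_cancel] at this
      rw [show j + 1 + 1 = j + 2 by omega] at this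
      push_cast at h1 ⊢
      linarith

omit [Fintype V] in
theorem single_eq_smul (w : V) (c : ℤ) : (Pi.single w c : V → ℤ) = c • Pi.single w (1 : ℤ) := by
  funext u
  simp [Pi.single_apply]

theorem single_mem_of (hβ : IsMultFn ends β) (cd : ChainData ends β m fn en) {T : Finset V}
    (hT1 : fn m ∈ T) (hT2 : fn (m - 1) ∉ T)
    (hT3 : ∀ e', e' ≠ en (m - 1) → ((ends e').1 ∈ T ↔ (ends e').2 ∈ T))
    (M : Submodule ℤ (V → ℤ)) (hα : ∀ y, (mfMatrix ends β).mulVec y ∈ M)
    (hoff : ∀ u, (∀ j, j ≤ m → fn j ≠ u) → Pi.single u (1 : ℤ) ∈ M)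
    (h0 : Pi.single (fn 0) (1 : ℤ) ∈ M) :
    ∀ d, d ≤ m → Pi.single (fn (m - d)) (1 : ℤ) ∈ M := by
  have hmpos := cd.m_pos
  have hnot := chain_not_mem_side cd hT2 hT3
  intro d
  induction d using Nat.strong_induction_on with
  | _ d ih =>
    intro hd
    rcases d with _ | _ | d
    · -- `δ_{v_m} = δ_{v_0} - α w₀`
      have h := hα (w0 β m fn T)
      rw [mulVec_w0 hβ cd hT1 hT2 hT3] at h
      have : (Pi.single (fn (m - 0)) (1 : ℤ) : V → ℤ) =
          (Pi.single (fn 0) (1 : ℤ) : V → ℤ) -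
            ((Pi.single (fn 0) (1 : ℤ) : V → ℤ) - (Pi.single (fn m) (1 : ℤ) : V → ℤ)) := by
        simp
      rw [this]
      exact M.sub_mem h0 h
    · -- row `m`
      have hm := ih 0 (by omega) (by omega)
      simp only [Nat.sub_zero] at hm
      set z := (mfMatrix ends β).mulVec (Pi.single (fn m) (1 : ℤ)) with hz
      have hzM : z ∈ M := hα _
      have hzval : ∀ w, z w = mfMatrix ends β (fn m) w := by
        intro w
        rw [hz, Matrix.mulVec_single_one, Matrix.col_apply, mfMatrix_symm]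
      have hz1 : z (fn (m - 1)) = 1 := by
        rw [hzval, mfMatrix_off (fun h => by have := cd.inj _ _ le_rfl (by omega) h; omega),
          edgeMult_cross cd hT1 hT2 hT3 hT1 hT2]
        simp
      have hdecomp : z = ∑ w, Pi.single w (z w) := (Finset.univ_sum_single z).symm
      rw [← add_sum_erase _ _ (mem_univ (fn (m - 1))), hz1] at hdecomp
      have : (Pi.single (fn (m - (0 + 1))) (1 : ℤ) : V → ℤ) =
          z - ∑ w ∈ univ.erase (fn (m - 1)), (Pi.single w (z w) : V → ℤ) := by
        rw [eq_sub_iff_add_eq]; exact hdecomp.symm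
      rw [this]
      refine M.sub_mem hzM (M.sum_mem fun w hw => ?_)
      have hw1 : w ≠ fn (m - 1) := (mem_erase.mp hw).1
      rw [single_eq_smul]
      by_cases hch : ∃ j, j ≤ m ∧ fn j = w
      · obtain ⟨j, hj, rfl⟩ := hch
        rcases Nat.lt_or_ge j m with hjm | hjm
        · have hj1 : j ≠ m - 1 := fun h => hw1 (by rw [h])
          have : z (fn j) = 0 := by
            rw [hzval, mfMatrix_off (fun h => by have := cd.inj _ _ le_rfl hj h; omega),
              edgeMult_cross cd hT1 hT2 hT3 hT1 (hnot j hjm)]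
            rw [if_neg]
            · simp
            · rintro ⟨-, h⟩
              exact hj1 (cd.inj _ _ hj (by omega) h)
          rw [this, zero_smul]
          exact M.zero_mem
        · obtain rfl : j = m := le_antisymm hj hjm
          exact M.smul_mem _ hm
      · refine M.smul_mem _ (hoff w ?_)
        intro j hj h
        exact hch ⟨j, hj, h⟩
    · -- interior column
      have h1 := ih (d + 1) (by omega) (by omega)
      have h2 := ih d (by omega) (by omega)
      have hcol := col_interior hβ cd (j := m - (d + 1)) (by omega) (by omega)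
      rw [show m - (d + 1) - 1 = m - (d + 1 + 1) by omega,
        show m - (d + 1) + 1 = m - d by omega] at hcol
      have : (Pi.single (fn (m - (d + 1 + 1))) (1 : ℤ) : V → ℤ) =
          (mfMatrix ends β).mulVec (Pi.single (fn (m - (d + 1))) (1 : ℤ)) -
            (Pi.single (fn (m - d)) (1 : ℤ) : V → ℤ) +
              (2 : ℤ) • (Pi.single (fn (m - (d + 1))) (1 : ℤ) : V → ℤ) := by
        rw [hcol]; abel
      rw [this]
      exact M.add_mem (M.sub_mem (hα _) h2) (M.smul_mem _ h1)

theorem top_of (hβ : IsMultFn ends β) (cd : ChainData ends β m fn en)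
    (M : Submodule ℤ (V → ℤ)) (hα : ∀ y, (mfMatrix ends β).mulVec y ∈ M)
    (hoff : ∀ u, (∀ j, j ≤ m → fn j ≠ u) → Pi.single u (1 : ℤ) ∈ M)
    (h0 : Pi.single (fn 0) (1 : ℤ) ∈ M) : M = ⊤ := by
  obtain ⟨T, hT1, hT2, hT3⟩ := exists_side cd
  have hall : ∀ u, Pi.single u (1 : ℤ) ∈ M := by
    intro u
    by_cases hch : ∃ j, j ≤ m ∧ fn j = u
    · obtain ⟨j, hj, rfl⟩ := hch
      have := single_mem_of hβ cd hT1 hT2 hT3 M hα hoff h0 (m - j) (by omega)
      rwa [show m - (m - j) = j by omega] at this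
    · exact hoff u fun j hj h => hch ⟨j, hj, h⟩
  rw [eq_top_iff]
  intro y _
  rw [← Finset.univ_sum_single y]
  refine M.sum_mem fun w _ => ?_
  rw [single_eq_smul]
  exact M.smul_mem _ (hall w)

end ChainData

section Final

variable {V E : Type u} [Fintype V] [Fintype E] [DecidableEq V] [DecidableEq E]
variable {ends : E → V × V} {β : V → ℤ} {m : ℕ} {f : Fin (m + 1) → V} {e : Fin m → E}

/-- `ℕ`-indexed version of the vertex map. -/
def fnOf (f : Fin (m + 1) → V) : ℕ → V := fun j => if h : j < m + 1 then f ⟨j, h⟩ else f 0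

/-- `ℕ`-indexed version of the edge map. -/
def enOf (e : Fin m → E) (hm : 0 < m) : ℕ → E := fun j => if h : j < m then e ⟨j, h⟩ else e ⟨0, hm⟩

theorem fnOf_fin (i : Fin (m + 1)) : fnOf f i = f i := by
  simp [fnOf, i.2]

theorem fnOf_lt {j : ℕ} (h : j < m + 1) : fnOf f j = f ⟨j, h⟩ := by
  simp [fnOf, h]

theorem enOf_lt (hm : 0 < m) {j : ℕ} (h : j < m) : enOf e hm j = e ⟨j, h⟩ := by
  simp [enOf, h]

theorem m_pos_of (hβ : IsMultFn ends β) (hβm : ∀ i, β (f i) = m) : 0 < m := by
  have := (hβ (f 0)).1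
  rw [hβm] at this
  exact_mod_cast this

theorem chainData_of (hC : IsChain ends f e) (hconn : ∀ i, IsConnecting ends (e i))
    (hβm : ∀ i, β (f i) = m) (hα : ∀ i, mfMatrix ends β (f i) (f i) = -2) (hm : 0 < m) :
    ChainData ends β m (fnOf f) (enOf e hm) where
  m_pos := hm
  inj := by
    intro i j hi hj h
    rw [fnOf_lt (by omega : i < m + 1), fnOf_lt (by omega : j < m + 1)] at h
    have := hC.1 h
    simpa using this
  einj := by
    intro i j hi hj h
    rw [enOf_lt hm hi, enOf_lt hm hj] at h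
    have := hC.2.1 h
    simpa using this
  edge := by
    intro j hj
    rw [enOf_lt hm hj, fnOf_lt (by omega : j < m + 1), fnOf_lt (by omega : j + 1 < m + 1)]
    exact hC.2.2 ⟨j, hj⟩
  beta := by
    intro j hj
    rw [fnOf_lt (by omega : j < m + 1)]
    exact hβm _
  diag := by
    intro j hj
    rw [fnOf_lt (by omega : j < m + 1)]
    exact hα _
  conn := by
    rw [enOf_lt hm (by omega : m - 1 < m)]
    exact hconn _

theorem range_iff (u : V) : u ∈ Set.range f ↔ ∃ j, j ≤ m ∧ fnOf f j = u := by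
  constructor
  · rintro ⟨i, rfl⟩
    exact ⟨i, by have := i.2; omega, fnOf_fin i⟩
  · rintro ⟨j, hj, rfl⟩
    rw [fnOf_lt (by omega : j < m + 1)]
    exact ⟨_, rfl⟩

theorem pushV_apply (D : Finset E) (φ : V → ℤ) (c : CtrVert ends D) :
    pushV ends D φ c = ∑ x ∈ univ.filter (fun x => ctrMk ends D x = c), φ x := rfl

theorem pushV_off (hC : IsChain ends f e) (φ : V → ℤ) (u : V) (hu : u ∉ Set.range f) :
    pushV ends (univ.image e) φ (ctrMk ends (univ.image e) u) = φ u := by
  rw [pushV_apply, sum_eq_single u]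
  · intro x hx hxu
    exfalso
    rcases (ctrMk_eq_iff hC x u).mp (mem_filter.mp hx).2 with h | h
    · exact hxu h
    · exact hu h.2
  · intro h
    exfalso
    apply h
    rw [mem_filter]
    exact ⟨mem_univ u, rfl⟩

theorem pushV_chain (hC : IsChain ends f e) (φ : V → ℤ) :
    pushV ends (univ.image e) φ (ctrMk ends (univ.image e) (f 0)) =
      ∑ j ∈ range (m + 1), φ (fnOf f j) := by
  have hfilter : univ.filter (fun x => ctrMk ends (univ.image e) x = ctrMk ends (univ.image e) (f 0)) =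
      univ.image f := by
    ext x
    simp only [mem_filter, mem_univ, true_and, mem_image]
    rw [ctrMk_eq_iff hC]
    constructor
    · rintro (rfl | ⟨⟨i, rfl⟩, -⟩)
      · exact ⟨0, rfl⟩
      · exact ⟨i, rfl⟩
    · rintro ⟨i, rfl⟩
      exact Or.inr ⟨⟨i, rfl⟩, ⟨0, rfl⟩⟩
  rw [pushV_apply, hfilter, sum_image (fun a _ b _ hab => hC.1 hab),
    ← Fin.sum_univ_eq_sum_range (fun j => φ (fnOf f j)) (m + 1)]
  refine sum_congr rfl fun i _ => ?_
  rw [fnOf_fin]

theorem pushV_single (D : Finset E) (a : V) (c : CtrVert ends D) :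
    pushV ends D (Pi.single a (1 : ℤ)) c = if ctrMk ends D a = c then 1 else 0 := by
  rw [pushV_apply]
  simp only [Pi.single_apply]
  rw [sum_ite_eq']
  simp

theorem liftAt_off (hC : IsChain ends f e) (x : CtrVert ends (univ.image e) → ℤ) (u : V)
    (hu : u ∉ Set.range f) :
    liftAt ends (univ.image e) (f 0) x u = x (ctrMk ends (univ.image e) u) := by
  unfold liftAt
  rw [if_neg]
  rintro ⟨h, -⟩
  rcases (ctrMk_eq_iff hC u (f 0)).mp h with h | h
  · exact hu ⟨0, h.symm⟩
  · exact hu h.1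

theorem liftAt_zero (x : CtrVert ends (univ.image e) → ℤ) :
    liftAt ends (univ.image e) (f 0) x (f 0) = x (ctrMk ends (univ.image e) (f 0)) := by
  unfold liftAt
  rw [if_neg]
  rintro ⟨-, h⟩
  exact h rfl

theorem liftAt_pos (hC : IsChain ends f e) (x : CtrVert ends (univ.image e) → ℤ) {j : ℕ}
    (hj0 : 0 < j) (hjm : j ≤ m) :
    liftAt ends (univ.image e) (f 0) x (fnOf f j) = 0 := by
  unfold liftAt
  rw [if_pos]
  rw [fnOf_lt (by omega : j < m + 1)]
  refine ⟨chain_ctrMk hC _, fun h => ?_⟩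
  have := hC.1 h
  rw [Fin.ext_iff] at this
  simp at this
  omega

theorem pushV_liftAt (hC : IsChain ends f e) (x : CtrVert ends (univ.image e) → ℤ) :
    pushV ends (univ.image e) (liftAt ends (univ.image e) (f 0) x) = x := by
  funext c
  obtain ⟨u, rfl⟩ := ctrMk_surjective ends (univ.image e) c
  by_cases hu : u ∈ Set.range f
  · obtain ⟨i, rfl⟩ := hu
    rw [chain_ctrMk hC i, pushV_chain hC, sum_eq_single 0]
    · rw [fnOf_lt (by omega : 0 < m + 1)]
      exact liftAt_zero x
    · intro j hj hj0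
      rw [mem_range] at hj
      exact liftAt_pos hC x (by omega) (by omega)
    · intro h
      exact absurd (mem_range.mpr (by omega)) h
  · rw [pushV_off hC _ u hu, liftAt_off hC x u hu]

theorem beta_class (hC : IsChain ends f e) (hβm : ∀ i, β (f i) = m) (u w : V)
    (h : ctrMk ends (univ.image e) u = ctrMk ends (univ.image e) w) : β u = β w := by
  rcases (ctrMk_eq_iff hC u w).mp h with rfl | ⟨⟨i, rfl⟩, ⟨j, rfl⟩⟩
  · rfl
  · rw [hβm, hβm]

/-- Descend a function constant on classes to the contraction. -/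
noncomputable def descend (ends : E → V × V) (D : Finset E) (Y : V → ℤ) : CtrVert ends D → ℤ :=
  fun c => Y (Quotient.out (s := ctrSetoid ends D) c)

theorem descend_comp (D : Finset E) (Y : V → ℤ)
    (hYcl : ∀ u w, ctrMk ends D u = ctrMk ends D w → Y u = Y w) :
    descend ends D Y ∘ ctrMk ends D = Y := by
  funext u
  exact hYcl _ _ (Quotient.out_eq _)

/-- Core of S14802. -/
theorem inj_core (hβ : IsMultFn ends β) (hC : IsChain ends f e)
    (hconn : ∀ i, IsConnecting ends (e i)) (hβm : ∀ i, β (f i) = m)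
    (hα : ∀ i, mfMatrix ends β (f i) (f i) = -2)
    (x : CtrVert ends (univ.image e) → ℤ) (y : V → ℤ)
    (hy : (mfMatrix ends β).mulVec y = liftAt ends (univ.image e) (f 0) x) :
    ∃ y', (mfMatrix (ctrEnds ends (univ.image e)) (ctrFn ends (univ.image e) β)).mulVec y' = x := by
  have hm := m_pos_of hβ hβm
  have cd := chainData_of hC hconn hβm hα hm
  obtain ⟨T, hT1, hT2, hT3⟩ := exists_side cd
  have hnot := chain_not_mem_side cd hT2 hT3
  have hint : ∀ j, 0 < j → j < m → (mfMatrix ends β).mulVec y (fnOf f j) = 0 := by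
    intro j hj0 hjm
    rw [hy]
    exact liftAt_pos hC x hj0 hjm.le
  have haff := affine_of_interior hβ cd y hint
  set d := y (fnOf f 1) - y (fnOf f 0) with hd
  set Y : V → ℤ := y - d • w0 β m (fnOf f) T with hY
  have hYchain : ∀ j, j ≤ m → Y (fnOf f j) = y (fnOf f 0) := by
    intro j hj
    rw [hY, Pi.sub_apply, Pi.smul_apply, w0_apply cd hT1 hnot j hj, haff j hj, smul_eq_mul]
    ring
  have hYcl : ∀ u w, ctrMk ends (univ.image e) u = ctrMk ends (univ.image e) w → Y u = Y w := by
    intro u w h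
    rcases (ctrMk_eq_iff hC u w).mp h with rfl | ⟨hu, hw⟩
    · rfl
    · obtain ⟨j, hj, rfl⟩ := (range_iff u).mp hu
      obtain ⟨j', hj', rfl⟩ := (range_iff w).mp hw
      rw [hYchain j hj, hYchain j' hj']
  refine ⟨descend ends (univ.image e) Y, ?_⟩
  have hcomp := descend_comp (univ.image e) Y hYcl
  rw [mulVec_ctr (univ.image e) hβ (beta_class hC hβm), hcomp, hY, Matrix.mulVec_sub,
    Matrix.mulVec_smul, mulVec_w0 hβ cd hT1 hT2 hT3, hy, map_sub, map_smul, pushV_liftAt hC, map_sub]
  have : pushV ends (univ.image e) (Pi.single (fnOf f 0) (1 : ℤ)) =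
      pushV ends (univ.image e) (Pi.single (fnOf f m) (1 : ℤ)) := by
    funext c
    rw [pushV_single, pushV_single, fnOf_lt (by omega : 0 < m + 1), fnOf_lt (by omega : m < m + 1),
      chain_ctrMk hC ⟨m, _⟩, chain_ctrMk hC ⟨0, _⟩]
  rw [this, sub_self, smul_zero, sub_zero]

end Final

end Groth.Agent.Lib.Helper6.ChainCtr
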