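import Groth.Agent.Lib.Helper6.ChainCtr2

/-!
# Surjectivity for the chain contraction (helper for S14801)
-/

set_option autoImplicit false
set_option linter.unusedSectionVars false
universe u
open Finset LabGraph DualGr

namespace Groth.Agent.Lib.Helper6.ChainCtr

section Surj

variable {V E : Type u} [Fintype V] [Fintype E] [DecidableEq V] [DecidableEq E]
variable {ends : E → V × V} {β : V → ℤ} {m : ℕ} {f : Fin (m + 1) → V} {e : Fin m → E}

/-- `liftAt` as a linear map. -/
noncomputable def liftLin (ends : E → V × V) (D : Finset E) (v₀ : V) :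
    (CtrVert ends D → ℤ) →ₗ[ℤ] (V → ℤ) where
  toFun := liftAt ends D v₀
  map_add' a b := by
    funext v
    simp only [liftAt, Pi.add_apply]
    split_ifs <;> simp
  map_smul' c a := by
    funext v
    simp only [liftAt, Pi.smul_apply, RingHom.id_apply]
    split_ifs <;> simp

theorem liftLin_apply (D : Finset E) (v₀ : V) (x : CtrVert ends D → ℤ) :
    liftLin ends D v₀ x = liftAt ends D v₀ x := rfl

theorem betaHom_apply (β : V → ℤ) (z : V → ℤ) : betaHom β z = ∑ v, z v * β v := by
  simp [betaHom, Fintype.linearCombination_apply]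

/-- (a) `β (f x) = β' x`. -/
theorem betaHom_liftAt (hC : IsChain ends f e) (hβm : ∀ i, β (f i) = m)
    (x : CtrVert ends (univ.image e) → ℤ) :
    betaHom β (liftAt ends (univ.image e) (f 0) x) =
      betaHom (ctrFn ends (univ.image e) β) x := by
  rw [betaHom_apply, betaHom_apply]
  conv_rhs => rw [← pushV_liftAt hC x]
  simp_rw [pushV_apply, sum_mul]
  rw [← sum_fiberwise (univ : Finset V) (fun v => ctrMk ends (univ.image e) v)
    (fun v => liftAt ends (univ.image e) (f 0) x v * β v)]
  refine sum_congr rfl fun c _ => ?_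
  refine sum_congr rfl fun v hv => ?_
  rw [← (mem_filter.mp hv).2, (isCtr_ctr (univ.image e) (beta_class hC hβm)).beta_eq]

theorem betaHom_mulVec (hβ : IsMultFn ends β) (y : V → ℤ) :
    betaHom β ((mfMatrix ends β).mulVec y) = 0 := by
  rw [betaHom_apply]
  have : ∑ v, (mfMatrix ends β).mulVec y v * β v = (mfMatrix ends β).mulVec y ⬝ᵥ β := rfl
  rw [this, dotProduct_comm, Matrix.dotProduct_mulVec, ← Matrix.mulVec_transpose,
    mfMatrix_transpose, mulVec_beta hβ, zero_dotProduct]

/-- (b) `f (α' y') ∈ im α`. -/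
theorem liftAt_mulVec (hβ : IsMultFn ends β) (hC : IsChain ends f e)
    (hconn : ∀ i, IsConnecting ends (e i)) (hβm : ∀ i, β (f i) = m)
    (hα : ∀ i, mfMatrix ends β (f i) (f i) = -2)
    (y' : CtrVert ends (univ.image e) → ℤ) :
    ∃ y, (mfMatrix ends β).mulVec y = liftAt ends (univ.image e) (f 0)
      ((mfMatrix (ctrEnds ends (univ.image e)) (ctrFn ends (univ.image e) β)).mulVec y') := by
  have hm := m_pos_of hβ hβm
  have cd := chainData_of hC hconn hβm hα hm
  obtain ⟨T, hT1, hT2, hT3⟩ := exists_side cd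
  set Y : V → ℤ := y' ∘ ctrMk ends (univ.image e) with hY
  set g := (mfMatrix ends β).mulVec Y with hg
  have hYchain : ∀ j, j ≤ m → Y (fnOf f j) = y' (ctrMk ends (univ.image e) (f 0)) := by
    intro j hj
    rw [hY, Function.comp, fnOf_lt (by omega : j < m + 1), chain_ctrMk hC]
  have hgint : ∀ j, 0 < j → j < m → g (fnOf f j) = 0 := by
    intro j hj0 hjm
    rw [hg, mulVec_interior hβ cd hj0 hjm, hYchain _ (by omega), hYchain _ (by omega),
      hYchain _ (by omega)]
    ring
  refine ⟨Y + g (fnOf f m) • w0 β m (fnOf f) T, ?_⟩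
  rw [Matrix.mulVec_add, Matrix.mulVec_smul, mulVec_w0 hβ cd hT1 hT2 hT3,
    mulVec_ctr (univ.image e) hβ (beta_class hC hβm), ← hY, ← hg]
  have h0m : fnOf f 0 ≠ fnOf f m := fun h => by
    have := cd.inj 0 m (by omega) le_rfl h; omega
  funext u
  simp only [Pi.add_apply, Pi.smul_apply, Pi.sub_apply, Pi.single_apply, smul_eq_mul]
  by_cases hu : u ∈ Set.range f
  · obtain ⟨j, hj, rfl⟩ := (range_iff u).mp hu
    rcases Nat.eq_zero_or_pos j with rfl | hj0
    · have hf0 : fnOf f 0 = f 0 := fnOf_lt (by omega)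
      rw [if_pos rfl, if_neg h0m]
      have hlift : liftAt ends (univ.image e) (f 0) (pushV ends (univ.image e) g) (fnOf f 0) =
          g (fnOf f 0) + g (fnOf f m) := by
        rw [hf0, liftAt_zero, pushV_chain hC, sum_eq_add 0 m (by omega), hf0]
        · intro j hj hne
          rw [mem_range] at hj
          exact hgint j (by omega) (by omega)
        · intro h
          exact absurd (mem_range.mpr (by omega)) h
        · intro h
          exact absurd (mem_range.mpr (by omega)) h
      rw [hlift]
      ring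
    · rw [liftAt_pos hC _ hj0 hj]
      rcases Nat.lt_or_ge j m with hjm | hjm
      · have h1 : fnOf f j ≠ fnOf f 0 := fun h => by
          have := cd.inj j 0 hj (by omega) h; omega
        have h2 : fnOf f j ≠ fnOf f m := fun h => by
          have := cd.inj j m hj le_rfl h; omega
        rw [if_neg h1, if_neg h2, hgint j hj0 hjm]
        ring
      · obtain rfl : j = m := le_antisymm hj hjm
        rw [if_neg h0m.symm, if_pos rfl]
        ring
  · have h1 : u ≠ fnOf f 0 := fun h => hu ((range_iff u).mpr ⟨0, by omega, h.symm⟩)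
    have h2 : u ≠ fnOf f m := fun h => hu ((range_iff u).mpr ⟨m, le_rfl, h.symm⟩)
    rw [if_neg h1, if_neg h2, liftAt_off hC _ u hu, pushV_off hC _ u hu]
    ring

/-- (c) every vector is in `im f + im α`. -/
theorem exists_decomp (hβ : IsMultFn ends β) (hC : IsChain ends f e)
    (hconn : ∀ i, IsConnecting ends (e i)) (hβm : ∀ i, β (f i) = m)
    (hα : ∀ i, mfMatrix ends β (f i) (f i) = -2) (y : V → ℤ) :
    ∃ x y₂, y = liftAt ends (univ.image e) (f 0) x + (mfMatrix ends β).mulVec y₂ := by
  have hm := m_pos_of hβ hβm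
  have cd := chainData_of hC hconn hβm hα hm
  set M : Submodule ℤ (V → ℤ) :=
    LinearMap.range (Matrix.mulVecLin (mfMatrix ends β)) ⊔
      LinearMap.range (liftLin ends (univ.image e) (f 0)) with hM
  have hsingle : ∀ u, (u ∉ Set.range f ∨ u = f 0) →
      liftAt ends (univ.image e) (f 0) (Pi.single (ctrMk ends (univ.image e) u) (1 : ℤ)) =
        Pi.single u (1 : ℤ) := by
    intro u hu
    funext v
    unfold liftAt
    simp only [Pi.single_apply]
    by_cases hv : v = u
    · subst hv
      rw [if_neg, if_pos rfl, if_pos rfl]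
      rintro ⟨h1, h2⟩
      rcases hu with hu | hu
      · rcases (ctrMk_eq_iff hC v (f 0)).mp h1 with h | h
        · exact h2 h
        · exact hu h.1
      · exact h2 hu
    · rw [if_neg hv]
      split_ifs with h1 h2
      · rfl
      · exfalso
        rcases (ctrMk_eq_iff hC v u).mp h2 with h | h
        · exact hv h
        · rcases hu with hu | hu
          · exact hu h.2
          · subst hu
            exact h1 ⟨h2, hv⟩
      · rfl
  have htop : M = ⊤ := by
    refine top_of hβ cd M (fun y => ?_) (fun u hu => ?_) ?_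
    · exact Submodule.mem_sup_left ⟨y, rfl⟩
    · refine Submodule.mem_sup_right ⟨Pi.single (ctrMk ends (univ.image e) u) (1 : ℤ), ?_⟩
      rw [liftLin_apply]
      refine hsingle u (Or.inl ?_)
      intro h
      obtain ⟨j, hj, hju⟩ := (range_iff u).mp h
      exact hu j hj hju
    · refine Submodule.mem_sup_right ⟨Pi.single (ctrMk ends (univ.image e) (f 0)) (1 : ℤ), ?_⟩
      rw [liftLin_apply, fnOf_lt (by omega : 0 < m + 1)]
      exact hsingle (f 0) (Or.inr rfl)
  have hy : y ∈ M := by rw [htop]; trivial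
  obtain ⟨a, ⟨y₂, rfl⟩, b, ⟨x, rfl⟩, hab⟩ := Submodule.mem_sup.mp hy
  refine ⟨x, y₂, ?_⟩
  rw [← hab, add_comm]
  rfl

/-- Core of S14801. -/
theorem surj_core (hβ : IsMultFn ends β) (hC : IsChain ends f e)
    (hconn : ∀ i, IsConnecting ends (e i)) (hβm : ∀ i, β (f i) = m)
    (hα : ∀ i, mfMatrix ends β (f i) (f i) = -2) :
    ∃ φ : CompGrp (ctrEnds ends (univ.image e)) (ctrFn ends (univ.image e) β) →+ CompGrp ends β,
      Function.Surjective φ ∧
      ∀ (x : LinearMap.ker (betaHom (ctrFn ends (univ.image e) β)))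
        (y : LinearMap.ker (betaHom β)),
        (y : V → ℤ) = liftAt ends (univ.image e) (f 0) (x : CtrVert ends (univ.image e) → ℤ) →
        φ (Submodule.Quotient.mk x) = Submodule.Quotient.mk y := by
  have hker : ∀ x ∈ LinearMap.ker (betaHom (ctrFn ends (univ.image e) β)),
      liftLin ends (univ.image e) (f 0) x ∈ LinearMap.ker (betaHom β) := by
    intro x hx
    rw [LinearMap.mem_ker] at hx ⊢
    rw [liftLin_apply, betaHom_liftAt hC hβm, hx]
  set F := (liftLin ends (univ.image e) (f 0)).restrict hker with hF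
  have hle : (LinearMap.range (Matrix.mulVecLin
        (mfMatrix (ctrEnds ends (univ.image e)) (ctrFn ends (univ.image e) β)))).comap
        (LinearMap.ker (betaHom (ctrFn ends (univ.image e) β))).subtype ≤
      ((LinearMap.range (Matrix.mulVecLin (mfMatrix ends β))).comap
        (LinearMap.ker (betaHom β)).subtype).comap F := by
    rintro x ⟨y', hy'⟩
    rw [Matrix.mulVecLin_apply] at hy'
    obtain ⟨y, hy⟩ := liftAt_mulVec hβ hC hconn hβm hα y'
    refine ⟨y, ?_⟩
    rw [Matrix.mulVecLin_apply, hy, hy']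
    rfl
  refine ⟨(Submodule.mapQ _ _ F hle).toAddMonoidHom, ?_, ?_⟩
  · intro q
    obtain ⟨y, rfl⟩ := Submodule.Quotient.mk_surjective _ q
    obtain ⟨x, y₂, hxy⟩ := exists_decomp hβ hC hconn hβm hα (y : V → ℤ)
    have hxker : x ∈ LinearMap.ker (betaHom (ctrFn ends (univ.image e) β)) := by
      rw [LinearMap.mem_ker, ← betaHom_liftAt hC hβm]
      have h1 : betaHom β (y : V → ℤ) = 0 := y.2
      rw [hxy, map_add, betaHom_mulVec hβ, add_zero] at h1
      exact h1
    refine ⟨Submodule.Quotient.mk ⟨x, hxker⟩, ?_⟩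
    change Submodule.mapQ _ _ F hle (Submodule.Quotient.mk ⟨x, hxker⟩) = _
    rw [Submodule.mapQ_apply, Submodule.Quotient.eq]
    refine ⟨-y₂, ?_⟩
    rw [Matrix.mulVecLin_apply, Matrix.mulVec_neg]
    change -(mfMatrix ends β).mulVec y₂ = liftAt ends (univ.image e) (f 0) x - (y : V → ℤ)
    rw [hxy]
    abel
  · intro x y hxy
    change Submodule.mapQ _ _ F hle (Submodule.Quotient.mk x) = _
    rw [Submodule.mapQ_apply]
    congr 1
    exact Subtype.ext hxy.symm

end Surj

end Groth.Agent.Lib.Helper6.ChainCtr
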