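import Mathlib
import Groth.Prelude.Def_PBC

open CategoryTheory CategoryTheory.Limits TensorProduct

namespace Groth.Agent.Lib.Helper6.IndEt

universe u

theorem iso_of_algebra_eq (A A' B : Type u) [CommRing A] [CommRing B] [CommRing A']
    [Algebra A A'] (i1 i2 : Algebra A B) (h : i1 = i2) :
    Nonempty ((letI := i1; CommRingCat.mkUnder (CommRingCat.of A') (A' ⊗[A] B)) ≅
      (letI := i2; CommRingCat.mkUnder (CommRingCat.of A') (A' ⊗[A] B))) := by
  subst h
  exact ⟨Iso.refl _⟩

theorem baseChange (A B A' : Type u) [CommRing A] [CommRing B] [CommRing A'] [Algebra A B]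
    [Algebra A A'] (h : EtPBC.IsIndEtale A B) : EtPBC.IsIndEtale A' (A' ⊗[A] B) := by
  obtain ⟨J, _, _, D, c, hc, hEt, ⟨iso⟩⟩ := h
  letI : Algebra (CommRingCat.of A) (CommRingCat.of A') := inferInstanceAs (Algebra A A')
  let T : Under (CommRingCat.of A) ⥤ Under (CommRingCat.of A') :=
    CommRingCat.tensorProd (CommRingCat.of A) (CommRingCat.of A')
  haveI : PreservesColimitsOfSize.{u, u} T :=
    preservesColimits_of_natIso (CommRingCat.tensorProdIsoPushout _ _).symm
  obtain ⟨i0⟩ := iso_of_algebra_eq A A' B (algebraMap A B).toAlgebra inferInstance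
    (Algebra.algebra_ext _ _ (fun r => rfl))
  refine ⟨J, inferInstance, inferInstance, D ⋙ T, T.mapCocone c, isColimitOfPreserves T hc,
    ?_, ⟨(T.mapIso iso) ≪≫ i0⟩⟩
  · intro j
    letI : Algebra A ((D.obj j).right : Type u) := (D.obj j).hom.hom.toAlgebra
    haveI : Algebra.Etale A ((D.obj j).right : Type u) := hEt j
    have h : (algebraMap A' (A' ⊗[A] ((D.obj j).right : Type u))).toAlgebra =
        (inferInstance : Algebra A' (A' ⊗[A] ((D.obj j).right : Type u))) :=
      Algebra.algebra_ext _ _ (fun r => rfl)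
    show @Algebra.Etale A' (A' ⊗[A] ((D.obj j).right : Type u)) _ _
      (algebraMap A' (A' ⊗[A] ((D.obj j).right : Type u))).toAlgebra
    rw [h]
    infer_instance

end Groth.Agent.Lib.Helper6.IndEt
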