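import Mathlib
import Groth.Prelude.Def_PBC
import Groth.Agent.Lib.Helper6.IndEtElim

open CategoryTheory CategoryTheory.Limits TensorProduct

namespace Groth.Agent.Lib.Helper6.IndEtDiag

universe u

/-- Recognising filtered colimits in `Under A` elementwise. -/
theorem isColimit_of_elementwise (A : CommRingCat.{u}) {J : Type u} [SmallCategory J]
    [IsFiltered J] (F : J ⥤ Under A) (c : Cocone F)
    (hsurj : ∀ x : c.pt.right, ∃ (j : J) (y : (F.obj j).right), (c.ι.app j).right y = x)
    (hinj : ∀ (j : J) (y y' : (F.obj j).right), (c.ι.app j).right y = (c.ι.app j).right y' →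
      ∃ (k : J) (f : j ⟶ k), (F.map f).right y = (F.map f).right y') :
    Nonempty (IsColimit c) := by
  let G : Under A ⥤ Type u := Under.forget A ⋙ forget CommRingCat
  have : G.ReflectsIsomorphisms := inferInstance
  have : HasColimit F := inferInstance
  have : PreservesColimit F G := inferInstance
  have : ReflectsColimit F G := reflectsColimit_of_reflectsIsomorphisms F G
  refine ⟨isColimitOfReflects G ?_⟩
  refine Types.FilteredColimit.isColimitOf' (F ⋙ G) (G.mapCocone c) ?_ ?_
  · intro x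
    obtain ⟨j, y, hy⟩ := hsurj x
    exact ⟨j, y, hy.symm⟩
  · intro j y y' h
    exact hinj j y y' h

section Idem

variable (T C : Type u) [CommRing T] [CommRing C] [Algebra T C]

/-- Idempotents of `T` mapping to `1` in `C`. -/
def Idx : Type u := {ε : T // IsIdempotentElem ε ∧ algebraMap T C ε = 1}

instance : Preorder (Idx T C) where
  le a b := b.1 * a.1 = b.1
  le_refl a := a.2.1
  le_trans a b c hab hbc := by
    show c.1 * a.1 = c.1
    calc c.1 * a.1 = (c.1 * b.1) * a.1 := by rw [hbc]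
      _ = c.1 * (b.1 * a.1) := by ring
      _ = c.1 := by rw [hab, hbc]

instance : Nonempty (Idx T C) := ⟨⟨1, IsIdempotentElem.one, map_one _⟩⟩

instance : IsDirected (Idx T C) (· ≤ ·) :=
  ⟨fun a b => ⟨⟨a.1 * b.1, a.2.1.mul b.2.1, by rw [map_mul, a.2.2, b.2.2, one_mul]⟩, by
      show a.1 * b.1 * a.1 = a.1 * b.1
      calc a.1 * b.1 * a.1 = (a.1 * a.1) * b.1 := by ring
        _ = a.1 * b.1 := by rw [a.2.1.eq], by
      show a.1 * b.1 * b.1 = a.1 * b.1
      calc a.1 * b.1 * b.1 = a.1 * (b.1 * b.1) := by ring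
        _ = a.1 * b.1 := by rw [b.2.1.eq]⟩⟩

/-- The ideal `(1 - ε)`. -/
def idl (ε : Idx T C) : Ideal T := Ideal.span {1 - ε.1}

variable {T C}

theorem idl_mono {a b : Idx T C} (h : a ≤ b) : idl T C a ≤ idl T C b := by
  have h' : b.1 * a.1 = b.1 := h
  rw [idl, Ideal.span_le, Set.singleton_subset_iff]
  have : 1 - a.1 = (1 - a.1) * (1 - b.1) := by
    have : (1 - a.1) * (1 - b.1) = 1 - a.1 - b.1 + b.1 * a.1 := by ring
    rw [this, h']; ring
  rw [this]
  exact Ideal.mul_mem_left _ _ (Ideal.mem_span_singleton_self _)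

theorem idl_le_ker (a : Idx T C) : idl T C a ≤ RingHom.ker (algebraMap T C) := by
  rw [idl, Ideal.span_le, Set.singleton_subset_iff]
  show algebraMap T C (1 - a.1) = 0
  rw [map_sub, map_one, a.2.2, sub_self]

variable (T C)

/-- The diagram of quotients `T ⧸ (1 - ε)`. -/
noncomputable def diag : Idx T C ⥤ Under (CommRingCat.of T) where
  obj ε := Under.mk (CommRingCat.ofHom (Ideal.Quotient.mk (idl T C ε)))
  map {a b} f := Under.homMk (CommRingCat.ofHom (Ideal.Quotient.factor (idl_mono (leOfHom f))))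
    (by ext x; rfl)
  map_id a := by
    ext x
    obtain ⟨x, rfl⟩ := Ideal.Quotient.mk_surjective x
    rfl
  map_comp {a b c} f g := by
    ext x
    obtain ⟨x, rfl⟩ := Ideal.Quotient.mk_surjective x
    rfl

/-- The cocone with vertex `C`. -/
noncomputable def cocone : Cocone (diag T C) where
  pt := Under.mk (CommRingCat.ofHom (algebraMap T C))
  ι :=
    { app := fun ε => Under.homMk (CommRingCat.ofHom
        (Ideal.Quotient.lift (idl T C ε) (algebraMap T C) (fun x hx => idl_le_ker ε hx)))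
        (by ext x; rfl)
      naturality := fun a b f => by
        ext x
        obtain ⟨x, rfl⟩ := Ideal.Quotient.mk_surjective x
        rfl }

theorem etale_obj (ε : Idx T C) :
    letI := ((diag T C).obj ε).hom.hom.toAlgebra
    Algebra.Etale T ((diag T C).obj ε).right := by
  have h : (Ideal.Quotient.mk (idl T C ε)).toAlgebra =
      (inferInstance : Algebra T (T ⧸ idl T C ε)) :=
    Algebra.algebra_ext _ _ (fun r => rfl)
  show @Algebra.Etale T (T ⧸ idl T C ε) _ _ (Ideal.Quotient.mk (idl T C ε)).toAlgebra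
  rw [h]
  haveI : IsLocalization.Away ε.1 (T ⧸ idl T C ε) :=
    IsLocalization.Away.quotient_of_isIdempotentElem ε.2.1
  exact Algebra.Etale.of_isLocalizationAway ε.1

/-- If `T → C` is surjective and every element of the kernel is killed by an idempotent mapping
to `1`, then `C` is ind-étale over `T`. -/
theorem isIndEtale_of_idem (hsurj : Function.Surjective (algebraMap T C))
    (hker : ∀ x : T, algebraMap T C x = 0 →
      ∃ ε : T, IsIdempotentElem ε ∧ algebraMap T C ε = 1 ∧ ε * x = 0) :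
    EtPBC.IsIndEtale T C := by
  obtain ⟨hc⟩ := isColimit_of_elementwise (CommRingCat.of T) (diag T C) (cocone T C)
    (by
      intro x
      obtain ⟨t, rfl⟩ := hsurj x
      exact ⟨⟨1, IsIdempotentElem.one, map_one _⟩, Ideal.Quotient.mk _ t, rfl⟩)
    (by
      intro a y y' h
      obtain ⟨t, rfl⟩ := Ideal.Quotient.mk_surjective y
      obtain ⟨t', rfl⟩ := Ideal.Quotient.mk_surjective y'
      have h0 : algebraMap T C t = algebraMap T C t' := h
      obtain ⟨ε, hε, hε1, hεx⟩ := hker (t - t') (by rw [map_sub, h0, sub_self])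
      let b : Idx T C := ⟨a.1 * ε, a.2.1.mul hε, by rw [map_mul, a.2.2, hε1, one_mul]⟩
      have hab : a ≤ b := by
        show a.1 * ε * a.1 = a.1 * ε
        calc a.1 * ε * a.1 = (a.1 * a.1) * ε := by ring
          _ = a.1 * ε := by rw [a.2.1.eq]
      refine ⟨b, homOfLE hab, ?_⟩
      show Ideal.Quotient.mk (idl T C b) t = Ideal.Quotient.mk (idl T C b) t'
      rw [Ideal.Quotient.eq, idl, Ideal.mem_span_singleton']
      refine ⟨t - t', ?_⟩
      have : (t - t') * (1 - a.1 * ε) = (t - t') - a.1 * (ε * (t - t')) := by ring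
      rw [this, hεx, mul_zero, sub_zero])
  exact ⟨Idx T C, inferInstance, inferInstance, diag T C, cocone T C, hc,
    fun ε => etale_obj T C ε, ⟨Iso.refl _⟩⟩

end Idem

/-- For an unramified `A`-algebra `E` and an `A`-algebra map `φ : E → C`, the kernel of
`E ⊗ C → C` is generated by an idempotent. -/
theorem diag_idem {A E C : Type u} [CommRing A] [CommRing E] [CommRing C] [Algebra A E]
    [Algebra A C] [Algebra.EssFiniteType A E] [Algebra.FormallyUnramified A E] (φ : E →ₐ[A] C) :
    ∃ ε : E ⊗[A] C, IsIdempotentElem ε ∧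
      RingHom.ker (Algebra.TensorProduct.lift φ (AlgHom.id A C) (fun _ _ => Commute.all _ _)) =
        Ideal.span {1 - ε} := by
  obtain ⟨e₀, he₀, hsp⟩ : ∃ e, IsIdempotentElem e ∧ KaehlerDifferential.ideal A E = E ⊗[A] E ∙ e :=
    (Ideal.isIdempotentElem_iff_of_fg _ (KaehlerDifferential.ideal_fg A E)).mp <|
      (Ideal.cotangent_subsingleton_iff _).mp <| inferInstanceAs <| Subsingleton Ω[E⁄A]
  obtain ⟨ν, hν⟩ : ∃ ν : E ⊗[A] C →ₐ[A] C, ν =
      Algebra.TensorProduct.lift φ (AlgHom.id A C) (fun _ _ => Commute.all _ _) := ⟨_, rfl⟩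
  rw [← hν]
  have hνt : ∀ (x : E) (c : C), ν (x ⊗ₜ[A] c) = φ x * c := by
    intro x c; rw [hν]; simp
  let ψ : E ⊗[A] E →ₐ[A] E ⊗[A] C := Algebra.TensorProduct.map (AlgHom.id A E) φ
  have hψt : ∀ (x y : E), ψ (x ⊗ₜ[A] y) = x ⊗ₜ[A] φ y := by
    intro x y; simp [ψ]
  have hνψ : ∀ z, ν (ψ z) = φ (Algebra.TensorProduct.lmul' A z) := by
    intro z
    have : ν.comp ψ = φ.comp (Algebra.TensorProduct.lmul' A) := by
      apply Algebra.TensorProduct.ext'
      intro a b
      simp [hνt, hψt]
    exact congrArg (fun f => f z) this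
  have he₀mem : e₀ ∈ KaehlerDifferential.ideal A E := by
    rw [hsp]; exact Submodule.mem_span_singleton_self _
  refine ⟨ψ (1 - e₀), (he₀.one_sub).map ψ, ?_⟩
  have h1 : 1 - ψ (1 - e₀) = ψ e₀ := by rw [map_sub, map_one]; ring
  rw [h1]
  apply le_antisymm
  · intro z hz
    have key : ∀ z : E ⊗[A] C, z - (1 : E) ⊗ₜ[A] (ν z) ∈ Ideal.span {ψ e₀} := by
      intro z
      induction z using TensorProduct.induction_on with
      | zero => simp
      | tmul x c =>
        have hx : (x ⊗ₜ[A] (1 : E) - (1 : E) ⊗ₜ[A] x) ∈ KaehlerDifferential.ideal A E := by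
          have := KaehlerDifferential.one_smul_sub_smul_one_mem_ideal A x
          have h2 : x ⊗ₜ[A] (1 : E) - (1 : E) ⊗ₜ[A] x = -((1 : E) ⊗ₜ[A] x - x ⊗ₜ[A] (1 : E)) := by
            ring
          rw [h2]
          exact neg_mem this
        rw [hsp] at hx
        obtain ⟨w, hw⟩ := Submodule.mem_span_singleton.mp hx
        have h3 : x ⊗ₜ[A] c - (1 : E) ⊗ₜ[A] (ν (x ⊗ₜ[A] c)) =
            ψ (x ⊗ₜ[A] (1 : E) - (1 : E) ⊗ₜ[A] x) * ((1 : E) ⊗ₜ[A] c) := by
          rw [map_sub, hψt, hψt, hνt, sub_mul, Algebra.TensorProduct.tmul_mul_tmul,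
            Algebra.TensorProduct.tmul_mul_tmul, map_one, one_mul, mul_one, one_mul]
        rw [h3, ← hw, smul_eq_mul, map_mul, mul_assoc, mul_comm (ψ e₀), ← mul_assoc]
        exact Ideal.mul_mem_left _ _ (Ideal.mem_span_singleton_self _)
      | add z₁ z₂ h₁ h₂ =>
        have : (z₁ + z₂) - (1 : E) ⊗ₜ[A] (ν (z₁ + z₂)) =
            (z₁ - (1 : E) ⊗ₜ[A] (ν z₁)) + (z₂ - (1 : E) ⊗ₜ[A] (ν z₂)) := by
          rw [map_add, TensorProduct.tmul_add]; ring
        rw [this]
        exact add_mem h₁ h₂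
    have := key z
    rw [RingHom.mem_ker.mp hz, TensorProduct.tmul_zero, sub_zero] at this
    exact this
  · rw [Ideal.span_le, Set.singleton_subset_iff]
    show ν (ψ e₀) = 0
    rw [hνψ]
    have : Algebra.TensorProduct.lmul' A e₀ = 0 := he₀mem
    rw [this, map_zero]

end Groth.Agent.Lib.Helper6.IndEtDiag
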