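import Mathlib
import Groth.Prelude.Def_PBC
import Groth.Agent.Lib.Helper6.IndEtElim
import Groth.Agent.Lib.Helper6.IndEtBC
import Groth.Agent.Lib.Helper6.IndEtComp
import Groth.Agent.Lib.Helper6.IndEtDiag

open CategoryTheory CategoryTheory.Limits TensorProduct

namespace Groth.Agent.Lib.Helper6.IndEtCancel

universe u

open Groth.Agent.Lib.Helper6.IndEtDiag

theorem exists_lift_tensor {A B C : Type u} [CommRing A] [CommRing B] [CommRing C]
    [Algebra A B] [Algebra A C]
    {J : Type u} [SmallCategory J] [IsFiltered J] (E : J → Type u)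
    [∀ j, CommRing (E j)] [∀ j, Algebra A (E j)]
    (φ : ∀ j, E j →ₐ[A] B) (τ : ∀ j k : J, (j ⟶ k) → (E j →ₐ[A] E k))
    (hcompat : ∀ (j k : J) (f : j ⟶ k) (x : E j), φ k (τ j k f x) = φ j x)
    (hsurj : ∀ b : B, ∃ (j : J) (x : E j), φ j x = b) (t : B ⊗[A] C) :
    ∃ (j : J) (y : E j ⊗[A] C), Algebra.TensorProduct.map (φ j) (AlgHom.id A C) y = t := by
  have hτ : ∀ (j k : J) (f : j ⟶ k) (y : E j ⊗[A] C),
      Algebra.TensorProduct.map (φ k) (AlgHom.id A C)
        (Algebra.TensorProduct.map (τ j k f) (AlgHom.id A C) y) =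
      Algebra.TensorProduct.map (φ j) (AlgHom.id A C) y := by
    intro j k f y
    have : (Algebra.TensorProduct.map (φ k) (AlgHom.id A C)).comp
        (Algebra.TensorProduct.map (τ j k f) (AlgHom.id A C)) =
        Algebra.TensorProduct.map (φ j) (AlgHom.id A C) := by
      apply Algebra.TensorProduct.ext'
      intro a c
      simp [hcompat]
    exact congrArg (fun g => g y) this
  induction t using TensorProduct.induction_on with
  | zero => exact ⟨(IsFiltered.nonempty (C := J)).some, 0, map_zero _⟩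
  | tmul b c =>
    obtain ⟨j, x, rfl⟩ := hsurj b
    exact ⟨j, x ⊗ₜ c, by simp⟩
  | add t₁ t₂ h₁ h₂ =>
    obtain ⟨j₁, y₁, rfl⟩ := h₁
    obtain ⟨j₂, y₂, rfl⟩ := h₂
    refine ⟨IsFiltered.max j₁ j₂,
      Algebra.TensorProduct.map (τ j₁ _ (IsFiltered.leftToMax j₁ j₂)) (AlgHom.id A C) y₁ +
      Algebra.TensorProduct.map (τ j₂ _ (IsFiltered.rightToMax j₁ j₂)) (AlgHom.id A C) y₂, ?_⟩
    rw [map_add, hτ, hτ]

theorem cancel (A B C : Type u) [CommRing A] [CommRing B] [CommRing C] [Algebra A B]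
    [Algebra B C] [Algebra A C] [IsScalarTower A B C]
    (hB : EtPBC.IsIndEtale A B) (hC : EtPBC.IsIndEtale A C) : EtPBC.IsIndEtale B C := by
  let ν : B ⊗[A] C →ₐ[B] C :=
    Algebra.TensorProduct.lift (Algebra.ofId B C) (AlgHom.id A C) (fun _ _ => Commute.all _ _)
  have hνt : ∀ (b : B) (c : C), ν (b ⊗ₜ[A] c) = algebraMap B C b * c := by
    intro b c; simp [ν, Algebra.ofId_apply]
  letI algT : Algebra (B ⊗[A] C) C := ν.toRingHom.toAlgebra
  haveI : IsScalarTower B (B ⊗[A] C) C :=
    IsScalarTower.of_algebraMap_eq (fun b => (ν.commutes b).symm)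
  have hνalg : ∀ x, algebraMap (B ⊗[A] C) C x = ν x := fun _ => rfl
  have h1 : EtPBC.IsIndEtale B (B ⊗[A] C) := Groth.Agent.Lib.Helper6.IndEt.baseChange A C B hC
  have h2 : EtPBC.IsIndEtale (B ⊗[A] C) C := by
    apply isIndEtale_of_idem
    · intro c
      exact ⟨1 ⊗ₜ c, by rw [hνalg, hνt, map_one, one_mul]⟩
    · intro x hx
      rw [hνalg] at hx
      obtain ⟨J, _, _, E, _, _, hEt, φ, τ, hcompat, hsurj, -⟩ :=
        Groth.Agent.Lib.Helper6.IndEt.exists_system hB
      obtain ⟨j, y, rfl⟩ := exists_lift_tensor (C := C) E φ τ hcompat hsurj x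
      haveI := hEt j
      let φ' : E j →ₐ[A] C := (IsScalarTower.toAlgHom A B C).comp (φ j)
      obtain ⟨ε, hε, hker⟩ := diag_idem φ'
      have hcomp : ∀ z : E j ⊗[A] C, ν (Algebra.TensorProduct.map (φ j) (AlgHom.id A C) z) =
          Algebra.TensorProduct.lift φ' (AlgHom.id A C) (fun _ _ => Commute.all _ _) z := by
        intro z
        have : (ν.restrictScalars A).comp (Algebra.TensorProduct.map (φ j) (AlgHom.id A C)) =
            Algebra.TensorProduct.lift φ' (AlgHom.id A C) (fun _ _ => Commute.all _ _) := by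
          apply Algebra.TensorProduct.ext'
          intro a c
          simp [hνt, φ']
        exact congrArg (fun g => g z) this
      have hy : y ∈ Ideal.span {1 - ε} := by
        rw [← hker, RingHom.mem_ker, ← hcomp]
        exact hx
      obtain ⟨w, hw⟩ := Ideal.mem_span_singleton'.mp hy
      have hεy : ε * y = 0 := by
        rw [← hw]
        calc ε * (w * (1 - ε)) = w * (ε - ε * ε) := by ring
          _ = 0 := by rw [hε.eq, sub_self, mul_zero]
      have h1ε : (1 - ε) ∈ Ideal.span {1 - ε} := Ideal.mem_span_singleton_self _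
      rw [← hker, RingHom.mem_ker, ← hcomp, map_sub, map_sub, map_one, map_one, sub_eq_zero] at h1ε
      refine ⟨Algebra.TensorProduct.map (φ j) (AlgHom.id A C) ε, hε.map _, ?_, ?_⟩
      · rw [hνalg]; exact h1ε.symm
      · rw [← map_mul, hεy, map_zero]
  exact Groth.Agent.Lib.Helper6.IndEtComp.comp B (B ⊗[A] C) C h1 h2

end Groth.Agent.Lib.Helper6.IndEtCancel
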