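import Mathlib

open Polynomial TensorProduct

namespace Groth.Agent.Lib.Helper6.HensLift

universe u

theorem ker_eq_maximalIdeal {S' K : Type*} [CommRing S'] [IsLocalRing S'] [Field K]
    (u' : S' →+* K) (hu' : Function.Surjective u') :
    RingHom.ker u' = IsLocalRing.maximalIdeal S' :=
  IsLocalRing.eq_maximalIdeal (RingHom.ker_isMaximal_of_surjective u' hu')

theorem isUnit_of_map_ne_zero {S' K : Type*} [CommRing S'] [IsLocalRing S'] [Field K]
    (u' : S' →+* K) (hu' : Function.Surjective u') (a : S') (h : u' a ≠ 0) : IsUnit a := by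
  by_contra hna
  have hmem : a ∈ IsLocalRing.maximalIdeal S' := (IsLocalRing.mem_maximalIdeal a).mpr hna
  rw [← ker_eq_maximalIdeal u' hu'] at hmem
  exact h hmem

/-- Sections of étale algebras over a henselian local ring lift from the residue field. -/
theorem exists_section {S' K : Type u} [CommRing S'] [HenselianLocalRing S'] [Field K]
    (u' : S' →+* K) (hu' : Function.Surjective u')
    {E' : Type u} [CommRing E'] [Algebra S' E'] [Algebra.Etale S' E']
    (χ : E' →+* K) (hχ : χ.comp (algebraMap S' E') = u') :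
    ∃ σ : E' →ₐ[S'] S', u'.comp σ.toRingHom = χ := by
  classical
  let Q : Ideal E' := RingHom.ker χ
  haveI : Q.IsPrime := RingHom.ker_isPrime χ
  obtain ⟨f, hfQ, hstd⟩ := Algebra.IsEtaleAt.exists_isStandardEtale (R := S') Q
  have hχf : IsUnit (χ f) := isUnit_iff_ne_zero.mpr (fun h => hfQ (RingHom.mem_ker.mpr h))
  let χf : Localization.Away f →+* K := IsLocalization.Away.lift f hχf
  have hχf_alg : ∀ x : E', χf (algebraMap E' (Localization.Away f) x) = χ x := fun x =>
    IsLocalization.Away.lift_eq f hχf x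
  obtain ⟨Pres⟩ := hstd.nonempty_standardEtalePresentation
  -- the algebra structure on `K`
  letI : Algebra S' K := u'.toAlgebra
  have hχf_comm : ∀ s : S', χf (algebraMap S' (Localization.Away f) s) = u' s := by
    intro s
    rw [IsScalarTower.algebraMap_apply S' E' (Localization.Away f), hχf_alg]
    exact RingHom.congr_fun hχ s
  let χfA : Localization.Away f →ₐ[S'] K := { χf with commutes' := hχf_comm }
  let xbar : K := χfA Pres.x
  have hmapK : Pres.P.HasMap xbar := Pres.hasMap.map χfA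
  have h1 : Pres.P.f.eval₂ u' xbar = 0 := by
    have := hmapK.1
    rwa [aeval_def] at this
  have h2 : Pres.P.f.derivative.eval₂ u' xbar ≠ 0 := by
    have := hmapK.isUnit_derivative_f
    rw [aeval_def] at this
    exact this.ne_zero
  have H := ((HenselianLocalRing.TFAE S').out 0 2).mp (inferInstance : HenselianLocalRing S')
  obtain ⟨a, ha, hax⟩ := H u' hu' Pres.P.f Pres.P.monic_f xbar h1 h2
  have hga : IsUnit (aeval a Pres.P.g) := by
    apply isUnit_of_map_ne_zero u' hu'
    have : u' (aeval a Pres.P.g) = Pres.P.g.eval₂ u' xbar := by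
      rw [aeval_def, Algebra.algebraMap_self, eval₂_id, ← hax, Polynomial.eval₂_at_apply]
    rw [this]
    have := hmapK.2
    rw [aeval_def] at this
    exact this.ne_zero
  have hmapS : Pres.P.HasMap a := ⟨by rw [aeval_def, Algebra.algebraMap_self, eval₂_id]; exact ha, hga⟩
  let τ : Pres.P.Ring →ₐ[S'] S' := Pres.P.lift a hmapS
  let σf : Localization.Away f →ₐ[S'] S' := τ.comp Pres.equivRing.toAlgHom
  have hσf : (Algebra.ofId S' K).comp σf = χfA := by
    apply Pres.hom_ext
    show u' (τ (Pres.equivRing Pres.x)) = xbar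
    rw [Pres.equivRing_x]
    show u' (Pres.P.lift a hmapS Pres.P.X) = xbar
    rw [Pres.P.lift_X]
    exact hax
  refine ⟨σf.comp (IsScalarTower.toAlgHom S' E' (Localization.Away f)), ?_⟩
  ext x
  have := congrArg (fun g => g (algebraMap E' (Localization.Away f) x)) hσf
  simp only [AlgHom.comp_apply] at this
  show u' (σf (algebraMap E' (Localization.Away f) x)) = χ x
  rw [← hχf_alg x]
  exact this

/-- Two maps from an unramified algebra to a local ring agreeing in the residue field agree. -/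
theorem eq_of_comp_eq {R E S' K : Type u} [CommRing R] [CommRing E] [CommRing S'] [IsLocalRing S']
    [Field K] [Algebra R E] [Algebra R S'] [Algebra.EssFiniteType R E]
    [Algebra.FormallyUnramified R E] (u' : S' →+* K) (a b : E →ₐ[R] S')
    (h : ∀ x, u' (a x) = u' (b x)) : a = b := by
  obtain ⟨e₀, he₀, hsp⟩ : ∃ e, IsIdempotentElem e ∧ KaehlerDifferential.ideal R E = E ⊗[R] E ∙ e :=
    (Ideal.isIdempotentElem_iff_of_fg _ (KaehlerDifferential.ideal_fg R E)).mp <|
      (Ideal.cotangent_subsingleton_iff _).mp <| inferInstanceAs <| Subsingleton Ω[E⁄R]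
  let θ : E ⊗[R] E →ₐ[R] S' := Algebra.TensorProduct.lift a b (fun _ _ => Commute.all _ _)
  have hθt : ∀ x y : E, θ (x ⊗ₜ[R] y) = a x * b y := fun x y => by simp [θ]
  have he₀mem : e₀ ∈ KaehlerDifferential.ideal R E := by
    rw [hsp]; exact Submodule.mem_span_singleton_self _
  -- `u' ∘ θ` factors through multiplication
  have hu'θ : ∀ z : E ⊗[R] E, u' (θ z) = u' (a (Algebra.TensorProduct.lmul' R z)) := by
    intro z
    induction z using TensorProduct.induction_on with
    | zero => simp
    | tmul x y => rw [hθt, Algebra.TensorProduct.lmul'_apply_tmul, map_mul, map_mul, map_mul, h y]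
    | add z₁ z₂ h₁ h₂ => rw [map_add, map_add, h₁, h₂, map_add, map_add, map_add]
  have hθe : θ e₀ = 0 := by
    have hidem : IsIdempotentElem (θ e₀) := he₀.map θ
    have hu0 : u' (θ e₀) = 0 := by
      rw [hu'θ]
      have : Algebra.TensorProduct.lmul' R e₀ = 0 := he₀mem
      rw [this, map_zero, map_zero]
    rcases IsLocalRing.isUnit_or_isUnit_one_sub_self (θ e₀) with hu | hu
    · exact absurd hu0 (hu.map u').ne_zero
    · have : θ e₀ * (1 - θ e₀) = 0 := by rw [mul_sub, mul_one, hidem.eq, sub_self]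
      exact (hu.mul_left_eq_zero).mp this
  ext x
  have hx : (x ⊗ₜ[R] (1 : E) - (1 : E) ⊗ₜ[R] x) ∈ KaehlerDifferential.ideal R E := by
    have := KaehlerDifferential.one_smul_sub_smul_one_mem_ideal R x
    have h2 : x ⊗ₜ[R] (1 : E) - (1 : E) ⊗ₜ[R] x = -((1 : E) ⊗ₜ[R] x - x ⊗ₜ[R] (1 : E)) := by
      ring
    rw [h2]
    exact neg_mem this
  rw [hsp] at hx
  obtain ⟨w, hw⟩ := Submodule.mem_span_singleton.mp hx
  have h3 : θ (x ⊗ₜ[R] (1 : E) - (1 : E) ⊗ₜ[R] x) = 0 := by
    rw [← hw, smul_eq_mul, map_mul, hθe, mul_zero]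
  rw [map_sub, hθt, hθt, map_one, map_one, mul_one, one_mul, sub_eq_zero] at h3
  exact h3

/-- Unique lifting of maps from an étale algebra to the residue field of a henselian local
ring. -/
theorem existsUnique_lift {R E S' K : Type u} [CommRing R] [CommRing E] [CommRing S']
    [HenselianLocalRing S'] [Field K] [Algebra R E] [Algebra R S'] [Algebra R K]
    [Algebra.Etale R E] (u' : S' →ₐ[R] K) (hu' : Function.Surjective u') (ψ : E →ₐ[R] K) :
    ∃! σ : E →ₐ[R] S', u'.comp σ = ψ := by
  let χ : S' ⊗[R] E →ₐ[R] K := Algebra.TensorProduct.lift u' ψ (fun _ _ => Commute.all _ _)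
  have hχt : ∀ (s : S') (x : E), χ (s ⊗ₜ[R] x) = u' s * ψ x := fun s x => by simp [χ]
  obtain ⟨σ', hσ'⟩ := exists_section (E' := S' ⊗[R] E) u'.toRingHom hu' χ.toRingHom (by
    ext s
    show χ (s ⊗ₜ[R] (1 : E)) = u' s
    rw [hχt, map_one, mul_one])
  refine ⟨(σ'.restrictScalars R).comp Algebra.TensorProduct.includeRight, ?_, ?_⟩
  · ext x
    have := RingHom.congr_fun hσ' ((1 : S') ⊗ₜ[R] x)
    show u' (σ' ((1 : S') ⊗ₜ[R] x)) = ψ x
    have h2 : χ ((1 : S') ⊗ₜ[R] x) = ψ x := by rw [hχt, map_one, one_mul]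
    rw [← h2]
    exact this
  · intro τ hτ
    apply eq_of_comp_eq u'.toRingHom
    intro x
    have h1 := AlgHom.congr_fun hτ x
    show u' (τ x) = u' (σ' ((1 : S') ⊗ₜ[R] x))
    have := RingHom.congr_fun hσ' ((1 : S') ⊗ₜ[R] x)
    have h2 : χ ((1 : S') ⊗ₜ[R] x) = ψ x := by rw [hχt, map_one, one_mul]
    have h3 : u' (σ' ((1 : S') ⊗ₜ[R] x)) = ψ x := by rw [← h2]; exact this
    rw [h3]
    exact h1

end Groth.Agent.Lib.Helper6.HensLift
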