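import Mathlib
import Groth.Prelude.Def_PBC
import Groth.Agent.Lib.Helper6.HensLift

open CategoryTheory CategoryTheory.Limits

namespace Groth.Agent.Lib.Helper6.HensIndEt

universe u

variable {R : Type u} [CommRing R]

/-- The algebra map underlying a morphism of `Under R` into `B`. -/
def algOfHom (Y : Under (CommRingCat.of R)) (B : Type u) [CommRing B] [Algebra R B]
    (g : Y ⟶ Under.mk (CommRingCat.ofHom (algebraMap R B))) :
    letI := Y.hom.hom.toAlgebra; Y.right →ₐ[R] B :=
  letI := Y.hom.hom.toAlgebra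
  { toRingHom := g.right.hom
    commutes' := fun r => congr($(Under.w g).hom r) }

/-- The morphism of `Under R` given by an algebra map. -/
def homOfAlg (Y : Under (CommRingCat.of R)) (B : Type u) [CommRing B] [Algebra R B]
    (f : letI := Y.hom.hom.toAlgebra; Y.right →ₐ[R] B) :
    Y ⟶ Under.mk (CommRingCat.ofHom (algebraMap R B)) :=
  letI := Y.hom.hom.toAlgebra
  Under.homMk (CommRingCat.ofHom f.toRingHom) (by ext r; exact f.commutes r)

theorem algOfHom_homOfAlg (Y : Under (CommRingCat.of R)) (B : Type u) [CommRing B] [Algebra R B]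
    (f : letI := Y.hom.hom.toAlgebra; Y.right →ₐ[R] B) :
    algOfHom Y B (homOfAlg Y B f) = f := by
  letI := Y.hom.hom.toAlgebra
  ext x
  rfl

theorem homOfAlg_algOfHom (Y : Under (CommRingCat.of R)) (B : Type u) [CommRing B] [Algebra R B]
    (g : Y ⟶ Under.mk (CommRingCat.ofHom (algebraMap R B))) :
    homOfAlg Y B (algOfHom Y B g) = g := by
  ext x
  rfl

/-- The morphism between `Under.mk`s given by an algebra map. -/
def mkHom {B C : Type u} [CommRing B] [Algebra R B] [CommRing C] [Algebra R C] (h : B →ₐ[R] C) :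
    Under.mk (CommRingCat.ofHom (algebraMap R B)) ⟶
      Under.mk (CommRingCat.ofHom (algebraMap R C)) :=
  Under.homMk (CommRingCat.ofHom h.toRingHom) (by ext r; exact h.commutes r)

/-- The algebra map given by a morphism between `Under.mk`s. -/
def algOfMk {B C : Type u} [CommRing B] [Algebra R B] [CommRing C] [Algebra R C]
    (g : Under.mk (CommRingCat.ofHom (algebraMap R B)) ⟶
      Under.mk (CommRingCat.ofHom (algebraMap R C))) : B →ₐ[R] C :=
  { toRingHom := g.right.hom
    commutes' := fun r => congr($(Under.w g).hom r) }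

theorem algOfMk_mkHom {B C : Type u} [CommRing B] [Algebra R B] [CommRing C] [Algebra R C]
    (h : B →ₐ[R] C) : algOfMk (mkHom h) = h := by
  ext x
  rfl

theorem mkHom_algOfMk {B C : Type u} [CommRing B] [Algebra R B] [CommRing C] [Algebra R C]
    (g : Under.mk (CommRingCat.ofHom (algebraMap R B)) ⟶
      Under.mk (CommRingCat.ofHom (algebraMap R C))) : mkHom (algOfMk g) = g := by
  ext x
  rfl

theorem algOfHom_comp (Y : Under (CommRingCat.of R)) (B C : Type u) [CommRing B] [Algebra R B]
    [CommRing C] [Algebra R C]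
    (g : Y ⟶ Under.mk (CommRingCat.ofHom (algebraMap R B))) (h : B →ₐ[R] C) :
    algOfHom Y C (g ≫ mkHom h) = (letI := Y.hom.hom.toAlgebra; h.comp (algOfHom Y B g)) := by
  letI := Y.hom.hom.toAlgebra
  ext x
  rfl

theorem homOfAlg_comp (Y : Under (CommRingCat.of R)) (B C : Type u) [CommRing B] [Algebra R B]
    [CommRing C] [Algebra R C]
    (f : letI := Y.hom.hom.toAlgebra; Y.right →ₐ[R] B) (h : B →ₐ[R] C) :
    homOfAlg Y B f ≫ mkHom h = homOfAlg Y C (letI := Y.hom.hom.toAlgebra; h.comp f) := by
  ext x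
  rfl

theorem mkHom_comp {B C E : Type u} [CommRing B] [Algebra R B] [CommRing C] [Algebra R C]
    [CommRing E] [Algebra R E] (h : B →ₐ[R] C) (k : C →ₐ[R] E) :
    mkHom h ≫ mkHom k = mkHom (k.comp h) := by
  ext x
  rfl

theorem mkHom_injective {B C : Type u} [CommRing B] [Algebra R B] [CommRing C] [Algebra R C]
    {h k : B →ₐ[R] C} (e : mkHom h = mkHom k) : h = k := by
  rw [← algOfMk_mkHom h, ← algOfMk_mkHom k, e]

/-- Maps from an ind-étale algebra to the residue field of a henselian local ring lift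
uniquely. -/
theorem existsUnique_lift_indEtale {S S' K : Type u} [CommRing S] [CommRing S']
    [HenselianLocalRing S'] [Field K] [Algebra R S] [Algebra R S'] [Algebra R K]
    (hS : EtPBC.IsIndEtale R S) (u' : S' →ₐ[R] K) (hu' : Function.Surjective u')
    (v : S →ₐ[R] K) : ∃! e : S →ₐ[R] S', u'.comp e = v := by
  obtain ⟨J, _, _, D, c, hc, hEt, ⟨iso⟩⟩ := hS
  letI alg : ∀ j, Algebra R ((D.obj j).right : Type u) := fun j => (D.obj j).hom.hom.toAlgebra
  haveI et : ∀ j, Algebra.Etale R ((D.obj j).right : Type u) := hEt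
  let φ : ∀ j, ((D.obj j).right : Type u) →ₐ[R] S :=
    fun j => algOfHom (D.obj j) S (c.ι.app j ≫ iso.hom)
  have hφ : ∀ j, homOfAlg (D.obj j) S (φ j) = c.ι.app j ≫ iso.hom :=
    fun j => homOfAlg_algOfHom _ _ _
  have hφw : ∀ (j k : J) (f : j ⟶ k) (x : (D.obj j).right),
      φ k ((D.map f).right.hom x) = φ j x := by
    intro j k f x
    have := congr(($(c.w f)).right.hom x)
    exact congrArg iso.hom.right.hom this
  have key : ∀ j, ∃! σ : ((D.obj j).right : Type u) →ₐ[R] S', u'.comp σ = v.comp (φ j) :=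
    fun j => Groth.Agent.Lib.Helper6.HensLift.existsUnique_lift u' hu' _
  choose lam hlam hlamu using key
  let cc : Cocone D :=
    { pt := Under.mk (CommRingCat.ofHom (algebraMap R S'))
      ι :=
        { app := fun j => homOfAlg (D.obj j) S' (lam j)
          naturality := fun j k f => by
            have h1 : algOfHom (D.obj j) S' (D.map f ≫ homOfAlg (D.obj k) S' (lam k)) = lam j := by
              apply hlamu j
              ext x
              have h2 := AlgHom.congr_fun (hlam k) ((D.map f).right.hom x)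
              show u' (lam k ((D.map f).right.hom x)) = v (φ j x)
              rw [← hφw j k f x]
              exact h2
            rw [← homOfAlg_algOfHom (D.obj j) S' (D.map f ≫ homOfAlg (D.obj k) S' (lam k)), h1]
            simp } }
  have hcomp : ∀ (e' : S →ₐ[R] S') (j : J),
      (c.ι.app j ≫ iso.hom) ≫ mkHom e' = homOfAlg (D.obj j) S' (e'.comp (φ j)) := by
    intro e' j
    rw [← hφ j, homOfAlg_comp]
  have hcompK : ∀ (j : J),
      (c.ι.app j ≫ iso.hom) ≫ mkHom v = homOfAlg (D.obj j) K (v.comp (φ j)) := by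
    intro j
    rw [← hφ j, homOfAlg_comp]
  refine ⟨algOfMk (iso.inv ≫ hc.desc cc), ?_, ?_⟩
  · apply mkHom_injective
    rw [← mkHom_comp, mkHom_algOfMk]
    rw [Category.assoc, Iso.inv_comp_eq]
    apply hc.hom_ext
    intro j
    rw [← Category.assoc, ← Category.assoc, hc.fac, hcompK]
    show homOfAlg (D.obj j) S' (lam j) ≫ mkHom u' = _
    rw [homOfAlg_comp, hlam j]
  · intro e' he'
    apply mkHom_injective
    rw [mkHom_algOfMk, Iso.eq_inv_comp]
    apply hc.uniq cc
    intro j
    rw [← Category.assoc, hcomp]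
    show homOfAlg (D.obj j) S' (e'.comp (φ j)) = homOfAlg (D.obj j) S' (lam j)
    congr 1
    apply hlamu j
    rw [← AlgHom.comp_assoc, he']

end Groth.Agent.Lib.Helper6.HensIndEt
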