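import Mathlib
import Groth.Prelude.Def_HopfRep

/-!
# The subcomodule generated by a vector (helper for S5376)
-/

namespace Groth.Agent.Lib.Helper6.ComodOrbit

open TensorProduct

universe u

set_option linter.unusedSectionVars false
set_option linter.style.haveILetI false

/-- Weak Nullstellensatz for reduced finite type algebras over an algebraically closed field. -/
theorem eq_zero_of_forall_algHom (k : Type u) [Field k] [IsAlgClosed k] (A : Type u) [CommRing A]
    [Algebra k A] [Algebra.FiniteType k A] [IsReduced A] (a : A)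
    (h : ∀ g : A →ₐ[k] k, g a = 0) : a = 0 := by
  haveI : IsJacobsonRing A := isJacobsonRing_of_finiteType (A := k) (B := A)
  have hmem : a ∈ (⊥ : Ideal A).jacobson := by
    rw [Ideal.jacobson, Ideal.mem_sInf]
    rintro m ⟨-, hm⟩
    haveI := hm
    letI : Field (A ⧸ m) := Ideal.Quotient.field m
    haveI : Algebra.FiniteType k (A ⧸ m) :=
      Algebra.FiniteType.of_surjective (Ideal.Quotient.mkₐ k m) (Ideal.Quotient.mkₐ_surjective k m)
    haveI : Module.Finite k (A ⧸ m) := finite_of_finite_type_of_isJacobsonRing k (A ⧸ m)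
    have hbij : Function.Bijective (algebraMap k (A ⧸ m)) :=
      IsAlgClosed.algebraMap_bijective_of_isIntegral
    let e : k ≃ₐ[k] (A ⧸ m) := AlgEquiv.ofBijective (Algebra.ofId k (A ⧸ m)) hbij
    let g : A →ₐ[k] k := e.symm.toAlgHom.comp (Ideal.Quotient.mkₐ k m)
    have hg := h g
    have : Ideal.Quotient.mk m a = 0 := by
      have h2 : e.symm (Ideal.Quotient.mk m a) = 0 := hg
      simpa using h2
    exact Ideal.Quotient.eq_zero_iff_mem.1 this
  rw [← Ideal.radical_eq_jacobson] at hmem
  have : (⊥ : Ideal A).radical = ⊥ := nilradical_eq_zero A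
  rw [this] at hmem
  exact hmem

section

variable {k : Type u} [Field k] {A : Type u} [AddCommGroup A] [Module k A] [Coalgebra k A]
  {V : Type u} [AddCommGroup V] [Module k V] [HopfRep.Comod k A V]

/-- convolution of functionals -/
noncomputable def cv (χ φ : A →ₗ[k] k) : A →ₗ[k] k :=
  LinearMap.mul' k k ∘ₗ TensorProduct.map χ φ ∘ₗ Coalgebra.comul

/-- generalized action of a functional on a comodule -/
noncomputable def rho (φ : A →ₗ[k] k) : V →ₗ[k] V :=
  (TensorProduct.rid k V).toLinearMap ∘ₗ LinearMap.lTensor V φ ∘ₗ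
    HopfRep.Comod.coact (k := k) (A := A)

lemma rho_rho (ψ φ : A →ₗ[k] k) (v : V) : rho ψ (rho φ v) = rho (cv ψ φ) v := by
  -- H : V ⊗ (A ⊗ A) → V
  let H : V ⊗[k] (A ⊗[k] A) →ₗ[k] V :=
    (TensorProduct.rid k V).toLinearMap ∘ₗ
      LinearMap.lTensor V (LinearMap.mul' k k ∘ₗ TensorProduct.map ψ φ)
  have key : ∀ (a : A) (s : V ⊗[k] A),
      φ a • (TensorProduct.rid k V) (LinearMap.lTensor V ψ s)
        = H (TensorProduct.assoc k V A A (s ⊗ₜ[k] a)) := by
    intro a s
    induction s using TensorProduct.induction_on with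
    | zero => simp
    | tmul x b => simp [H, smul_smul, mul_comm]
    | add x y hx hy => simp only [map_add, smul_add, TensorProduct.add_tmul, hx, hy]
  have h1 : (rho ψ : V →ₗ[k] V) ∘ₗ (TensorProduct.rid k V).toLinearMap ∘ₗ LinearMap.lTensor V φ
      = H ∘ₗ (TensorProduct.assoc k V A A).toLinearMap ∘ₗ
          (HopfRep.Comod.coact (k := k) (A := A) : V →ₗ[k] V ⊗[k] A).rTensor A := by
    apply TensorProduct.ext'
    intro w a
    simp only [LinearMap.coe_comp, LinearEquiv.coe_coe, Function.comp_apply,
      LinearMap.lTensor_tmul, TensorProduct.rid_tmul, map_smul, LinearMap.rTensor_tmul]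
    rw [← key]
    rfl
  have h2 : H ∘ₗ (Coalgebra.comul (R := k) (A := A)).lTensor V
      = (TensorProduct.rid k V).toLinearMap ∘ₗ LinearMap.lTensor V (cv ψ φ) := by
    simp only [H, cv, LinearMap.comp_assoc, ← LinearMap.lTensor_comp]
  have hco := HopfRep.Comod.coassoc (k := k) (A := A) (V := V)
  calc rho ψ (rho φ v)
      = ((rho ψ : V →ₗ[k] V) ∘ₗ (TensorProduct.rid k V).toLinearMap ∘ₗ LinearMap.lTensor V φ)
          (HopfRep.Comod.coact (k := k) (A := A) v) := rfl
    _ = H (((TensorProduct.assoc k V A A).toLinearMap ∘ₗ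
          (HopfRep.Comod.coact (k := k) (A := A) : V →ₗ[k] V ⊗[k] A).rTensor A ∘ₗ
          HopfRep.Comod.coact (k := k) (A := A)) v) := by rw [h1]; rfl
    _ = (H ∘ₗ (Coalgebra.comul (R := k) (A := A)).lTensor V)
          (HopfRep.Comod.coact (k := k) (A := A) v) := by rw [hco]; rfl
    _ = rho (cv ψ φ) v := by rw [h2]; rfl

lemma rho_counit (v : V) : rho (Coalgebra.counit (R := k) (A := A)) v = v := by
  have h := LinearMap.congr_fun (HopfRep.Comod.counit_comp (k := k) (A := A) (V := V)) v
  simp only [LinearMap.coe_comp, Function.comp_apply, LinearMap.flip_apply,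
    TensorProduct.mk_apply] at h
  simp only [rho, LinearMap.coe_comp, LinearEquiv.coe_coe, Function.comp_apply, h,
    TensorProduct.rid_tmul, one_smul]

/-- if all contractions of `t ∈ V ⊗ A` lie in `W`, then `t ∈ W ⊗ A`. -/
lemma mem_range_rTensor (W : Submodule k V) (t : V ⊗[k] A)
    (h : ∀ χ : A →ₗ[k] k, TensorProduct.rid k V (LinearMap.lTensor V χ t) ∈ W) :
    t ∈ LinearMap.range (W.subtype.rTensor A) := by
  classical
  let b := Module.Basis.ofVectorSpace k A
  have hc : ∀ i, TensorProduct.equivFinsuppOfBasisRight b t i ∈ W := by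
    intro i
    rw [TensorProduct.equivFinsuppOfBasisRight_apply]
    exact h _
  have ht : t = (TensorProduct.equivFinsuppOfBasisRight b t).sum fun i m => m ⊗ₜ[k] b i := by
    rw [← TensorProduct.equivFinsuppOfBasisRight_symm_apply, LinearEquiv.symm_apply_apply]
  rw [ht]
  apply Submodule.sum_mem
  intro i _
  exact ⟨(⟨_, hc i⟩ : W) ⊗ₜ[k] b i, by simp⟩

/-- `φ ↦ rho φ v` as a linear map. -/
noncomputable def Theta (v : V) : (A →ₗ[k] k) →ₗ[k] V where
  toFun φ := rho φ v
  map_add' φ ψ := by
    simp only [rho, LinearMap.coe_comp, LinearEquiv.coe_coe, Function.comp_apply,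
      LinearMap.lTensor_add, LinearMap.add_apply, map_add]
  map_smul' c φ := by
    simp only [rho, LinearMap.coe_comp, LinearEquiv.coe_coe, Function.comp_apply,
      LinearMap.lTensor_smul, LinearMap.smul_apply, map_smul, RingHom.id_apply]

/-- the subcomodule generated by `v`. -/
noncomputable def gen (v : V) : Submodule k V := LinearMap.range (Theta (k := k) (A := A) v)

lemma mem_gen (v : V) : v ∈ gen (k := k) (A := A) v :=
  ⟨Coalgebra.counit, rho_counit v⟩

lemma gen_isSubcomod (v : V) : HopfRep.IsSubcomod (k := k) (A := A) (gen (k := k) (A := A) v) := by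
  rintro _ ⟨φ, rfl⟩
  apply mem_range_rTensor
  intro χ
  exact ⟨cv χ φ, (rho_rho χ φ v).symm⟩

lemma gen_le (v : V) (W : Submodule k V) (hW : HopfRep.IsSubcomod (k := k) (A := A) W)
    (hv : v ∈ W) : gen (k := k) (A := A) v ≤ W := by
  rintro _ ⟨φ, rfl⟩
  obtain ⟨s, hs⟩ := hW v hv
  change rho φ v ∈ W
  simp only [rho, LinearMap.coe_comp, LinearEquiv.coe_coe, Function.comp_apply, ← hs]
  have : ∀ s : W ⊗[k] A, (TensorProduct.rid k V)
      ((LinearMap.lTensor V φ) ((LinearMap.rTensor A W.subtype) s)) ∈ W := by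
    intro s
    induction s using TensorProduct.induction_on with
    | zero => simp
    | tmul x b =>
      simp only [LinearMap.rTensor_tmul, Submodule.subtype_apply, LinearMap.lTensor_tmul,
        TensorProduct.rid_tmul]
      exact W.smul_mem _ x.2
    | add x y hx hy =>
      simp only [map_add]
      exact W.add_mem hx hy
  exact this s

/-- pairing identity -/
lemma pairing (lam : V →ₗ[k] k) (φ : A →ₗ[k] k) (t : V ⊗[k] A) :
    φ (TensorProduct.lid k A (LinearMap.rTensor A lam t))
      = lam (TensorProduct.rid k V (LinearMap.lTensor V φ t)) := by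
  induction t using TensorProduct.induction_on with
  | zero => simp
  | tmul x b => simp [mul_comm]
  | add x y hx hy => simp only [map_add, hx, hy]

end

section Hopf

variable {k : Type u} [Field k] [IsAlgClosed k] {A : Type u} [CommRing A] [HopfAlgebra k A]
  [Algebra.FiniteType k A] [IsReduced A]
  {V : Type u} [AddCommGroup V] [Module k V] [HopfRep.Comod k A V]

lemma act_eq_rho (g : A →ₐ[k] k) (v : V) : HopfRep.Comod.act k A V g v = rho g.toLinearMap v := rfl

theorem gen_le_orbit (v : V) :
    gen (k := k) (A := A) v ≤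
      Submodule.span k (Set.range fun g : A →ₐ[k] k => HopfRep.Comod.act k A V g v) := by
  set E := Submodule.span k (Set.range fun g : A →ₐ[k] k => HopfRep.Comod.act k A V g v) with hE
  rintro _ ⟨φ, rfl⟩
  change rho φ v ∈ E
  by_contra hx
  obtain ⟨lam, hlam, hker⟩ := Submodule.exists_le_ker_of_notMem hx
  set t := HopfRep.Comod.coact (k := k) (A := A) v with ht
  let a : A := TensorProduct.lid k A (LinearMap.rTensor A lam t)
  have ha : a = 0 := by
    apply eq_zero_of_forall_algHom k A
    intro g
    have h1 := pairing lam g.toLinearMap t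
    have h2 : (TensorProduct.rid k V) ((LinearMap.lTensor V g.toLinearMap) t)
        = HopfRep.Comod.act k A V g v := rfl
    rw [h2] at h1
    have h3 : HopfRep.Comod.act k A V g v ∈ E := Submodule.subset_span ⟨g, rfl⟩
    have h4 : lam (HopfRep.Comod.act k A V g v) = 0 := hker h3
    rw [h4] at h1
    exact h1
  apply hlam
  have h5 := pairing lam φ t
  change φ a = lam (rho φ v) at h5
  rw [← h5, ha, map_zero]

theorem orbit_result (v : V) :
    letI E : Submodule k V :=
      Submodule.span k (Set.range fun g : A →ₐ[k] k => HopfRep.Comod.act k A V g v)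
    HopfRep.IsSubcomod (k := k) (A := A) E ∧ v ∈ E ∧
      ∀ W : Submodule k V, HopfRep.IsSubcomod (k := k) (A := A) W → v ∈ W → E ≤ W := by
  set E : Submodule k V :=
      Submodule.span k (Set.range fun g : A →ₐ[k] k => HopfRep.Comod.act k A V g v) with hE
  have hEle : E ≤ gen (k := k) (A := A) v := by
    rw [Submodule.span_le]
    rintro _ ⟨g, rfl⟩
    exact ⟨g.toLinearMap, rfl⟩
  have hEeq : E = gen (k := k) (A := A) v := le_antisymm hEle (gen_le_orbit v)
  refine ⟨?_, ?_, ?_⟩
  · rw [hEeq]; exact gen_isSubcomod v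
  · rw [hEeq]; exact mem_gen v
  · intro W hW hv
    rw [hEeq]; exact gen_le v W hW hv

end Hopf

end Groth.Agent.Lib.Helper6.ComodOrbit
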