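import Mathlib.RingTheory.AdicCompletion.Functoriality
import Mathlib.RingTheory.AdicCompletion.Algebra
import Mathlib.RingTheory.AdicCompletion.AsTensorProduct
import Mathlib.RingTheory.LocalRing.MaximalIdeal.Basic
import Mathlib.RingTheory.Filtration
import Mathlib.Tactic

set_option autoImplicit false
universe u

namespace Groth.Agent.Helper6.ComplSub

open IsLocalRing

variable {R : Type u} [CommRing R] [IsNoetherianRing R] [IsLocalRing R]
  {M : Type u} [AddCommGroup M] [Module R M] [Module.Finite R M]

/-- Krull intersection relative to a submodule. -/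
theorem mem_of_forall_mem_sup (N : Submodule R M) (x : M)
    (h : ∀ k : ℕ, ∃ n ∈ N, x - n ∈ (maximalIdeal R ^ k • ⊤ : Submodule R M)) : x ∈ N := by
  have hbot := Ideal.iInf_pow_smul_eq_bot_of_isLocalRing (R := R) (M := M ⧸ N) (maximalIdeal R)
    Ideal.IsPrime.ne_top'
  have hx : N.mkQ x ∈ (⨅ i : ℕ, maximalIdeal R ^ i • ⊤ : Submodule R (M ⧸ N)) := by
    rw [Submodule.mem_iInf]
    intro k
    obtain ⟨n, hn, hxn⟩ := h k
    have h1 : N.mkQ x = N.mkQ (x - n) := by
      have h0 : N.mkQ n = 0 := (Submodule.Quotient.mk_eq_zero N).2 hn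
      rw [map_sub, h0, sub_zero]
    rw [h1]
    have h2 : (maximalIdeal R ^ k • ⊤ : Submodule R (M ⧸ N))
        = (maximalIdeal R ^ k • ⊤ : Submodule R M).map N.mkQ := by
      rw [Submodule.map_smul'', Submodule.map_top, Submodule.range_mkQ]
    rw [h2]
    exact Submodule.mem_map_of_mem hxn
  rw [hbot, Submodule.mem_bot] at hx
  exact (Submodule.Quotient.mk_eq_zero N).1 hx

theorem main (N : Submodule R M)
    (N' : Submodule (AdicCompletion (maximalIdeal R) R) (AdicCompletion (maximalIdeal R) M))
    (hle : ∀ x ∈ N, AdicCompletion.of (maximalIdeal R) M x ∈ N')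
    (hdense : ∀ y ∈ N', ∀ k : ℕ, ∃ x ∈ N,
      AdicCompletion.eval (maximalIdeal R) M k y = Submodule.Quotient.mk x) :
    (N'.restrictScalars R =
        (LinearMap.range (AdicCompletion.map (maximalIdeal R) N.subtype)).restrictScalars R) ∧
      (∀ x : M, x ∈ N ↔ AdicCompletion.of (maximalIdeal R) M x ∈ N') := by
  constructor
  · apply le_antisymm
    · intro y hy
      have hy' : y ∈ N' := hy
      obtain ⟨c, hc⟩ := Ideal.exists_pow_inf_eq_pow_smul (maximalIdeal R) N
      choose x hxN hx using fun k => hdense y hy' k
      have hdiff : ∀ m n : ℕ, m ≤ n → x m - x n ∈ (maximalIdeal R ^ m • ⊤ : Submodule R M) := by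
        intro m n hmn
        have h1 := AdicCompletion.transitionMap_comp_eval_apply (maximalIdeal R) M hmn y
        have e1 : y.val n = Submodule.Quotient.mk (x n) := hx n
        have e2 : y.val m = Submodule.Quotient.mk (x m) := hx m
        rw [e1, e2] at h1
        have h2 : (Submodule.Quotient.mk (x n) : M ⧸ (maximalIdeal R ^ m • ⊤ : Submodule R M))
            = Submodule.Quotient.mk (x m) := h1
        rw [eq_comm, Submodule.Quotient.eq] at h2
        exact h2
      let a : ℕ → N := fun k => ⟨x (k + c), hxN (k + c)⟩
      have hcauchy : ∀ k, a k ≡ a (k + 1) [SMOD (maximalIdeal R ^ k • ⊤ : Submodule R N)] := by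
        intro k
        rw [SModEq.sub_mem]
        have h1 : x (k + c) - x (k + 1 + c) ∈
            (maximalIdeal R ^ (k + c) • ⊤ : Submodule R M) ⊓ N :=
          ⟨hdiff (k + c) (k + 1 + c) (by omega), N.sub_mem (hxN _) (hxN _)⟩
        rw [hc (k + c) (by omega), Nat.add_sub_cancel] at h1
        have h2 : (maximalIdeal R ^ k • ((maximalIdeal R ^ c • ⊤ : Submodule R M) ⊓ N))
            ≤ (maximalIdeal R ^ k • N) := Submodule.smul_mono le_rfl inf_le_right
        have h3 := h2 h1
        have h4 : (maximalIdeal R ^ k • N : Submodule R M)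
            = (maximalIdeal R ^ k • ⊤ : Submodule R N).map N.subtype := by
          rw [Submodule.map_smul'', Submodule.map_top, Submodule.range_subtype]
        rw [h4] at h3
        obtain ⟨w, hw, hw'⟩ := h3
        have : w = a k - a (k + 1) := by
          apply Subtype.ext
          rw [← Submodule.subtype_apply, hw']
          rfl
        rw [← this]
        exact hw
      refine ⟨AdicCompletion.mk (maximalIdeal R) N
        (AdicCompletion.AdicCauchySequence.mk (maximalIdeal R) N a hcauchy), ?_⟩
      apply AdicCompletion.ext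
      intro k
      rw [AdicCompletion.map_mk]
      show Submodule.mkQ _ (x (k + c)) = y.val k
      have e2 : y.val k = Submodule.Quotient.mk (x k) := hx k
      rw [e2, Submodule.mkQ_apply, eq_comm, Submodule.Quotient.eq]
      exact hdiff k (k + c) (by omega)
    · rintro y ⟨z, rfl⟩
      show _ ∈ N'
      obtain ⟨t, rfl⟩ := AdicCompletion.ofTensorProduct_surjective_of_finite (maximalIdeal R) N z
      induction t using TensorProduct.induction_on with
      | zero => rw [map_zero, map_zero]; exact N'.zero_mem
      | tmul r n =>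
        rw [AdicCompletion.ofTensorProduct_tmul, map_smul, AdicCompletion.map_of]
        exact N'.smul_mem r (hle n n.2)
      | add a b ha hb =>
        rw [map_add, map_add]
        exact N'.add_mem ha hb
  · intro x
    constructor
    · exact hle x
    · intro hx
      apply mem_of_forall_mem_sup N x
      intro k
      obtain ⟨n, hn, hxn⟩ := hdense _ hx k
      refine ⟨n, hn, ?_⟩
      rw [AdicCompletion.eval_of, Submodule.mkQ_apply, Submodule.Quotient.eq] at hxn
      exact hxn

end Groth.Agent.Helper6.ComplSub
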