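import Mathlib
import Groth.Agent.Lib.Helper2.CompleteNoeth
import Groth.Agent.Lib.Helper1.MiscL

/-!
# Dimension of the completion of a finite module over a Noetherian ring along an ideal
contained in the Jacobson radical (helper6, for S5811)

* `dim_quot_le`, `dim_quot_ge`: for a flat map of Noetherian rings `A → B` inducing a bijection
  on maximal ideals (`m ↦ mB`), `dim B/JB = dim A/J`.
* `dim_quot_completion`, `supportDim_completion`.
-/

set_option autoImplicit false
set_option linter.unusedSectionVars false
set_option linter.unusedVariables false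
set_option linter.unusedSimpArgs false
set_option linter.style.haveILetI false
set_option linter.overlappingInstances false
set_option maxHeartbeats 800000

universe u

namespace Groth.Agent.Lib.Helper6.CplDim

open TensorProduct

section Pair

variable {A B : Type u} [CommRing A] [CommRing B] [Algebra A B]

/-- `dim B/JB ≤ dim A/J` if every maximal ideal of `B` is extended from its (maximal)
contraction. -/
theorem dim_quot_le [IsNoetherianRing A] [IsNoetherianRing B]
    (h5 : ∀ n : Ideal B, n.IsMaximal → (n.comap (algebraMap A B)).IsMaximal ∧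
      n = (n.comap (algebraMap A B)).map (algebraMap A B))
    (J : Ideal A) :
    ringKrullDim (B ⧸ J.map (algebraMap A B)) ≤ ringKrullDim (A ⧸ J) := by
  rw [ringKrullDim_le_iff_isMaximal_height_le]
  intro n' hn'
  have hn : (n'.comap (Ideal.Quotient.mk (J.map (algebraMap A B)))).IsMaximal :=
    Ideal.comap_isMaximal_of_surjective _ Ideal.Quotient.mk_surjective
  obtain ⟨hm, hnm⟩ := h5 _ hn
  let g : (A ⧸ J) →+* (B ⧸ J.map (algebraMap A B)) := algebraMap _ _
  let m' : Ideal (A ⧸ J) := n'.comap g
  have hn'p : n'.IsPrime := hn'.isPrime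
  have hm'p : m'.IsPrime := Ideal.IsPrime.comap g
  have hlo : n'.LiesOver m' := ⟨rfl⟩
  have hle : n' ≤ m'.map g := by
    intro y' hy'
    obtain ⟨y, rfl⟩ := Ideal.Quotient.mk_surjective y'
    have hy : y ∈ n'.comap (Ideal.Quotient.mk (J.map (algebraMap A B))) := hy'
    rw [hnm] at hy
    have key : ((n'.comap (Ideal.Quotient.mk (J.map (algebraMap A B)))).comap
        (algebraMap A B)).map (algebraMap A B) ≤
        (m'.map g).comap (Ideal.Quotient.mk (J.map (algebraMap A B))) := by
      rw [Ideal.map_le_iff_le_comap]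
      intro x hx
      show Ideal.Quotient.mk (J.map (algebraMap A B)) (algebraMap A B x) ∈ m'.map g
      have e : Ideal.Quotient.mk (J.map (algebraMap A B)) (algebraMap A B x) =
          g (Ideal.Quotient.mk J x) := rfl
      rw [e]
      apply Ideal.mem_map_of_mem
      show g (Ideal.Quotient.mk J x) ∈ n'
      rw [← e]
      exact hx
    exact key hy
  have h1 := Ideal.height_le_height_add_of_liesOver m' n'
  have h2 : n'.map (Ideal.Quotient.mk
      (m'.map (algebraMap (A ⧸ J) (B ⧸ J.map (algebraMap A B))))) = ⊥ := by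
    rw [Ideal.map_eq_bot_iff_le_ker, Ideal.mk_ker]; exact hle
  have hne : m'.map g ≠ ⊤ := by
    intro htop
    have h3 : m'.map g ≤ n' := Ideal.map_comap_le
    rw [htop] at h3
    exact hn'p.ne_top (top_le_iff.mp h3)
  have hnt : Nontrivial ((B ⧸ J.map (algebraMap A B)) ⧸ m'.map g) :=
    Ideal.Quotient.nontrivial_iff.mpr hne
  rw [h2, Ideal.height_bot, add_zero] at h1
  calc (n'.height : WithBot ℕ∞) ≤ m'.height := by exact_mod_cast h1
    _ ≤ ringKrullDim (A ⧸ J) := Ideal.height_le_ringKrullDim_of_isPrime

/-- `dim A/J ≤ dim B/JB` for `B` flat over `A` with `mB` maximal for all maximal `m`. -/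
theorem dim_quot_ge [Module.Flat A B]
    (h4 : ∀ m : Ideal A, m.IsMaximal → (m.map (algebraMap A B)).IsMaximal)
    (J : Ideal A) :
    ringKrullDim (A ⧸ J) ≤ ringKrullDim (B ⧸ J.map (algebraMap A B)) := by
  rw [ringKrullDim_quotient, ringKrullDim_quotient]
  refine iSup_le fun l => ?_
  let l' : LTSeries (PrimeSpectrum A) := l.map Subtype.val (fun a b h => h)
  obtain ⟨m, hm, hlm⟩ := Ideal.exists_le_maximal l'.last.asIdeal l'.last.isPrime.ne_top
  have hn := h4 m hm
  have hnp : (m.map (algebraMap A B)).IsPrime := hn.isPrime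
  have hover : (m.map (algebraMap A B)).LiesOver m := ⟨by
    have h1 : m ≤ (m.map (algebraMap A B)).comap (algebraMap A B) := Ideal.le_comap_map
    exact hm.eq_of_le (Ideal.comap_ne_top _ hn.ne_top) h1⟩
  have hmp : m.IsPrime := hm.isPrime
  obtain ⟨P, hPn, hPp, hPo⟩ := Ideal.exists_ideal_le_liesOver_of_le (p := l'.last.asIdeal)
    (q := m) (m.map (algebraMap A B)) hlm
  obtain ⟨L, hlen, -, hL⟩ := Ideal.exists_ltSeries_of_hasGoingDown l' P
  have hmem : ∀ i, L i ∈ PrimeSpectrum.zeroLocus (R := B)
      ((J.map (algebraMap A B) : Ideal B) : Set B) := by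
    intro i
    have h1 : L i ∈ L.toList := RelSeries.mem_toList.mpr ⟨i, rfl⟩
    have h2 : PrimeSpectrum.comap (algebraMap A B) (L i) ∈ l'.toList := by
      rw [← hL]; exact List.mem_map_of_mem h1
    obtain ⟨j, hj⟩ := RelSeries.mem_toList.mp h2
    rw [PrimeSpectrum.mem_zeroLocus, SetLike.coe_subset_coe, Ideal.map_le_iff_le_comap]
    have h3 : J ≤ (l' j).asIdeal := by
      have h4 := (l j).2
      rwa [PrimeSpectrum.mem_zeroLocus, SetLike.coe_subset_coe] at h4
    rw [hj] at h3
    exact h3
  let L' : LTSeries ↥(PrimeSpectrum.zeroLocus (R := B)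
      ((J.map (algebraMap A B) : Ideal B) : Set B)) :=
    LTSeries.mk L.length (fun i => ⟨L i, hmem i⟩) (fun i j hij => L.strictMono hij)
  have hlen' : L'.length = l.length := hlen
  rw [← hlen']
  exact Order.LTSeries.length_le_krullDim L'

end Pair

section Completion

variable (A : Type u) [CommRing A] [IsNoetherianRing A] (I : Ideal A)

theorem map_eq_comap_evalOne (K : Ideal A) (hIK : I ≤ K) :
    K.map (algebraMap A (AdicCompletion I A)) =
      (K.map (Ideal.Quotient.mk I)).comap (AdicCompletion.evalOneₐ I).toRingHom := by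
  have fg : I.FG := IsNoetherian.noetherian I
  rw [← AdicCompletion.evalOneₐ_comp_algebraMap_eq_mk, ← Ideal.map_map,
    Ideal.comap_map_of_surjective' (AdicCompletion.evalOneₐ I).toRingHom
      (AdicCompletion.evalOneₐ_surjective I),
    eq_comm, sup_eq_left, AdicCompletion.ker_evalOneₐ_eq_map I fg]
  exact Ideal.map_mono hIK

theorem h4 (hI : I ≤ Ring.jacobson A) (m : Ideal A) (hm : m.IsMaximal) :
    (m.map (algebraMap A (AdicCompletion I A))).IsMaximal :=
  haveI := hm
  AdicCompletion.isMaximal_map_of_le I m (hI.trans (Ring.jacobson_le_of_isMaximal m))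
    (IsNoetherian.noetherian I)

theorem h5 (n : Ideal (AdicCompletion I A)) (hn : n.IsMaximal) :
    (n.comap (algebraMap A (AdicCompletion I A))).IsMaximal ∧
      n = (n.comap (algebraMap A (AdicCompletion I A))).map
        (algebraMap A (AdicCompletion I A)) := by
  have fg : I.FG := IsNoetherian.noetherian I
  let ev : AdicCompletion I A →+* A ⧸ I := (AdicCompletion.evalOneₐ I).toRingHom
  have hsurj : Function.Surjective ev := AdicCompletion.evalOneₐ_surjective I
  have hker : RingHom.ker ev = I.map (algebraMap A (AdicCompletion I A)) :=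
    AdicCompletion.ker_evalOneₐ_eq_map I fg
  have hcomp : ev.comp (algebraMap A (AdicCompletion I A)) = Ideal.Quotient.mk I :=
    AdicCompletion.evalOneₐ_comp_algebraMap_eq_mk I
  have hjac : I.map (algebraMap A (AdicCompletion I A)) ≤ n := by
    have hc := AdicCompletion.isAdicComplete_self I fg
    have h1 := IsAdicComplete.le_jacobson_bot (I.map (algebraMap A (AdicCompletion I A)))
    exact h1.trans (sInf_le ⟨bot_le, hn⟩)
  have hkn : RingHom.ker ev ≤ n := hker ▸ hjac
  have hnbar : (n.map ev).IsMaximal := Ideal.IsMaximal.map_of_surjective_of_ker_le hsurj hkn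
  have hn_eq : n = (n.map ev).comap ev := by
    rw [Ideal.comap_map_of_surjective' ev hsurj, eq_comm, sup_eq_left]; exact hkn
  have hm_eq : n.comap (algebraMap A (AdicCompletion I A)) =
      (n.map ev).comap (Ideal.Quotient.mk I) := by
    conv_lhs => rw [hn_eq]
    rw [Ideal.comap_comap, hcomp]
  constructor
  · rw [hm_eq]; exact Ideal.comap_isMaximal_of_surjective _ Ideal.Quotient.mk_surjective
  · have hIm : I ≤ n.comap (algebraMap A (AdicCompletion I A)) := by
      rw [← Ideal.map_le_iff_le_comap]; exact hjac
    rw [map_eq_comap_evalOne A I _ hIm, hm_eq,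
      Ideal.map_comap_of_surjective _ Ideal.Quotient.mk_surjective]
    exact hn_eq

theorem dim_quot_completion (hI : I ≤ Ring.jacobson A) (J : Ideal A) :
    ringKrullDim (AdicCompletion I A ⧸ J.map (algebraMap A (AdicCompletion I A))) =
      ringKrullDim (A ⧸ J) := by
  have : IsNoetherianRing (AdicCompletion I A) :=
    Groth.Agent.Helper2.CompleteNoeth.isNoetherianRing_adicCompletion A I
      (IsNoetherian.noetherian I)
  exact le_antisymm (dim_quot_le (h5 A I) J) (dim_quot_ge (h4 A I hI) J)

theorem supportDim_completion (hI : I ≤ Ring.jacobson A) (M : Type u) [AddCommGroup M]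
    [Module A M] [Module.Finite A M] :
    Module.supportDim (AdicCompletion I A) (AdicCompletion I M) = Module.supportDim A M := by
  rw [← Module.supportDim_eq_of_equiv (AdicCompletion.ofTensorProductEquivOfFiniteNoetherian I M),
    Module.supportDim_eq_ringKrullDim_quotient_annihilator (R := A),
    ← dim_quot_completion A I hI, ringKrullDim_quotient]
  unfold Module.supportDim
  rw [Groth.Agent.Helper1.MiscL.support_baseChange, Module.support_eq_zeroLocus,
    PrimeSpectrum.preimage_comap_zeroLocus, ← PrimeSpectrum.zeroLocus_span]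
  rfl

end Completion

end Groth.Agent.Lib.Helper6.CplDim
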