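import Groth.Agent.Lib.Helper6.CycUnit

/-!
# Fourier analysis on group rings of finite abelian groups with cyclotomic coefficients (helper6)
-/

set_option autoImplicit false
set_option linter.unusedSectionVars false
open Polynomial
namespace Groth.Agent.Lib.Helper6.CycFourier

/-- the universal ring `ℤ[μ_N]` is a domain of characteristic zero with a primitive root. -/
lemma universal (N : ℕ) (hN : 0 < N) :
    ∃ (U : Type) (_ : CommRing U) (_ : IsDomain U) (_ : CharZero U) (μ : U),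
      IsPrimitiveRoot μ N ∧
      ∀ (R : Type*) [CommRing R] (ζ : R), (cyclotomic N R).eval ζ = 0 →
        ∃ θ : U →+* R, θ μ = ζ := by
  let U := AdjoinRoot (cyclotomic N ℤ)
  have hirr : Irreducible (cyclotomic N ℤ) := cyclotomic.irreducible hN
  have : Fact (Irreducible (cyclotomic N ℤ)) := ⟨hirr⟩
  have hdom : IsDomain U := AdjoinRoot.isDomain_of_prime hirr.prime
  have hinj : Function.Injective (algebraMap ℤ U) := by
    apply AdjoinRoot.of.injective_of_degree_ne_zero
    rw [degree_cyclotomic]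
    intro h
    have h1 : (Nat.totient N : WithBot ℕ) = (0 : ℕ) := h
    have h2 := WithBot.coe_injective h1
    exact (Nat.totient_pos.2 hN).ne' h2
  have hchar : CharZero U := charZero_of_injective_algebraMap hinj
  have hμ : IsPrimitiveRoot (AdjoinRoot.root (cyclotomic N ℤ)) N := by
    rw [← isRoot_cyclotomic_iff_charZero hN]
    have := AdjoinRoot.eval₂_root (cyclotomic N ℤ)
    rw [IsRoot.def, ← map_cyclotomic_int N U, eval_map]
    exact this
  refine ⟨U, inferInstance, hdom, hchar, AdjoinRoot.root _, hμ, ?_⟩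
  intro R _ ζ hζ
  have h0 : eval₂ (Int.castRingHom R) ζ (cyclotomic N ℤ) = 0 := by
    rw [← eval_map, map_cyclotomic_int]
    exact hζ
  exact ⟨AdjoinRoot.lift (Int.castRingHom R) ζ h0, AdjoinRoot.lift_root h0⟩

lemma pow_eq_one {R : Type*} [CommRing R] (N : ℕ) (ζ : R) (hζ : (cyclotomic N R).eval ζ = 0) :
    ζ ^ N = 1 := by
  rcases Nat.eq_zero_or_pos N with rfl | hN
  · simp
  have hdvd : cyclotomic N R ∣ X ^ N - 1 := cyclotomic.dvd_X_pow_sub_one N R
  obtain ⟨q, hq⟩ := hdvd
  have := congrArg (Polynomial.eval ζ) hq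
  rw [eval_mul, hζ, zero_mul] at this
  simpa [sub_eq_zero] using this

lemma eval_cyclotomic_pow {R : Type*} [CommRing R] (N : ℕ) (hN : 0 < N) (ζ : R)
    (hζ : (cyclotomic N R).eval ζ = 0) (j : ℕ) :
    (cyclotomic (N / N.gcd j) R).eval (ζ ^ j) = 0 := by
  obtain ⟨U, _, _, _, μ, hμ, huniv⟩ := universal N hN
  obtain ⟨θ, hθ⟩ := huniv R ζ hζ
  have hfin : IsOfFinOrder μ := isOfFinOrder_iff_pow_eq_one.2 ⟨N, hN, hμ.pow_eq_one⟩
  have hord : orderOf (μ ^ j) = N / N.gcd j := by
    rw [hfin.orderOf_pow, hμ.eq_orderOf.symm]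
  have hprim : IsPrimitiveRoot (μ ^ j) (N / N.gcd j) := by
    rw [IsPrimitiveRoot.iff_orderOf, hord]
  have hpos : 0 < N / N.gcd j :=
    Nat.div_pos (Nat.le_of_dvd hN (Nat.gcd_dvd_left N j)) (Nat.gcd_pos_of_pos_left j hN)
  have hroot : (cyclotomic (N / N.gcd j) U).eval (μ ^ j) = 0 :=
    (isRoot_cyclotomic_iff_charZero hpos).2 hprim
  have := congrArg θ hroot
  rw [map_zero, ← eval₂_at_apply, eval₂_eq_eval_map, map_cyclotomic, map_pow, hθ] at this
  exact this

section psi
variable {R : Type*} [CommRing R] (N : ℕ) [NeZero N] (ζ : R) (h1 : ζ ^ N = 1)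

/-- the monoid hom `ZMod N → R`, `a ↦ ζ ^ a` -/
noncomputable def psi : Multiplicative (ZMod N) →* R where
  toFun a := ζ ^ (Multiplicative.toAdd a).val
  map_one' := by simp
  map_mul' a b := by
    simp only [toAdd_mul]
    rw [ZMod.val_add, ← pow_add, pow_eq_pow_mod (a.toAdd.val + b.toAdd.val) h1]

lemma psi_apply (a : Multiplicative (ZMod N)) :
    psi N ζ h1 a = ζ ^ (Multiplicative.toAdd a).val := rfl

end psi

section ev
open W4c6equivkfinstab
variable (Λ : Type*) [CommRing Λ] {R : Type*} [CommRing R] [Algebra Λ R]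
  (N : ℕ) [NeZero N] (ζ : R) (h1 : ζ ^ N = 1)

/-- evaluation of a group-ring element at the character `χ`. -/
noncomputable def ev {G : Type*} [AddCommGroup G] (χ : G →+ ZMod N) :
    AddMonoidAlgebra Λ G →ₐ[Λ] R :=
  AddMonoidAlgebra.lift Λ R G ((psi N ζ h1).comp (AddMonoidHom.toMultiplicative χ))

lemma ev_single {G : Type*} [AddCommGroup G] (χ : G →+ ZMod N) (g : G) (r : Λ) :
    ev Λ N ζ h1 χ (AddMonoidAlgebra.single g r) = r • ζ ^ (χ g).val := by
  simp [ev, AddMonoidAlgebra.lift_single, psi_apply]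

lemma ev_comp_quotMap {M : Type*} [AddCommGroup M] (B : AddSubgroup M) (χ : M →+ ZMod N)
    (hB : B ≤ χ.ker) (x : AddMonoidAlgebra Λ M) :
    ev Λ N ζ h1 (QuotientAddGroup.lift B χ hB) (quotMap Λ M B x) = ev Λ N ζ h1 χ x := by
  induction x using AddMonoidAlgebra.induction_on with
  | of g =>
    rw [show AddMonoidAlgebra.of Λ M (Multiplicative.ofAdd g) = AddMonoidAlgebra.single g 1 from rfl]
    rw [Groth.Agent.Lib.Helper6.CycUnit.quotMap_single, ev_single, ev_single]
    rfl
  | add f g hf hg => rw [map_add, map_add, map_add, hf, hg]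
  | smul r f hf =>
    have : quotMap Λ M B (r • f) = r • quotMap Λ M B f := by simp [quotMap]
    rw [this, map_smul, map_smul, hf]

lemma ev_cycIdeal (hζ : (cyclotomic N R).eval ζ = 0) {G : Type*} [AddCommGroup G] [Finite G]
    (χ : G →+ ZMod N) (hχ : Function.Injective χ) (x : AddMonoidAlgebra Λ G)
    (hx : x ∈ cycIdeal Λ G) : ev Λ N ζ h1 χ x = 0 := by
  have hle : cycIdeal Λ G ≤ RingHom.ker (ev Λ N ζ h1 χ : AddMonoidAlgebra Λ G →+* R) := by
    rw [cycIdeal, Ideal.span_le]
    rintro _ ⟨g, hg, rfl⟩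
    rw [SetLike.mem_coe, RingHom.mem_ker]
    show ev Λ N ζ h1 χ (aeval (AddMonoidAlgebra.single g (1 : Λ)) (cyclotomic (Nat.card G) Λ)) = 0
    rw [← aeval_algHom_apply, ev_single, one_smul, aeval_def, eval₂_eq_eval_map, map_cyclotomic]
    have hN : 0 < N := Nat.pos_of_ne_zero (NeZero.ne N)
    have hord : addOrderOf g = Nat.card G := by
      rw [← Nat.card_zmultiples, hg]
      simp
    have hord2 : addOrderOf (χ g) = Nat.card G := by
      rw [addOrderOf_injective χ hχ g, hord]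
    have hcast : χ g = (((χ g).val : ℕ) : ZMod N) := (ZMod.natCast_zmod_val (χ g)).symm
    rw [hcast, ZMod.addOrderOf_coe _ (NeZero.ne N)] at hord2
    rw [← hord2]
    exact eval_cyclotomic_pow N hN ζ hζ _
  exact hle hx

end ev

section fourier
variable {R : Type*} [CommRing R] (N : ℕ) [NeZero N] (ζ : R)
  {A : Type*} [AddCommGroup A] [Fintype A]

/-- the functions orthogonal to all characters -/
def KK : Set (A → R) := {z | ∀ χ : A →+ ZMod N, ∑ a, z a * ζ ^ (χ a).val = 0}

variable {N ζ}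

lemma pow_val_add (h1 : ζ ^ N = 1) (x y : ZMod N) : ζ ^ x.val * ζ ^ y.val = ζ ^ (x + y).val := by
  rw [ZMod.val_add, ← pow_add, pow_eq_pow_mod (x.val + y.val) h1]

lemma KK_twist (h1 : ζ ^ N = 1) {z : A → R} (hz : z ∈ KK N ζ) (χ' : A →+ ZMod N) :
    (fun a => z a * ζ ^ (χ' a).val) ∈ KK N ζ := by
  intro χ
  have := hz (χ' + χ)
  rw [← this]
  refine Finset.sum_congr rfl fun a _ => ?_
  rw [mul_assoc, pow_val_add h1, AddMonoidHom.add_apply]

lemma KK_sub {z w : A → R} (hz : z ∈ KK N ζ) (hw : w ∈ KK N ζ) : (fun a => z a - w a) ∈ KK N ζ := by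
  intro χ
  have h1 := hz χ
  have h2 := hw χ
  simp only [sub_mul, Finset.sum_sub_distrib, h1, h2, sub_zero]

lemma KK_smul {z : A → R} (hz : z ∈ KK N ζ) (r : R) : (fun a => r * z a) ∈ KK N ζ := by
  intro χ
  have h1 := hz χ
  simp only [mul_assoc, ← Finset.mul_sum, h1, mul_zero]

lemma exists_weight [DecidableEq A] (hζ : (cyclotomic N R).eval ζ = 0) (h1 : ζ ^ N = 1)
    (hN : IsUnit (N : R))
    (hsep : ∀ c : A, c ≠ 0 → ∃ χ : A →+ ZMod N, χ c ≠ 0) (b : A) :
    ∀ T : Finset A, b ∉ T → ∃ w : A → R, (∀ a ∈ T, w a = 0) ∧ IsUnit (w b) ∧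
      ∀ z ∈ KK N ζ, (fun a => z a * w a) ∈ KK N ζ := by
  intro T
  induction T using Finset.induction_on with
  | empty =>
    intro _
    exact ⟨fun _ => 1, by simp, isUnit_one, fun z hz => by simpa using hz⟩
  | insert c T hcT ih =>
    intro hb
    rw [Finset.mem_insert, not_or] at hb
    obtain ⟨w, hw0, hwb, hwK⟩ := ih hb.2
    obtain ⟨χ, hχ⟩ := hsep (b - c) (sub_ne_zero.2 hb.1)
    refine ⟨fun a => w a * (ζ ^ (χ a).val - ζ ^ (χ c).val), ?_, ?_, ?_⟩
    · intro a ha
      rcases Finset.mem_insert.1 ha with rfl | ha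
      · simp
      · simp [hw0 a ha]
    · refine hwb.mul ?_
      have hζu : IsUnit ζ := by
        have hNpos : 0 < N := Nat.pos_of_ne_zero (NeZero.ne N)
        exact IsUnit.of_pow_eq_one h1 hNpos.ne'
      have hfac : ζ ^ (χ b).val - ζ ^ (χ c).val = ζ ^ (χ c).val * (ζ ^ (χ (b - c)).val - 1) := by
        rw [mul_sub, mul_one, pow_val_add h1, ← map_add]
        simp
      rw [hfac]
      refine (hζu.pow _).mul ?_
      refine Groth.Agent.Lib.Helper6.CycUnit.isUnit_pow_sub_one N _ ζ hζ hN ?_ (ZMod.val_lt _)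
      exact Nat.pos_of_ne_zero (fun h => hχ ((ZMod.val_eq_zero _).1 h))
    · intro z hz
      have h2 := KK_twist h1 (hwK z hz) χ
      have h3 := KK_smul (hwK z hz) (ζ ^ (χ c).val)
      have h4 := KK_sub h2 h3
      convert h4 using 2
      ring

lemma eq_zero_of_mem_KK (hζ : (cyclotomic N R).eval ζ = 0) (h1 : ζ ^ N = 1)
    (hN : IsUnit (N : R))
    (hsep : ∀ c : A, c ≠ 0 → ∃ χ : A →+ ZMod N, χ c ≠ 0) {z : A → R} (hz : z ∈ KK N ζ) :
    z = 0 := by
  classical
  funext b
  obtain ⟨w, hw0, hwb, hwK⟩ := exists_weight hζ h1 hN hsep b (Finset.univ.erase b)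
    (Finset.notMem_erase b _)
  have h := hwK z hz 0
  simp only [AddMonoidHom.zero_apply, ZMod.val_zero, pow_zero, mul_one] at h
  rw [Finset.sum_eq_single b] at h
  · exact (hwb.mul_left_eq_zero).1 h
  · intro a _ hab
    rw [hw0 a (Finset.mem_erase.2 ⟨hab, Finset.mem_univ a⟩), mul_zero]
  · intro hb
    exact absurd (Finset.mem_univ b) hb

end fourier

instance hasEnough (N : ℕ) [NeZero N] : HasEnoughRootsOfUnity (Multiplicative (ZMod N)) N where
  prim := by
    refine ⟨Multiplicative.ofAdd (1 : ZMod N), ?_⟩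
    rw [IsPrimitiveRoot.iff_orderOf, orderOf_ofAdd_eq_addOrderOf, ZMod.addOrderOf_one]
  cyc := by
    have h1 : IsCyclic (Multiplicative (ZMod N)) := inferInstance
    have h2 : IsCyclic (Multiplicative (ZMod N))ˣ :=
      isCyclic_of_surjective (toUnits (G := Multiplicative (ZMod N))) (toUnits.surjective)
    infer_instance

lemma exists_sep (A : Type*) [AddCommGroup A] [Finite A] (N : ℕ) [NeZero N]
    (hexp : AddMonoid.exponent A ∣ N) (c : A) (hc : c ≠ 0) :
    ∃ χ : A →+ ZMod N, χ c ≠ 0 := by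
  have hexp' : Monoid.exponent (Multiplicative A) ∣ N := by
    rwa [Monoid.exponent_multiplicative]
  have : HasEnoughRootsOfUnity (Multiplicative (ZMod N)) (Monoid.exponent (Multiplicative A)) :=
    HasEnoughRootsOfUnity.of_dvd _ hexp'
  obtain ⟨φ, hφ⟩ := CommGroup.exists_apply_ne_one_of_hasEnoughRootsOfUnity (Multiplicative A)
    (Multiplicative (ZMod N)) (a := Multiplicative.ofAdd c) (by simpa using hc)
  let χ : A →+ ZMod N := AddMonoidHom.mk' (fun a => Multiplicative.toAdd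
    ((φ (Multiplicative.ofAdd a) : (Multiplicative (ZMod N))ˣ) : Multiplicative (ZMod N)))
    (by intro a b; simp [ofAdd_add, map_mul])
  refine ⟨χ, ?_⟩
  intro h
  apply hφ
  apply Units.ext
  have h' : Multiplicative.toAdd ((φ (Multiplicative.ofAdd c) : (Multiplicative (ZMod N))ˣ) :
      Multiplicative (ZMod N)) = 0 := h
  rw [Units.val_one]
  exact Multiplicative.toAdd.injective h'

section core
open W4c6equivkfinstab

variable (Λ : Type*) [CommRing Λ] (M : Type*) [AddCommGroup M]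

lemma adjoinRoot_facts [Nontrivial Λ] (N : ℕ) (hN : 0 < N) :
    (cyclotomic N (AdjoinRoot (cyclotomic N Λ))).eval (AdjoinRoot.root (cyclotomic N Λ)) = 0 ∧
    Function.Injective (algebraMap Λ (AdjoinRoot (cyclotomic N Λ))) := by
  constructor
  · have := AdjoinRoot.eval₂_root (cyclotomic N Λ)
    rw [← map_cyclotomic N (AdjoinRoot.of (cyclotomic N Λ)), eval_map]
    exact this
  · rw [injective_iff_map_eq_zero]
    intro r hr
    by_contra hne
    have hC : (C r : Λ[X]) ≠ 0 := by rwa [Ne, C_eq_zero]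
    have hdeg : (C r : Λ[X]).natDegree < (cyclotomic N Λ).natDegree := by
      rw [natDegree_C, natDegree_cyclotomic]
      exact Nat.totient_pos.2 hN
    exact AdjoinRoot.mk_ne_zero_of_natDegree_lt (cyclotomic.monic N Λ) hC hdeg hr

theorem core_inj (B₀ : AddSubgroup M) [B₀.FiniteIndex] (hu : IsUnit ((B₀.index : ℕ) : Λ))
    (x : AddMonoidAlgebra Λ M)
    (hx : ∀ B : AddSubgroup M, B₀ ≤ B → IsAddCyclic (M ⧸ B) → cycQuotMap Λ M B x = 0) :
    quotMap Λ M B₀ x = 0 := by
  classical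
  rcases subsingleton_or_nontrivial Λ with hΛ | hΛ
  · have : Subsingleton (AddMonoidAlgebra Λ (M ⧸ B₀)) := by
      refine ⟨fun a b => ?_⟩
      ext g
      exact Subsingleton.elim _ _
    exact Subsingleton.elim _ _
  set N := B₀.index with hNdef
  have hN0 : N ≠ 0 := AddSubgroup.FiniteIndex.index_ne_zero
  have : NeZero N := ⟨hN0⟩
  have hNpos : 0 < N := Nat.pos_of_ne_zero hN0
  let R := AdjoinRoot (cyclotomic N Λ)
  let ζ : R := AdjoinRoot.root (cyclotomic N Λ)
  obtain ⟨hζ, hinj⟩ := adjoinRoot_facts Λ N hNpos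
  have h1 : ζ ^ N = 1 := pow_eq_one N ζ hζ
  have hNR : IsUnit ((N : ℕ) : R) := by
    have := hu.map (algebraMap Λ R)
    rwa [map_natCast] at this
  have hfin : Finite (M ⧸ B₀) := AddSubgroup.finite_quotient_of_finiteIndex
  have hft : Fintype (M ⧸ B₀) := Fintype.ofFinite _
  have hcard : Nat.card (M ⧸ B₀) = N := rfl
  set y := quotMap Λ M B₀ x with hy
  -- all character evaluations of `y` vanish
  have hev : ∀ χ : (M ⧸ B₀) →+ ZMod N, ev Λ N ζ h1 χ y = 0 := by
    intro χ
    let χ' : M →+ ZMod N := χ.comp (QuotientAddGroup.mk' B₀)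
    have hB₀ : B₀ ≤ χ'.ker := by
      intro b hb
      rw [AddMonoidHom.mem_ker]
      show χ ((b : M ⧸ B₀)) = 0
      rw [(QuotientAddGroup.eq_zero_iff b).2 hb, map_zero]
    have hlift : QuotientAddGroup.lift B₀ χ' hB₀ = χ := by
      ext g
      rfl
    have e1 : ev Λ N ζ h1 χ y = ev Λ N ζ h1 χ' x := by
      rw [← hlift, hy, ev_comp_quotMap]
    rw [e1]
    set B := χ'.ker with hBdef
    have hcyc : IsAddCyclic (M ⧸ B) := by
      have e := QuotientAddGroup.quotientKerEquivRange χ'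
      exact isAddCyclic_of_surjective e.symm.toAddMonoidHom e.symm.surjective
    have hxB := hx B hB₀ hcyc
    have hmem : quotMap Λ M B x ∈ cycIdeal Λ (M ⧸ B) := Ideal.Quotient.eq_zero_iff_mem.1 hxB
    have hfinB : Finite (M ⧸ B) := by
      have e := QuotientAddGroup.quotientKerEquivRange χ'
      exact Finite.of_equiv _ e.symm.toEquiv
    have hinjχ : Function.Injective (QuotientAddGroup.lift B χ' le_rfl) :=
      QuotientAddGroup.kerLift_injective χ'
    have := ev_cycIdeal Λ N ζ h1 hζ (QuotientAddGroup.lift B χ' le_rfl) hinjχ _ hmem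
    rw [ev_comp_quotMap] at this
    exact this
  -- Fourier inversion
  let z : (M ⧸ B₀) → R := fun a => algebraMap Λ R (y.coeff a)
  have hz : z ∈ KK N ζ := by
    intro χ
    have := hev χ
    rw [ev, AddMonoidAlgebra.lift_apply, Finsupp.sum_fintype _ _ (by simp)] at this
    rw [← this]
    refine Finset.sum_congr rfl fun a _ => ?_
    rw [Algebra.smul_def]
    rfl
  have hsep : ∀ c : M ⧸ B₀, c ≠ 0 → ∃ χ : (M ⧸ B₀) →+ ZMod N, χ c ≠ 0 := fun c hc =>
    exists_sep (M ⧸ B₀) N (by rw [← hcard]; exact AddGroup.exponent_dvd_nat_card) c hc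
  have hz0 := eq_zero_of_mem_KK hζ h1 hNR hsep hz
  ext a
  have := congrFun hz0 a
  apply hinj
  have h0 : algebraMap Λ R (y.coeff a) = 0 := this
  rw [h0]
  simp

/-- separating elements for two distinct subgroups with cyclic quotients. -/
lemma exists_one_zero (B B' : AddSubgroup M) [B.FiniteIndex] [B'.FiniteIndex]
    [IsAddCyclic (M ⧸ B)] [IsAddCyclic (M ⧸ B')] (hne : B ≠ B')
    (hu1 : IsUnit ((B.index : ℕ) : Λ)) (hu2 : IsUnit ((B'.index : ℕ) : Λ)) :
    ∃ r : AddMonoidAlgebra Λ M, cycQuotMap Λ M B' r = 1 ∧ cycQuotMap Λ M B r = 0 := by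
  by_cases hle : B' ≤ B
  · have hnle : ¬ B ≤ B' := fun h => hne (le_antisymm h hle)
    obtain ⟨b, hbB, hbB'⟩ := SetLike.not_le_iff_exists.1 hnle
    obtain ⟨y, hy⟩ := Groth.Agent.Lib.Helper6.CycUnit.exists_mul_eq_one Λ M B' hu2 b hbB'
    refine ⟨(AddMonoidAlgebra.single b (1 : Λ) - 1) * y, hy, ?_⟩
    rw [map_mul, Groth.Agent.Lib.Helper6.CycUnit.cycQuotMap_single_of_mem Λ M B b hbB, zero_mul]
  · obtain ⟨b, hbB', hbB⟩ := SetLike.not_le_iff_exists.1 hle
    obtain ⟨y, hy⟩ := Groth.Agent.Lib.Helper6.CycUnit.exists_mul_eq_one Λ M B hu1 b hbB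
    refine ⟨1 - (AddMonoidAlgebra.single b (1 : Λ) - 1) * y, ?_, ?_⟩
    · rw [map_sub, map_one, map_mul,
        Groth.Agent.Lib.Helper6.CycUnit.cycQuotMap_single_of_mem Λ M B' b hbB', zero_mul, sub_zero]
    · rw [map_sub, map_one, hy, sub_self]

end core

/-- Chinese remainder theorem for a finite family of surjective ring homs with separating
elements. -/
lemma pi_surjective {R : Type*} [CommRing R] {ι : Type*} [Finite ι] {S : ι → Type*}
    [∀ i, CommRing (S i)] (f : ∀ i, R →+* S i) (hf : ∀ i, Function.Surjective (f i))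
    (hsep : ∀ i j, i ≠ j → ∃ r : R, f i r = 1 ∧ f j r = 0) :
    Function.Surjective (RingHom.pi f) := by
  classical
  have : Fintype ι := Fintype.ofFinite ι
  choose r hr1 hr0 using hsep
  let e : ι → R := fun i => ∏ j ∈ Finset.univ.erase i, if h : i ≠ j then r i j h else 1
  have he1 : ∀ i, f i (e i) = 1 := by
    intro i
    rw [map_prod]
    refine Finset.prod_eq_one fun j hj => ?_
    have hij : i ≠ j := (Finset.ne_of_mem_erase hj).symm
    rw [dif_pos hij, hr1]
  have he0 : ∀ i j, i ≠ j → f j (e i) = 0 := by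
    intro i j hij
    rw [map_prod]
    refine Finset.prod_eq_zero (i := j) (Finset.mem_erase.2 ⟨hij.symm, Finset.mem_univ j⟩) ?_
    rw [dif_pos hij, hr0]
  intro t
  choose l hl using fun i => hf i (t i)
  refine ⟨∑ i, e i * l i, ?_⟩
  funext j
  show f j (∑ i, e i * l i) = t j
  rw [map_sum, Finset.sum_eq_single j]
  · rw [map_mul, he1, one_mul, hl]
  · intro i _ hij
    rw [map_mul, he0 i j hij, zero_mul]
  · intro h; exact absurd (Finset.mem_univ j) h

end Groth.Agent.Lib.Helper6.CycFourier
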