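import Mathlib
import Groth.Prelude.Def_GSzCSA

/-!
The matrix model of a cyclic algebra: matrices `M` over `K` with `F * σ(M) = M * F`.
-/

namespace Groth.Agent.Helper6.CycMat

universe u v

variable {k : Type u} [Field k] {K : Type v} [Field K] [Algebra k K]
variable (σ : K ≃ₐ[k] K) (b : kˣ) (m : ℕ)

variable (K) in
/-- The twisted cyclic shift matrix. -/
def Fmat : Matrix (Fin m) (Fin m) K :=
  Matrix.of (fun i j : Fin m =>
    if j.val + 1 = i.val then (1 : K)
    else if i.val = 0 ∧ j.val + 1 = m then algebraMap k K (b : k) else 0)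

theorem Fmat_apply (i j : Fin m) : Fmat K b m i j =
    if j.val + 1 = i.val then (1 : K)
    else if i.val = 0 ∧ j.val + 1 = m then algebraMap k K (b : k) else 0 := rfl

variable {m}

theorem Fmat_mul_apply (hm : 0 < m) (N : Matrix (Fin m) (Fin m) K) (i j : Fin m) :
    (Fmat K b m * N) i j =
      if h : i.val = 0 then algebraMap k K (b : k) * N ⟨m - 1, by omega⟩ j
      else N ⟨i.val - 1, by omega⟩ j := by
  rw [Matrix.mul_apply]
  split_ifs with h
  · rw [Finset.sum_eq_single (⟨m - 1, by omega⟩ : Fin m)]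
    · rw [Fmat_apply]
      have h1 : ¬ ((⟨m - 1, by omega⟩ : Fin m).val + 1 = i.val) := by simp; omega
      have h2 : i.val = 0 ∧ (⟨m - 1, by omega⟩ : Fin m).val + 1 = m := ⟨h, by simp; omega⟩
      rw [if_neg h1, if_pos h2]
    · intro l _ hl
      rw [Fmat_apply]
      have h1 : ¬ (l.val + 1 = i.val) := by omega
      have h2 : ¬ (i.val = 0 ∧ l.val + 1 = m) := by
        rintro ⟨_, h3⟩
        apply hl
        apply Fin.ext
        simp; omega
      rw [if_neg h1, if_neg h2, zero_mul]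
    · intro h'; exact absurd (Finset.mem_univ _) h'
  · rw [Finset.sum_eq_single (⟨i.val - 1, by omega⟩ : Fin m)]
    · rw [Fmat_apply]
      have h1 : (⟨i.val - 1, by omega⟩ : Fin m).val + 1 = i.val := by simp; omega
      rw [if_pos h1, one_mul]
    · intro l _ hl
      rw [Fmat_apply]
      have h1 : ¬ (l.val + 1 = i.val) := by
        intro h3
        apply hl
        apply Fin.ext
        simp; omega
      have h2 : ¬ (i.val = 0 ∧ l.val + 1 = m) := fun h3 => h h3.1
      rw [if_neg h1, if_neg h2, zero_mul]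
    · intro h'; exact absurd (Finset.mem_univ _) h'

theorem mul_Fmat_apply (hm : 0 < m) (N : Matrix (Fin m) (Fin m) K) (i j : Fin m) :
    (N * Fmat K b m) i j =
      if h : j.val + 1 = m then N i ⟨0, hm⟩ * algebraMap k K (b : k)
      else N i ⟨j.val + 1, by omega⟩ := by
  rw [Matrix.mul_apply]
  split_ifs with h
  · rw [Finset.sum_eq_single (⟨0, hm⟩ : Fin m)]
    · rw [Fmat_apply]
      have h1 : ¬ (j.val + 1 = (⟨0, hm⟩ : Fin m).val) := by simp
      have h2 : (⟨0, hm⟩ : Fin m).val = 0 ∧ j.val + 1 = m := ⟨rfl, h⟩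
      rw [if_neg h1, if_pos h2]
    · intro l _ hl
      rw [Fmat_apply]
      have h1 : ¬ (j.val + 1 = l.val) := by omega
      have h2 : ¬ (l.val = 0 ∧ j.val + 1 = m) := by
        rintro ⟨h3, _⟩
        apply hl
        apply Fin.ext
        simpa using h3
      rw [if_neg h1, if_neg h2, mul_zero]
    · intro h'; exact absurd (Finset.mem_univ _) h'
  · rw [Finset.sum_eq_single (⟨j.val + 1, by omega⟩ : Fin m)]
    · rw [Fmat_apply]
      have h1 : j.val + 1 = (⟨j.val + 1, by omega⟩ : Fin m).val := rfl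
      rw [if_pos h1, mul_one]
    · intro l _ hl
      rw [Fmat_apply]
      have h1 : ¬ (j.val + 1 = l.val) := by
        intro h3
        apply hl
        apply Fin.ext
        simp; omega
      have h2 : ¬ (l.val = 0 ∧ j.val + 1 = m) := fun h3 => h h3.2
      rw [if_neg h1, if_neg h2, mul_zero]
    · intro h'; exact absurd (Finset.mem_univ _) h'

theorem Fmat_map : (Fmat K b m).map (fun x => σ x) = Fmat K b m := by
  ext i j
  rw [Matrix.map_apply, Fmat_apply]
  split_ifs <;> simp

variable (m) in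
/-- The subalgebra of matrices with `F * σ(M) = M * F`. -/
def Bsub : Subalgebra k (Matrix (Fin m) (Fin m) K) where
  carrier := {M | Fmat K b m * M.map (fun x => σ x) = M * Fmat K b m}
  mul_mem' := by
    intro M N hM hN
    simp only [Set.mem_ofPred_eq] at hM hN ⊢
    have : (M * N).map (fun x => σ x) = M.map (fun x => σ x) * N.map (fun x => σ x) := by
      ext i j
      simp [Matrix.mul_apply, map_sum]
    rw [this, ← Matrix.mul_assoc, hM, Matrix.mul_assoc, hN, Matrix.mul_assoc]
  add_mem' := by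
    intro M N hM hN
    simp only [Set.mem_ofPred_eq] at hM hN ⊢
    have : (M + N).map (fun x => σ x) = M.map (fun x => σ x) + N.map (fun x => σ x) := by
      ext i j
      simp
    rw [this, Matrix.mul_add, hM, hN, Matrix.add_mul]
  algebraMap_mem' := by
    intro c
    simp only [Set.mem_ofPred_eq]
    have : (algebraMap k (Matrix (Fin m) (Fin m) K) c).map (fun x => σ x) =
        algebraMap k (Matrix (Fin m) (Fin m) K) c := by
      ext i j
      rw [Matrix.map_apply, Matrix.algebraMap_matrix_apply]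
      split_ifs <;> simp
    rw [this]
    exact (Algebra.commutes c _).symm

theorem mem_Bsub (M : Matrix (Fin m) (Fin m) K) :
    M ∈ Bsub σ b m ↔ Fmat K b m * M.map (fun x => σ x) = M * Fmat K b m := Iff.rfl

/-- An element of `Bsub` with zero first row is zero. -/
theorem eq_zero_of_row_zero (hm : 0 < m) (M : Matrix (Fin m) (Fin m) K) (hM : M ∈ Bsub σ b m)
    (h0 : ∀ j, M ⟨0, hm⟩ j = 0) : M = 0 := by
  have hb : algebraMap k K (b : k) ≠ 0 := by
    simp
  have key : ∀ n (hn : n < m) (j : Fin m), M ⟨n, hn⟩ j = 0 := by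
    intro n
    induction n with
    | zero => intro hn j; exact h0 j
    | succ n ih =>
      intro hn j
      rw [mem_Bsub] at hM
      by_cases hj : j.val = 0
      · have h1 := congrFun (congrFun hM ⟨n + 1, hn⟩) ⟨m - 1, by omega⟩
        rw [Fmat_mul_apply b hm, mul_Fmat_apply b hm] at h1
        have e1 : ¬ ((⟨n + 1, hn⟩ : Fin m).val = 0) := by simp
        have e2 : (⟨m - 1, by omega⟩ : Fin m).val + 1 = m := by simp; omega
        rw [dif_neg e1, dif_pos e2, Matrix.map_apply] at h1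
        have e3 : M ⟨(⟨n + 1, hn⟩ : Fin m).val - 1, by simp; omega⟩ ⟨m - 1, by omega⟩ = 0 :=
          ih (by omega) _
        rw [e3, map_zero] at h1
        have : M ⟨n + 1, hn⟩ ⟨0, hm⟩ = 0 := by
          rcases mul_eq_zero.mp h1.symm with h | h
          · exact h
          · exact absurd h hb
        have hj' : j = ⟨0, hm⟩ := Fin.ext hj
        rw [hj']; exact this
      · have h1 := congrFun (congrFun hM ⟨n + 1, hn⟩) ⟨j.val - 1, by omega⟩
        rw [Fmat_mul_apply b hm, mul_Fmat_apply b hm] at h1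
        have e1 : ¬ ((⟨n + 1, hn⟩ : Fin m).val = 0) := by simp
        have e2 : ¬ ((⟨j.val - 1, by omega⟩ : Fin m).val + 1 = m) := by simp; omega
        rw [dif_neg e1, dif_neg e2, Matrix.map_apply] at h1
        have e3 : M ⟨(⟨n + 1, hn⟩ : Fin m).val - 1, by simp; omega⟩ ⟨j.val - 1, by omega⟩ = 0 :=
          ih (by omega) _
        rw [e3, map_zero] at h1
        have hj' : j = ⟨(⟨j.val - 1, by omega⟩ : Fin m).val + 1, by simp; omega⟩ := by
          apply Fin.ext; simp; omega
        rw [hj']; exact h1.symm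
  ext i j
  exact key i.val i.isLt j

/-- `diag(σ^i x)`. -/
def iotaMat (x : K) : Matrix (Fin m) (Fin m) K := Matrix.diagonal fun i => (σ ^ i.val) x

theorem iotaMat_mem (hσ : σ ^ m = 1) (x : K) : iotaMat σ x ∈ Bsub σ b m := by
  rw [mem_Bsub]
  have hmap : (iotaMat (m := m) σ x).map (fun x => σ x) =
      Matrix.diagonal fun i : Fin m => σ ((σ ^ i.val) x) := by
    ext i j
    unfold iotaMat
    rw [Matrix.map_apply, Matrix.diagonal_apply, Matrix.diagonal_apply]
    split_ifs <;> simp
  ext i j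
  rw [hmap, Matrix.mul_diagonal, iotaMat, Matrix.diagonal_mul, Fmat_apply]
  split_ifs with h1 h2
  · rw [one_mul, mul_one, ← h1, pow_succ', AlgEquiv.mul_apply]
  · obtain ⟨h3, h4⟩ := h2
    rw [h3, pow_zero, AlgEquiv.one_apply, mul_comm]
    congr 1
    have : σ ((σ ^ j.val) x) = (σ ^ (j.val + 1)) x := by rw [pow_succ', AlgEquiv.mul_apply]
    rw [this, h4, hσ, AlgEquiv.one_apply]
  · simp

theorem Fmat_mem : Fmat K b m ∈ Bsub σ b m := by
  rw [mem_Bsub, Fmat_map]

/-- The embedding of `K`. -/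
def iota (hσ : σ ^ m = 1) : K →ₐ[k] Bsub σ b m where
  toFun x := ⟨iotaMat σ x, iotaMat_mem σ b hσ x⟩
  map_one' := Subtype.ext (by simp [iotaMat])
  map_mul' x y := Subtype.ext (by simp [iotaMat, Matrix.diagonal_mul_diagonal])
  map_zero' := Subtype.ext (by simp [iotaMat])
  map_add' x y := Subtype.ext (by simp [iotaMat, Matrix.diagonal_add])
  commutes' c := Subtype.ext (by
    simp [iotaMat, Matrix.algebraMap_eq_diagonal])

/-- The generator `y`. -/
def yel : Bsub σ b m := ⟨Fmat K b m, Fmat_mem σ b⟩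

theorem iota_mul_yel (hσ : σ ^ m = 1) (x : K) :
    iota σ b hσ x * yel σ b = yel σ b * iota σ b hσ (σ x) := by
  apply Subtype.ext
  change iotaMat σ x * Fmat K b m = Fmat K b m * iotaMat σ (σ x)
  ext i j
  rw [iotaMat, iotaMat, Matrix.mul_diagonal, Matrix.diagonal_mul, Fmat_apply]
  split_ifs with h1 h2
  · rw [one_mul, mul_one, ← h1, pow_succ, AlgEquiv.mul_apply]
  · obtain ⟨h3, h4⟩ := h2
    rw [h3, pow_zero, AlgEquiv.one_apply, mul_comm]
    congr 1
    have : (σ ^ j.val) (σ x) = (σ ^ (j.val + 1)) x := by rw [pow_succ, AlgEquiv.mul_apply]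
    rw [this, h4, hσ, AlgEquiv.one_apply]
  · simp

/-- The first-row map. -/
def rho (hm : 0 < m) : Bsub σ b m →ₗ[k] (Fin m → K) where
  toFun M := M.1 ⟨0, hm⟩
  map_add' M N := rfl
  map_smul' c M := rfl

theorem rho_injective (hm : 0 < m) : Function.Injective (rho σ b hm) := by
  rw [← LinearMap.ker_eq_bot, LinearMap.ker_eq_bot']
  intro M hM
  apply Subtype.ext
  exact eq_zero_of_row_zero σ b hm M.1 M.2 (fun j => congrFun hM j)

theorem rho_iota_mul (hm : 0 < m) (hσ : σ ^ m = 1) (x : K) (M : Bsub σ b m) :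
    rho σ b hm (iota σ b hσ x * M) = x • rho σ b hm M := by
  ext j
  change (iotaMat σ x * M.1 : Matrix (Fin m) (Fin m) K) ⟨0, hm⟩ j = x * M.1 ⟨0, hm⟩ j
  rw [iotaMat, Matrix.diagonal_mul]
  simp

theorem rho_mul_yel (hm : 0 < m) (M : Bsub σ b m) (j : Fin m) :
    rho σ b hm (M * yel σ b) j =
      if h : j.val + 1 = m then rho σ b hm M ⟨0, hm⟩ * algebraMap k K (b : k)
      else rho σ b hm M ⟨j.val + 1, by omega⟩ :=
  mul_Fmat_apply b hm M.1 ⟨0, hm⟩ j

theorem rho_one (hm : 0 < m) : rho σ b hm 1 = Pi.single ⟨0, hm⟩ 1 := by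
  ext j
  change (1 : Matrix (Fin m) (Fin m) K) ⟨0, hm⟩ j = _
  rw [Matrix.one_apply, Pi.single_apply]
  simp [eq_comm]

theorem rho_yel_pow (hm : 0 < m) : ∀ (t : ℕ) (ht : 1 ≤ t) (h : t ≤ m),
    rho σ b hm (yel σ b ^ t) = algebraMap k K (b : k) • Pi.single ⟨m - t, by omega⟩ 1 := by
  intro t ht
  induction t, ht using Nat.le_induction with
  | base =>
    intro h
    ext j
    rw [pow_one, ← one_mul (yel σ b), rho_mul_yel, rho_one]
    simp only [Pi.smul_apply, Pi.single_apply, smul_eq_mul, Fin.ext_iff]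
    split_ifs
    all_goals first | omega | contradiction | simp
  | succ t ht ih =>
    intro h
    ext j
    rw [pow_succ, rho_mul_yel, ih (by omega)]
    simp only [Pi.smul_apply, Pi.single_apply, smul_eq_mul, Fin.ext_iff]
    split_ifs
    all_goals first | omega | contradiction | simp

theorem yel_pow (hm : 0 < m) : yel σ b ^ m = algebraMap k (Bsub σ b m) (b : k) := by
  apply rho_injective σ b hm
  rw [rho_yel_pow σ b hm m hm le_rfl]
  ext j
  change _ = (algebraMap k (Matrix (Fin m) (Fin m) K) (b : k)) ⟨0, hm⟩ j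
  rw [Matrix.algebraMap_matrix_apply]
  simp only [Pi.smul_apply, Pi.single_apply, smul_eq_mul, Fin.ext_iff]
  split_ifs
  all_goals first | omega | contradiction | simp

theorem iota_mem_adjoin (hσ : σ ^ m = 1) (x : K) :
    iota σ b hσ x ∈ Algebra.adjoin k (Set.range (iota σ b hσ) ∪ {yel σ b}) :=
  Algebra.subset_adjoin (Set.mem_union_left _ ⟨x, rfl⟩)

theorem yel_mem_adjoin (hσ : σ ^ m = 1) :
    yel σ b ∈ Algebra.adjoin k (Set.range (iota σ b hσ) ∪ {yel σ b}) :=
  Algebra.subset_adjoin (Set.mem_union_right _ rfl)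

theorem exists_adjoin_rho_single (hm : 0 < m) (hσ : σ ^ m = 1) (j : Fin m) :
    ∃ z ∈ Algebra.adjoin k (Set.range (iota σ b hσ) ∪ {yel σ b}),
      rho σ b hm z = Pi.single j 1 := by
  by_cases hj : j.val = 0
  · refine ⟨1, Subalgebra.one_mem _, ?_⟩
    rw [rho_one]
    congr 1
    exact Fin.ext hj.symm
  · refine ⟨iota σ b hσ (algebraMap k K (b : k))⁻¹ * yel σ b ^ (m - j.val), ?_, ?_⟩
    · exact Subalgebra.mul_mem _ (iota_mem_adjoin σ b hσ _)
        (Subalgebra.pow_mem _ (yel_mem_adjoin σ b hσ) _)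
    · rw [rho_iota_mul, rho_yel_pow σ b hm (m - j.val) (by omega) (by omega), smul_smul,
        inv_mul_cancel₀ (by simp), one_smul]
      congr 1
      apply Fin.ext
      simp only []
      omega

theorem exists_adjoin_rho_eq (hm : 0 < m) (hσ : σ ^ m = 1) (r : Fin m → K) :
    ∃ z ∈ Algebra.adjoin k (Set.range (iota σ b hσ) ∪ {yel σ b}), rho σ b hm z = r := by
  choose z hz hz' using exists_adjoin_rho_single σ b hm hσ
  refine ⟨∑ j, iota σ b hσ (r j) * z j, ?_, ?_⟩
  · refine Subalgebra.sum_mem _ fun j _ => ?_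
    exact Subalgebra.mul_mem _ (iota_mem_adjoin σ b hσ _) (hz j)
  · rw [map_sum]
    simp_rw [rho_iota_mul, hz']
    ext i
    simp [Finset.sum_apply, Pi.single_apply]

theorem adjoin_eq_top (hm : 0 < m) (hσ : σ ^ m = 1) :
    Algebra.adjoin k (Set.range (iota σ b hσ) ∪ {yel σ b}) = ⊤ := by
  rw [eq_top_iff]
  intro M _
  obtain ⟨z, hz, hz'⟩ := exists_adjoin_rho_eq σ b hm hσ (rho σ b hm M)
  rwa [rho_injective σ b hm hz'] at hz

theorem rho_surjective (hm : 0 < m) (hσ : σ ^ m = 1) : Function.Surjective (rho σ b hm) := by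
  intro r
  obtain ⟨z, _, hz'⟩ := exists_adjoin_rho_eq σ b hm hσ r
  exact ⟨z, hz'⟩

theorem finrank_Bsub [FiniteDimensional k K] (hm : 0 < m) (hσ : σ ^ m = 1)
    (hmK : Module.finrank k K = m) : Module.finrank k (Bsub σ b m) = m ^ 2 := by
  have e : Bsub σ b m ≃ₗ[k] (Fin m → K) :=
    LinearEquiv.ofBijective (rho σ b hm) ⟨rho_injective σ b hm, rho_surjective σ b hm hσ⟩
  rw [e.finrank_eq, Module.finrank_pi_fintype]
  simp [hmK, sq]

theorem isCyclicAlg [FiniteDimensional k K] (hm : 0 < m) (hσ : σ ^ m = 1)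
    (hmK : Module.finrank k K = m) : CSAGal.IsCyclicAlg k K σ b (Bsub σ b m) := by
  refine ⟨iota σ b hσ, yel σ b, ?_, fun x => iota_mul_yel σ b hσ x, adjoin_eq_top σ b hm hσ, ?_, ?_⟩
  · rw [hmK]; exact yel_pow σ b hm
  · rw [hmK]; exact hm
  · rw [hmK]; exact finrank_Bsub σ b hm hσ hmK

end Groth.Agent.Helper6.CycMat
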