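import Mathlib
import Groth.Prelude.Def_GSzCSA

/-!
Generic theory of cyclic presentations `(ι, y)` with `y^m = b`, `ι x * y = y * ι (σ x)`.
-/

namespace Groth.Agent.Helper6.CycPres

universe u v w

variable {k : Type u} [Field k] {K : Type v} [Field K] [Algebra k K]
variable (σ : K ≃ₐ[k] K) (b : kˣ) {m : ℕ} (hm : 0 < m)
variable {A : Type w} [Ring A] [Algebra k A] (ι : K →ₐ[k] A) (y : A)

/-- The data of a cyclic presentation inside `A`. -/
structure Rel (m : ℕ) : Prop where
  pow : y ^ m = algebraMap k A (b : k)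
  rel : ∀ x : K, ι x * y = y * ι (σ x)

/-- The "monomial sum" map. -/
noncomputable def Psi (m : ℕ) : (Fin m → K) →ₗ[k] A where
  toFun u := ∑ t : Fin m, ι (u t) * y ^ (t : ℕ)
  map_add' u v := by
    simp only [Pi.add_apply, map_add, add_mul, Finset.sum_add_distrib]
  map_smul' c u := by
    simp only [Pi.smul_apply, map_smul, smul_mul_assoc, Finset.smul_sum, RingHom.id_apply]

/-- Reduction of a monomial `x y^n` to normal form. -/
noncomputable def red (n : ℕ) (x : K) : Fin m → K :=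
  Pi.single ⟨n % m, Nat.mod_lt _ hm⟩ (algebraMap k K ((b : k) ^ (n / m)) * x)

/-- The multiplication table on coordinates. -/
noncomputable def star (u v : Fin m → K) : Fin m → K :=
  ∑ s : Fin m, ∑ t : Fin m, red b hm ((s : ℕ) + (t : ℕ)) (u s * (σ⁻¹ ^ (s : ℕ)) (v t))

variable {σ b ι y}

theorem Rel.y_mul (h : Rel σ b ι y m) (z : K) : y * ι z = ι (σ⁻¹ z) * y := by
  have := h.rel (σ⁻¹ z)
  rw [this]
  congr 2
  exact (σ.apply_symm_apply z).symm

theorem Rel.y_pow_mul (h : Rel σ b ι y m) (s : ℕ) (z : K) :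
    y ^ s * ι z = ι ((σ⁻¹ ^ s) z) * y ^ s := by
  induction s generalizing z with
  | zero => simp
  | succ s ih =>
    rw [pow_succ, mul_assoc, h.y_mul, ← mul_assoc, ih, mul_assoc, pow_succ (σ⁻¹), AlgEquiv.mul_apply]

theorem Psi_apply (u : Fin m → K) : Psi ι y m u = ∑ t : Fin m, ι (u t) * y ^ (t : ℕ) := rfl

theorem Psi_single (t : Fin m) (x : K) : Psi ι y m (Pi.single t x) = ι x * y ^ (t : ℕ) := by
  classical
  rw [Psi_apply, Finset.sum_eq_single t]
  · rw [Pi.single_eq_same]
  · intro s _ hs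
    rw [Pi.single_eq_of_ne hs, map_zero, zero_mul]
  · intro h; exact absurd (Finset.mem_univ _) h

theorem Rel.mon_red (h : Rel σ b ι y m) (n : ℕ) (x : K) :
    ι x * y ^ n = Psi ι y m (red b hm n x) := by
  rw [red, Psi_single]
  have hn : y ^ n = algebraMap k A ((b : k) ^ (n / m)) * y ^ (n % m) := by
    conv_lhs => rw [← Nat.div_add_mod n m]
    rw [pow_add, pow_mul, h.pow, ← map_pow]
  rw [hn, map_mul, AlgHom.commutes, ← mul_assoc, ← Algebra.commutes (((b : k)) ^ (n / m)) (ι x)]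

theorem Rel.Psi_mul (h : Rel σ b ι y m) (u v : Fin m → K) :
    Psi ι y m u * Psi ι y m v = Psi ι y m (star σ b hm u v) := by
  rw [star, map_sum, Psi_apply, Psi_apply, Finset.sum_mul]
  refine Finset.sum_congr rfl fun s _ => ?_
  rw [map_sum, Finset.mul_sum]
  refine Finset.sum_congr rfl fun t _ => ?_
  rw [← h.mon_red hm, mul_assoc, ← mul_assoc (y ^ (s : ℕ)), h.y_pow_mul, map_mul, pow_add]
  simp only [mul_assoc]

theorem Psi_single_zero_one : Psi ι y m (Pi.single ⟨0, hm⟩ 1) = 1 := by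
  rw [Psi_single]
  simp

include hm

theorem Rel.Psi_surjective (h : Rel σ b ι y m)
    (hgen : Algebra.adjoin k (Set.range ι ∪ {y}) = ⊤) : Function.Surjective (Psi ι y m) := by
  intro a
  have ha : a ∈ Algebra.adjoin k (Set.range ι ∪ {y}) := hgen ▸ Algebra.mem_top
  induction ha using Algebra.adjoin_induction with
  | mem x hx =>
    rcases hx with ⟨z, rfl⟩ | hx
    · exact ⟨Pi.single ⟨0, hm⟩ z, by rw [Psi_single]; simp⟩
    · rw [Set.mem_singleton_iff] at hx
      subst hx
      refine ⟨red b hm 1 1, ?_⟩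
      rw [← h.mon_red hm]
      simp
  | algebraMap c =>
    refine ⟨Pi.single ⟨0, hm⟩ (algebraMap k K c), ?_⟩
    rw [Psi_single]
    simp
  | add x z _ _ hx hz =>
    obtain ⟨u, rfl⟩ := hx
    obtain ⟨v, rfl⟩ := hz
    exact ⟨u + v, map_add _ _ _⟩
  | mul x z _ _ hx hz =>
    obtain ⟨u, rfl⟩ := hx
    obtain ⟨v, rfl⟩ := hz
    exact ⟨star σ b hm u v, (h.Psi_mul hm u v).symm⟩

theorem Rel.Psi_bijective [FiniteDimensional k K] (h : Rel σ b ι y m)
    (hgen : Algebra.adjoin k (Set.range ι ∪ {y}) = ⊤)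
    (hK : Module.finrank k K = m) (hA : Module.finrank k A = m ^ 2) :
    Function.Bijective (Psi ι y m) := by
  have hpos : 0 < Module.finrank k A := by rw [hA]; exact pow_pos hm 2
  have : FiniteDimensional k A := Module.finite_of_finrank_pos hpos
  have hs := h.Psi_surjective hm hgen
  refine ⟨?_, hs⟩
  have hdim : Module.finrank k (Fin m → K) = Module.finrank k A := by
    rw [Module.finrank_pi_fintype, hA]
    simp [hK, sq]
  exact (LinearMap.injective_iff_surjective_of_finrank_eq_finrank hdim).mpr hs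

section Equiv

variable {B : Type*} [Ring B] [Algebra k B] {ι' : K →ₐ[k] B} {y' : B}

/-- Two algebras with the same cyclic presentation are isomorphic. -/
theorem nonempty_algEquiv [FiniteDimensional k K] (h : Rel σ b ι y m) (h' : Rel σ b ι' y' m)
    (hgen : Algebra.adjoin k (Set.range ι ∪ {y}) = ⊤)
    (hgen' : Algebra.adjoin k (Set.range ι' ∪ {y'}) = ⊤)
    (hK : Module.finrank k K = m) (hA : Module.finrank k A = m ^ 2)
    (hB : Module.finrank k B = m ^ 2) :
    ∃ e : A ≃ₐ[k] B, (∀ x, e (ι x) = ι' x) ∧ e y = y' := by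
  let eA : (Fin m → K) ≃ₗ[k] A := LinearEquiv.ofBijective _ (h.Psi_bijective hm hgen hK hA)
  let eB : (Fin m → K) ≃ₗ[k] B := LinearEquiv.ofBijective _ (h'.Psi_bijective hm hgen' hK hB)
  have heA : ∀ u, eA u = Psi ι y m u := fun u => rfl
  have heB : ∀ u, eB u = Psi ι' y' m u := fun u => rfl
  let e : A ≃ₗ[k] B := eA.symm ≪≫ₗ eB
  have he : ∀ u, e (Psi ι y m u) = Psi ι' y' m u := by
    intro u
    change eB (eA.symm (Psi ι y m u)) = _
    rw [← heA, eA.symm_apply_apply, heB]
  have hone : e 1 = 1 := by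
    rw [← Psi_single_zero_one (ι := ι) (y := y) hm, he, Psi_single_zero_one]
  have hmul : ∀ a a', e (a * a') = e a * e a' := by
    intro a a'
    obtain ⟨u, rfl⟩ := h.Psi_surjective hm hgen a
    obtain ⟨v, rfl⟩ := h.Psi_surjective hm hgen a'
    rw [h.Psi_mul hm, he, he, he, h'.Psi_mul hm]
  refine ⟨AlgEquiv.ofLinearEquiv e hone hmul, ?_, ?_⟩
  · intro x
    change e (ι x) = ι' x
    have h1 : ι x = Psi ι y m (Pi.single ⟨0, hm⟩ x) := by rw [Psi_single]; simp
    have h2 : ι' x = Psi ι' y' m (Pi.single ⟨0, hm⟩ x) := by rw [Psi_single]; simp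
    rw [h1, he, ← h2]
  · change e y = y'
    have h1 : y = Psi ι y m (red b hm 1 1) := by rw [← h.mon_red hm]; simp
    have h2 : y' = Psi ι' y' m (red b hm 1 1) := by rw [← h'.mon_red hm]; simp
    rw [h1, he, ← h2]

/-- Universal property: a cyclic algebra maps to any algebra containing a pair satisfying the
relations. -/
theorem exists_algHom [FiniteDimensional k K] (h : Rel σ b ι y m) (h' : Rel σ b ι' y' m)
    (hgen : Algebra.adjoin k (Set.range ι ∪ {y}) = ⊤)
    (hK : Module.finrank k K = m) (hA : Module.finrank k A = m ^ 2) :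
    ∃ f : A →ₐ[k] B, (∀ x, f (ι x) = ι' x) ∧ f y = y' ∧
      ∀ a, ∃ u : Fin m → K, f a = Psi ι' y' m u := by
  let eA : (Fin m → K) ≃ₗ[k] A := LinearEquiv.ofBijective _ (h.Psi_bijective hm hgen hK hA)
  have heA : ∀ u, eA u = Psi ι y m u := fun u => rfl
  let e : A →ₗ[k] B := (Psi ι' y' m) ∘ₗ eA.symm.toLinearMap
  have he : ∀ u, e (Psi ι y m u) = Psi ι' y' m u := by
    intro u
    change Psi ι' y' m (eA.symm (Psi ι y m u)) = _
    rw [← heA, eA.symm_apply_apply]
  have hone : e 1 = 1 := by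
    rw [← Psi_single_zero_one (ι := ι) (y := y) hm, he, Psi_single_zero_one]
  have hmul : ∀ a a', e (a * a') = e a * e a' := by
    intro a a'
    obtain ⟨u, rfl⟩ := h.Psi_surjective hm hgen a
    obtain ⟨v, rfl⟩ := h.Psi_surjective hm hgen a'
    rw [h.Psi_mul hm, he, he, he, h'.Psi_mul hm]
  refine ⟨AlgHom.ofLinearMap e hone hmul, ?_, ?_, ?_⟩
  · intro x
    change e (ι x) = ι' x
    have h1 : ι x = Psi ι y m (Pi.single ⟨0, hm⟩ x) := by rw [Psi_single]; simp
    have h2 : ι' x = Psi ι' y' m (Pi.single ⟨0, hm⟩ x) := by rw [Psi_single]; simp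
    rw [h1, he, ← h2]
  · change e y = y'
    have h1 : y = Psi ι y m (red b hm 1 1) := by rw [← h.mon_red hm]; simp
    have h2 : y' = Psi ι' y' m (red b hm 1 1) := by rw [← h'.mon_red hm]; simp
    rw [h1, he, ← h2]
  · intro a
    obtain ⟨u, rfl⟩ := h.Psi_surjective hm hgen a
    exact ⟨u, he u⟩

end Equiv

end Groth.Agent.Helper6.CycPres
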