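import Groth.Agent.Lib.Helper6.CycTwist
import Groth.Agent.Lib.Helper8.CSA

/-!
Product of cyclic algebras: `(K,σ,b) ⊗ (K,σ,b') ≅ M_m((K,σ,b b'))`.
-/

set_option autoImplicit false
set_option linter.unusedSectionVars false
universe u v w

namespace Groth.Agent.Helper6.CycProd

open scoped TensorProduct MatrixGroups
open Groth.Agent.Helper6.CycMat Groth.Agent.Helper6.CycPres Groth.Agent.Helper6.CycTwist

variable {k : Type u} [Field k] {K : Type v} [Field K] [Algebra k K]
variable (σ : K ≃ₐ[k] K) (b b' : kˣ) {m : ℕ} (hm : 0 < m) (hσm : σ ^ m = 1)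

/-- The unit `F_{b'}` over `k`. -/
noncomputable def Uk : GL (Fin m) k := Fu (K := k) AlgEquiv.refl b' hm

/-- The inclusion of `M_m(k)` into `M_m(B₃)`. -/
noncomputable def mapk : Matrix (Fin m) (Fin m) k →ₐ[k] Matrix (Fin m) (Fin m) (Bsub σ (b * b') m) :=
  (Algebra.ofId k (Bsub σ (b * b') m)).mapMatrix

/-- `F_{b'}` inside `M_m(B₃)`. -/
noncomputable def W : Matrix (Fin m) (Fin m) (Bsub σ (b * b') m) :=
  mapk σ b b' ((Uk b' hm : GL (Fin m) k) : Matrix (Fin m) (Fin m) k)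

/-- `F_{b'}⁻¹` inside `M_m(B₃)`. -/
noncomputable def V : Matrix (Fin m) (Fin m) (Bsub σ (b * b') m) :=
  mapk σ b b' (((Uk b' hm)⁻¹ : GL (Fin m) k) : Matrix (Fin m) (Fin m) k)

theorem V_mul_W : V σ b b' hm * W σ b b' hm = 1 := by
  unfold V W
  rw [← map_mul, ← Units.val_mul, inv_mul_cancel, Units.val_one, map_one]

theorem W_mul_V : W σ b b' hm * V σ b b' hm = 1 := by
  unfold V W
  rw [← map_mul, ← Units.val_mul, mul_inv_cancel, Units.val_one, map_one]

theorem mapk_apply (N : Matrix (Fin m) (Fin m) k) (i j : Fin m) :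
    mapk σ b b' N i j = algebraMap k (Bsub σ (b * b') m) (N i j) := rfl

/-- matrices over `k` commute with scalar matrices -/
theorem mapk_comm_scalar (N : Matrix (Fin m) (Fin m) k) (c : Bsub σ (b * b') m) :
    mapk σ b b' N * Matrix.scalar (Fin m) c = Matrix.scalar (Fin m) c * mapk σ b b' N := by
  refine Matrix.ext fun i j => ?_
  rw [Matrix.scalar_apply, Matrix.mul_diagonal, Matrix.diagonal_mul, mapk_apply]
  exact Algebra.commutes (N i j) c

theorem W_eq (hσm : σ ^ m = 1) : W σ b b' hm =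
    (iota σ (b * b') hσm).mapMatrix (Fmat K b' m) := by
  refine Matrix.ext fun i j => ?_
  unfold W
  rw [mapk_apply]
  change algebraMap k _ (Fmat k b' m i j) = iota σ (b * b') hσm (Fmat K b' m i j)
  rw [Fmat_apply, Fmat_apply]
  split_ifs <;> simp

theorem W_pow : W σ b b' hm ^ m = algebraMap k _ (b' : k) := by
  unfold W
  rw [← map_pow]
  have h1 : ((Uk b' hm : GL (Fin m) k) : Matrix (Fin m) (Fin m) k) ^ m =
      algebraMap k (Matrix (Fin m) (Fin m) k) (b' : k) := by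
    have := Fmat_pow (K := k) AlgEquiv.refl b' hm
    simpa [Uk, Fu_val] using this
  rw [h1, AlgHom.commutes]

theorem V_pow : V σ b b' hm ^ m = algebraMap k _ ((b'⁻¹ : kˣ) : k) := by
  have h1 : V σ b b' hm ^ m * W σ b b' hm ^ m = 1 := by
    rw [← (Commute.mul_pow _ m), V_mul_W, one_pow]
    change Commute (V σ b b' hm) (W σ b b' hm)
    rw [commute_iff_eq, V_mul_W, W_mul_V]
  rw [W_pow] at h1
  calc V σ b b' hm ^ m = V σ b b' hm ^ m * (algebraMap k _ (b' : k) *
        algebraMap k _ ((b'⁻¹ : kˣ) : k)) := by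
        rw [← map_mul, Units.mul_inv, map_one, mul_one]
    _ = algebraMap k _ ((b'⁻¹ : kˣ) : k) := by rw [← mul_assoc, h1, one_mul]

/-- The image of `y₁`. -/
noncomputable def Y1 : Matrix (Fin m) (Fin m) (Bsub σ (b * b') m) :=
  Matrix.scalar (Fin m) (yel σ (b * b')) * V σ b b' hm

/-- The image of `ι₁`. -/
noncomputable def iotaE : K →ₐ[k] Matrix (Fin m) (Fin m) (Bsub σ (b * b') m) :=
  (Matrix.scalarAlgHom (Fin m) k).comp (iota σ (b * b') hσm)

theorem iotaE_apply (x : K) : iotaE σ b b' hσm x = Matrix.scalar (Fin m) (iota σ (b * b') hσm x) :=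
  rfl

theorem V_comm_scalar (c : Bsub σ (b * b') m) :
    V σ b b' hm * Matrix.scalar (Fin m) c = Matrix.scalar (Fin m) c * V σ b b' hm :=
  mapk_comm_scalar σ b b' _ c

theorem rel1 : Rel σ b (iotaE σ b b' hσm) (Y1 σ b b' hm) m where
  pow := by
    unfold Y1
    rw [(show Commute (Matrix.scalar (Fin m) (yel σ (b * b'))) (V σ b b' hm) from
      (V_comm_scalar σ b b' hm _).symm).mul_pow, V_pow, ← map_pow, yel_pow σ (b * b') hm]
    have : (Matrix.scalar (Fin m)) ((algebraMap k (Bsub σ (b * b') m)) ((b * b' : kˣ) : k)) =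
        algebraMap k (Matrix (Fin m) (Fin m) (Bsub σ (b * b') m)) ((b * b' : kˣ) : k) := rfl
    rw [this, ← map_mul]
    congr 1
    simp [mul_assoc]
  rel := by
    intro x
    unfold Y1
    rw [iotaE_apply, iotaE_apply, ← mul_assoc, ← map_mul, iota_mul_yel, map_mul, mul_assoc,
      mul_assoc, V_comm_scalar]

/-- The map on the second factor. -/
noncomputable def f2 : Bsub σ b' m →ₐ[k] Matrix (Fin m) (Fin m) (Bsub σ (b * b') m) :=
  (iota σ (b * b') hσm).mapMatrix.comp (Bsub σ b' m).val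

theorem f2_apply (M : Bsub σ b' m) (i j : Fin m) :
    f2 σ b b' hσm M i j = iota σ (b * b') hσm (M.1 i j) := rfl

theorem f2_comm_iotaE (M : Bsub σ b' m) (x : K) :
    Commute (f2 σ b b' hσm M) (iotaE σ b b' hσm x) := by
  rw [commute_iff_eq]
  refine Matrix.ext fun i j => ?_
  rw [iotaE_apply, Matrix.scalar_apply, Matrix.mul_diagonal, Matrix.diagonal_mul, f2_apply,
    ← map_mul, ← map_mul, mul_comm (M.1 i j) x]

theorem scalar_yel_mul (M : Bsub σ b' m) :
    Matrix.scalar (Fin m) (yel σ (b * b')) *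
        (iota σ (b * b') hσm).mapMatrix (M.1.map (fun x => σ x)) =
      f2 σ b b' hσm M * Matrix.scalar (Fin m) (yel σ (b * b')) := by
  refine Matrix.ext fun i j => ?_
  rw [Matrix.scalar_apply, Matrix.mul_diagonal, Matrix.diagonal_mul, f2_apply]
  exact (iota_mul_yel σ (b * b') hσm (M.1 i j)).symm

theorem f2_comm_Y1 (M : Bsub σ b' m) : Commute (f2 σ b b' hσm M) (Y1 σ b b' hm) := by
  rw [commute_iff_eq]
  have h1 : W σ b b' hm * (iota σ (b * b') hσm).mapMatrix (M.1.map (fun x => σ x)) =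
      f2 σ b b' hσm M * W σ b b' hm := by
    rw [W_eq σ b b' hm hσm, ← map_mul, (mem_Bsub σ b' M.1).mp M.2, map_mul]
    rfl
  have h2 : (iota σ (b * b') hσm).mapMatrix (M.1.map (fun x => σ x)) * V σ b b' hm =
      V σ b b' hm * f2 σ b b' hσm M := by
    calc (iota σ (b * b') hσm).mapMatrix (M.1.map (fun x => σ x)) * V σ b b' hm
        = V σ b b' hm * (W σ b b' hm * (iota σ (b * b') hσm).mapMatrix (M.1.map (fun x => σ x)))
            * V σ b b' hm := by rw [← mul_assoc (V σ b b' hm), V_mul_W, one_mul]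
      _ = V σ b b' hm * f2 σ b b' hσm M := by
          rw [h1, mul_assoc, mul_assoc, W_mul_V, mul_one]
  unfold Y1
  rw [← mul_assoc, ← scalar_yel_mul, mul_assoc, h2, mul_assoc]

section Main

variable [FiniteDimensional k K] [IsGalois k K]
variable (hσ : ∀ τ : K ≃ₐ[k] K, τ ∈ Subgroup.zpowers σ) (hmK : Module.finrank k K = m)

include hm hmK in
theorem exists_f1 : ∃ f1 : Bsub σ b m →ₐ[k] Matrix (Fin m) (Fin m) (Bsub σ (b * b') m),
    ∀ a M, Commute (f1 a) (f2 σ b b' hσm M) := by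
  obtain ⟨f, -, -, hf⟩ := exists_algHom hm (σ := σ) (b := b) (ι := iota σ b hσm) (y := yel σ b)
    ⟨yel_pow σ b hm, iota_mul_yel σ b hσm⟩ (rel1 σ b b' hm hσm) (adjoin_eq_top σ b hm hσm) hmK
    (finrank_Bsub σ b hm hσm hmK)
  refine ⟨f, fun a M => ?_⟩
  obtain ⟨u, hu⟩ := hf a
  rw [hu, Psi_apply]
  refine Commute.sum_left _ _ _ fun t _ => ?_
  exact ((f2_comm_iotaE σ b b' hσm M _).symm).mul_left
    ((f2_comm_Y1 σ b b' hm hσm M).symm.pow_left _)

set_option synthInstance.maxHeartbeats 400000 in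
set_option maxHeartbeats 1000000 in
include hm hmK hσ hσm in
/-- The product formula for the matrix models. -/
theorem nonempty_algEquiv_Bsub :
    Nonempty ((Bsub σ b m ⊗[k] Bsub σ b' m) ≃ₐ[k] Matrix (Fin m) (Fin m) (Bsub σ (b * b') m)) := by
  obtain ⟨f1, hcomm⟩ := exists_f1 σ b b' hm hσm hmK
  let Φ : (Bsub σ b m ⊗[k] Bsub σ b' m) →ₐ[k] Matrix (Fin m) (Fin m) (Bsub σ (b * b') m) :=
    Algebra.TensorProduct.lift f1 (f2 σ b b' hσm) hcomm
  have hord : orderOf σ = m := by rw [orderOf_eq_finrank σ hσ, hmK]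
  have : Algebra.IsCentral k (Bsub σ b m) := Bsub_isCentral σ b hm hσ hord
  have : IsSimpleRing (Bsub σ b m) := Bsub_isSimple σ b hm hσ hord
  have : IsSimpleRing (Bsub σ b' m) := Bsub_isSimple σ b' hm hσ hord
  have hs : IsSimpleRing (Bsub σ b m ⊗[k] Bsub σ b' m) :=
    Groth.Agent.Helper8.isSimpleRing_tensor k _ _
  have : Nonempty (Fin m) := ⟨⟨0, hm⟩⟩
  have hB3 : IsSimpleRing (Bsub σ (b * b') m) := Bsub_isSimple σ (b * b') hm hσ hord
  have hnt : Nontrivial (Matrix (Fin m) (Fin m) (Bsub σ (b * b') m)) := inferInstance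
  have hinj : Function.Injective Φ := by
    have h' := @RingHom.injective (Bsub σ b m ⊗[k] Bsub σ b' m)
        (Matrix (Fin m) (Fin m) (Bsub σ (b * b') m)) _ hs _ hnt Φ.toRingHom
    exact h'
  have hfin3 : Module.Finite k (Bsub σ (b * b') m) :=
    Module.finite_of_finrank_pos (by rw [finrank_Bsub σ (b * b') hm hσm hmK]; positivity)
  have hfin1 : Module.Finite k (Bsub σ b m) :=
    Module.finite_of_finrank_pos (by rw [finrank_Bsub σ b hm hσm hmK]; positivity)
  have hfin2 : Module.Finite k (Bsub σ b' m) :=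
    Module.finite_of_finrank_pos (by rw [finrank_Bsub σ b' hm hσm hmK]; positivity)
  have hdim : Module.finrank k (Bsub σ b m ⊗[k] Bsub σ b' m) =
      Module.finrank k (Matrix (Fin m) (Fin m) (Bsub σ (b * b') m)) := by
    rw [Module.finrank_tensorProduct, Module.finrank_matrix, finrank_Bsub σ b hm hσm hmK,
      finrank_Bsub σ b' hm hσm hmK, finrank_Bsub σ (b * b') hm hσm hmK]
    simp only [Fintype.card_fin]
    ring
  have hfinT : Module.Finite k (Bsub σ b m ⊗[k] Bsub σ b' m) := inferInstance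
  have hfinE : Module.Finite k (Matrix (Fin m) (Fin m) (Bsub σ (b * b') m)) := inferInstance
  have hsurj : Function.Surjective Φ.toLinearMap :=
    (LinearMap.injective_iff_surjective_of_finrank_eq_finrank (K := k)
      (V := Bsub σ b m ⊗[k] Bsub σ b' m)
      (V₂ := Matrix (Fin m) (Fin m) (Bsub σ (b * b') m)) hdim (f := Φ.toLinearMap)).mp hinj
  have hbij : Function.Bijective Φ := ⟨hinj, hsurj⟩
  exact ⟨AlgEquiv.ofBijective Φ hbij⟩

/-- `T ≅ M₁(T)`. -/
noncomputable def matOne (R T : Type*) [CommSemiring R] [Semiring T] [Algebra R T] :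
    T ≃ₐ[R] Matrix (Fin 1) (Fin 1) T :=
  AlgEquiv.ofBijective (Matrix.scalarAlgHom (Fin 1) R) (by
    constructor
    · intro x y h
      have := congrFun (congrFun h 0) 0
      simpa using this
    · intro M
      refine ⟨M 0 0, ?_⟩
      ext i j
      have hi : i = 0 := Subsingleton.elim _ _
      have hj : j = 0 := Subsingleton.elim _ _
      subst hi hj
      simp)

theorem main (hσ : ∀ τ : K ≃ₐ[k] K, τ ∈ Subgroup.zpowers σ)
    {A A' A'' : Type w} [Ring A] [Algebra k A] [Ring A'] [Algebra k A'] [Ring A''] [Algebra k A'']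
    (hA : CSAGal.IsCyclicAlg k K σ b A) (hA' : CSAGal.IsCyclicAlg k K σ b' A')
    (hA'' : CSAGal.IsCyclicAlg k K σ (b * b') A'') :
    ∃ n m : ℕ, n ≠ 0 ∧ m ≠ 0 ∧
      Nonempty (Matrix (Fin n) (Fin n) (A ⊗[k] A') ≃ₐ[k] Matrix (Fin m) (Fin m) A'') := by
  obtain ⟨ι, y, hy, hrel, hgen, hpos, hdim⟩ := hA
  obtain ⟨ι', y', hy', hrel', hgen', -, hdim'⟩ := hA'
  obtain ⟨ι'', y'', hy'', hrel'', hgen'', -, hdim''⟩ := hA''
  obtain ⟨e1, -, -⟩ := exists_algEquiv_Bsub σ b ι y hy hrel hgen hdim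
  obtain ⟨e2, -, -⟩ := exists_algEquiv_Bsub σ b' ι' y' hy' hrel' hgen' hdim'
  obtain ⟨e3, -, -⟩ := exists_algEquiv_Bsub σ (b * b') ι'' y'' hy'' hrel'' hgen'' hdim''
  obtain ⟨Ψ⟩ := nonempty_algEquiv_Bsub σ b b' hpos (pow_finrank_eq_one σ) hσ rfl
  refine ⟨1, Module.finrank k K, one_ne_zero, hpos.ne', ⟨?_⟩⟩
  exact (matOne k (A ⊗[k] A')).symm.trans
    ((Algebra.TensorProduct.congr e1 e2).trans (Ψ.trans e3.symm.mapMatrix))

end Main

end Groth.Agent.Helper6.CycProd
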