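import Groth.Agent.Lib.Helper6.CycTwist
import Groth.Agent.Lib.Helper8.SimpleIso
import Groth.Agent.Lib.Helper8.SkolemNoether2

/-!
Structure theorem: a central simple algebra of degree `[K:k]` split by the cyclic extension `K`
is a cyclic algebra.
-/

set_option autoImplicit false
set_option linter.unusedSectionVars false
universe u v w

namespace Groth.Agent.Helper6.CycStruct

open scoped TensorProduct
open Matrix
open Groth.Agent.Helper6.CycMat Groth.Agent.Helper6.CycPres Groth.Agent.Helper6.CycTwist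

variable {k : Type u} [Field k] {K : Type v} [Field K] [Algebra k K]
variable [FiniteDimensional k K]
variable {A : Type w} [Ring A] [Algebra k A] [IsSimpleRing A] [FiniteDimensional k A]

/-- A splitting field of degree equal to the degree of `A` embeds into `A`. -/
theorem exists_embedding {n : ℕ} (φ : K ⊗[k] A ≃ₐ[K] Matrix (Fin n) (Fin n) K)
    (hdim : Module.finrank k A = n * Module.finrank k K) : Nonempty (K →ₐ[k] A) := by
  classical
  let ρ : A →ₐ[k] Matrix (Fin n) (Fin n) K :=
    (φ.toAlgHom.restrictScalars k).comp Algebra.TensorProduct.includeRight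
  letI instM : Module A (Fin n → K) := Module.compHom (Fin n → K) (ρ : A →+* Matrix (Fin n) (Fin n) K)
  have hsmul : ∀ (a : A) (v : Fin n → K), a • v = ρ a *ᵥ v := fun a v => rfl
  haveI : IsScalarTower k A (Fin n → K) :=
    ⟨fun c a v => by
      rw [hsmul, hsmul, map_smul, Matrix.smul_mulVec]⟩
  haveI : IsArtinianRing A := IsArtinianRing.of_finite k A
  have hfin : Module.finrank k (Fin n → K) = Module.finrank k A := by
    rw [Module.finrank_pi_fintype, hdim]
    simp
  obtain ⟨θ⟩ := Groth.Agent.Helper8.nonempty_linearEquiv_of_finrank_eq (k := k) (S := A)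
    (Fin n → K) A hfin
  -- scalar multiplication by `x : K` as an `A`-linear map
  let sc : K → ((Fin n → K) →ₗ[A] (Fin n → K)) := fun x =>
    { toFun := fun v => x • v
      map_add' := fun v w => smul_add x v w
      map_smul' := fun a v => by
        simp only [RingHom.id_apply]
        rw [hsmul, hsmul, Matrix.mulVec_smul] }
  let T : K → (A →ₗ[A] A) := fun x => θ.toLinearMap ∘ₗ sc x ∘ₗ θ.symm.toLinearMap
  have hT : ∀ x a, T x a = a * T x 1 := by
    intro x a
    have : a = a • (1 : A) := by rw [smul_eq_mul, mul_one]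
    conv_lhs => rw [this]
    rw [map_smul, smul_eq_mul]
  have hTapp : ∀ x a, T x a = θ (x • θ.symm a) := fun x a => rfl
  have hmul' : ∀ x x' : K, T (x * x') 1 = T x' 1 * T x 1 := by
    intro x x'
    rw [← hT x (T x' 1), hTapp x, hTapp x', hTapp (x * x'), θ.symm_apply_apply, mul_smul]
  refine ⟨{ toFun := fun x => T x 1, map_one' := ?_, map_mul' := ?_, map_zero' := ?_,
            map_add' := ?_, commutes' := ?_ }⟩
  · rw [hTapp, one_smul, θ.apply_symm_apply]
  · intro x x'
    rw [mul_comm x x', hmul']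
  · rw [hTapp, zero_smul, map_zero]
  · intro x x'
    rw [hTapp, hTapp, hTapp, add_smul, map_add]
  · intro c
    rw [hTapp, algebraMap_smul, ← algebraMap_smul A c (θ.symm 1), map_smul, θ.apply_symm_apply,
      smul_eq_mul, mul_one]

section Indep

variable [IsGalois k K] (σ : K ≃ₐ[k] K) {m : ℕ} (ι : K →ₐ[k] A) (y : A)

theorem y_mul' (hrel : ∀ x : K, ι x * y = y * ι (σ x)) (z : K) : y * ι z = ι (σ⁻¹ z) * y := by
  rw [hrel (σ⁻¹ z)]
  congr 2
  exact (σ.apply_symm_apply z).symm

theorem y_pow_mul' (hrel : ∀ x : K, ι x * y = y * ι (σ x)) (s : ℕ) (z : K) :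
    y ^ s * ι z = ι ((σ⁻¹ ^ s) z) * y ^ s := by
  induction s generalizing z with
  | zero => simp
  | succ s ih =>
    rw [pow_succ, mul_assoc, y_mul' σ ι y hrel, ← mul_assoc, ih, mul_assoc, pow_succ (σ⁻¹),
      AlgEquiv.mul_apply]

/-- an automorphism fixing a primitive element is trivial -/
theorem eq_of_apply_primitive {α : K} (hα : IntermediateField.adjoin k {α} = ⊤)
    (τ₁ τ₂ : K ≃ₐ[k] K) (h : τ₁ α = τ₂ α) : τ₁ = τ₂ := by
  have hadj : Algebra.adjoin k {α} = ⊤ := by
    have h1 := congrArg IntermediateField.toSubalgebra hα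
    rwa [IntermediateField.top_toSubalgebra,
      IntermediateField.adjoin_simple_toSubalgebra_of_isAlgebraic
        (Algebra.IsAlgebraic.isAlgebraic α)] at h1
  have : (τ₁ : K →ₐ[k] K) = (τ₂ : K →ₐ[k] K) := by
    apply AlgHom.ext_of_adjoin_eq_top hadj
    intro x hx
    rw [Set.mem_singleton_iff] at hx
    subst hx
    exact h
  ext x
  exact DFunLike.congr_fun this x

/-- The powers of `y` are linearly independent over `ι(K)`. -/
theorem Psi_injective (hy : IsUnit y) (hrel : ∀ x : K, ι x * y = y * ι (σ x))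
    (hord : orderOf σ = m) : Function.Injective (Psi ι y m) := by
  classical
  obtain ⟨α, hα⟩ := Field.exists_primitive_element k K
  letI instM : Module K A := Module.compHom A (ι : K →+* A)
  have hsmul : ∀ (x : K) (a : A), x • a = ι x * a := fun x a => rfl
  let R : Module.End K A :=
    { toFun := fun a => a * ι α
      map_add' := fun a a' => add_mul a a' _
      map_smul' := fun x a => by
        simp only [RingHom.id_apply]
        rw [hsmul, hsmul, mul_assoc] }
  let μ : Fin m → K := fun t => (σ⁻¹ ^ (t : ℕ)) α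
  have hμ : Function.Injective μ := by
    intro s t hst
    have h1 := eq_of_apply_primitive hα _ _ hst
    have hs : (s : ℕ) ∈ Set.Iio (orderOf σ⁻¹) := by rw [orderOf_inv, hord]; exact s.isLt
    have ht : (t : ℕ) ∈ Set.Iio (orderOf σ⁻¹) := by rw [orderOf_inv, hord]; exact t.isLt
    exact Fin.ext (pow_injOn_Iio_orderOf hs ht h1)
  have hev : ∀ t : Fin m, R.HasEigenvector (μ t) (y ^ (t : ℕ)) := by
    intro t
    refine ⟨?_, (hy.pow _).ne_zero⟩
    rw [Module.End.mem_eigenspace_iff]
    change y ^ (t : ℕ) * ι α = ι ((σ⁻¹ ^ (t : ℕ)) α) * y ^ (t : ℕ)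
    exact y_pow_mul' σ ι y hrel _ _
  have hli := Module.End.eigenvectors_linearIndependent' R μ hμ _ hev
  rw [Fintype.linearIndependent_iff] at hli
  rw [← LinearMap.ker_eq_bot, LinearMap.ker_eq_bot']
  intro u hu
  ext t
  exact hli u hu t

theorem iota_mul_Psi (z : K) (w : Fin m → K) :
    ι z * Psi ι y m w = Psi ι y m (fun t => z * w t) := by
  rw [Psi_apply, Psi_apply, Finset.mul_sum]
  refine Finset.sum_congr rfl fun t _ => ?_
  rw [← mul_assoc, ← map_mul]

theorem Psi_mul_iota (hrel : ∀ x : K, ι x * y = y * ι (σ x)) (z : K) (w : Fin m → K) :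
    Psi ι y m w * ι z = Psi ι y m (fun t => w t * (σ⁻¹ ^ (t : ℕ)) z) := by
  rw [Psi_apply, Psi_apply, Finset.sum_mul]
  refine Finset.sum_congr rfl fun t _ => ?_
  rw [mul_assoc, y_pow_mul' σ ι y hrel, ← mul_assoc, ← map_mul]

include ι in
theorem cyclic_of_embedding [Algebra.IsCentral k A]
    (hσ : ∀ τ : K ≃ₐ[k] K, τ ∈ Subgroup.zpowers σ)
    (hdim : Module.finrank k A = Module.finrank k K ^ 2) :
    ∃ b : kˣ, CSAGal.IsCyclicAlg k K σ b A := by
  classical
  have hm : 0 < Module.finrank k K := Module.finrank_pos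
  have hord := orderOf_eq_finrank σ hσ
  have hσm := pow_finrank_eq_one σ
  obtain ⟨u, hu⟩ := Groth.Agent.Helper8.skolemNoether_algHom (k := k) ι
    (ι.comp (σ : K →ₐ[k] K))
  obtain ⟨y, hy⟩ : ∃ y : A, y = ((u⁻¹ : Aˣ) : A) := ⟨_, rfl⟩
  have hyu : IsUnit y := hy ▸ (u⁻¹).isUnit
  have hrel : ∀ x : K, ι x * y = y * ι (σ x) := by
    intro x
    have this : ι (σ x) = (u : A) * ι x * ((u⁻¹ : Aˣ) : A) := hu x
    rw [hy, this, ← mul_assoc, ← mul_assoc, Units.inv_mul, one_mul]
  have hinj := Psi_injective σ ι y hyu hrel hord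
  have hdimV : Module.finrank k (Fin (Module.finrank k K) → K) = Module.finrank k A := by
    rw [Module.finrank_pi_fintype, hdim]
    simp [sq]
  have hsurj : Function.Surjective (Psi ι y (Module.finrank k K)) :=
    (LinearMap.injective_iff_surjective_of_finrank_eq_finrank hdimV).mp hinj
  obtain ⟨w, hw⟩ := hsurj (y ^ Module.finrank k K)
  have hcomm : ∀ z : K, ι z * y ^ Module.finrank k K = y ^ Module.finrank k K * ι z := by
    intro z
    rw [y_pow_mul' σ ι y hrel, inv_pow, hσm, inv_one, AlgEquiv.one_apply]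
  have hw1 : ∀ (z : K) (t : Fin (Module.finrank k K)),
      z * w t = w t * (σ⁻¹ ^ (t : ℕ)) z := by
    intro z t
    have h1 := hcomm z
    rw [← hw, iota_mul_Psi, Psi_mul_iota σ ι y hrel] at h1
    exact congrFun (hinj h1) t
  have hιinj : Function.Injective ι := (ι : K →+* A).injective
  have hw0 : ∀ t : Fin (Module.finrank k K), (t : ℕ) ≠ 0 → w t = 0 := by
    intro t ht
    by_contra hwt
    have h2 : ∀ z : K, (σ⁻¹ ^ (t : ℕ)) z = z := by
      intro z
      have := hw1 z t
      rw [mul_comm] at this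
      exact (mul_left_cancel₀ hwt this).symm
    have h3 : σ⁻¹ ^ (t : ℕ) = σ⁻¹ ^ 0 := by
      rw [pow_zero]
      ext z
      exact h2 z
    have h4 : (t : ℕ) ∈ Set.Iio (orderOf σ⁻¹) := by rw [orderOf_inv, hord]; exact t.isLt
    have h5 : (0 : ℕ) ∈ Set.Iio (orderOf σ⁻¹) := by rw [orderOf_inv, hord]; exact hm
    exact ht (pow_injOn_Iio_orderOf h4 h5 h3)
  have hpow : y ^ Module.finrank k K = ι (w ⟨0, hm⟩) := by
    rw [← hw, Psi_apply, Finset.sum_eq_single (⟨0, hm⟩ : Fin (Module.finrank k K))]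
    · simp
    · intro t _ ht
      rw [hw0 t (fun h => ht (Fin.ext h)), map_zero, zero_mul]
    · intro h; exact absurd (Finset.mem_univ _) h
  have hfix : σ (w ⟨0, hm⟩) = w ⟨0, hm⟩ := by
    have h1 : y * y ^ Module.finrank k K = y ^ Module.finrank k K * y := by
      rw [← pow_succ', ← pow_succ]
    rw [hpow, y_mul' σ ι y hrel] at h1
    have h2 := hyu.mul_left_injective h1
    have h3 := hιinj h2
    have h4 := congrArg σ h3
    rw [show σ (σ⁻¹ (w ⟨0, hm⟩)) = w ⟨0, hm⟩ from σ.apply_symm_apply _] at h4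
    exact h4.symm
  have hfixall : ∀ τ : K ≃ₐ[k] K, τ (w ⟨0, hm⟩) = w ⟨0, hm⟩ := by
    intro τ
    have hle : Subgroup.zpowers σ ≤ MulAction.stabilizer (K ≃ₐ[k] K) (w ⟨0, hm⟩) := by
      rw [Subgroup.zpowers_le]
      exact hfix
    exact hle (hσ τ)
  obtain ⟨b0, hb0⟩ := (IsGalois.mem_range_algebraMap_iff_fixed (F := k) (E := K) _).mpr hfixall
  have hb0ne : b0 ≠ 0 := by
    rintro rfl
    rw [map_zero] at hb0
    rw [← hb0, map_zero] at hpow
    exact (hyu.pow _).ne_zero hpow
  refine ⟨Units.mk0 b0 hb0ne, ι, y, ?_, hrel, ?_, hm, hdim⟩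
  · rw [hpow, ← hb0, AlgHom.commutes]
    rfl
  · rw [eq_top_iff]
    intro a _
    obtain ⟨v, rfl⟩ := hsurj a
    rw [Psi_apply]
    refine Subalgebra.sum_mem _ fun t _ => ?_
    have h1 : ι (v t) ∈ Algebra.adjoin k (Set.range ι ∪ {y}) :=
      Algebra.subset_adjoin (Set.mem_union_left _ ⟨v t, rfl⟩)
    have h2 : y ∈ Algebra.adjoin k (Set.range ι ∪ {y}) :=
      Algebra.subset_adjoin (Set.mem_union_right _ rfl)
    exact Subalgebra.mul_mem _ h1 (Subalgebra.pow_mem _ h2 _)

end Indep

end Groth.Agent.Helper6.CycStruct
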