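import Groth.Agent.Lib.Helper6.PGLDescent2

set_option autoImplicit false
set_option linter.unusedSectionVars false
universe u v w

namespace Groth.Agent.Helper6.PGLDescent

open scoped TensorProduct MatrixGroups
attribute [local instance] CSAGal.matrixAction GpH1.unitsAction CSAGal.pglAction CSAGal.tensorAction

section Main

variable {k : Type u} [Field k] {K : Type v} [Field K] [Algebra k K] {n : ℕ}

theorem smul_cj (σ : K ≃ₐ[k] K) (h : GL (Fin n) K) (M : Matrix (Fin n) (Fin n) K) :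
    σ • cj h M = cj (σ • h) (σ • M) := by
  unfold cj
  rw [smul_mul', smul_mul', ← smul_inv']
  rfl

theorem mk_eq_of_cj_eq (x y : GL (Fin n) K) (hxy : ∀ N, cj x N = cj y N) :
    Matrix.ProjGenLinGroup.mk x = Matrix.ProjGenLinGroup.mk y := by
  rw [Matrix.ProjGenLinGroup.mk_eq_mk_iff']
  refine ⟨x⁻¹ * y, ?_, by group⟩
  rw [Subgroup.mem_center_iff]
  intro N
  have h1 : cj (x⁻¹ * y) (N : Matrix (Fin n) (Fin n) K) = N := by
    rw [cj_mul, ← hxy, cj_inv_cj]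
  have h2 : (x⁻¹ * y) * N * (x⁻¹ * y)⁻¹ = N := by
    apply Units.ext
    rw [Units.val_mul, Units.val_mul]
    exact h1
  calc N * (x⁻¹ * y) = ((x⁻¹ * y) * N * (x⁻¹ * y)⁻¹) * (x⁻¹ * y) := by rw [h2]
    _ = (x⁻¹ * y) * N := by group

theorem smul_mk (σ : K ≃ₐ[k] K) (h : GL (Fin n) K) :
    σ • (Matrix.ProjGenLinGroup.mk h : Matrix.ProjGenLinGroup (Fin n) K)
      = Matrix.ProjGenLinGroup.mk (σ • h) := rfl

variable [FiniteDimensional k K] [IsGalois k K]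

theorem main
    (A : Type w) [Ring A] [Algebra k A]
    (A' : Type w) [Ring A'] [Algebra k A']
    (φ : K ⊗[k] A ≃ₐ[K] Matrix (Fin n) (Fin n) K) (φ' : K ⊗[k] A' ≃ₐ[K] Matrix (Fin n) (Fin n) K)
    (c c' : GpH1.OneCocycle (K ≃ₐ[k] K) (Matrix.ProjGenLinGroup (Fin n) K))
    (hc : (∀ (σ : K ≃ₐ[k] K) (g : GL (Fin n) K), Matrix.ProjGenLinGroup.mk g = c σ →
          ∀ M : Matrix (Fin n) (Fin n) K, φ (σ • φ.symm M) = (g : Matrix (Fin n) (Fin n) K) * (σ • M) * ((g⁻¹ : GL (Fin n) K) : Matrix (Fin n) (Fin n) K)))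
    (hc' : (∀ (σ : K ≃ₐ[k] K) (g : GL (Fin n) K), Matrix.ProjGenLinGroup.mk g = c' σ →
          ∀ M : Matrix (Fin n) (Fin n) K, φ' (σ • φ'.symm M) = (g : Matrix (Fin n) (Fin n) K) * (σ • M) * ((g⁻¹ : GL (Fin n) K) : Matrix (Fin n) (Fin n) K))) :
    Nonempty (A ≃ₐ[k] A') ↔ c.cl = c'.cl := by
  have hc1 : ∀ (σ : K ≃ₐ[k] K) (g : GL (Fin n) K), Matrix.ProjGenLinGroup.mk g = c σ →
      ∀ M : Matrix (Fin n) (Fin n) K, φ (σ • φ.symm M) = cj g (σ • M) := hc
  have hc1' : ∀ (σ : K ≃ₐ[k] K) (g : GL (Fin n) K), Matrix.ProjGenLinGroup.mk g = c' σ →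
      ∀ M : Matrix (Fin n) (Fin n) K, φ' (σ • φ'.symm M) = cj g (σ • M) := hc'
  rw [GpH1.OneCocycle.cl_eq_cl_iff]
  constructor
  · rintro ⟨e⟩
    let Ψ : K ⊗[k] A ≃ₐ[K] K ⊗[k] A' := Algebra.TensorProduct.congr AlgEquiv.refl e
    have hΨ : ∀ (σ : K ≃ₐ[k] K) (t : K ⊗[k] A), Ψ (σ • t) = σ • Ψ t := by
      intro σ t
      induction t using TensorProduct.induction_on with
      | zero => rw [smul_zero, map_zero, smul_zero]
      | tmul x a =>
        rw [smul_tmul_eq]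
        show (σ x) ⊗ₜ[k] (e a) = σ • (x ⊗ₜ[k] e a)
        rw [smul_tmul_eq]
      | add x y hx hy => rw [smul_add, map_add, hx, hy, map_add, smul_add]
    let θ : Matrix (Fin n) (Fin n) K ≃ₐ[K] Matrix (Fin n) (Fin n) K := φ.symm.trans (Ψ.trans φ')
    obtain ⟨h, hh⟩ := exists_cj_eq θ
    refine ⟨Matrix.ProjGenLinGroup.mk h, fun σ => ?_⟩
    obtain ⟨g, hg⟩ := Matrix.ProjGenLinGroup.mk_surjective (c σ)
    obtain ⟨g', hg'⟩ := Matrix.ProjGenLinGroup.mk_surjective (c' σ)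
    have key : ∀ N, cj (h * g) N = cj (g' * σ • h) N := by
      intro N
      let M : Matrix (Fin n) (Fin n) K := σ⁻¹ • N
      have hM : σ • M = N := smul_inv_smul σ N
      have e1 : θ (φ (σ • φ.symm M)) = cj (h * g) N := by
        rw [hh, hc1 σ g hg M, hM, cj_mul]
      have e2 : θ (φ (σ • φ.symm M)) = cj (g' * σ • h) N := by
        show φ' (Ψ (φ.symm (φ (σ • φ.symm M)))) = _
        rw [φ.symm_apply_apply, hΨ]
        have : Ψ (φ.symm M) = φ'.symm (θ M) := by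
          show _ = φ'.symm (φ' (Ψ (φ.symm M)))
          rw [φ'.symm_apply_apply]
        rw [this, hc1' σ g' hg' (θ M), hh, cj_mul, smul_cj, hM]
      rw [← e1, e2]
    have hmk := mk_eq_of_cj_eq _ _ key
    rw [map_mul, map_mul, hg, hg', ← smul_mk] at hmk
    rw [mul_assoc, ← hmk]
    group
  · rintro ⟨p, hp⟩
    obtain ⟨h, rfl⟩ := Matrix.ProjGenLinGroup.mk_surjective p
    let Ψ : K ⊗[k] A ≃ₐ[K] K ⊗[k] A' := φ.trans ((cjEquiv h).trans φ'.symm)
    apply nonempty_algEquiv_of_equivariant Ψ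
    intro σ t
    obtain ⟨g, hg⟩ := Matrix.ProjGenLinGroup.mk_surjective (c σ)
    obtain ⟨g', hg'⟩ := Matrix.ProjGenLinGroup.mk_surjective (c' σ)
    let M := φ t
    have ht : t = φ.symm M := (φ.symm_apply_apply t).symm
    have hmk : Matrix.ProjGenLinGroup.mk (h * g) = Matrix.ProjGenLinGroup.mk (g' * σ • h) := by
      rw [map_mul, map_mul, hg, hg', ← smul_mk, hp σ]
      group
    have e1 : Ψ (σ • t) = φ'.symm (cj (h * g) (σ • M)) := by
      show φ'.symm (cj h (φ (σ • t))) = _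
      rw [ht, hc1 σ g hg M, cj_mul]
    have e2 : σ • Ψ t = φ'.symm (cj (g' * σ • h) (σ • M)) := by
      apply φ'.injective
      rw [φ'.apply_symm_apply]
      show φ' (σ • φ'.symm (cj h (φ t))) = _
      rw [hc1' σ g' hg' _, smul_cj, cj_mul]
    rw [e1, e2, cj_eq_of_mk_eq _ _ hmk]

end Main

end Groth.Agent.Helper6.PGLDescent
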