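import Groth.Agent.Lib.Helper6.GalDescent2
import Groth.Agent.Lib.Helper6.PGLDescent3
import Mathlib.LinearAlgebra.Dimension.Constructions
import Mathlib.Data.Matrix.Basis

set_option autoImplicit false
set_option linter.unusedSectionVars false
universe u v w

namespace Groth.Agent.Helper6.TwistedForm

open scoped TensorProduct MatrixGroups
open Groth.Agent.Helper6.PGLDescent Groth.Agent.Helper6.GalDescent
attribute [local instance] CSAGal.matrixAction GpH1.unitsAction CSAGal.pglAction CSAGal.tensorAction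

variable {k : Type u} [Field k] {K : Type v} [Field K] [Algebra k K] {n : ℕ}
variable [FiniteDimensional k K] [IsGalois k K]
variable (c : GpH1.OneCocycle (K ≃ₐ[k] K) (Matrix.ProjGenLinGroup (Fin n) K))

/-- chosen lifts of the cocycle -/
noncomputable def lft (σ : K ≃ₐ[k] K) : GL (Fin n) K :=
  (Matrix.ProjGenLinGroup.mk_surjective (c σ)).choose

theorem mk_lft (σ : K ≃ₐ[k] K) : Matrix.ProjGenLinGroup.mk (lft c σ) = c σ :=
  (Matrix.ProjGenLinGroup.mk_surjective (c σ)).choose_spec

/-- the twisted action -/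
noncomputable def rho (σ : K ≃ₐ[k] K) (M : Matrix (Fin n) (Fin n) K) : Matrix (Fin n) (Fin n) K :=
  cj (lft c σ) (σ • M)

theorem cj_add (g : GL (Fin n) K) (M N : Matrix (Fin n) (Fin n) K) :
    cj g (M + N) = cj g M + cj g N := map_add (cjEquiv g) M N

theorem cj_mul' (g : GL (Fin n) K) (M N : Matrix (Fin n) (Fin n) K) :
    cj g (M * N) = cj g M * cj g N := map_mul (cjEquiv g) M N

theorem cj_smul (g : GL (Fin n) K) (x : K) (M : Matrix (Fin n) (Fin n) K) :
    cj g (x • M) = x • cj g M := map_smul (cjEquiv g) x M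

theorem cj_one (g : GL (Fin n) K) : cj g (1 : Matrix (Fin n) (Fin n) K) = 1 := map_one (cjEquiv g)

theorem gal_smul_smul (σ : K ≃ₐ[k] K) (x : K) (M : Matrix (Fin n) (Fin n) K) :
    σ • (x • M) = σ x • (σ • M) := by
  ext i j
  simp only [Matrix.smul_apply, smul_eq_mul, AlgEquiv.smul_def, map_mul]

theorem c_one : c 1 = 1 := by
  have := c.2 1 1
  rw [one_smul, mul_one] at this
  exact mul_eq_left.mp this.symm

theorem rho_semilin : IsSemilinAction (k := k) (K := K) (rho c) where
  add σ M N := by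
    unfold rho
    rw [smul_add, cj_add]
  smul σ x M := by
    unfold rho
    rw [gal_smul_smul, cj_smul]
  one M := by
    unfold rho
    rw [one_smul]
    apply cj_center
    rw [← Matrix.ProjGenLinGroup.mk_eq_one, mk_lft, c_one]
  mul σ τ M := by
    unfold rho
    rw [smul_cj, ← cj_mul, mul_smul]
    apply cj_eq_of_mk_eq
    rw [mk_lft, map_mul, ← smul_mk, mk_lft, mk_lft]
    exact c.2 σ τ

/-- the fixed subalgebra -/
noncomputable def fixedAlg : Subalgebra k (Matrix (Fin n) (Fin n) K) where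
  carrier := {M | ∀ σ, rho c σ M = M}
  mul_mem' := by
    intro M N hM hN σ
    unfold rho
    rw [smul_mul', cj_mul']
    exact congrArg₂ (· * ·) (hM σ) (hN σ)
  add_mem' := by
    intro M N hM hN σ
    rw [(rho_semilin c).add, hM σ, hN σ]
  algebraMap_mem' := by
    intro r σ
    rw [Algebra.algebraMap_eq_smul_one]
    apply (rho_semilin c).algebraMap_smul_fixed
    intro τ
    unfold rho
    rw [smul_one, cj_one]

theorem mem_fixedAlg (M : Matrix (Fin n) (Fin n) K) :
    M ∈ fixedAlg c ↔ ∀ σ, rho c σ M = M := Iff.rfl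

/-- the comparison map -/
noncomputable def phiHom : K ⊗[k] (fixedAlg c) →ₐ[K] Matrix (Fin n) (Fin n) K :=
  Algebra.TensorProduct.lift (Algebra.ofId K _) (fixedAlg c).val
    (fun x a => show Commute (Algebra.ofId K (Matrix (Fin n) (Fin n) K) x) ((fixedAlg c).val a) from
      Algebra.commute_algebraMap_left x _)

theorem phiHom_tmul (x : K) (a : fixedAlg c) : phiHom c (x ⊗ₜ a) = x • (a : Matrix (Fin n) (Fin n) K) := by
  unfold phiHom
  rw [Algebra.TensorProduct.lift_tmul, Algebra.smul_def]
  rfl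

theorem phiHom_bijective : Function.Bijective (phiHom c) := by
  apply bijective_of_fixed (rho_semilin c) (fixedAlg c).val.toLinearMap
    (Subtype.val_injective) _ (phiHom c).toLinearMap (phiHom_tmul c)
  intro v
  constructor
  · rintro ⟨a, rfl⟩
    exact a.2
  · intro hv
    exact ⟨⟨v, hv⟩, rfl⟩

noncomputable def phi : K ⊗[k] (fixedAlg c) ≃ₐ[K] Matrix (Fin n) (Fin n) K :=
  AlgEquiv.ofBijective (phiHom c) (phiHom_bijective c)

theorem phi_apply (t : K ⊗[k] (fixedAlg c)) : phi c t = phiHom c t := rfl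

theorem phi_smul (σ : K ≃ₐ[k] K) (t : K ⊗[k] (fixedAlg c)) :
    phi c (σ • t) = rho c σ (phi c t) := by
  induction t using TensorProduct.induction_on with
  | zero => rw [smul_zero, map_zero, (rho_semilin c).zero]
  | tmul x a =>
    rw [smul_tmul_eq, phi_apply, phi_apply, phiHom_tmul, phiHom_tmul, (rho_semilin c).smul, a.2 σ]
  | add x y hx hy => rw [smul_add, map_add, map_add, (rho_semilin c).add, hx, hy]

theorem descent_formula (σ : K ≃ₐ[k] K) (g : GL (Fin n) K)
    (hg : Matrix.ProjGenLinGroup.mk g = c σ) (M : Matrix (Fin n) (Fin n) K) :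
    phi c (σ • (phi c).symm M) = (g : Matrix (Fin n) (Fin n) K) * (σ • M) * ((g⁻¹ : GL (Fin n) K) : Matrix (Fin n) (Fin n) K) := by
  rw [phi_smul, (phi c).apply_symm_apply]
  unfold rho
  apply cj_eq_of_mk_eq
  rw [mk_lft, hg]

theorem finrank_fixedAlg : Module.finrank k (fixedAlg c) = n ^ 2 := by
  rw [← Module.finrank_baseChange (R := K) (S := k) (M' := fixedAlg c),
    (phi c).toLinearEquiv.finrank_eq, Module.finrank_matrix]
  simp [sq]

theorem commute_all_of_center (a : fixedAlg c) (ha : ∀ b : fixedAlg c, b * a = a * b)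
    (N : Matrix (Fin n) (Fin n) K) : N * (a : Matrix (Fin n) (Fin n) K) = a * N := by
  let S : Submodule K (Matrix (Fin n) (Fin n) K) :=
    { carrier := {N | N * (a : Matrix (Fin n) (Fin n) K) = a * N}
      add_mem' := by
        intro M N hM hN
        show (M + N) * _ = _ * (M + N)
        rw [add_mul, mul_add, hM, hN]
      zero_mem' := by
        show (0 : Matrix (Fin n) (Fin n) K) * _ = _ * 0
        rw [zero_mul, mul_zero]
      smul_mem' := by
        intro x M hM
        show (x • M) * _ = _ * (x • M)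
        rw [smul_mul_assoc, mul_smul_comm, hM] }
  have : S = ⊤ := by
    rw [eq_top_iff, ← (rho_semilin c).span_fixed, Submodule.span_le]
    intro M hM
    have := ha ⟨M, hM⟩
    exact congrArg Subtype.val this
  have hN : N ∈ S := this ▸ Submodule.mem_top
  exact hN

theorem isCentral (hn : 0 < n) : Algebra.IsCentral k (fixedAlg c) := by
  constructor
  intro a ha
  rw [Subalgebra.mem_center_iff] at ha
  have hcomm := commute_all_of_center c a ha
  have hsc : (a : Matrix (Fin n) (Fin n) K) ∈ Set.range (Matrix.scalar (Fin n)) := by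
    rw [Matrix.mem_range_scalar_iff_commute_single']
    intro i j
    exact hcomm _
  obtain ⟨x, hx⟩ := hsc
  have hx' : (a : Matrix (Fin n) (Fin n) K) = x • (1 : Matrix (Fin n) (Fin n) K) := by
    rw [← hx]
    ext i j
    simp [Matrix.scalar_apply, Matrix.diagonal_apply, Matrix.one_apply]
  have hfix : x ∈ Set.range (algebraMap k K) := by
    rw [IsGalois.mem_range_algebraMap_iff_fixed]
    intro σ
    have h1 := a.2 σ
    rw [hx', (rho_semilin c).smul] at h1
    have h2 : rho c σ (1 : Matrix (Fin n) (Fin n) K) = 1 := by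
      unfold rho
      rw [smul_one, cj_one]
    rw [h2] at h1
    have h3 := congrFun (congrFun h1 ⟨0, hn⟩) ⟨0, hn⟩
    simpa using h3
  obtain ⟨y, rfl⟩ := hfix
  rw [Algebra.mem_bot]
  refine ⟨y, ?_⟩
  apply Subtype.ext
  rw [hx', algebraMap_smul]
  show algebraMap k (Matrix (Fin n) (Fin n) K) y = _
  rw [Algebra.algebraMap_eq_smul_one]

theorem isSimple (hn : 0 < n) : IsSimpleRing (fixedAlg c) := by
  have : Nonempty (Fin n) := ⟨⟨0, hn⟩⟩
  have : Nontrivial (fixedAlg c) :=
    ⟨⟨0, 1, fun h => zero_ne_one (α := Matrix (Fin n) (Fin n) K) (congrArg Subtype.val h)⟩⟩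
  apply IsSimpleRing.of_eq_bot_or_eq_top
  intro I
  by_cases hI : I = ⊤
  · exact Or.inr hI
  left
  let q : fixedAlg c →ₐ[k] I.ringCon.Quotient := I.ringCon.mkₐ k
  have hq : ∀ a, a ∈ I → q a = 0 := by
    intro a ha
    exact (RingCon.eq _).2 ((TwoSidedIdeal.mem_iff I a).1 ha)
  have : Nontrivial I.ringCon.Quotient := by
    refine ⟨⟨q 1, q 0, fun h => hI ?_⟩⟩
    rw [← TwoSidedIdeal.one_mem_iff, TwoSidedIdeal.mem_iff]
    exact (RingCon.eq _).1 h
  have : Nontrivial (K ⊗[k] I.ringCon.Quotient) :=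
    (Algebra.TensorProduct.includeRight_injective (R := k) (A := K) (B := I.ringCon.Quotient)
      (algebraMap k K).injective).nontrivial
  let F : K ⊗[k] fixedAlg c →ₐ[K] K ⊗[k] I.ringCon.Quotient :=
    Algebra.TensorProduct.map (AlgHom.id K K) q
  let G : Matrix (Fin n) (Fin n) K →+* K ⊗[k] I.ringCon.Quotient :=
    (F : K ⊗[k] fixedAlg c →+* K ⊗[k] I.ringCon.Quotient).comp
      ((phi c).symm : Matrix (Fin n) (Fin n) K →+* K ⊗[k] fixedAlg c)
  have hG : Function.Injective G := RingHom.injective G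
  apply le_antisymm _ bot_le
  intro a ha
  rw [TwoSidedIdeal.mem_bot]
  have h1 : G (phi c ((1 : K) ⊗ₜ a)) = 0 := by
    show F ((phi c).symm (phi c ((1 : K) ⊗ₜ a))) = 0
    rw [(phi c).symm_apply_apply]
    show (Algebra.TensorProduct.map (AlgHom.id K K) q) ((1 : K) ⊗ₜ a) = 0
    rw [Algebra.TensorProduct.map_tmul, hq a ha, TensorProduct.tmul_zero]
  have h2 : phi c ((1 : K) ⊗ₜ a) = 0 := hG (by rw [h1, map_zero])
  rw [phi_apply, phiHom_tmul, one_smul] at h2
  exact Subtype.ext h2

end Groth.Agent.Helper6.TwistedForm
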