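import Groth.Agent.Lib.Helper6.CycMat
import Groth.Agent.Lib.Helper6.CycPres
import Groth.Agent.Lib.Helper6.TwistedForm

/-!
The matrix model `Bsub` of the cyclic algebra is the twisted form attached to the cocycle
`σ^i ↦ [F^i]`.  Hence it is central simple and split by `K`.
-/

set_option autoImplicit false
set_option linter.unusedSectionVars false
universe u v w

namespace Groth.Agent.Helper6.CycTwist

open scoped TensorProduct MatrixGroups
open Groth.Agent.Helper6.CycMat Groth.Agent.Helper6.TwistedForm Groth.Agent.Helper6.PGLDescent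
  Groth.Agent.Helper6.GalDescent
attribute [local instance] CSAGal.matrixAction GpH1.unitsAction CSAGal.pglAction CSAGal.tensorAction

variable {k : Type u} [Field k] {K : Type v} [Field K] [Algebra k K]
variable (σ : K ≃ₐ[k] K) (b : kˣ) {m : ℕ} (hm : 0 < m)

include σ hm in
theorem Fmat_pow : Fmat K b m ^ m = algebraMap K (Matrix (Fin m) (Fin m) K) (algebraMap k K b) := by
  have := congrArg Subtype.val (yel_pow σ b hm)
  rw [SubmonoidClass.coe_pow, Subalgebra.coe_algebraMap, IsScalarTower.algebraMap_apply k K] at this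
  exact this

/-- `F` as an invertible matrix. -/
noncomputable def Fu : GL (Fin m) K where
  val := Fmat K b m
  inv := (algebraMap k K b)⁻¹ • Fmat K b m ^ (m - 1)
  val_inv := by
    have hb : algebraMap k K (b : k) ≠ 0 := by simp
    rw [mul_smul_comm, ← pow_succ', Nat.sub_add_cancel hm, Fmat_pow σ b hm,
      Algebra.algebraMap_eq_smul_one (R := K), smul_smul, inv_mul_cancel₀ hb, one_smul]
  inv_val := by
    have hb : algebraMap k K (b : k) ≠ 0 := by simp
    rw [smul_mul_assoc, ← pow_succ, Nat.sub_add_cancel hm, Fmat_pow σ b hm,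
      Algebra.algebraMap_eq_smul_one (R := K), smul_smul, inv_mul_cancel₀ hb, one_smul]

theorem Fu_val : ((Fu σ b hm : GL (Fin m) K) : Matrix (Fin m) (Fin m) K) = Fmat K b m := rfl

theorem smul_Fu (τ : K ≃ₐ[k] K) : τ • Fu σ b hm = Fu σ b hm := by
  apply Units.ext
  change τ • Fmat K b m = Fmat K b m
  ext i j
  rw [Matrix.smul_apply, Fmat_apply]
  split_ifs <;> simp [AlgEquiv.smul_def]

theorem mk_Fu_pow : (Matrix.ProjGenLinGroup.mk (Fu σ b hm) : Matrix.ProjGenLinGroup (Fin m) K) ^ m = 1 := by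
  rw [← map_pow, Matrix.ProjGenLinGroup.mk_eq_one]
  rw [Subgroup.mem_center_iff]
  intro N
  apply Units.ext
  rw [Units.val_mul, Units.val_mul, Units.val_pow_eq_pow_val, Fu_val, Fmat_pow σ b hm]
  exact (Algebra.commutes _ _).symm

section Cocycle

variable (hσ : ∀ τ : K ≃ₐ[k] K, τ ∈ Subgroup.zpowers σ) (hord : orderOf σ = m)

/-- The group homomorphism `σ^i ↦ [F^i]`. -/
noncomputable def cHom : (K ≃ₐ[k] K) →* Matrix.ProjGenLinGroup (Fin m) K :=
  monoidHomOfForallMemZpowers hσ (g' := Matrix.ProjGenLinGroup.mk (Fu σ b hm))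
    (by rw [hord]; exact orderOf_dvd_of_pow_eq_one (mk_Fu_pow σ b hm))

theorem cHom_gen : cHom σ b hm hσ hord σ = Matrix.ProjGenLinGroup.mk (Fu σ b hm) :=
  monoidHomOfForallMemZpowers_apply_gen _ _

theorem smul_cHom (τ ρ : K ≃ₐ[k] K) : τ • cHom σ b hm hσ hord ρ = cHom σ b hm hσ hord ρ := by
  obtain ⟨j, rfl⟩ := Subgroup.mem_zpowers_iff.mp (hσ ρ)
  rw [map_zpow, cHom_gen]
  have h1 : τ • (Matrix.ProjGenLinGroup.mk (Fu σ b hm) : Matrix.ProjGenLinGroup (Fin m) K) =
      Matrix.ProjGenLinGroup.mk (Fu σ b hm) := by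
    rw [smul_mk, smul_Fu]
  have key : ∀ (g : Matrix.ProjGenLinGroup (Fin m) K), τ • g = g → ∀ j : ℤ, τ • g ^ j = g ^ j := by
    intro g hg j
    induction j with
    | zero => simp
    | succ i ih => rw [zpow_add_one, smul_mul', ih, hg]
    | pred i ih => rw [zpow_sub_one, smul_mul', ih, smul_inv', hg]
  exact key _ h1 j

/-- The cocycle `σ^i ↦ [F^i]`. -/
noncomputable def cyc : GpH1.OneCocycle (K ≃ₐ[k] K) (Matrix.ProjGenLinGroup (Fin m) K) :=
  ⟨fun τ => cHom σ b hm hσ hord τ, fun τ ρ => by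
    change cHom σ b hm hσ hord (τ * ρ) = cHom σ b hm hσ hord τ * τ • cHom σ b hm hσ hord ρ
    rw [map_mul, smul_cHom]⟩

theorem cyc_gen : cyc σ b hm hσ hord σ = Matrix.ProjGenLinGroup.mk (Fu σ b hm) :=
  cHom_gen σ b hm hσ hord

theorem gal_smul_eq_map (τ : K ≃ₐ[k] K) (M : Matrix (Fin m) (Fin m) K) :
    τ • M = M.map (fun x => τ x) := by
  ext i j
  rw [Matrix.smul_apply, Matrix.map_apply, AlgEquiv.smul_def]

variable [FiniteDimensional k K] [IsGalois k K]

theorem rho_gen (M : Matrix (Fin m) (Fin m) K) :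
    TwistedForm.rho (cyc σ b hm hσ hord) σ M = M ↔ M ∈ Bsub σ b m := by
  unfold TwistedForm.rho
  rw [cj_eq_of_mk_eq _ (Fu σ b hm) (by rw [mk_lft, cyc_gen]), mem_Bsub, ← gal_smul_eq_map]
  unfold cj
  rw [Fu_val]
  constructor
  · intro h
    have h2 := congrArg (· * ((Fu σ b hm : GL (Fin m) K) : Matrix (Fin m) (Fin m) K)) h
    simp only [mul_assoc] at h2
    rw [← Units.val_mul, inv_mul_cancel, Units.val_one, mul_one, Fu_val] at h2
    exact h2
  · intro h
    rw [h, mul_assoc, ← Fu_val σ b hm, ← Units.val_mul, mul_inv_cancel, Units.val_one, mul_one]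

theorem fixedAlg_eq : fixedAlg (cyc σ b hm hσ hord) = Bsub σ b m := by
  ext M
  rw [mem_fixedAlg]
  constructor
  · intro h
    exact (rho_gen σ b hm hσ hord M).mp (h σ)
  · intro h τ
    have h1 := (rho_gen σ b hm hσ hord M).mpr h
    have key : ∀ j : ℕ, TwistedForm.rho (cyc σ b hm hσ hord) (σ ^ j) M = M := by
      intro j
      induction j with
      | zero => rw [pow_zero]; exact (rho_semilin _).one M
      | succ j ih => rw [pow_succ, (rho_semilin _).mul, h1, ih]
    obtain ⟨j, rfl⟩ := (isOfFinOrder_of_finite σ).mem_powers_iff_mem_zpowers.mpr (hσ τ)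
    exact key j

include hm hσ hord

theorem Bsub_isCentral : Algebra.IsCentral k (Bsub σ b m) := by
  have := isCentral (cyc σ b hm hσ hord) hm
  rwa [fixedAlg_eq] at this

theorem Bsub_isSimple : IsSimpleRing (Bsub σ b m) := by
  have := isSimple (cyc σ b hm hσ hord) hm
  rwa [fixedAlg_eq] at this

theorem Bsub_splits : Curves.Splits k (Bsub σ b m) K := by
  have : Nonempty (K ⊗[k] fixedAlg (cyc σ b hm hσ hord) ≃ₐ[K] Matrix (Fin m) (Fin m) K) :=
    ⟨phi _⟩
  rw [fixedAlg_eq] at this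
  exact ⟨m, hm.ne', this⟩

end Cocycle

section Main

theorem isCentral_of_algEquiv {D : Type*} {D' : Type*} [Ring D] [Ring D'] [Algebra k D]
    [Algebra k D'] (e : D ≃ₐ[k] D') [h : Algebra.IsCentral k D] : Algebra.IsCentral k D' where
  out x hx := by
    have hx' : e.symm x ∈ Subalgebra.center k D := by
      rw [Subalgebra.mem_center_iff] at hx ⊢
      intro d
      apply e.injective
      rw [map_mul, map_mul, e.apply_symm_apply]
      exact hx (e d)
    obtain ⟨c, hc⟩ := h.out hx'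
    refine ⟨c, ?_⟩
    have := congrArg e hc
    rw [e.apply_symm_apply] at this
    rw [← this]
    simp [Algebra.ofId_apply]

variable [FiniteDimensional k K] [IsGalois k K]

theorem orderOf_eq_finrank (hσ : ∀ τ : K ≃ₐ[k] K, τ ∈ Subgroup.zpowers σ) :
    orderOf σ = Module.finrank k K := by
  rw [orderOf_eq_card_of_forall_mem_zpowers hσ, IsGalois.card_aut_eq_finrank]

theorem pow_finrank_eq_one : σ ^ Module.finrank k K = 1 := by
  rw [← IsGalois.card_aut_eq_finrank k K]
  exact pow_card_eq_one'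

/-- Every algebra with a cyclic presentation is isomorphic to the matrix model. -/
theorem exists_algEquiv_Bsub {A : Type w} [Ring A] [Algebra k A]
    (ι : K →ₐ[k] A) (y : A) (hy : y ^ Module.finrank k K = algebraMap k A (b : k))
    (hrel : ∀ x : K, ι x * y = y * ι (σ x))
    (hgen : Algebra.adjoin k (Set.range ι ∪ {y}) = ⊤)
    (hdim : Module.finrank k A = Module.finrank k K ^ 2) :
    ∃ e : A ≃ₐ[k] Bsub σ b (Module.finrank k K),
      (∀ x, e (ι x) = iota σ b (pow_finrank_eq_one σ) x) ∧ e y = yel σ b := by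
  have hm : 0 < Module.finrank k K := Module.finrank_pos
  have hσm := pow_finrank_eq_one σ
  exact CycPres.nonempty_algEquiv hm (σ := σ) (b := b) ⟨hy, hrel⟩
    ⟨yel_pow σ b hm, iota_mul_yel σ b hσm⟩ hgen (adjoin_eq_top σ b hm hσm) rfl hdim
    (finrank_Bsub σ b hm hσm rfl)

theorem cyclic_csa (hσ : ∀ τ : K ≃ₐ[k] K, τ ∈ Subgroup.zpowers σ)
    {A : Type w} [Ring A] [Algebra k A] (hA : CSAGal.IsCyclicAlg k K σ b A) :
    Algebra.IsCentral k A ∧ IsSimpleRing A ∧ Curves.Splits k A K := by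
  obtain ⟨ι, y, hy, hrel, hgen, hpos, hdim⟩ := hA
  obtain ⟨e, -, -⟩ := exists_algEquiv_Bsub σ b ι y hy hrel hgen hdim
  have hm : 0 < Module.finrank k K := Module.finrank_pos
  have hord := orderOf_eq_finrank σ hσ
  have h1 := Bsub_isCentral σ b hm hσ hord
  have h2 := Bsub_isSimple σ b hm hσ hord
  obtain ⟨n, hn, ⟨φ⟩⟩ := Bsub_splits σ b hm hσ hord
  refine ⟨isCentral_of_algEquiv e.symm, IsSimpleRing.of_ringEquiv e.symm.toRingEquiv h2,
    n, hn, ⟨(Algebra.TensorProduct.congr AlgEquiv.refl e).trans φ⟩⟩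

end Main

end Groth.Agent.Helper6.CycTwist
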