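import Mathlib
import Groth.Prelude.Def_W4c6equivkfinstabCyc
set_option autoImplicit false
open Polynomial
namespace Groth.Agent.Lib.Helper6.CycUnit

/-- In any commutative ring, if `ζ` is a root of the `m`-th cyclotomic polynomial then
`∏_{k=1}^{m-1} (1 - ζ^k) = m`. -/
lemma prod_one_sub_pow {R : Type*} [CommRing R] (n : ℕ) (ζ : R)
    (hζ : (cyclotomic (n + 1) R).eval ζ = 0) :
    ∏ k ∈ Finset.range n, (1 - ζ ^ (k + 1)) = (n + 1 : R) := by
  let U := AdjoinRoot (cyclotomic (n + 1) ℤ)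
  have hirr : Irreducible (cyclotomic (n + 1) ℤ) := cyclotomic.irreducible (Nat.succ_pos n)
  have : Fact (Irreducible (cyclotomic (n + 1) ℤ)) := ⟨hirr⟩
  have : IsDomain U := AdjoinRoot.isDomain_of_prime hirr.prime
  have hinj : Function.Injective (algebraMap ℤ U) := by
    apply AdjoinRoot.of.injective_of_degree_ne_zero
    rw [degree_cyclotomic]
    intro h
    have h1 : (Nat.totient (n+1) : WithBot ℕ) = (0 : ℕ) := h
    have h2 := WithBot.coe_injective h1
    exact (Nat.totient_pos.2 (Nat.succ_pos n)).ne' h2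
  have : CharZero U := charZero_of_injective_algebraMap hinj
  have hμ : IsPrimitiveRoot (AdjoinRoot.root (cyclotomic (n + 1) ℤ)) (n + 1) := by
    rw [← isRoot_cyclotomic_iff_charZero (Nat.succ_pos n)]
    have := AdjoinRoot.eval₂_root (cyclotomic (n + 1) ℤ)
    rw [IsRoot.def, ← map_cyclotomic_int (n+1) U, eval_map]
    exact this
  have key := hμ.prod_one_sub_pow_eq_order
  have h0 : eval₂ (Int.castRingHom R) ζ (cyclotomic (n + 1) ℤ) = 0 := by
    rw [← eval_map, map_cyclotomic_int]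
    exact hζ
  let θ : U →+* R := AdjoinRoot.lift (Int.castRingHom R) ζ h0
  have hθ : θ (AdjoinRoot.root _) = ζ := AdjoinRoot.lift_root h0
  have h2 := congrArg θ key
  rw [map_add, map_one, map_prod] at h2
  have h3 : θ ((n : ℕ) : U) = (n : R) := map_natCast θ n
  rw [h3] at h2
  rw [← h2]
  refine Finset.prod_congr rfl fun k _ => ?_
  rw [map_sub, map_one, map_pow, hθ]

lemma isUnit_pow_sub_one {R : Type*} [CommRing R] (m k : ℕ) (ζ : R)
    (hζ : (cyclotomic m R).eval ζ = 0) (hm : IsUnit (m : R)) (hk : 0 < k) (hkm : k < m) :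
    IsUnit (ζ ^ k - 1) := by
  obtain ⟨n, rfl⟩ : ∃ n, m = n + 1 := ⟨m - 1, by omega⟩
  have hprod := prod_one_sub_pow n ζ hζ
  have hu : IsUnit (∏ j ∈ Finset.range n, (1 - ζ ^ (j + 1))) := by
    rw [hprod]
    exact_mod_cast hm
  have hmem : k - 1 ∈ Finset.range n := Finset.mem_range.2 (by omega)
  have hdvd : (1 - ζ ^ (k - 1 + 1)) ∣ ∏ j ∈ Finset.range n, (1 - ζ ^ (j + 1)) :=
    Finset.dvd_prod_of_mem _ hmem
  have h1 : IsUnit (1 - ζ ^ (k - 1 + 1)) := isUnit_of_dvd_unit hdvd hu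
  rw [Nat.sub_add_cancel hk] at h1
  have : ζ ^ k - 1 = -(1 - ζ ^ k) := by ring
  rw [this]
  exact h1.neg

end Groth.Agent.Lib.Helper6.CycUnit

namespace Groth.Agent.Lib.Helper6.CycUnit
open W4c6equivkfinstab

variable (Λ : Type*) [CommRing Λ]

lemma isUnit_single_sub_one (G : Type*) [AddCommGroup G] [Finite G] [IsAddCyclic G]
    (hu : IsUnit ((Nat.card G : ℕ) : Λ)) (c : G) (hc : c ≠ 0) :
    IsUnit (Ideal.Quotient.mk (cycIdeal Λ G) (AddMonoidAlgebra.single c (1 : Λ)) - 1) := by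
  obtain ⟨g, hg⟩ := IsAddCyclic.exists_generator (α := G)
  have hgtop : AddSubgroup.zmultiples g = ⊤ := by
    rw [eq_top_iff]; intro x _; exact hg x
  set m := Nat.card G with hm
  have hmpos : 0 < m := Nat.card_pos
  set ζ : CycQuot Λ G := Ideal.Quotient.mk (cycIdeal Λ G) (AddMonoidAlgebra.single g (1 : Λ)) with hζdef
  have hζ : (cyclotomic m (CycQuot Λ G)).eval ζ = 0 := by
    have hmem : Polynomial.aeval (AddMonoidAlgebra.single g (1 : Λ)) (Polynomial.cyclotomic m Λ) ∈
        cycIdeal Λ G := Ideal.subset_span ⟨g, hgtop, rfl⟩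
    have h0 := Ideal.Quotient.eq_zero_iff_mem.2 hmem
    rw [← map_cyclotomic m (algebraMap Λ (CycQuot Λ G)), eval_map]
    rw [aeval_def, hom_eval₂] at h0
    exact h0
  have hord : addOrderOf g = m := by
    rw [hm, ← Nat.card_zmultiples, hgtop]
    simp
  obtain ⟨k, hk⟩ := AddSubgroup.mem_zmultiples_iff.1 (hg c)
  -- reduce k mod m
  have hmg : m • g = 0 := by rw [← hord]; exact addOrderOf_nsmul_eq_zero g
  let k' : ℕ := (k % (m : ℤ)).toNat
  have hk'lt : k' < m := by
    have h1 : k % (m : ℤ) < m := Int.emod_lt_of_pos _ (by exact_mod_cast hmpos)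
    have h2 : 0 ≤ k % (m : ℤ) := Int.emod_nonneg _ (by exact_mod_cast hmpos.ne')
    omega
  have hk'c : k' • g = c := by
    have h2 : 0 ≤ k % (m : ℤ) := Int.emod_nonneg _ (by exact_mod_cast hmpos.ne')
    have h3 : ((k' : ℕ) : ℤ) = k % (m : ℤ) := Int.toNat_of_nonneg h2
    rw [← hk, ← natCast_zsmul, h3]
    conv_rhs => rw [← Int.emod_add_mul_ediv k (m : ℤ)]
    rw [add_zsmul, mul_zsmul', natCast_zsmul, hmg, smul_zero, add_zero]
  have hk'pos : 0 < k' := by
    rcases Nat.eq_zero_or_pos k' with h | h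
    · rw [h, zero_smul] at hk'c
      exact absurd hk'c.symm hc
    · exact h
  have hpow : Ideal.Quotient.mk (cycIdeal Λ G) (AddMonoidAlgebra.single c (1 : Λ)) = ζ ^ k' := by
    rw [hζdef, ← map_pow, AddMonoidAlgebra.single_pow, one_pow, hk'c]
  rw [hpow]
  refine isUnit_pow_sub_one m k' ζ hζ ?_ hk'pos hk'lt
  have := hu.map (algebraMap Λ (CycQuot Λ G))
  rwa [map_natCast] at this

end Groth.Agent.Lib.Helper6.CycUnit

namespace Groth.Agent.Lib.Helper6.CycUnit
open W4c6equivkfinstab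

variable (Λ : Type*) [CommRing Λ] (M : Type*) [AddCommGroup M]

lemma quotMap_single (B : AddSubgroup M) (b : M) (r : Λ) :
    quotMap Λ M B (AddMonoidAlgebra.single b r) =
      AddMonoidAlgebra.single (QuotientAddGroup.mk' B b) r := by
  simp [quotMap]

lemma quotMap_surjective (B : AddSubgroup M) : Function.Surjective (quotMap Λ M B) := by
  intro w
  induction w using AddMonoidAlgebra.induction_on with
  | of g =>
    obtain ⟨b, rfl⟩ := QuotientAddGroup.mk'_surjective B g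
    exact ⟨AddMonoidAlgebra.single b 1, by rw [quotMap_single]; rfl⟩
  | add f g hf hg =>
    obtain ⟨a, rfl⟩ := hf
    obtain ⟨b, rfl⟩ := hg
    exact ⟨a + b, map_add _ _ _⟩
  | smul r f hf =>
    obtain ⟨a, rfl⟩ := hf
    refine ⟨r • a, ?_⟩
    simp [quotMap]

lemma cycQuotMap_surjective (B : AddSubgroup M) : Function.Surjective (cycQuotMap Λ M B) :=
  Ideal.Quotient.mk_surjective.comp (quotMap_surjective Λ M B)

/-- Key lemma: if `b ∉ B` then `[b] - 1` becomes invertible in the cyclotomic quotient of `M/B`. -/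
lemma exists_mul_eq_one (B : AddSubgroup M) [B.FiniteIndex] [IsAddCyclic (M ⧸ B)]
    (hu : IsUnit ((B.index : ℕ) : Λ)) (b : M) (hb : b ∉ B) :
    ∃ y : AddMonoidAlgebra Λ M,
      cycQuotMap Λ M B ((AddMonoidAlgebra.single b (1 : Λ) - 1) * y) = 1 := by
  have hfin : Finite (M ⧸ B) := AddSubgroup.finite_quotient_of_finiteIndex
  have hne : (QuotientAddGroup.mk' B b) ≠ 0 := by
    intro h
    exact hb ((QuotientAddGroup.eq_zero_iff b).1 h)
  have hcard : Nat.card (M ⧸ B) = B.index := rfl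
  have hunit := isUnit_single_sub_one Λ (M ⧸ B) (by rw [hcard]; exact hu) _ hne
  obtain ⟨v, hv⟩ := hunit.exists_right_inv
  obtain ⟨y, rfl⟩ := cycQuotMap_surjective Λ M B v
  refine ⟨y, ?_⟩
  rw [map_mul, map_sub, map_one]
  have : cycQuotMap Λ M B (AddMonoidAlgebra.single b (1 : Λ)) =
      Ideal.Quotient.mk (cycIdeal Λ (M ⧸ B))
        (AddMonoidAlgebra.single (QuotientAddGroup.mk' B b) (1 : Λ)) := by
    show Ideal.Quotient.mk _ (quotMap Λ M B _) = _
    rw [quotMap_single]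
  rw [this]
  exact hv

lemma cycQuotMap_single_of_mem (B : AddSubgroup M) (b : M) (hb : b ∈ B) :
    cycQuotMap Λ M B (AddMonoidAlgebra.single b (1 : Λ) - 1) = 0 := by
  show Ideal.Quotient.mk _ (quotMap Λ M B _) = _
  rw [map_sub, map_one, quotMap_single]
  have : QuotientAddGroup.mk' B b = 0 := (QuotientAddGroup.eq_zero_iff b).2 hb
  rw [this]
  simp [AddMonoidAlgebra.one_def]

lemma quotMap_single_of_mem (B : AddSubgroup M) (b : M) (hb : b ∈ B) :
    quotMap Λ M B (AddMonoidAlgebra.single b (1 : Λ) - 1) = 0 := by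
  rw [map_sub, map_one, quotMap_single]
  have : QuotientAddGroup.mk' B b = 0 := (QuotientAddGroup.eq_zero_iff b).2 hb
  rw [this]
  simp [AddMonoidAlgebra.one_def]

end Groth.Agent.Lib.Helper6.CycUnit
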