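import Mathlib

/-!
# `p`-basis of a discrete valuation ring of characteristic `p` (helper for S13368)
-/

namespace Groth.Agent.Lib.Helper6.DVRpBasis

set_option linter.style.haveILetI false
set_option linter.unusedSectionVars false

universe u

variable (p : ℕ) [hp : Fact p.Prime] {R : Type u} [CommRing R] [IsDomain R]
  [IsDiscreteValuationRing R] [CharP R p] (π : R) (hπ : Irreducible π)

include hπ

/-- Lemma L. -/
lemma dvd_of_pow_dvd_sum (d : Fin p → R)
    (h : π ^ p ∣ ∑ i : Fin p, π ^ (i : ℕ) * d i ^ p) : ∀ i, π ∣ d i := by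
  have hprime : Prime π := hπ.prime
  have key : ∀ n : ℕ, ∀ i : Fin p, (i : ℕ) = n → π ∣ d i := by
    intro n
    induction n using Nat.strong_induction_on with
    | _ n ih =>
      intro i hi
      have hip : (i : ℕ) + 1 ≤ p := i.2
      -- π^(i+1) divides the total sum
      have h1 : π ^ ((i : ℕ) + 1) ∣ ∑ j : Fin p, π ^ (j : ℕ) * d j ^ p :=
        (pow_dvd_pow π hip).trans h
      -- π^(i+1) divides all the other terms
      have h2 : π ^ ((i : ℕ) + 1) ∣ ∑ j ∈ Finset.univ.erase i, π ^ (j : ℕ) * d j ^ p := by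
        apply Finset.dvd_sum
        intro j hj
        have hji : j ≠ i := Finset.ne_of_mem_erase hj
        rcases lt_or_gt_of_ne (fun hh => hji (Fin.ext hh) : (j : ℕ) ≠ (i : ℕ)) with hlt | hgt
        · have hdj : π ∣ d j := ih (j : ℕ) (by omega) j rfl
          have : π ^ p ∣ d j ^ p := pow_dvd_pow_of_dvd hdj p
          exact ((pow_dvd_pow π hip).trans this).mul_left _
        · exact (pow_dvd_pow π (by omega)).mul_right _
      have h3 : π ^ ((i : ℕ) + 1) ∣ π ^ (i : ℕ) * d i ^ p := by
        have hsum := Finset.add_sum_erase Finset.univ (fun j : Fin p => π ^ (j : ℕ) * d j ^ p)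
          (Finset.mem_univ i)
        have : π ^ (i : ℕ) * d i ^ p = (∑ j : Fin p, π ^ (j : ℕ) * d j ^ p)
            - ∑ j ∈ Finset.univ.erase i, π ^ (j : ℕ) * d j ^ p := by
          rw [← hsum]; ring
        rw [this]
        exact dvd_sub h1 h2
      rw [pow_succ, mul_dvd_mul_iff_left (pow_ne_zero _ hπ.ne_zero)] at h3
      exact hprime.dvd_of_dvd_pow h3
  intro i
  exact key i i rfl

/-- P(N). -/
lemma pow_dvd_of_sum_eq (N : ℕ) : ∀ (d : Fin p → R) (r : R),
    r * π ^ (p * N) = ∑ i : Fin p, π ^ (i : ℕ) * d i ^ p → ∀ i, π ^ N ∣ d i := by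
  induction N with
  | zero => intro d r _ i; simp
  | succ N ih =>
    intro d r h i
    have hdvd : π ^ p ∣ ∑ i : Fin p, π ^ (i : ℕ) * d i ^ p := by
      rw [← h]
      refine Dvd.dvd.mul_left ?_ r
      exact pow_dvd_pow π (by rw [Nat.mul_succ]; omega)
    have hd := dvd_of_pow_dvd_sum p π hπ d hdvd
    choose e he using hd
    have h2 : r * π ^ (p * N) = ∑ i : Fin p, π ^ (i : ℕ) * e i ^ p := by
      have hπp : π ^ p ≠ 0 := pow_ne_zero _ hπ.ne_zero
      apply mul_left_cancel₀ hπp
      rw [Finset.mul_sum]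
      have : π ^ p * (r * π ^ (p * N)) = r * π ^ (p * (N + 1)) := by
        rw [Nat.mul_succ, pow_add]; ring
      rw [this, h]
      apply Finset.sum_congr rfl
      intro j _
      rw [he j]; ring
    obtain ⟨c, hc⟩ := ih e r h2 i
    exact ⟨c, by rw [he i, hc, pow_succ]; ring⟩

lemma eq_zero_of_forall_pow_dvd (x : R) (h : ∀ N, π ^ N ∣ x) : x = 0 := by
  by_contra hx
  obtain ⟨n, hn⟩ := IsDiscreteValuationRing.associated_pow_irreducible hx hπ
  obtain ⟨u, hu⟩ := hn.symm
  have h1 := h (n + 1)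
  rw [← hu, pow_succ, mul_dvd_mul_iff_left (pow_ne_zero _ hπ.ne_zero)] at h1
  exact hπ.not_isUnit (isUnit_of_dvd_unit h1 u.isUnit)

/-- Uniqueness in `R`. -/
lemma eq_zero_of_sum_eq_zero (d : Fin p → R)
    (h : ∑ i : Fin p, π ^ (i : ℕ) * d i ^ p = 0) : ∀ i, d i = 0 := by
  intro i
  apply eq_zero_of_forall_pow_dvd π hπ
  intro N
  exact pow_dvd_of_sum_eq p π hπ N d 0 (by rw [zero_mul, h]) i



section field

variable {K : Type u} [Field K] [Algebra R K] [IsFractionRing R K]
  (kp : Subfield K) (hkp : ∀ x : K, x ∈ kp ↔ ∃ y : K, y ^ p = x)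

include hkp

lemma linearIndependent_pow :
    LinearIndependent kp (fun i : Fin p => (algebraMap R K π) ^ (i : ℕ)) := by
  rw [Fintype.linearIndependent_iff]
  intro g hg
  have hy : ∀ i, ∃ y : K, y ^ p = (g i : K) := fun i => (hkp _).1 (g i).2
  choose y hy using hy
  obtain ⟨b, hb⟩ := IsLocalization.exist_integer_multiples_of_finite (nonZeroDivisors R) y
  choose d hd using hb
  have hsum : ∑ i : Fin p, π ^ (i : ℕ) * d i ^ p = 0 := by
    apply IsFractionRing.injective R K
    rw [map_sum, map_zero]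
    have : ∀ i : Fin p, algebraMap R K (π ^ (i : ℕ) * d i ^ p)
        = (algebraMap R K b) ^ p * (g i • (algebraMap R K π) ^ (i : ℕ)) := by
      intro i
      rw [map_mul, map_pow, map_pow, hd i, Algebra.smul_def, mul_pow, hy i, Subfield.smul_def]
      ring
    simp_rw [this]
    rw [← Finset.mul_sum, hg, mul_zero]
  have hd0 := eq_zero_of_sum_eq_zero p π hπ d hsum
  intro i
  have hyi : y i = 0 := by
    have h1 := hd i
    rw [hd0 i, map_zero, Algebra.smul_def] at h1
    have hb0 : algebraMap R K b ≠ 0 :=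
      IsFractionRing.to_map_ne_zero_of_mem_nonZeroDivisors b.2
    exact (mul_eq_zero.1 h1.symm).resolve_left hb0
  apply Subtype.ext
  rw [← hy i, hyi]
  simp [hp.out.ne_zero]



variable (hdeg : Module.finrank kp K = p)
include hdeg

/-- The basis `ϖ^i`, `i < p`, of `K` over `K^p`. -/
noncomputable def powBasis : Module.Basis (Fin p) kp K :=
  haveI : Nonempty (Fin p) := ⟨⟨0, hp.out.pos⟩⟩
  basisOfLinearIndependentOfCardEqFinrank (linearIndependent_pow p π hπ kp hkp)
    (by rw [Fintype.card_fin, hdeg])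

lemma powBasis_apply (i : Fin p) :
    powBasis p π hπ kp hkp hdeg i = (algebraMap R K π) ^ (i : ℕ) := by
  unfold powBasis
  rw [coe_basisOfLinearIndependentOfCardEqFinrank]

/-- Existence of the decomposition in `R`. -/
lemma exists_decomp (r : R) : ∃ c : Fin p → R, r = ∑ i : Fin p, π ^ (i : ℕ) * c i ^ p := by
  set b := powBasis p π hπ kp hkp hdeg with hbdef
  have hrepr := b.sum_repr (algebraMap R K r)
  set g : Fin p → kp := fun i => b.repr (algebraMap R K r) i with hg
  have hy : ∀ i, ∃ y : K, y ^ p = (g i : K) := fun i => (hkp _).1 (g i).2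
  choose y hy using hy
  obtain ⟨a, ha⟩ := IsLocalization.exist_integer_multiples_of_finite (nonZeroDivisors R) y
  choose d hd using ha
  have ha0 : (a : R) ≠ 0 := nonZeroDivisors.ne_zero a.2
  obtain ⟨N, hN⟩ := IsDiscreteValuationRing.associated_pow_irreducible ha0 hπ
  obtain ⟨u, hu⟩ := hN
  -- hu : a * u = π ^ N
  have h1 : r * π ^ (p * N) = ∑ i : Fin p, π ^ (i : ℕ) * (d i * u) ^ p := by
    apply IsFractionRing.injective R K
    rw [map_sum, map_mul, ← hrepr]
    have : ∀ i : Fin p, algebraMap R K (π ^ (i : ℕ) * (d i * u) ^ p)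
        = (g i • b i) * algebraMap R K (π ^ (p * N)) := by
      intro i
      have e1 : algebraMap R K (π ^ (p * N)) = (algebraMap R K a * algebraMap R K u) ^ p := by
        rw [← map_mul, hu, ← map_pow, ← pow_mul, mul_comm]
      rw [hbdef, powBasis_apply, e1, map_mul, map_pow, map_pow, map_mul, hd i, Algebra.smul_def,
        Subfield.smul_def, ← hy i]
      ring
    simp_rw [this]
    rw [Finset.sum_mul]
  have h2 := pow_dvd_of_sum_eq p π hπ N (fun i => d i * u) r h1
  choose c hc using h2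
  refine ⟨c, ?_⟩
  have hπN : π ^ (p * N) ≠ 0 := pow_ne_zero _ hπ.ne_zero
  apply mul_right_cancel₀ hπN
  rw [h1, Finset.sum_mul]
  apply Finset.sum_congr rfl
  intro i _
  rw [hc i, mul_pow, ← pow_mul, mul_comm N p]
  ring



/-- The `K^p`-linear map `d/dϖ` on `K`. -/
noncomputable def dK : K →ₗ[kp] K :=
  (powBasis p π hπ kp hkp hdeg).constr kp
    (fun i : Fin p => ((i : ℕ) : K) * (algebraMap R K π) ^ ((i : ℕ) - 1))

lemma dK_pow (n : ℕ) : dK p π hπ kp hkp hdeg ((algebraMap R K π) ^ n)
    = (n : K) * (algebraMap R K π) ^ (n - 1) := by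
  haveI : CharP K p := charP_of_injective_algebraMap (IsFractionRing.injective R K) p
  set ϖ := algebraMap R K π with hϖ
  have hr : n % p < p := Nat.mod_lt _ hp.out.pos
  have hn : n = p * (n / p) + n % p := (Nat.div_add_mod n p).symm
  set q := n / p
  set r := n % p
  let c : kp := ⟨(ϖ ^ q) ^ p, (hkp _).2 ⟨ϖ ^ q, rfl⟩⟩
  have e1 : ϖ ^ n = c • powBasis p π hπ kp hkp hdeg ⟨r, hr⟩ := by
    rw [powBasis_apply, Subfield.smul_def]
    change ϖ ^ n = (ϖ ^ q) ^ p * ϖ ^ r
    rw [← pow_mul, ← pow_add, mul_comm q p, ← hn]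
  have hncast : (n : K) = (r : K) := by
    rw [hn]; push_cast; rw [CharP.cast_eq_zero K p]; ring
  rw [e1, map_smul, dK, Module.Basis.constr_basis, Subfield.smul_def, hncast]
  change (ϖ ^ q) ^ p * ((r : K) * ϖ ^ (r - 1)) = (r : K) * ϖ ^ (n - 1)
  rcases Nat.eq_zero_or_pos r with h0 | hpos
  · rw [h0]; simp
  · have : n - 1 = q * p + (r - 1) := by
      rw [mul_comm q p]; omega
    rw [this, pow_add, pow_mul]
    ring

lemma dK_mul (x y : K) : dK p π hπ kp hkp hdeg (x * y)
    = x * dK p π hπ kp hkp hdeg y + y * dK p π hπ kp hkp hdeg x := by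
  set b := powBasis p π hπ kp hkp hdeg with hbdef
  set D := dK p π hπ kp hkp hdeg with hD
  let B1 : K →ₗ[kp] K →ₗ[kp] K := (LinearMap.mul kp K).compr₂ D
  let B2 : K →ₗ[kp] K →ₗ[kp] K := (LinearMap.mul kp K).compl₂ D
  have hB : B1 = B2 + B2.flip := by
    apply b.ext
    intro i
    apply b.ext
    intro j
    simp only [B1, B2, LinearMap.compr₂_apply, LinearMap.mul_apply', LinearMap.add_apply,
      LinearMap.compl₂_apply, LinearMap.flip_apply]
    rw [hbdef, powBasis_apply, powBasis_apply, ← pow_add]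
    have hi := dK_pow p π hπ kp hkp hdeg (i : ℕ)
    have hj := dK_pow p π hπ kp hkp hdeg (j : ℕ)
    have hij := dK_pow p π hπ kp hkp hdeg ((i : ℕ) + (j : ℕ))
    rw [hD, hi, hj, hij]
    generalize (i : ℕ) = m
    generalize (j : ℕ) = n
    rcases m with _ | m <;> rcases n with _ | n
    · simp
    · simp
    · simp
    · have : m + 1 + (n + 1) - 1 = m + n + 1 := by omega
      rw [this]
      simp only [Nat.add_sub_cancel]
      push_cast
      ring
  have := LinearMap.congr_fun (LinearMap.congr_fun hB x) y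
  simpa [B1, B2] using this

/-- The derivation `R → K` with `π ↦ 1`. -/
noncomputable def derR : Derivation ℤ R K :=
  Derivation.mk'
    (((dK p π hπ kp hkp hdeg).toAddMonoidHom.comp
      (algebraMap R K).toAddMonoidHom).toIntLinearMap)
    (by
      intro a b
      simp only [AddMonoidHom.coe_toIntLinearMap, AddMonoidHom.coe_comp, Function.comp_apply,
        LinearMap.toAddMonoidHom_coe, RingHom.toAddMonoidHom_eq_coe, AddMonoidHom.coe_coe,
        map_mul, Algebra.smul_def]
      exact dK_mul p π hπ kp hkp hdeg _ _)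

lemma derR_apply (r : R) : derR p π hπ kp hkp hdeg r = dK p π hπ kp hkp hdeg (algebraMap R K r) :=
  rfl

lemma derR_pi : derR p π hπ kp hkp hdeg π = 1 := by
  rw [derR_apply]
  have := dK_pow p π hπ kp hkp hdeg 1
  simpa using this

end field

end Groth.Agent.Lib.Helper6.DVRpBasis
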