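import Groth.Agent.Lib.Helper6.ExtBaseChange

/-! The de Rham complex commutes with base change (degreewise). -/

open exteriorPower TensorProduct

namespace Groth.Agent.Lib.Helper6.DeRhamBC

open Groth.Agent.Lib.Helper6.DeRhamGen Groth.Agent.Lib.Helper6.ExtBaseChange

universe u

variable (R S A B : Type u) [CommRing R] [CommRing S] [CommRing A] [CommRing B]
    [Algebra R S] [Algebra R A] [Algebra R B] [Algebra A B] [Algebra S B]
    [IsScalarTower R A B] [IsScalarTower R S B]

lemma liftBaseChange_eq [Algebra.IsPushout R S A B] :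
    (KaehlerDifferential.map R S A B).liftBaseChange B =
      (KaehlerDifferential.tensorKaehlerEquiv R S A B).toLinearMap := by
  refine LinearMap.ext fun z => ?_
  induction z using TensorProduct.induction_on with
  | zero => simp
  | add x y hx hy => rw [map_add, map_add, hx, hy]
  | tmul b x =>
    have hx : x ∈ Submodule.span A (Set.range (KaehlerDifferential.D R A)) := by
      rw [KaehlerDifferential.span_range_derivation]
      trivial
    induction hx using Submodule.closure_induction generalizing b with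
    | zero => simp
    | add x y _ _ hx hy => rw [tmul_add, map_add, map_add, hx, hy]
    | smul_mem c x hx =>
      obtain ⟨a, rfl⟩ := hx
      rw [tmul_smul, smul_tmul', LinearMap.liftBaseChange_tmul, LinearEquiv.coe_coe,
        KaehlerDifferential.tensorKaehlerEquiv_tmul_D, KaehlerDifferential.map_D]

lemma cxMap_unique
    (ψ : ∀ p : ℕ, ↥(⋀[A]^p (Ω[A⁄R])) →+ ↥(⋀[B]^p (Ω[B⁄S])))
    (hψ : DeRham.IsCxMap (KaehlerDifferential.D R A) (KaehlerDifferential.D S B) (algebraMap A B) ψ)
    (p : ℕ) (x : ↥(⋀[A]^p (Ω[A⁄R]))) :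
    ψ p x = extMap (B := B) (KaehlerDifferential.map R S A B) p x := by
  induction x using kaehler_induction R A p with
  | zero => simp
  | add x y hx hy => rw [map_add, map_add, hx, hy]
  | gen b₀ b =>
    rw [hψ]
    unfold DeRham.gen
    rw [map_smul, extMap_ιMulti, algebraMap_smul]
    simp only [KaehlerDifferential.map_D]

theorem main [Algebra.IsPushout R S A B]
    (ψ : ∀ p : ℕ, ↥(⋀[A]^p (Ω[A⁄R])) →+ ↥(⋀[B]^p (Ω[B⁄S])))
    (hψ : DeRham.IsCxMap (KaehlerDifferential.D R A) (KaehlerDifferential.D S B) (algebraMap A B) ψ)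
    (p : ℕ) (Φ : S ⊗[R] ↥(⋀[A]^p (Ω[A⁄R])) →+ ↥(⋀[B]^p (Ω[B⁄S])))
    (hΦ : ∀ (s : S) (x : ↥(⋀[A]^p (Ω[A⁄R]))), Φ (s ⊗ₜ[R] x) = s • ψ p x) :
    Function.Bijective Φ := by
  have hf : Function.Bijective ((KaehlerDifferential.map R S A B).liftBaseChange B) := by
    rw [liftBaseChange_eq]
    exact (KaehlerDifferential.tensorKaehlerEquiv R S A B).bijective
  have hFp := Fp_bijective (B := B) (KaehlerDifferential.map R S A B) hf p
  set e := Algebra.IsPushout.cancelBaseChange R S A B ↥(⋀[A]^p (Ω[A⁄R])) with he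
  have hΦeq : ∀ z, Φ z = Fp (B := B) (KaehlerDifferential.map R S A B) p (e.symm z) := by
    intro z
    induction z using TensorProduct.induction_on with
    | zero => simp
    | add x y hx hy => rw [map_add, map_add, map_add, hx, hy]
    | tmul s x =>
      rw [hΦ, he, Algebra.IsPushout.cancelBaseChange_symm_tmul, Fp_tmul, algebraMap_smul,
        cxMap_unique R S A B ψ hψ]
  have : (Φ : _ → _) = (Fp (B := B) (KaehlerDifferential.map R S A B) p) ∘ e.symm :=
    funext hΦeq
  rw [this]
  exact hFp.comp e.symm.bijective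

end Groth.Agent.Lib.Helper6.DeRhamBC
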