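import Groth.Agent.Lib.Helper6.DeRhamBC
import Mathlib.RingTheory.Flat.Equalizer

set_option linter.unusedSectionVars false
set_option linter.unusedVariables false
set_option linter.unusedSimpArgs false
set_option autoImplicit false
set_option linter.style.haveILetI false
set_option maxHeartbeats 400000

/-! Closed and exact forms commute with flat base change of the ground ring. -/

open exteriorPower TensorProduct

namespace Groth.Agent.Lib.Helper6.DeRhamBC2

open Groth.Agent.Lib.Helper6.DeRhamGen Groth.Agent.Lib.Helper6.ExtBaseChange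
open Groth.Agent.Lib.Helper6.DeRhamBC

universe u

variable (R S A B : Type u) [CommRing R] [CommRing S] [CommRing A] [CommRing B]
    [Algebra R S] [Algebra R A] [Algebra R B] [Algebra A B] [Algebra S B]
    [IsScalarTower R A B] [IsScalarTower R S B] [Algebra.IsPushout R S A B]
    (d : ∀ p : ℕ, ↥(⋀[A]^p (Ω[A⁄R])) →ₗ[R] ↥(⋀[A]^(p + 1) (Ω[A⁄R])))
    (d' : ∀ p : ℕ, ↥(⋀[B]^p (Ω[B⁄S])) →ₗ[S] ↥(⋀[B]^(p + 1) (Ω[B⁄S])))
    (ψ : ∀ p : ℕ, ↥(⋀[A]^p (Ω[A⁄R])) →+ ↥(⋀[B]^p (Ω[B⁄S])))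
    (hψ : DeRham.IsCxMap (KaehlerDifferential.D R A) (KaehlerDifferential.D S B) (algebraMap A B) ψ)
    (hcomm : ∀ (p : ℕ) (x : ↥(⋀[A]^p (Ω[A⁄R]))), ψ (p + 1) (d p x) = d' p (ψ p x))

/-- the `R`-linear map underlying `ψ` -/
noncomputable def E (p : ℕ) : ↥(⋀[A]^p (Ω[A⁄R])) →ₗ[R] ↥(⋀[B]^p (Ω[B⁄S])) :=
  (extMap (B := B) (KaehlerDifferential.map R S A B) p).restrictScalars R

include hψ in
theorem E_apply (p : ℕ) (x : ↥(⋀[A]^p (Ω[A⁄R]))) : E R S A B p x = ψ p x :=
  (cxMap_unique R S A B ψ hψ p x).symm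

/-- the base change comparison map -/
noncomputable def Phi (p : ℕ) : S ⊗[R] ↥(⋀[A]^p (Ω[A⁄R])) →ₗ[S] ↥(⋀[B]^p (Ω[B⁄S])) :=
  LinearMap.liftBaseChange S (E R S A B p)

include hψ in
theorem Phi_tmul (p : ℕ) (s : S) (x : ↥(⋀[A]^p (Ω[A⁄R]))) :
    Phi R S A B p (s ⊗ₜ x) = s • ψ p x := by
  unfold Phi
  rw [LinearMap.liftBaseChange_tmul, E_apply R S A B ψ hψ]

include hψ in
theorem Phi_bijective (p : ℕ) : Function.Bijective (Phi R S A B p) :=
  main R S A B ψ hψ p (Phi R S A B p).toAddMonoidHom (fun s x => Phi_tmul R S A B ψ hψ p s x)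

include hψ hcomm in
theorem Phi_comm (p : ℕ) (z : S ⊗[R] ↥(⋀[A]^p (Ω[A⁄R]))) :
    d' p (Phi R S A B p z) = Phi R S A B (p + 1) (AlgebraTensorModule.lTensor S S (d p) z) := by
  induction z using TensorProduct.induction_on with
  | zero => simp
  | add x y hx hy => rw [map_add, map_add, hx, hy, map_add, map_add]
  | tmul s x =>
    rw [AlgebraTensorModule.lTensor_tmul, Phi_tmul R S A B ψ hψ, Phi_tmul R S A B ψ hψ,
      map_smul, hcomm]

include hψ hcomm in
theorem span_cocycles [Module.Flat R S] (p : ℕ) :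
    Submodule.span S (ψ p '' (DeRham.cocycles d p : Set ↥(⋀[A]^p (Ω[A⁄R]))))
      = DeRham.cocycles d' p := by
  apply le_antisymm
  · rw [Submodule.span_le]
    rintro _ ⟨x, hx, rfl⟩
    have hx' : d p x = 0 := hx
    show d' p (ψ p x) = 0
    rw [← hcomm, hx', map_zero]
  · intro y hy
    have hy' : d' p y = 0 := hy
    obtain ⟨z, rfl⟩ := (Phi_bijective R S A B ψ hψ p).2 y
    rw [Phi_comm R S A B d d' ψ hψ hcomm] at hy'
    have hz : AlgebraTensorModule.lTensor S S (d p) z = 0 :=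
      (Phi_bijective R S A B ψ hψ (p + 1)).1 (by rw [hy', map_zero])
    have hz' : z ∈ LinearMap.ker (AlgebraTensorModule.lTensor S S (d p)) := hz
    rw [Module.Flat.ker_lTensor_eq] at hz'
    obtain ⟨w, rfl⟩ := hz'
    clear hy hy' hz
    induction w using TensorProduct.induction_on with
    | zero => simp
    | add x y hx hy => rw [map_add, map_add]; exact Submodule.add_mem _ hx hy
    | tmul s x =>
      rw [AlgebraTensorModule.lTensor_tmul, Phi_tmul R S A B ψ hψ]
      exact Submodule.smul_mem _ _ (Submodule.subset_span ⟨x.1, x.2, rfl⟩)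

include hψ hcomm in
theorem span_coboundaries (p : ℕ) :
    Submodule.span S (ψ p '' (DeRham.coboundaries d p : Set ↥(⋀[A]^p (Ω[A⁄R]))))
      = DeRham.coboundaries d' p := by
  cases p with
  | zero =>
    show Submodule.span S (ψ 0 '' (((⊥ : Submodule R ↥(⋀[A]^0 (Ω[A⁄R]))) :
      Submodule R ↥(⋀[A]^0 (Ω[A⁄R]))) : Set ↥(⋀[A]^0 (Ω[A⁄R])))) = ⊥
    rw [Submodule.bot_coe, Set.image_singleton, map_zero, Submodule.span_singleton_eq_bot]
  | succ p =>
    show Submodule.span S (ψ (p + 1) '' (LinearMap.range (d p) : Set ↥(⋀[A]^(p + 1) (Ω[A⁄R]))))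
      = LinearMap.range (d' p)
    apply le_antisymm
    · rw [Submodule.span_le]
      rintro _ ⟨_, ⟨x, rfl⟩, rfl⟩
      exact ⟨ψ p x, (hcomm p x).symm⟩
    · rintro _ ⟨w, rfl⟩
      obtain ⟨z, rfl⟩ := (Phi_bijective R S A B ψ hψ p).2 w
      induction z using TensorProduct.induction_on with
      | zero => simp
      | add x y hx hy => rw [map_add, map_add]; exact Submodule.add_mem _ hx hy
      | tmul s x =>
        rw [Phi_tmul R S A B ψ hψ, map_smul, ← hcomm]
        exact Submodule.smul_mem _ _ (Submodule.subset_span ⟨d p x, ⟨x, rfl⟩, rfl⟩)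

end Groth.Agent.Lib.Helper6.DeRhamBC2
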