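import Groth.Prelude.Def_DeRham
import Groth.Prelude.Def_DiffOp
import Mathlib

/-! Generation of exterior powers of Kähler-type receptacles by `b₀ · δb₁ ∧ … ∧ δb_p`. -/

open exteriorPower

namespace Groth.Agent.Lib.Helper6.DeRhamGen

universe v u

variable {R : Type v} {A M : Type u} [CommRing R] [CommRing A] [Algebra R A]
  [AddCommGroup M] [Module A M] [Module R M]

/-- additive induction on generators -/
theorem gen_induction (δ : Derivation R A M) (hδ : Submodule.span A (Set.range δ) = ⊤) (p : ℕ)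
    {P : ↥(⋀[A]^p M) → Prop} (zero : P 0) (add : ∀ x y, P x → P y → P (x + y))
    (gen : ∀ b₀ b, P (DeRham.gen δ p b₀ b)) (x : ↥(⋀[A]^p M)) : P x := by
  have hx : x ∈ Submodule.span A (ιMulti A p '' {a : Fin p → M | Set.range a ⊆ Set.range δ}) := by
    rw [ιMulti_span_of_span A p M hδ]
    trivial
  induction hx using Submodule.closure_induction with
  | zero => exact zero
  | add x y _ _ hx hy => exact add x y hx hy
  | smul_mem r x hx =>
    obtain ⟨a, ha, rfl⟩ := hx
    have : ∀ i, ∃ b, δ b = a i := fun i => ha ⟨i, rfl⟩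
    choose b hb using this
    have : a = fun i => δ (b i) := funext fun i => (hb i).symm
    rw [this]
    exact gen r b

theorem kaehler_induction (R : Type v) (A : Type u) [CommRing R] [CommRing A] [Algebra R A] (p : ℕ)
    {P : ↥(⋀[A]^p (Ω[A⁄R])) → Prop} (zero : P 0) (add : ∀ x y, P x → P y → P (x + y))
    (gen : ∀ b₀ b, P (DeRham.gen (KaehlerDifferential.D R A) p b₀ b))
    (x : ↥(⋀[A]^p (Ω[A⁄R]))) : P x :=
  gen_induction (KaehlerDifferential.D R A) (KaehlerDifferential.span_range_derivation R A) p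
    zero add gen x

/-- the wedge `δb₀ ∧ δb₁ ∧ … ∧ δb_p` as a generator -/
lemma ιMulti_cons_eq_gen (δ : Derivation R A M) (p : ℕ) (b₀ : A) (b : Fin p → A) :
    ιMulti A (p + 1) (Fin.cons (δ b₀) (fun i => δ (b i)) : Fin (p + 1) → M) =
      DeRham.gen δ (p + 1) 1 (Fin.cons b₀ b) := by
  unfold DeRham.gen
  rw [one_smul]
  congr 1
  funext i
  refine Fin.cases ?_ (fun j => ?_) i
  · simp
  · simp

variable [IsScalarTower R A M]

theorem rule_sq_zero (δ : Derivation R A M) (hδ : Submodule.span A (Set.range δ) = ⊤)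
    (d : ∀ p : ℕ, ↥(⋀[A]^p M) →ₗ[R] ↥(⋀[A]^(p + 1) M)) (hd : DeRham.IsRule δ d) (p : ℕ) :
    d (p + 1) ∘ₗ d p = 0 := by
  refine LinearMap.ext fun x => ?_
  simp only [LinearMap.comp_apply, LinearMap.zero_apply]
  induction x using gen_induction δ hδ p with
  | zero => simp
  | add x y hx hy => rw [map_add, map_add, hx, hy, add_zero]
  | gen b₀ b =>
    rw [hd p b₀ b, ιMulti_cons_eq_gen, hd (p + 1)]
    apply (ιMulti A (p + 1 + 1)).map_coord_zero 0
    simp


theorem cxMap_comm {R : Type v} {A M : Type u} {R' : Type v} {A' M' : Type u}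
    [CommRing R] [CommRing A] [Algebra R A] [AddCommGroup M] [Module A M] [Module R M]
    [IsScalarTower R A M]
    [CommRing R'] [CommRing A'] [Algebra R' A'] [AddCommGroup M'] [Module A' M'] [Module R' M']
    [IsScalarTower R' A' M']
    (δ : Derivation R A M) (hδ : Submodule.span A (Set.range δ) = ⊤) (δ' : Derivation R' A' M')
    (g : A →+* A')
    (d : ∀ p : ℕ, ↥(⋀[A]^p M) →ₗ[R] ↥(⋀[A]^(p + 1) M)) (hd : DeRham.IsRule δ d)
    (d' : ∀ p : ℕ, ↥(⋀[A']^p M') →ₗ[R'] ↥(⋀[A']^(p + 1) M')) (hd' : DeRham.IsRule δ' d')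
    (ψ : ∀ p : ℕ, ↥(⋀[A]^p M) →+ ↥(⋀[A']^p M')) (hψ : DeRham.IsCxMap δ δ' g ψ)
    (p : ℕ) (x : ↥(⋀[A]^p M)) : ψ (p + 1) (d p x) = d' p (ψ p x) := by
  induction x using gen_induction δ hδ p with
  | zero => simp
  | add x y hx hy => rw [map_add, map_add, map_add, map_add, hx, hy]
  | gen b₀ b =>
    rw [hd p b₀ b, ιMulti_cons_eq_gen, hψ (p + 1), hψ p, hd' p, ιMulti_cons_eq_gen, map_one]
    congr 1
    funext i
    refine Fin.cases ?_ (fun j => ?_) i
    · simp
    · simp

omit [Module R M] in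
lemma ιMulti_cons_add (p : ℕ) (x y : M) (m : Fin p → M) :
    ιMulti A (p + 1) (Fin.cons (x + y) m : Fin (p + 1) → M) =
      ιMulti A (p + 1) (Fin.cons x m : Fin (p + 1) → M) +
        ιMulti A (p + 1) (Fin.cons y m : Fin (p + 1) → M) :=
  (ιMulti A (p + 1) (M := M)).toMultilinearMap.cons_add m x y

omit [Module R M] in
lemma ιMulti_cons_smul (p : ℕ) (c : A) (x : M) (m : Fin p → M) :
    ιMulti A (p + 1) (Fin.cons (c • x) m : Fin (p + 1) → M) =
      c • ιMulti A (p + 1) (Fin.cons x m : Fin (p + 1) → M) :=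
  (ιMulti A (p + 1) (M := M)).toMultilinearMap.cons_smul m c x

/-- the commutator of `d` with a scalar on generators -/
lemma commutator_gen (δ : Derivation R A M)
    (d : ∀ p : ℕ, ↥(⋀[A]^p M) →ₗ[R] ↥(⋀[A]^(p + 1) M)) (hd : DeRham.IsRule δ d)
    (p : ℕ) (a b₀ : A) (b : Fin p → A) :
    d p (a • DeRham.gen δ p b₀ b) - a • d p (DeRham.gen δ p b₀ b) =
      b₀ • ιMulti A (p + 1) (Fin.cons (δ a) (fun i => δ (b i)) : Fin (p + 1) → M) := by
  have h1 : a • DeRham.gen δ p b₀ b = DeRham.gen δ p (a * b₀) b := by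
    unfold DeRham.gen
    rw [smul_smul]
  rw [h1, hd p, hd p, Derivation.leibniz, ιMulti_cons_add, ιMulti_cons_smul, ιMulti_cons_smul]
  abel

theorem isDiffOp {R A M : Type u} [CommRing R] [CommRing A] [Algebra R A]
    [AddCommGroup M] [Module A M] [Module R M] [IsScalarTower R A M]
    (δ : Derivation R A M) (hδ : Submodule.span A (Set.range δ) = ⊤)
    (d : ∀ p : ℕ, ↥(⋀[A]^p M) →ₗ[R] ↥(⋀[A]^(p + 1) M)) (hd : DeRham.IsRule δ d) (p : ℕ) :
    Diff16.IsDiffOpLE R A ↥(⋀[A]^p M) ↥(⋀[A]^(p + 1) M) 1 (d p) := by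
  intro a c m
  show (d p) (a • (c • m)) - a • (d p) (c • m) = c • ((d p) (a • m) - a • (d p) m)
  induction m using gen_induction δ hδ p with
  | zero => simp
  | add x y hx hy =>
    have e1 : (d p) (a • c • (x + y)) - a • (d p) (c • (x + y)) =
        ((d p) (a • c • x) - a • (d p) (c • x)) + ((d p) (a • c • y) - a • (d p) (c • y)) := by
      simp only [smul_add, map_add]
      abel
    have e2 : c • ((d p) (a • (x + y)) - a • (d p) (x + y)) =
        c • ((d p) (a • x) - a • (d p) x) + c • ((d p) (a • y) - a • (d p) y) := by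
      simp only [smul_add, map_add, smul_sub]
      abel
    rw [e1, e2, hx, hy]
  | gen b₀ b =>
    have h1 : c • DeRham.gen δ p b₀ b = DeRham.gen δ p (c * b₀) b := by
      unfold DeRham.gen
      rw [smul_smul]
    rw [h1, commutator_gen δ d hd, commutator_gen δ d hd, smul_smul]


section ExtMap

variable {A B : Type u} [CommRing A] [CommRing B] [Algebra A B] {M N : Type u}
  [AddCommGroup M] [Module A M] [AddCommGroup N] [Module B N] [Module A N] [IsScalarTower A B N]

omit [IsScalarTower A B N] in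
lemma comp_update {p : ℕ} [DecidableEq (Fin p)] (f : M →ₗ[A] N) (m : Fin p → M) (i : Fin p) (z : M) :
    (fun j => f (Function.update m i z j)) = Function.update (fun j => f (m j)) i (f z) := by
  funext j
  by_cases h : j = i
  · subst h
    simp
  · simp [h]

/-- the semilinear functoriality of exterior powers, as an `A`-alternating map -/
noncomputable def extAlt (f : M →ₗ[A] N) (p : ℕ) : M [⋀^Fin p]→ₗ[A] ↥(⋀[B]^p N) where
  toFun m := ιMulti B p (fun i => f (m i))
  map_update_add' := by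
    intro _ m i x y
    rw [comp_update, comp_update, comp_update, map_add]
    convert (ιMulti B p (M := N)).map_update_add (fun j => f (m j)) i (f x) (f y)
  map_update_smul' := by
    intro _ m i c x
    rw [comp_update, comp_update, map_smul, ← algebraMap_smul B c (f x)]
    rw [← algebraMap_smul B c ((ιMulti B p) (Function.update (fun j => f (m j)) i (f x)))]
    convert (ιMulti B p (M := N)).map_update_smul (fun j => f (m j)) i (algebraMap A B c) (f x)
  map_eq_zero_of_eq' := by
    intro v i j h hij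
    exact (ιMulti B p (M := N)).map_eq_zero_of_eq _ (by simp [h]) hij

/-- the semilinear functoriality of exterior powers -/
noncomputable def extMap (f : M →ₗ[A] N) (p : ℕ) : ↥(⋀[A]^p M) →ₗ[A] ↥(⋀[B]^p N) :=
  alternatingMapLinearEquiv (extAlt f p)

@[simp]
lemma extMap_ιMulti (f : M →ₗ[A] N) (p : ℕ) (m : Fin p → M) :
    extMap (B := B) f p (ιMulti A p m) = ιMulti B p (fun i => f (m i)) := by
  unfold extMap
  rw [alternatingMapLinearEquiv_apply_ιMulti]
  rfl

end ExtMap

theorem exists_cxMap (R S A B : Type u) [CommRing R] [CommRing S] [CommRing A] [CommRing B]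
    [Algebra R S] [Algebra R A] [Algebra R B] [Algebra A B] [Algebra S B]
    [IsScalarTower R A B] [IsScalarTower R S B] :
    ∃ ψ : ∀ p : ℕ, ↥(⋀[A]^p (Ω[A⁄R])) →+ ↥(⋀[B]^p (Ω[B⁄S])),
      DeRham.IsCxMap (KaehlerDifferential.D R A) (KaehlerDifferential.D S B) (algebraMap A B) ψ := by
  refine ⟨fun p => (extMap (B := B) (KaehlerDifferential.map R S A B) p).toAddMonoidHom, ?_⟩
  intro p b₀ b
  show extMap (B := B) (KaehlerDifferential.map R S A B) p _ = _
  unfold DeRham.gen
  rw [map_smul, extMap_ιMulti, algebraMap_smul]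
  simp only [KaehlerDifferential.map_D]

end Groth.Agent.Lib.Helper6.DeRhamGen
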