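import Groth.Agent.Lib.Helper6.DeRhamGen

/-! De Rham differential on a quotient receptacle. -/

open exteriorPower

namespace Groth.Agent.Lib.Helper6.DeRhamQuot

open Groth.Agent.Lib.Helper6.DeRhamGen

universe v u

section Coe

variable {A M N : Type*} [CommRing A] [AddCommGroup M] [Module A M] [AddCommGroup N] [Module A N]

lemma coe_map (n : ℕ) (f : M →ₗ[A] N) (x : ↥(⋀[A]^n M)) :
    ((exteriorPower.map n f x : ↥(⋀[A]^n N)) : ExteriorAlgebra A N) =
      ExteriorAlgebra.map f (x : ExteriorAlgebra A M) := by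
  have hx : x ∈ Submodule.span A (Set.range (ιMulti A n (M := M))) := by
    rw [ιMulti_span]
    trivial
  induction hx using Submodule.span_induction with
  | mem x hx =>
    obtain ⟨m, rfl⟩ := hx
    rw [map_apply_ιMulti, ιMulti_apply_coe, ιMulti_apply_coe, ExteriorAlgebra.map_apply_ιMulti]
  | zero => simp
  | add x y _ _ hx hy => simp [hx, hy]
  | smul a x _ hx => simp [hx]

lemma coe_ιMulti_cons (n : ℕ) (ω : M) (m : Fin n → M) :
    ((ιMulti A (n + 1) (Fin.cons ω m : Fin (n + 1) → M) : ↥(⋀[A]^(n + 1) M)) :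
      ExteriorAlgebra A M) = ExteriorAlgebra.ι A ω * ExteriorAlgebra.ιMulti A n m := by
  rw [ιMulti_apply_coe, ExteriorAlgebra.ιMulti_succ_apply]
  congr 1

/-- left wedge with a 1-form -/
noncomputable def wedgeL (q : ℕ) (ω : M) : ↥(⋀[A]^q M) →ₗ[A] ↥(⋀[A]^(q + 1) M) :=
  alternatingMapLinearEquiv ((ιMulti A (q + 1) (M := M)).curryLeft ω)

@[simp]
lemma wedgeL_ιMulti (q : ℕ) (ω : M) (m : Fin q → M) :
    wedgeL q ω (ιMulti A q m) = ιMulti A (q + 1) (Fin.cons ω m : Fin (q + 1) → M) := by
  unfold wedgeL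
  rw [alternatingMapLinearEquiv_apply_ιMulti]
  rfl

end Coe


section Main

variable {R : Type v} {A M M' : Type u} [CommRing R] [CommRing A] [Algebra R A]
  [AddCommGroup M] [Module A M] [Module R M] [IsScalarTower R A M]
  [AddCommGroup M'] [Module A M'] [Module R M'] [IsScalarTower R A M']

/-- the basic formula for `d (a • ω ∧ δb₁ ∧ … ∧ δb_q)` -/
lemma formula (δ : Derivation R A M) (hδ : Submodule.span A (Set.range δ) = ⊤)
    (d : ∀ p : ℕ, ↥(⋀[A]^p M) →ₗ[R] ↥(⋀[A]^(p + 1) M)) (hd : DeRham.IsRule δ d)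
    (q : ℕ) (a : A) (ω : M) (b : Fin q → A) :
    ((d (q + 1) (a • ιMulti A (q + 1) (Fin.cons ω (fun i => δ (b i)) : Fin (q + 1) → M)) :
        ↥(⋀[A]^(q + 1 + 1) M)) : ExteriorAlgebra A M) =
      ExteriorAlgebra.ι A (δ a) * (ExteriorAlgebra.ι A ω *
          ExteriorAlgebra.ιMulti A q (fun i => δ (b i))) +
        a • (((d 1 ((oneEquiv A M).symm ω) : ↥(⋀[A]^(1 + 1) M)) : ExteriorAlgebra A M) *
          ExteriorAlgebra.ιMulti A q (fun i => δ (b i))) := by
  have hω : ω ∈ Submodule.span A (Set.range δ) := by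
    rw [hδ]
    trivial
  induction hω using Submodule.closure_induction with
  | zero =>
    have : ιMulti A (q + 1) (Fin.cons (0 : M) (fun i => δ (b i)) : Fin (q + 1) → M) = 0 := by
      apply (ιMulti A (q + 1)).map_coord_zero 0
      simp
    rw [this]
    simp
  | add x y _ _ hx hy =>
    rw [ιMulti_cons_add, smul_add, map_add, Submodule.coe_add, hx, hy, map_add, map_add, map_add,
      Submodule.coe_add]
    simp only [mul_add, add_mul, smul_add]
    abel
  | smul_mem c x hx =>
    obtain ⟨e, rfl⟩ := hx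
    have h1 : a • ιMulti A (q + 1) (Fin.cons (c • δ e) (fun i => δ (b i)) : Fin (q + 1) → M) =
        DeRham.gen δ (q + 1) (a * c) (Fin.cons e b) := by
      rw [ιMulti_cons_smul, smul_smul]
      unfold DeRham.gen
      congr 2
      funext i
      refine Fin.cases ?_ (fun j => ?_) i <;> simp
    have h2 : (oneEquiv A M).symm (c • δ e) = DeRham.gen δ 1 c (fun _ => e) := by
      rw [map_smul, oneEquiv_symm_apply]
      rfl
    rw [h1, h2, hd, hd, coe_ιMulti_cons, coe_ιMulti_cons]
    have h3 : ExteriorAlgebra.ιMulti A (q + 1) (fun i => δ ((Fin.cons e b : Fin (q + 1) → A) i)) =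
        ExteriorAlgebra.ι A (δ e) * ExteriorAlgebra.ιMulti A q (fun i => δ (b i)) := by
      rw [ExteriorAlgebra.ιMulti_succ_apply]
      congr 1
    have h4 : ExteriorAlgebra.ιMulti A 1 (fun _ : Fin 1 => δ e) = ExteriorAlgebra.ι A (δ e) := by
      rw [ExteriorAlgebra.ιMulti_succ_apply, ExteriorAlgebra.ιMulti_zero_apply, mul_one]
    rw [h3, h4, Derivation.leibniz, map_add, map_smul, map_smul, map_smul]
    simp only [add_mul, smul_mul_assoc, mul_smul_comm, mul_assoc]
    rw [add_comm]


variable (π : M →ₗ[A] M')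

/-- the special elements of the kernel -/
def special (d : ∀ p : ℕ, ↥(⋀[A]^p M) →ₗ[R] ↥(⋀[A]^(p + 1) M)) : Set M :=
  {ω : M | π ω = 0 ∧ exteriorPower.map 2 π (d 1 ((exteriorPower.oneEquiv A M).symm ω)) = 0}

lemma kill_special (δ : Derivation R A M) (hδ : Submodule.span A (Set.range δ) = ⊤)
    (d : ∀ p : ℕ, ↥(⋀[A]^p M) →ₗ[R] ↥(⋀[A]^(p + 1) M)) (hd : DeRham.IsRule δ d)
    (q : ℕ) (a : A) (ω : M) (hω : ω ∈ special π d) (b : Fin q → A) :
    exteriorPower.map (q + 1 + 1) π
      (d (q + 1) (a • ιMulti A (q + 1) (Fin.cons ω (fun i => δ (b i)) : Fin (q + 1) → M))) = 0 := by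
  apply Subtype.ext
  rw [coe_map, formula δ hδ d hd, map_add, map_mul, map_mul, ExteriorAlgebra.map_apply_ι,
    ExteriorAlgebra.map_apply_ι, hω.1, map_zero, zero_mul, mul_zero, zero_add, map_smul, map_mul,
    ← coe_map, hω.2]
  simp

lemma kill_ker (δ : Derivation R A M) (hδ : Submodule.span A (Set.range δ) = ⊤)
    (d : ∀ p : ℕ, ↥(⋀[A]^p M) →ₗ[R] ↥(⋀[A]^(p + 1) M)) (hd : DeRham.IsRule δ d)
    (hker : LinearMap.ker π ≤ Submodule.span A (special π d))
    (q : ℕ) (ω : M) (hω : π ω = 0) (a : A) (b : Fin q → A) :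
    exteriorPower.map (q + 1 + 1) π
      (d (q + 1) (a • ιMulti A (q + 1) (Fin.cons ω (fun i => δ (b i)) : Fin (q + 1) → M))) = 0 := by
  have hω' : ω ∈ Submodule.span A (special π d) := hker hω
  clear hω
  induction hω' using Submodule.closure_induction generalizing a with
  | zero =>
    have : ιMulti A (q + 1) (Fin.cons (0 : M) (fun i => δ (b i)) : Fin (q + 1) → M) = 0 := by
      apply (ιMulti A (q + 1)).map_coord_zero 0
      simp
    rw [this]
    simp
  | add x y _ _ hx hy =>
    rw [ιMulti_cons_add, smul_add, map_add, map_add, hx, hy, add_zero]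
  | smul_mem c x hx =>
    rw [ιMulti_cons_smul, smul_smul]
    exact kill_special π δ hδ d hd q (a * c) x hx b

lemma kill_wedge (δ : Derivation R A M) (hδ : Submodule.span A (Set.range δ) = ⊤)
    (d : ∀ p : ℕ, ↥(⋀[A]^p M) →ₗ[R] ↥(⋀[A]^(p + 1) M)) (hd : DeRham.IsRule δ d)
    (hker : LinearMap.ker π ≤ Submodule.span A (special π d))
    (q : ℕ) (ω : M) (hω : π ω = 0) (η : ↥(⋀[A]^q M)) :
    exteriorPower.map (q + 1 + 1) π (d (q + 1) (wedgeL q ω η)) = 0 := by
  induction η using gen_induction δ hδ q with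
  | zero => simp
  | add x y hx hy => rw [map_add, map_add, map_add, hx, hy, add_zero]
  | gen b₀ b =>
    unfold DeRham.gen
    rw [map_smul, wedgeL_ιMulti]
    exact kill_ker π δ hδ d hd hker q ω hω b₀ b

end Main


section Kernel

variable {A M M' : Type*} [CommRing A] [AddCommGroup M] [Module A M]
  [AddCommGroup M'] [Module A M'] (π : M →ₗ[A] M')

/-- the submodule of `⋀^(q+1) M` generated by `ω ∧ η` with `π ω = 0` -/
def Kq (q : ℕ) : Submodule A ↥(⋀[A]^(q + 1) M) :=
  Submodule.span A {x | ∃ (ω : M) (η : ↥(⋀[A]^q M)), π ω = 0 ∧ x = wedgeL q ω η}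

lemma ιMulti_mem_Kq (q : ℕ) (m : Fin (q + 1) → M) (i : Fin (q + 1)) (hi : π (m i) = 0) :
    ιMulti A (q + 1) m ∈ Kq π q := by
  set σ : Equiv.Perm (Fin (q + 1)) := Equiv.swap 0 i with hσ
  have h1 : (m ∘ σ) ∘ σ = m := by
    funext j
    simp [hσ]
  have h2 := (ιMulti A (q + 1) (M := M)).map_perm (m ∘ σ) σ
  rw [h1] at h2
  rw [h2]
  have h3 : m ∘ σ = Fin.cons (m i) (Fin.tail (m ∘ σ)) := by
    have : (m ∘ σ) 0 = m i := by simp [hσ]
    rw [← this, Fin.cons_self_tail]
  have h4 : ιMulti A (q + 1) (m ∘ σ) ∈ Kq π q := by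
    rw [h3, ← wedgeL_ιMulti]
    exact Submodule.subset_span ⟨m i, _, hi, rfl⟩
  rw [Units.smul_def]
  exact zsmul_mem h4 _

lemma fun_update {α β γ : Type*} [DecidableEq α] (s : β → γ) (m : α → β) (i : α) (z : β) :
    (fun j => s (Function.update m i z j)) = Function.update (fun j => s (m j)) i (s z) := by
  funext j
  by_cases h : j = i
  · subst h
    simp
  · simp [h]

lemma update_sub_mem_Kq (q : ℕ) (v : Fin (q + 1) → M) (i : Fin (q + 1)) (x y : M)
    (h : π x = π y) :
    ιMulti A (q + 1) (Function.update v i x) - ιMulti A (q + 1) (Function.update v i y) ∈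
      Kq π q := by
  rw [← AlternatingMap.map_update_sub]
  apply ιMulti_mem_Kq π q _ i
  rw [Function.update_self, map_sub, h, sub_self]

lemma sub_mem_Kq (q : ℕ) (m m' : Fin (q + 1) → M) (h : ∀ j, π (m j) = π (m' j)) :
    ιMulti A (q + 1) m' - ιMulti A (q + 1) m ∈ Kq π q := by
  classical
  have key : ∀ T : Finset (Fin (q + 1)),
      ιMulti A (q + 1) (fun j => if j ∈ T then m' j else m j) - ιMulti A (q + 1) m ∈ Kq π q := by
    intro T
    induction T using Finset.induction_on with
    | empty => simp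
    | insert i T hi ih =>
      have e1 : (fun j => if j ∈ insert i T then m' j else m j) =
          Function.update (fun j => if j ∈ T then m' j else m j) i (m' i) := by
        funext j
        by_cases hj : j = i
        · subst hj
          simp
        · simp [hj, Finset.mem_insert]
      have e2 : (fun j => if j ∈ T then m' j else m j) =
          Function.update (fun j => if j ∈ T then m' j else m j) i (m i) := by
        rw [Function.eq_update_iff]
        simp [hi]
      have := update_sub_mem_Kq π q (fun j => if j ∈ T then m' j else m j) i (m' i) (m i)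
        (h i).symm
      rw [← e1, ← e2] at this
      have := add_mem this ih
      rwa [sub_add_sub_cancel] at this
  have := key Finset.univ
  simpa using this

/-- the alternating map used to invert `⋀π` modulo `Kq` -/
noncomputable def invAlt (hπ : Function.Surjective π) (q : ℕ) :
    M' [⋀^Fin (q + 1)]→ₗ[A] (↥(⋀[A]^(q + 1) M) ⧸ Kq π q) where
  toFun m' := (Kq π q).mkQ (ιMulti A (q + 1) (fun j => Function.surjInv hπ (m' j)))
  map_update_add' := by
    intro _ m' i x y
    rw [fun_update, fun_update, fun_update, ← map_add, ← sub_eq_zero, ← map_sub,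
      Submodule.mkQ_apply, Submodule.Quotient.mk_eq_zero, ← AlternatingMap.map_update_add]
    convert update_sub_mem_Kq π q (fun j => Function.surjInv hπ (m' j)) i _ _ ?_
    rw [Function.surjInv_eq hπ, map_add, Function.surjInv_eq hπ, Function.surjInv_eq hπ]
  map_update_smul' := by
    intro _ m' i c x
    rw [fun_update, fun_update, ← map_smul, ← sub_eq_zero, ← map_sub,
      Submodule.mkQ_apply, Submodule.Quotient.mk_eq_zero, ← AlternatingMap.map_update_smul]
    convert update_sub_mem_Kq π q (fun j => Function.surjInv hπ (m' j)) i _ _ ?_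
    rw [Function.surjInv_eq hπ, map_smul, Function.surjInv_eq hπ]
  map_eq_zero_of_eq' := by
    intro v i j h hij
    rw [(ιMulti A (q + 1) (M := M)).map_eq_zero_of_eq _ (by simp [h]) hij, map_zero]

lemma ker_le_Kq (hπ : Function.Surjective π) (q : ℕ) : LinearMap.ker (exteriorPower.map (q + 1) π) ≤ Kq π q := by
  set g : ↥(⋀[A]^(q + 1) M') →ₗ[A] (↥(⋀[A]^(q + 1) M) ⧸ Kq π q) :=
    alternatingMapLinearEquiv (invAlt π hπ q) with hg
  have key : ∀ x : ↥(⋀[A]^(q + 1) M), g (exteriorPower.map (q + 1) π x) = (Kq π q).mkQ x := by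
    intro x
    have hx : x ∈ Submodule.span A (Set.range (ιMulti A (q + 1) (M := M))) := by
      rw [ιMulti_span]
      trivial
    induction hx using Submodule.span_induction with
    | mem x hx =>
      obtain ⟨m, rfl⟩ := hx
      rw [map_apply_ιMulti, hg, alternatingMapLinearEquiv_apply_ιMulti]
      show (Kq π q).mkQ _ = _
      rw [← sub_eq_zero, ← map_sub, Submodule.mkQ_apply, Submodule.Quotient.mk_eq_zero]
      apply sub_mem_Kq π q
      intro j
      simp only [Function.comp_apply]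
      rw [Function.surjInv_eq hπ]
    | zero => simp
    | add x y _ _ hx hy => simp [hx, hy]
    | smul a x _ hx => simp [hx]
  intro x hx
  rw [LinearMap.mem_ker] at hx
  have := key x
  rw [hx, map_zero] at this
  rw [← Submodule.Quotient.mk_eq_zero]
  exact this.symm

end Kernel


section Final

variable {R : Type v} {A M M' : Type u} [CommRing R] [CommRing A] [Algebra R A]
  [AddCommGroup M] [Module A M] [Module R M] [IsScalarTower R A M]
  [AddCommGroup M'] [Module A M'] [Module R M'] [IsScalarTower R A M']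

lemma ker_le (δ : Derivation R A M) (hδ : Submodule.span A (Set.range δ) = ⊤)
    (π : M →ₗ[A] M') (hπ : Function.Surjective π)
    (d : ∀ p : ℕ, ↥(⋀[A]^p M) →ₗ[R] ↥(⋀[A]^(p + 1) M)) (hd : DeRham.IsRule δ d)
    (hker : LinearMap.ker π ≤ Submodule.span A (special π d)) (p : ℕ)
    (x : ↥(⋀[A]^p M)) (hx : exteriorPower.map p π x = 0) :
    exteriorPower.map (p + 1) π (d p x) = 0 := by
  cases p with
  | zero =>
    have h1 := LinearMap.congr_fun (zeroEquiv_naturality (R := A) π) x
    simp only [LinearMap.coe_comp, LinearEquiv.coe_coe, Function.comp_apply] at h1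
    rw [hx, map_zero] at h1
    have : x = 0 := (zeroEquiv A M).injective (by rw [← h1, map_zero])
    rw [this, map_zero, map_zero]
  | succ q =>
    have hx' : x ∈ Kq π q := ker_le_Kq π hπ q hx
    clear hx
    induction hx' using Submodule.closure_induction with
    | zero => simp
    | add x y _ _ hx hy => rw [map_add, map_add, hx, hy, add_zero]
    | smul_mem c x hx =>
      obtain ⟨ω, η, hω, rfl⟩ := hx
      rw [← map_smul]
      exact kill_wedge π δ hδ d hd hker q ω hω (c • η)

theorem main (δ : Derivation R A M) (hδ : Submodule.span A (Set.range δ) = ⊤)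
    (π : M →ₗ[A] M') (hπ : Function.Surjective π)
    (dA : ∀ p : ℕ, ↥(⋀[A]^p M) →ₗ[R] ↥(⋀[A]^(p + 1) M)) (hdA : DeRham.IsDiff δ dA)
    (hker : LinearMap.ker π ≤ Submodule.span A {ω : M | π ω = 0 ∧
      exteriorPower.map 2 π (dA 1 ((exteriorPower.oneEquiv A M).symm ω)) = 0}) :
    ∃ d : ∀ p : ℕ, ↥(⋀[A]^p M') →ₗ[R] ↥(⋀[A]^(p + 1) M'),
      DeRham.IsDiff (π.compDer δ) d ∧
        ∀ (p : ℕ) (x : ↥(⋀[A]^p M)),
          d p (exteriorPower.map p π x) = exteriorPower.map (p + 1) π (dA p x) := by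
  classical
  -- the restricted surjections
  let qR : ∀ p : ℕ, ↥(⋀[A]^p M) →ₗ[R] ↥(⋀[A]^p M') :=
    fun p => (exteriorPower.map p π).restrictScalars R
  have hq : ∀ p, Function.Surjective (qR p) := fun p => exteriorPower.map_surjective hπ
  let φ : ∀ p : ℕ, ↥(⋀[A]^p M) →ₗ[R] ↥(⋀[A]^(p + 1) M') := fun p => (qR (p + 1)) ∘ₗ dA p
  have hle : ∀ p, LinearMap.ker (qR p) ≤ LinearMap.ker (φ p) := by
    intro p x hx
    rw [LinearMap.mem_ker] at hx ⊢
    exact ker_le δ hδ π hπ dA hdA.1 hker p x hx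
  let d : ∀ p : ℕ, ↥(⋀[A]^p M') →ₗ[R] ↥(⋀[A]^(p + 1) M') := fun p =>
    (Submodule.liftQ (LinearMap.ker (qR p)) (φ p) (hle p)) ∘ₗ
      ((qR p).quotKerEquivOfSurjective (hq p)).symm.toLinearMap
  have hdq : ∀ (p : ℕ) (x : ↥(⋀[A]^p M)),
      d p (exteriorPower.map p π x) = exteriorPower.map (p + 1) π (dA p x) := by
    intro p x
    have h1 : ((qR p).quotKerEquivOfSurjective (hq p)).symm (exteriorPower.map p π x) =
        (LinearMap.ker (qR p)).mkQ x := by
      rw [LinearEquiv.symm_apply_eq]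
      rfl
    show (Submodule.liftQ (LinearMap.ker (qR p)) (φ p) (hle p))
      (((qR p).quotKerEquivOfSurjective (hq p)).symm (exteriorPower.map p π x)) = _
    rw [h1]
    rfl
  have hgen : ∀ (p : ℕ) (b₀ : A) (b : Fin p → A), DeRham.gen (π.compDer δ) p b₀ b =
      exteriorPower.map p π (DeRham.gen δ p b₀ b) := by
    intro p b₀ b
    unfold DeRham.gen
    rw [map_smul, map_apply_ιMulti]
    rfl
  refine ⟨d, ⟨?_, ?_⟩, hdq⟩
  · intro p b₀ b
    rw [hgen, hdq, hdA.1, map_apply_ιMulti]
    congr 1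
    funext i
    refine Fin.cases ?_ (fun j => ?_) i <;> simp
  · intro p
    refine LinearMap.ext fun y => ?_
    obtain ⟨x, rfl⟩ := exteriorPower.map_surjective (n := p) hπ y
    rw [LinearMap.comp_apply, hdq, hdq, LinearMap.zero_apply]
    have := LinearMap.congr_fun (hdA.2 p) x
    rw [LinearMap.comp_apply, LinearMap.zero_apply] at this
    rw [this, map_zero]

end Final

end Groth.Agent.Lib.Helper6.DeRhamQuot
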