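import Mathlib.CategoryTheory.EffectiveEpi.Comp
import Mathlib.CategoryTheory.MorphismProperty.Limits
import Mathlib.CategoryTheory.Limits.Shapes.Pullback.HasPullback
import Mathlib.CategoryTheory.Comma.Over.Pullback

set_option autoImplicit false

namespace Groth.Agent.Helper6

open CategoryTheory CategoryTheory.Limits

universe v₁ u₁

variable {C : Type u₁} [Category.{v₁} C]

/-- Composite of effective epis `v ≫ u` with `v` a universal epi is an effective epi. -/
theorem effectiveEpi_comp_of_univEpi [HasPullbacks C] {U T S : C} (v : U ⟶ T) (u : T ⟶ S)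
    [EffectiveEpi u] [EffectiveEpi v]
    (hv : MorphismProperty.universally (MorphismProperty.epimorphisms C) v) :
    EffectiveEpi (v ≫ u) := by
  have key : ∀ {W : C} (e : U ⟶ W),
      (∀ {Z : C} (g₁ g₂ : Z ⟶ U), g₁ ≫ v ≫ u = g₂ ≫ v ≫ u → g₁ ≫ e = g₂ ≫ e) →
      ∃ d : S ⟶ W, (v ≫ u) ≫ d = e := by
    intro W e h
    have h1 : ∀ {Z : C} (g₁ g₂ : Z ⟶ U), g₁ ≫ v = g₂ ≫ v → g₁ ≫ e = g₂ ≫ e := by
      intro Z g₁ g₂ hg
      exact h g₁ g₂ (by rw [← Category.assoc, hg, Category.assoc])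
    have he' : v ≫ EffectiveEpi.desc v e h1 = e := EffectiveEpi.fac v e h1
    have h2 : ∀ {Z : C} (h₁ h₂ : Z ⟶ T), h₁ ≫ u = h₂ ≫ u →
        h₁ ≫ EffectiveEpi.desc v e h1 = h₂ ≫ EffectiveEpi.desc v e h1 := by
      intro Z h₁ h₂ hh
      have e1 : Epi (pullback.fst h₁ v) := hv _ _ _ (IsPullback.of_hasPullback h₁ v)
      have e2 : Epi (pullback.fst (pullback.fst h₁ v ≫ h₂) v) :=
        hv _ _ _ (IsPullback.of_hasPullback (pullback.fst h₁ v ≫ h₂) v)
      have c1 : pullback.fst h₁ v ≫ h₁ = pullback.snd h₁ v ≫ v := pullback.condition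
      have c2 : pullback.fst (pullback.fst h₁ v ≫ h₂) v ≫ pullback.fst h₁ v ≫ h₂ =
          pullback.snd (pullback.fst h₁ v ≫ h₂) v ≫ v := pullback.condition
      have e3 : Epi (pullback.fst (pullback.fst h₁ v ≫ h₂) v ≫ pullback.fst h₁ v) := epi_comp _ _
      rw [← cancel_epi (pullback.fst (pullback.fst h₁ v ≫ h₂) v ≫ pullback.fst h₁ v)]
      have key2 : (pullback.fst (pullback.fst h₁ v ≫ h₂) v ≫ pullback.snd h₁ v) ≫ e =
          pullback.snd (pullback.fst h₁ v ≫ h₂) v ≫ e := by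
        apply h
        rw [Category.assoc, ← reassoc_of% c1, hh, reassoc_of% c2]
      calc (pullback.fst (pullback.fst h₁ v ≫ h₂) v ≫ pullback.fst h₁ v) ≫ h₁ ≫
              EffectiveEpi.desc v e h1
          = (pullback.fst (pullback.fst h₁ v ≫ h₂) v ≫ pullback.snd h₁ v) ≫ v ≫
              EffectiveEpi.desc v e h1 := by
            simp only [Category.assoc, reassoc_of% c1]
        _ = (pullback.fst (pullback.fst h₁ v ≫ h₂) v ≫ pullback.snd h₁ v) ≫ e := by rw [he']
        _ = pullback.snd (pullback.fst h₁ v ≫ h₂) v ≫ e := key2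
        _ = pullback.snd (pullback.fst h₁ v ≫ h₂) v ≫ v ≫ EffectiveEpi.desc v e h1 := by rw [he']
        _ = (pullback.fst (pullback.fst h₁ v ≫ h₂) v ≫ pullback.fst h₁ v) ≫ h₂ ≫
              EffectiveEpi.desc v e h1 := by
            simp only [Category.assoc, ← reassoc_of% c2]
    exact ⟨EffectiveEpi.desc u _ h2, by rw [Category.assoc, EffectiveEpi.fac, he']⟩
  have : Epi (v ≫ u) := epi_comp _ _
  exact ⟨⟨{ desc := fun e h => (key e (fun g₁ g₂ hg => h g₁ g₂ (by simpa using hg))).choose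
            fac := fun e h => (key e (fun g₁ g₂ hg => h g₁ g₂ (by simpa using hg))).choose_spec
            uniq := fun e h m hm => by
              rw [← cancel_epi (v ≫ u), hm,
                (key e (fun g₁ g₂ hg => h g₁ g₂ (by simpa using hg))).choose_spec] }⟩⟩

/-- universal effective epimorphisms -/
abbrev UEE (C : Type u₁) [Category.{v₁} C] : MorphismProperty C :=
  MorphismProperty.universally (fun (A B : C) (p : A ⟶ B) => EffectiveEpi p)

lemma UEE.effectiveEpi {X Y : C} {f : X ⟶ Y} (hf : UEE C f) : EffectiveEpi f :=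
  MorphismProperty.universally_le _ _ hf

lemma UEE.univEpi {X Y : C} {f : X ⟶ Y} (hf : UEE C f) :
    MorphismProperty.universally (MorphismProperty.epimorphisms C) f := by
  refine MorphismProperty.universally_mono ?_ _ hf
  intro A B p hp
  have : EffectiveEpi p := hp
  exact (inferInstance : Epi p)

lemma UEE.of_isPullback {X Y X' Y' : C} {f : X ⟶ Y} {f' : X' ⟶ Y'} {i₁ : X' ⟶ X} {i₂ : Y' ⟶ Y}
    (H : IsPullback f' i₁ i₂ f) (hf : UEE C f) : UEE C f' :=
  (MorphismProperty.universally_isStableUnderBaseChange _).of_isPullback H.flip hf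

theorem UEE.comp [HasPullbacks C] {U T S : C} {v : U ⟶ T} {u : T ⟶ S}
    (hu : UEE C u) (hv : UEE C v) : UEE C (v ≫ u) := by
  intro X' Y' i₁ i₂ f' H
  have H2 : IsPullback (pullback.fst i₂ u) (pullback.snd i₂ u) i₂ u := IsPullback.of_hasPullback i₂ u
  have hw : f' ≫ i₂ = (i₁ ≫ v) ≫ u := by rw [H.w, Category.assoc]
  have H3 : IsPullback (pullback.lift f' (i₁ ≫ v) hw) i₁ (pullback.snd i₂ u) v := by
    refine IsPullback.of_right ?_ (pullback.lift_snd _ _ _) H2
    rw [pullback.lift_fst]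
    exact H
  have hp : UEE C (pullback.fst i₂ u) := UEE.of_isPullback H2 hu
  have hl : UEE C (pullback.lift f' (i₁ ≫ v) hw) := UEE.of_isPullback H3 hv
  have := hp.effectiveEpi
  have := hl.effectiveEpi
  have := effectiveEpi_comp_of_univEpi (pullback.lift f' (i₁ ≫ v) hw) (pullback.fst i₂ u) hl.univEpi
  rwa [pullback.lift_fst] at this

theorem effectiveEpi_of_comp_UEE [HasPullbacks C] {U T S : C} (v : U ⟶ T) (u : T ⟶ S)
    (h : UEE C (v ≫ u)) : EffectiveEpi u := by
  have hvu := h.effectiveEpi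
  have hπ : EffectiveEpi (pullback.fst u (v ≫ u)) :=
    (UEE.of_isPullback (IsPullback.of_hasPullback u (v ≫ u)) h).effectiveEpi
  have key : ∀ {W : C} (e : T ⟶ W),
      (∀ {Z : C} (g₁ g₂ : Z ⟶ T), g₁ ≫ u = g₂ ≫ u → g₁ ≫ e = g₂ ≫ e) →
      ∃ d : S ⟶ W, u ≫ d = e ∧ ∀ m : S ⟶ W, u ≫ m = e → m = d := by
    intro W e he
    have h1 : ∀ {Z : C} (g₁ g₂ : Z ⟶ U), g₁ ≫ v ≫ u = g₂ ≫ v ≫ u →
        g₁ ≫ v ≫ e = g₂ ≫ v ≫ e := by
      intro Z g₁ g₂ hg
      have := he (g₁ ≫ v) (g₂ ≫ v) (by simpa using hg)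
      simpa using this
    have hfac : (v ≫ u) ≫ EffectiveEpi.desc (v ≫ u) (v ≫ e) h1 = v ≫ e :=
      EffectiveEpi.fac (v ≫ u) (v ≫ e) h1
    refine ⟨EffectiveEpi.desc (v ≫ u) (v ≫ e) h1, ?_, ?_⟩
    · rw [← cancel_epi (pullback.fst u (v ≫ u))]
      have c : pullback.fst u (v ≫ u) ≫ u = pullback.snd u (v ≫ u) ≫ v ≫ u := pullback.condition
      have c2 : pullback.fst u (v ≫ u) ≫ e = (pullback.snd u (v ≫ u) ≫ v) ≫ e :=
        he _ _ (by simpa using c)
      rw [reassoc_of% c, c2]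
      simp only [Category.assoc] at hfac ⊢
      rw [hfac]
    · intro m hm
      apply EffectiveEpi.uniq
      rw [Category.assoc, hm]
  exact ⟨⟨{ desc := fun e h => (key e h).choose
            fac := fun e h => (key e h).choose_spec.1
            uniq := fun e h m hm => (key e h).choose_spec.2 m hm }⟩⟩

theorem UEE.of_comp [HasPullbacks C] {U T S : C} (v : U ⟶ T) (u : T ⟶ S)
    (h : UEE C (v ≫ u)) : UEE C u := by
  intro X' Y' i₁ i₂ f' H
  -- base change of `v` along `i₁`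
  have H2 : IsPullback (pullback.fst i₁ v) (pullback.snd i₁ v) i₁ v := IsPullback.of_hasPullback i₁ v
  have H3 : IsPullback (pullback.fst i₁ v ≫ f') (pullback.snd i₁ v) i₂ (v ≫ u) :=
    H2.paste_horiz H
  exact effectiveEpi_of_comp_UEE (pullback.fst i₁ v) f' (UEE.of_isPullback H3 h)

end Groth.Agent.Helper6
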