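import Groth.Agent.Lib.Helper6.DescCat

set_option autoImplicit false

namespace Groth.Agent.Helper6

open CategoryTheory CategoryTheory.Limits

universe v₁ u₁

variable {C : Type u₁} [Category.{v₁} C]

lemma UEE.epi {X Y : C} {f : X ⟶ Y} (hf : UEE C f) : Epi f := by
  have := hf.effectiveEpi
  infer_instance

/-- monomorphisms descend along universal effective epimorphisms -/
theorem mono_of_isPullback_UEE [HasPullbacks C] {A' B' A B : C} {h' : A' ⟶ B'} {πA : A' ⟶ A}
    {π : B' ⟶ B} {h : A ⟶ B} (H : IsPullback h' πA π h) (hπ : UEE C π) [Mono h'] : Mono h := by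
  constructor
  intro Z a b hab
  have hq : Epi (pullback.fst (a ≫ h) π) :=
    (UEE.of_isPullback (IsPullback.of_hasPullback (a ≫ h) π) hπ).epi
  have c : pullback.fst (a ≫ h) π ≫ a ≫ h = pullback.snd (a ≫ h) π ≫ π := pullback.condition
  have ca : pullback.snd (a ≫ h) π ≫ π = (pullback.fst (a ≫ h) π ≫ a) ≫ h := by
    rw [Category.assoc, c]
  have cb : pullback.snd (a ≫ h) π ≫ π = (pullback.fst (a ≫ h) π ≫ b) ≫ h := by
    rw [Category.assoc, ← hab, c]
  have e1 : H.lift _ _ ca = H.lift _ _ cb := by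
    rw [← cancel_mono h', H.lift_fst, H.lift_fst]
  have e2 := congrArg (· ≫ πA) e1
  simp only [H.lift_snd] at e2
  exact (cancel_epi _).1 e2

/-- isomorphisms descend along universal effective epimorphisms -/
theorem isIso_of_isPullback_UEE [HasPullbacks C] {A' B' A B : C} {h' : A' ⟶ B'} {πA : A' ⟶ A}
    {π : B' ⟶ B} {h : A ⟶ B} (H : IsPullback h' πA π h) (hπ : UEE C π) [IsIso h'] : IsIso h := by
  have hm : Mono h := mono_of_isPullback_UEE H hπ
  have h1 : UEE C (h' ≫ π) := (MorphismProperty.cancel_left_of_respectsIso (UEE C) h' π).2 hπ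
  rw [H.w] at h1
  have h2 : UEE C h := UEE.of_comp _ _ h1
  have := h2.effectiveEpi
  exact isIso_of_mono_of_strongEpi h

end Groth.Agent.Helper6
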