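import Groth.Agent.Lib.Helper6.DescCat2
import Mathlib.CategoryTheory.Limits.Shapes.BinaryProducts
import Mathlib.CategoryTheory.Limits.Shapes.KernelPair

set_option autoImplicit false

namespace Groth.Agent.Helper6

open CategoryTheory CategoryTheory.Limits

universe v₁ u₁

variable {C : Type u₁} [Category.{v₁} C]

lemma isPullback_prod_map_id [HasBinaryProducts C] {A B : C} (f : A ⟶ B) (X : C) :
    IsPullback (prod.map f (𝟙 X)) prod.fst prod.fst f :=
  (IsPullback.of_prod_fst_with_id f X).flip

lemma isPullback_prod_id_map [HasBinaryProducts C] {A B : C} (f : A ⟶ B) (X : C) :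
    IsPullback (prod.map (𝟙 X) f) prod.snd prod.snd f := by
  refine IsPullback.mk' (prod.map_snd _ _) ?_ ?_
  · intro T φ φ' h1 h2
    apply Limits.prod.hom_ext
    · have := congrArg (· ≫ prod.fst) h1
      simp only [Category.assoc, prod.map_fst, Category.comp_id] at this
      exact this
    · exact h2
  · intro T a b h
    refine ⟨prod.lift (a ≫ prod.fst) b, ?_, prod.lift_snd _ _⟩
    apply Limits.prod.hom_ext
    · rw [Category.assoc, prod.map_fst, Category.comp_id, prod.lift_fst]
    · rw [Category.assoc, prod.map_snd, prod.lift_snd_assoc, h]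

theorem UEE.prodMap [HasPullbacks C] [HasBinaryProducts C] {X Y X' Y' : C} {u : X ⟶ Y}
    {u' : X' ⟶ Y'} (hu : UEE C u) (hu' : UEE C u') : UEE C (prod.map u u') := by
  have h1 : UEE C (prod.map u (𝟙 X')) := UEE.of_isPullback (isPullback_prod_map_id u X') hu
  have h2 : UEE C (prod.map (𝟙 Y) u') := UEE.of_isPullback (isPullback_prod_id_map u' Y) hu'
  have := UEE.comp h2 h1
  rw [prod.map_map, Category.comp_id, Category.id_comp] at this
  exact this

/-- a product of two pullback squares is a pullback square -/
theorem isPullback_prodMap [HasBinaryProducts C] {P X Y Z P' X' Y' Z' : C}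
    {a : P ⟶ X} {b : P ⟶ Y} {f : X ⟶ Z} {g : Y ⟶ Z}
    {a' : P' ⟶ X'} {b' : P' ⟶ Y'} {f' : X' ⟶ Z'} {g' : Y' ⟶ Z'}
    (H : IsPullback a b f g) (H' : IsPullback a' b' f' g') :
    IsPullback (prod.map a a') (prod.map b b') (prod.map f f') (prod.map g g') := by
  refine IsPullback.mk' ?_ ?_ ?_
  · rw [prod.map_map, prod.map_map, H.w, H'.w]
  · intro T φ φ' h1 h2
    apply Limits.prod.hom_ext
    · apply H.hom_ext
      · have := congrArg (· ≫ prod.fst) h1
        simp only [Category.assoc, prod.map_fst] at this
        simpa only [Category.assoc] using this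
      · have := congrArg (· ≫ prod.fst) h2
        simp only [Category.assoc, prod.map_fst] at this
        simpa only [Category.assoc] using this
    · apply H'.hom_ext
      · have := congrArg (· ≫ prod.snd) h1
        simp only [Category.assoc, prod.map_snd] at this
        simpa only [Category.assoc] using this
      · have := congrArg (· ≫ prod.snd) h2
        simp only [Category.assoc, prod.map_snd] at this
        simpa only [Category.assoc] using this
  · intro T x y h
    have w1 : (x ≫ prod.fst) ≫ f = (y ≫ prod.fst) ≫ g := by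
      have := congrArg (· ≫ prod.fst) h
      simp only [Category.assoc, prod.map_fst] at this
      simpa using this
    have w2 : (x ≫ prod.snd) ≫ f' = (y ≫ prod.snd) ≫ g' := by
      have := congrArg (· ≫ prod.snd) h
      simp only [Category.assoc, prod.map_snd] at this
      simpa using this
    refine ⟨prod.lift (H.lift _ _ w1) (H'.lift _ _ w2), ?_, ?_⟩
    · apply Limits.prod.hom_ext
      · rw [Category.assoc, prod.map_fst, prod.lift_fst_assoc, H.lift_fst]
      · rw [Category.assoc, prod.map_snd, prod.lift_snd_assoc, H'.lift_fst]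
    · apply Limits.prod.hom_ext
      · rw [Category.assoc, prod.map_fst, prod.lift_fst_assoc, H.lift_snd]
      · rw [Category.assoc, prod.map_snd, prod.lift_snd_assoc, H'.lift_snd]

/-- if `π` is a universal effective epi and `π ≫ g` has the same kernel pair as `π`, then
`g` is a monomorphism -/
theorem mono_of_isKernelPair_comp [HasPullbacks C] {R X B Z : C} {p₁ p₂ : R ⟶ X} {π : X ⟶ B}
    (hπ : UEE C π) (g : B ⟶ Z) (hk' : IsKernelPair (π ≫ g) p₁ p₂)
    (hk : IsKernelPair π p₁ p₂) : Mono g := by
  constructor
  intro T a b hab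
  have e1 : Epi (pullback.fst a π) := (UEE.of_isPullback (IsPullback.of_hasPullback a π) hπ).epi
  have e2 : Epi (pullback.fst (pullback.fst a π ≫ b) π) :=
    (UEE.of_isPullback (IsPullback.of_hasPullback (pullback.fst a π ≫ b) π) hπ).epi
  have c1 : pullback.fst a π ≫ a = pullback.snd a π ≫ π := pullback.condition
  have c2 : pullback.fst (pullback.fst a π ≫ b) π ≫ pullback.fst a π ≫ b =
      pullback.snd (pullback.fst a π ≫ b) π ≫ π := pullback.condition
  have w : (pullback.fst (pullback.fst a π ≫ b) π ≫ pullback.snd a π) ≫ π ≫ g =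
      pullback.snd (pullback.fst a π ≫ b) π ≫ π ≫ g := by
    rw [Category.assoc, ← reassoc_of% c1, hab, reassoc_of% c2]
  have key : (pullback.fst (pullback.fst a π ≫ b) π ≫ pullback.snd a π) ≫ π =
      pullback.snd (pullback.fst a π ≫ b) π ≫ π := by
    have h1 : (hk'.lift _ _ w ≫ p₁) ≫ π = (hk'.lift _ _ w ≫ p₂) ≫ π := by
      rw [Category.assoc, Category.assoc, hk.w]
    rw [IsKernelPair.lift_fst, IsKernelPair.lift_snd] at h1
    exact h1
  have e3 : Epi (pullback.fst (pullback.fst a π ≫ b) π ≫ pullback.fst a π) := epi_comp _ _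
  rw [← cancel_epi (pullback.fst (pullback.fst a π ≫ b) π ≫ pullback.fst a π)]
  rw [Category.assoc, Category.assoc, c1, c2]
  simpa using key

end Groth.Agent.Helper6
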