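import Groth.Agent.Lib.Helper6.DescCat3
import Mathlib.CategoryTheory.Limits.Shapes.Equalizers

set_option autoImplicit false

namespace Groth.Agent.Helper6

open CategoryTheory CategoryTheory.Limits

universe v₁ u₁

variable {C : Type u₁} [Category.{v₁} C]

section GrpQ

variable [HasPullbacks C] {X₁ X₀ Y₀ : C} (d₀ d₁ : X₁ ⟶ X₀) (f₀ : Y₀ ⟶ X₀)

/-- first map of the inverse-image pair -/
noncomputable abbrev invPairFst : pullback (pullback.snd f₀ d₁ ≫ d₀) f₀ ⟶ Y₀ :=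
  pullback.fst (pullback.snd f₀ d₁ ≫ d₀) f₀ ≫ pullback.fst f₀ d₁

/-- second map of the inverse-image pair -/
noncomputable abbrev invPairSnd : pullback (pullback.snd f₀ d₁ ≫ d₀) f₀ ⟶ Y₀ :=
  pullback.snd (pullback.snd f₀ d₁ ≫ d₀) f₀

/-- middle projection -/
noncomputable abbrev invPairMid : pullback (pullback.snd f₀ d₁ ≫ d₀) f₀ ⟶ X₁ :=
  pullback.fst (pullback.snd f₀ d₁ ≫ d₀) f₀ ≫ pullback.snd f₀ d₁

lemma invPairFst_comp : invPairFst d₀ d₁ f₀ ≫ f₀ = invPairMid d₀ d₁ f₀ ≫ d₁ := by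
  simp only [invPairFst, invPairMid, Category.assoc, pullback.condition]

lemma invPairSnd_comp : invPairSnd d₀ d₁ f₀ ≫ f₀ = invPairMid d₀ d₁ f₀ ≫ d₀ := by
  simp only [invPairSnd, invPairMid, Category.assoc]
  exact pullback.condition.symm

lemma invPairFst_comp_assoc {W : C} (h : X₀ ⟶ W) :
    invPairFst d₀ d₁ f₀ ≫ f₀ ≫ h = invPairMid d₀ d₁ f₀ ≫ d₁ ≫ h := by
  rw [← Category.assoc, invPairFst_comp, Category.assoc]

lemma invPairSnd_comp_assoc {W : C} (h : X₀ ⟶ W) :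
    invPairSnd d₀ d₁ f₀ ≫ f₀ ≫ h = invPairMid d₀ d₁ f₀ ≫ d₀ ≫ h := by
  rw [← Category.assoc, invPairSnd_comp, Category.assoc]

lemma epi_invPairMid (hf : MorphismProperty.universally (MorphismProperty.epimorphisms C) f₀) :
    Epi (invPairMid d₀ d₁ f₀) := by
  have e1 : Epi (pullback.snd f₀ d₁) := hf _ _ _ (IsPullback.of_hasPullback f₀ d₁).flip
  have e2 : Epi (pullback.fst (pullback.snd f₀ d₁ ≫ d₀) f₀) :=
    hf _ _ _ (IsPullback.of_hasPullback (pullback.snd f₀ d₁ ≫ d₀) f₀)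
  exact epi_comp _ _

theorem descent_existsUnique (s : X₀ ⟶ X₁) (hs₀ : s ≫ d₀ = 𝟙 X₀) (hs₁ : s ≫ d₁ = 𝟙 X₀)
    [EffectiveEpi f₀]
    (hf : MorphismProperty.universally (MorphismProperty.epimorphisms C) f₀)
    {T : C} (g : Y₀ ⟶ T) (hg : invPairFst d₀ d₁ f₀ ≫ g = invPairSnd d₀ d₁ f₀ ≫ g) :
    ∃! h : X₀ ⟶ T, d₁ ≫ h = d₀ ≫ h ∧ f₀ ≫ h = g := by
  have hcoeq : ∀ {Z : C} (a b : Z ⟶ Y₀), a ≫ f₀ = b ≫ f₀ → a ≫ g = b ≫ g := by
    intro Z a b hab
    have w1 : a ≫ f₀ = (a ≫ f₀ ≫ s) ≫ d₁ := by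
      rw [Category.assoc, Category.assoc, hs₁, Category.comp_id]
    have w2 : pullback.lift a (a ≫ f₀ ≫ s) w1 ≫ pullback.snd f₀ d₁ ≫ d₀ = b ≫ f₀ := by
      rw [pullback.lift_snd_assoc, Category.assoc, Category.assoc, hs₀, Category.comp_id, hab]
    have h1 := congrArg (fun t => pullback.lift (pullback.lift a (a ≫ f₀ ≫ s) w1) b w2 ≫ t) hg
    simp only [invPairFst, invPairSnd, Category.assoc, pullback.lift_fst_assoc,
      pullback.lift_snd_assoc] at h1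
    exact h1
  have hepi := epi_invPairMid d₀ d₁ f₀ hf
  refine ⟨EffectiveEpi.desc f₀ g hcoeq, ⟨?_, EffectiveEpi.fac f₀ g hcoeq⟩, ?_⟩
  · rw [← cancel_epi (invPairMid d₀ d₁ f₀), ← invPairFst_comp_assoc, ← invPairSnd_comp_assoc,
      EffectiveEpi.fac, hg]
  · rintro h ⟨-, h2⟩
    exact EffectiveEpi.uniq f₀ g hcoeq h h2

theorem hasCoequalizer_iff (s : X₀ ⟶ X₁) (hs₀ : s ≫ d₀ = 𝟙 X₀) (hs₁ : s ≫ d₁ = 𝟙 X₀)
    [EffectiveEpi f₀]
    (hf : MorphismProperty.universally (MorphismProperty.epimorphisms C) f₀) :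
    HasCoequalizer d₁ d₀ ↔ HasCoequalizer (invPairFst d₀ d₁ f₀) (invPairSnd d₀ d₁ f₀) := by
  have hepi := epi_invPairMid d₀ d₁ f₀ hf
  constructor
  · intro H
    have w : invPairFst d₀ d₁ f₀ ≫ f₀ ≫ coequalizer.π d₁ d₀ =
        invPairSnd d₀ d₁ f₀ ≫ f₀ ≫ coequalizer.π d₁ d₀ := by
      rw [invPairFst_comp_assoc, invPairSnd_comp_assoc, coequalizer.condition]
    refine HasColimit.mk ⟨Cofork.ofπ (f₀ ≫ coequalizer.π d₁ d₀) w, ?_⟩
    apply Cofork.IsColimit.ofExistsUnique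
    intro t
    obtain ⟨h, ⟨hh1, hh2⟩, hh3⟩ := descent_existsUnique d₀ d₁ f₀ s hs₀ hs₁ hf t.π t.condition
    refine ⟨coequalizer.desc h hh1, ?_, ?_⟩
    · simp only [Cofork.π_ofπ, Category.assoc, coequalizer.π_desc]
      exact hh2
    · intro k hk
      simp only [Cofork.π_ofπ, Category.assoc] at hk
      have hk' : coequalizer.π d₁ d₀ ≫ k = coequalizer.π d₁ d₀ ≫ coequalizer.desc h hh1 := by
        rw [coequalizer.π_desc]
        apply hh3
        exact ⟨by rw [coequalizer.condition_assoc], hk⟩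
      exact coequalizer.hom_ext hk'
  · intro H
    obtain ⟨h, ⟨hh1, hh2⟩, hh3⟩ := descent_existsUnique d₀ d₁ f₀ s hs₀ hs₁ hf
      (coequalizer.π (invPairFst d₀ d₁ f₀) (invPairSnd d₀ d₁ f₀)) (coequalizer.condition _ _)
    refine HasColimit.mk ⟨Cofork.ofπ h hh1, ?_⟩
    apply Cofork.IsColimit.ofExistsUnique
    intro t
    have wt : invPairFst d₀ d₁ f₀ ≫ f₀ ≫ t.π = invPairSnd d₀ d₁ f₀ ≫ f₀ ≫ t.π := by
      rw [invPairFst_comp_assoc, invPairSnd_comp_assoc, t.condition]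
    have hf₀ : Epi f₀ := inferInstance
    refine ⟨coequalizer.desc (f₀ ≫ t.π) wt, ?_, ?_⟩
    · simp only [Cofork.π_ofπ]
      rw [← cancel_epi f₀, reassoc_of% hh2, coequalizer.π_desc]
    · intro k hk
      simp only [Cofork.π_ofπ] at hk
      have hk' : coequalizer.π (invPairFst d₀ d₁ f₀) (invPairSnd d₀ d₁ f₀) ≫ k =
          coequalizer.π (invPairFst d₀ d₁ f₀) (invPairSnd d₀ d₁ f₀) ≫
            coequalizer.desc (f₀ ≫ t.π) wt := by
        rw [coequalizer.π_desc, ← hh2, Category.assoc, hk]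
      exact coequalizer.hom_ext hk'

end GrpQ

end Groth.Agent.Helper6
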