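import Mathlib

set_option linter.unusedSectionVars false
set_option linter.unusedVariables false
set_option autoImplicit false
set_option maxHeartbeats 400000

noncomputable section

namespace Groth.Agent.Lib.Helper6.DetLen

open Matrix

universe u v

section General

variable {R : Type u} [CommRing R] {N : Type v} [AddCommGroup N] [Module R N]

/-- colength of the range of an endomorphism. -/
def clL (f : N →ₗ[R] N) : ℕ∞ := Module.length R (N ⧸ LinearMap.range f)

lemma clL_comp (f g : N →ₗ[R] N) (hf : Function.Injective f) :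
    clL (f ∘ₗ g) = clL f + clL g := by
  unfold clL
  have hle : LinearMap.range g ≤ (LinearMap.range (f ∘ₗ g)).comap f := by
    rintro _ ⟨y, rfl⟩
    exact ⟨y, rfl⟩
  have hle2 : LinearMap.range (f ∘ₗ g) ≤ (LinearMap.range f).comap LinearMap.id := by
    rintro _ ⟨y, rfl⟩
    exact ⟨g y, rfl⟩
  let i : (N ⧸ LinearMap.range g) →ₗ[R] (N ⧸ LinearMap.range (f ∘ₗ g)) :=
    Submodule.mapQ _ _ f hle
  let p : (N ⧸ LinearMap.range (f ∘ₗ g)) →ₗ[R] (N ⧸ LinearMap.range f) :=
    Submodule.mapQ _ _ LinearMap.id hle2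
  have hi : Function.Injective i := by
    rw [← LinearMap.ker_eq_bot, LinearMap.ker_eq_bot']
    intro x hx
    obtain ⟨x, rfl⟩ := Submodule.Quotient.mk_surjective _ x
    have h1 : i (Submodule.Quotient.mk x) = Submodule.Quotient.mk (f x) := rfl
    rw [h1, Submodule.Quotient.mk_eq_zero] at hx
    obtain ⟨y, hy⟩ := hx
    rw [Submodule.Quotient.mk_eq_zero]
    exact ⟨y, hf hy⟩
  have hp : Function.Surjective p := by
    intro x
    obtain ⟨x, rfl⟩ := Submodule.Quotient.mk_surjective _ x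
    exact ⟨Submodule.Quotient.mk x, rfl⟩
  have hex : Function.Exact i p := by
    intro x
    constructor
    · intro hx
      obtain ⟨x, rfl⟩ := Submodule.Quotient.mk_surjective _ x
      have h1 : p (Submodule.Quotient.mk x) = Submodule.Quotient.mk x := rfl
      rw [h1, Submodule.Quotient.mk_eq_zero] at hx
      obtain ⟨y, rfl⟩ := hx
      exact ⟨Submodule.Quotient.mk y, rfl⟩
    · rintro ⟨y, rfl⟩
      obtain ⟨y, rfl⟩ := Submodule.Quotient.mk_surjective _ y
      have h1 : p (i (Submodule.Quotient.mk y)) = Submodule.Quotient.mk (f y) := rfl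
      rw [h1, Submodule.Quotient.mk_eq_zero]
      exact ⟨y, rfl⟩
  rw [Module.length_eq_add_of_exact i p hi hp hex, add_comm]

lemma clL_of_surjective (f : N →ₗ[R] N) (hf : Function.Surjective f) : clL f = 0 := by
  unfold clL
  rw [LinearMap.range_eq_top.2 hf]
  exact Module.length_eq_zero

lemma clL_comp_surjective (f g : N →ₗ[R] N) (hg : Function.Surjective g) :
    clL (f ∘ₗ g) = clL f := by
  unfold clL
  rw [LinearMap.range_comp_of_range_eq_top _ (LinearMap.range_eq_top.2 hg)]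

/-- conjugation invariance. -/
lemma clL_conj {N' : Type v} [AddCommGroup N'] [Module R N'] (E : N ≃ₗ[R] N') (f : N →ₗ[R] N) :
    clL (E.toLinearMap ∘ₗ f ∘ₗ E.symm.toLinearMap) = clL f := by
  unfold clL
  have h : (LinearMap.range f).map E.toLinearMap =
      LinearMap.range (E.toLinearMap ∘ₗ f ∘ₗ E.symm.toLinearMap) := by
    ext x
    constructor
    · rintro ⟨_, ⟨y, rfl⟩, rfl⟩
      exact ⟨E y, by simp⟩
    · rintro ⟨y, rfl⟩
      exact ⟨f (E.symm y), ⟨_, rfl⟩, rfl⟩
  exact (Submodule.Quotient.equiv _ _ E h).length_eq.symm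

/-- If `π : N → Q` is surjective with kernel `range f`, then `clL f = length Q`. -/
lemma clL_eq_of_surjective_ker {Q : Type v} [AddCommGroup Q] [Module R Q] (f : N →ₗ[R] N)
    (π : N →ₗ[R] Q) (hπ : Function.Surjective π) (hk : LinearMap.ker π = LinearMap.range f) :
    clL f = Module.length R Q := by
  unfold clL
  rw [← hk]
  exact (LinearMap.quotKerEquivOfSurjective π hπ).length_eq

end General

section Mat

variable {R : Type u} [CommRing R]

/-- colength of the column space of a square matrix. -/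
def cl {ι : Type} [Fintype ι] [DecidableEq ι] (ψ : Matrix ι ι R) : ℕ∞ :=
  clL (Matrix.toLin' ψ)

variable {ι : Type} [Fintype ι] [DecidableEq ι]

lemma injective_of_det_mem (ψ : Matrix ι ι R) (h : ψ.det ∈ nonZeroDivisors R) :
    Function.Injective (Matrix.toLin' ψ) := by
  rw [← LinearMap.ker_eq_bot, LinearMap.ker_eq_bot']
  intro v hv
  rw [Matrix.toLin'_apply] at hv
  have h1 : ψ.adjugate *ᵥ (ψ *ᵥ v) = 0 := by rw [hv, Matrix.mulVec_zero]
  rw [Matrix.mulVec_mulVec, Matrix.adjugate_mul, Matrix.smul_mulVec, Matrix.one_mulVec] at h1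
  ext i
  have h2 := congrFun h1 i
  simp only [Pi.smul_apply, smul_eq_mul, Pi.zero_apply] at h2
  exact (mul_left_mem_nonZeroDivisors_eq_zero_iff h).1 h2

lemma cl_mul (T S : Matrix ι ι R) (hT : T.det ∈ nonZeroDivisors R) :
    cl (T * S) = cl T + cl S := by
  unfold cl
  rw [Matrix.toLin'_mul]
  exact clL_comp _ _ (injective_of_det_mem T hT)

lemma surjective_of_isUnit (U : Matrix ι ι R) (hU : IsUnit U) :
    Function.Surjective (Matrix.toLin' U) := by
  have := Matrix.mulVec_surjective_iff_isUnit.2 hU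
  intro v
  obtain ⟨w, hw⟩ := this v
  exact ⟨w, by rw [Matrix.toLin'_apply]; exact hw⟩

lemma cl_of_isUnit (U : Matrix ι ι R) (hU : IsUnit U) : cl U = 0 :=
  clL_of_surjective _ (surjective_of_isUnit U hU)

lemma cl_mul_isUnit (T U : Matrix ι ι R) (hU : IsUnit U) : cl (T * U) = cl T := by
  unfold cl
  rw [Matrix.toLin'_mul]
  exact clL_comp_surjective _ _ (surjective_of_isUnit U hU)

lemma cl_isUnit_mul (U S : Matrix ι ι R) (hU : IsUnit U) : cl (U * S) = cl S := by
  have hdet : U.det ∈ nonZeroDivisors R :=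
    IsUnit.mem_nonZeroDivisors ((Matrix.isUnit_iff_isUnit_det U).1 hU)
  rw [cl_mul U S hdet, cl_of_isUnit U hU, zero_add]

lemma cl_reindex {ι' : Type} [Fintype ι'] [DecidableEq ι'] (e : ι ≃ ι') (ψ : Matrix ι ι R) :
    cl (Matrix.reindex e e ψ) = cl ψ := by
  unfold cl
  rw [Matrix.toLin'_reindex]
  have := clL_conj (LinearEquiv.funCongrLeft R R e.symm) (Matrix.toLin' ψ)
  have hs : (LinearEquiv.funCongrLeft R R e.symm).symm = LinearEquiv.funCongrLeft R R e := rfl
  rw [hs] at this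
  exact this

end Mat

section Blocks

variable {R : Type u} [CommRing R]
variable {ι₁ ι₂ : Type} [Fintype ι₁] [DecidableEq ι₁] [Fintype ι₂] [DecidableEq ι₂]

lemma cl_fromBlocks_one₂₂ (α : Matrix ι₁ ι₁ R) :
    cl (fromBlocks α 0 0 (1 : Matrix ι₂ ι₂ R)) = cl α := by
  unfold cl
  let π : (ι₁ ⊕ ι₂ → R) →ₗ[R] ((ι₁ → R) ⧸ LinearMap.range (Matrix.toLin' α)) :=
    (Submodule.mkQ _) ∘ₗ (LinearMap.funLeft R R Sum.inl)
  have hπ : ∀ v, π v = Submodule.Quotient.mk (v ∘ Sum.inl) := fun v => rfl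
  have hsurj : Function.Surjective π := by
    intro x
    obtain ⟨x, rfl⟩ := Submodule.Quotient.mk_surjective _ x
    exact ⟨Sum.elim x 0, by rw [hπ, Sum.elim_comp_inl]⟩
  have hker : LinearMap.ker π = LinearMap.range (Matrix.toLin' (fromBlocks α 0 0 (1 : Matrix ι₂ ι₂ R))) := by
    ext v
    rw [LinearMap.mem_ker, hπ, Submodule.Quotient.mk_eq_zero]
    constructor
    · rintro ⟨x, hx⟩
      rw [Matrix.toLin'_apply] at hx
      refine ⟨Sum.elim x (v ∘ Sum.inr), ?_⟩
      rw [Matrix.toLin'_apply, Matrix.fromBlocks_mulVec]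
      simp only [Sum.elim_comp_inl, Sum.elim_comp_inr, hx, Matrix.zero_mulVec, Matrix.one_mulVec,
        add_zero, zero_add, Sum.elim_comp_inl_inr]
    · rintro ⟨w, rfl⟩
      refine ⟨w ∘ Sum.inl, ?_⟩
      rw [Matrix.toLin'_apply, Matrix.toLin'_apply, Matrix.fromBlocks_mulVec]
      simp
  rw [clL_eq_of_surjective_ker _ π hsurj hker]
  rfl

lemma cl_fromBlocks_one₁₁ (Δ : Matrix ι₂ ι₂ R) :
    cl (fromBlocks (1 : Matrix ι₁ ι₁ R) 0 0 Δ) = cl Δ := by
  unfold cl
  let π : (ι₁ ⊕ ι₂ → R) →ₗ[R] ((ι₂ → R) ⧸ LinearMap.range (Matrix.toLin' Δ)) :=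
    (Submodule.mkQ _) ∘ₗ (LinearMap.funLeft R R Sum.inr)
  have hπ : ∀ v, π v = Submodule.Quotient.mk (v ∘ Sum.inr) := fun v => rfl
  have hsurj : Function.Surjective π := by
    intro x
    obtain ⟨x, rfl⟩ := Submodule.Quotient.mk_surjective _ x
    exact ⟨Sum.elim 0 x, by rw [hπ, Sum.elim_comp_inr]⟩
  have hker : LinearMap.ker π = LinearMap.range (Matrix.toLin' (fromBlocks (1 : Matrix ι₁ ι₁ R) 0 0 Δ)) := by
    ext v
    rw [LinearMap.mem_ker, hπ, Submodule.Quotient.mk_eq_zero]
    constructor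
    · rintro ⟨x, hx⟩
      rw [Matrix.toLin'_apply] at hx
      refine ⟨Sum.elim (v ∘ Sum.inl) x, ?_⟩
      rw [Matrix.toLin'_apply, Matrix.fromBlocks_mulVec]
      simp only [Sum.elim_comp_inl, Sum.elim_comp_inr, hx, Matrix.zero_mulVec, Matrix.one_mulVec,
        add_zero, zero_add, Sum.elim_comp_inl_inr]
    · rintro ⟨w, rfl⟩
      refine ⟨w ∘ Sum.inr, ?_⟩
      rw [Matrix.toLin'_apply, Matrix.toLin'_apply, Matrix.fromBlocks_mulVec]
      simp
  rw [clL_eq_of_surjective_ker _ π hsurj hker]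
  rfl

lemma cl_smul_one (a : R) :
    cl (a • (1 : Matrix ι₂ ι₂ R)) = Fintype.card ι₂ • Ring.ord R a := by
  unfold cl
  let π : (ι₂ → R) →ₗ[R] (ι₂ → R ⧸ Ideal.span {a}) :=
    LinearMap.compLeft (Submodule.mkQ (Ideal.span {a})) ι₂
  have hπ : ∀ v k, π v k = Ideal.Quotient.mk (Ideal.span {a}) (v k) := fun v k => rfl
  have hsurj : Function.Surjective π := by
    intro x
    choose y hy using fun k => Ideal.Quotient.mk_surjective (x k)
    exact ⟨y, funext fun k => by rw [hπ, hy]⟩
  have hker : LinearMap.ker π = LinearMap.range (Matrix.toLin' (a • (1 : Matrix ι₂ ι₂ R))) := by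
    ext v
    rw [LinearMap.mem_ker]
    constructor
    · intro hv
      have h1 : ∀ k, ∃ w, a * w = v k := by
        intro k
        have := congrFun hv k
        rw [hπ, Pi.zero_apply, Ideal.Quotient.eq_zero_iff_mem, Ideal.mem_span_singleton] at this
        obtain ⟨w, hw⟩ := this
        exact ⟨w, hw.symm⟩
      choose w hw using h1
      refine ⟨w, ?_⟩
      rw [Matrix.toLin'_apply, Matrix.smul_mulVec, Matrix.one_mulVec]
      funext k
      simp [hw]
    · rintro ⟨w, rfl⟩
      rw [Matrix.toLin'_apply, Matrix.smul_mulVec, Matrix.one_mulVec]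
      funext k
      rw [hπ, Pi.zero_apply, Ideal.Quotient.eq_zero_iff_mem, Ideal.mem_span_singleton]
      exact ⟨w k, by simp⟩
  rw [clL_eq_of_surjective_ker _ π hsurj hker, Module.length_pi_of_fintype]
  simp [Ring.ord]

lemma cl_unit (α : Matrix Unit Unit R) : cl α = Ring.ord R (α () ()) := by
  have h : α = (α () ()) • (1 : Matrix Unit Unit R) := by
    ext i j
    simp
  rw [h, cl_smul_one]
  simp

lemma isUnit_fromBlocks_lower (C : Matrix ι₂ ι₁ R) :
    IsUnit (fromBlocks (1 : Matrix ι₁ ι₁ R) 0 C (1 : Matrix ι₂ ι₂ R)) := by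
  rw [Matrix.isUnit_iff_isUnit_det, Matrix.det_fromBlocks_zero₁₂]
  simp

lemma isUnit_fromBlocks_upper (B : Matrix ι₁ ι₂ R) :
    IsUnit (fromBlocks (1 : Matrix ι₁ ι₁ R) B 0 (1 : Matrix ι₂ ι₂ R)) := by
  rw [Matrix.isUnit_iff_isUnit_det, Matrix.det_fromBlocks_zero₂₁]
  simp

/-- block upper triangular with scalar corner. -/
lemma cl_fromBlocks_upper (α : Matrix Unit Unit R) (ρ : Matrix Unit ι₂ R) (Δ : Matrix ι₂ ι₂ R)
    (hΔ : Δ.det ∈ nonZeroDivisors R) :
    cl (fromBlocks α ρ 0 Δ) = Ring.ord R (α () ()) + cl Δ := by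
  have h1 : fromBlocks α ρ 0 Δ =
      fromBlocks (1 : Matrix Unit Unit R) 0 0 Δ *
        (fromBlocks (1 : Matrix Unit Unit R) ρ 0 (1 : Matrix ι₂ ι₂ R) *
          fromBlocks α 0 0 (1 : Matrix ι₂ ι₂ R)) := by
    rw [Matrix.fromBlocks_multiply, Matrix.fromBlocks_multiply]
    simp
  have hdet : (fromBlocks (1 : Matrix Unit Unit R) 0 0 Δ).det ∈ nonZeroDivisors R := by
    rw [Matrix.det_fromBlocks_zero₂₁]
    simpa using hΔ
  rw [h1, cl_mul _ _ hdet, cl_isUnit_mul _ _ (isUnit_fromBlocks_upper ρ), cl_fromBlocks_one₁₁,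
    cl_fromBlocks_one₂₂, cl_unit, add_comm]

/-- the elimination matrix. -/
lemma cl_fromBlocks_elim (C : Matrix ι₂ Unit R) (a : R) :
    cl (fromBlocks (1 : Matrix Unit Unit R) 0 C (a • (1 : Matrix ι₂ ι₂ R))) =
      Fintype.card ι₂ • Ring.ord R a := by
  have h1 : fromBlocks (1 : Matrix Unit Unit R) 0 C (a • (1 : Matrix ι₂ ι₂ R)) =
      fromBlocks (1 : Matrix Unit Unit R) 0 C (1 : Matrix ι₂ ι₂ R) *
        fromBlocks (1 : Matrix Unit Unit R) 0 0 (a • (1 : Matrix ι₂ ι₂ R)) := by
    rw [Matrix.fromBlocks_multiply]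
    simp
  rw [h1, cl_isUnit_mul _ _ (isUnit_fromBlocks_lower C), cl_fromBlocks_one₁₁, cl_smul_one]

end Blocks

section Induction

variable {R : Type u} [CommRing R]

lemma nsmul_ord_ne_top (n : ℕ) (a : R) (h : Ring.ord R a ≠ ⊤) : n • Ring.ord R a ≠ ⊤ := by
  induction n with
  | zero => simp
  | succ n ih =>
    rw [succ_nsmul]
    exact WithTop.add_ne_top.2 ⟨ih, h⟩

theorem cl_eq_ord_det
    (hH : ∀ a ∈ nonZeroDivisors R, Ring.ord R a ≠ ⊤)
    (hP : ∀ (κ : Type) [Fintype κ] [DecidableEq κ] (ψ : Matrix (Unit ⊕ κ) (Unit ⊕ κ) R),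
      ψ.det ∈ nonZeroDivisors R → ∃ lam : Matrix Unit κ R,
        (fromBlocks (1 : Matrix Unit Unit R) lam 0 (1 : Matrix κ κ R) * ψ) (Sum.inl ()) (Sum.inl ())
          ∈ nonZeroDivisors R) :
    ∀ (n : ℕ) (ι : Type) [Fintype ι] [DecidableEq ι], Fintype.card ι = n →
      ∀ ψ : Matrix ι ι R, ψ.det ∈ nonZeroDivisors R → cl ψ = Ring.ord R ψ.det := by
  intro n
  induction n with
  | zero =>
    intro ι _ _ hcard ψ hψ
    haveI : IsEmpty ι := Fintype.card_eq_zero_iff.1 hcard
    rw [Matrix.det_isEmpty, Ring.ord_one]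
    unfold cl clL
    exact Module.length_eq_zero
  | succ n ih =>
    intro ι _ _ hcard ψ hψ
    have hc : Fintype.card ι = Fintype.card (Unit ⊕ Fin n) := by
      rw [hcard, Fintype.card_sum, Fintype.card_unit, Fintype.card_fin, add_comm]
    let e : ι ≃ Unit ⊕ Fin n := Fintype.equivOfCardEq hc
    set ψ' := Matrix.reindex e e ψ with hψ'
    have h1 : cl ψ' = cl ψ := cl_reindex e ψ
    have h2 : ψ'.det = ψ.det := Matrix.det_reindex_self e ψ
    have hψ'd : ψ'.det ∈ nonZeroDivisors R := by rw [h2]; exact hψ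
    obtain ⟨lam, hlam⟩ := hP (Fin n) ψ' hψ'd
    set ψ'' := fromBlocks (1 : Matrix Unit Unit R) lam 0 (1 : Matrix (Fin n) (Fin n) R) * ψ' with hψ''
    have h3 : cl ψ'' = cl ψ' := cl_isUnit_mul _ _ (isUnit_fromBlocks_upper lam)
    have h4 : ψ''.det = ψ'.det := by
      rw [hψ'', Matrix.det_mul, Matrix.det_fromBlocks_zero₂₁]
      simp
    -- blocks
    set A := ψ''.toBlocks₁₁ with hA
    set B := ψ''.toBlocks₁₂ with hB
    set C := ψ''.toBlocks₂₁ with hC
    set D := ψ''.toBlocks₂₂ with hD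
    have hblk : ψ'' = fromBlocks A B C D := (Matrix.fromBlocks_toBlocks ψ'').symm
    set a := A () () with ha
    have haN : a ∈ nonZeroDivisors R := hlam
    set D' := a • D - C * B with hD'
    set P := fromBlocks (1 : Matrix Unit Unit R) 0 (-C) (a • (1 : Matrix (Fin n) (Fin n) R)) with hPdef
    have hCA : -C * A + (a • (1 : Matrix (Fin n) (Fin n) R)) * C = 0 := by
      ext i j
      simp only [Matrix.add_apply, Matrix.neg_mul, Matrix.neg_apply, Matrix.mul_apply,
        Matrix.smul_mul, Matrix.one_mul, Matrix.smul_apply, smul_eq_mul, Matrix.zero_apply,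
        Finset.univ_unique, Finset.sum_singleton]
      have hj : j = () := rfl
      rw [hj, ha]
      show -(C i () * A () ()) + A () () * C i () = 0
      ring
    have hPψ : P * ψ'' = fromBlocks A B 0 D' := by
      rw [hblk, hPdef, Matrix.fromBlocks_multiply, hCA]
      congr 1
      · simp
      · simp
      · rw [hD']
        simp only [Matrix.neg_mul, Matrix.smul_mul, Matrix.one_mul]
        abel
    have hdetP : P.det = a ^ n := by
      rw [hPdef, Matrix.det_fromBlocks_zero₁₂, Matrix.det_one, one_mul, Matrix.det_smul,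
        Matrix.det_one, mul_one, Fintype.card_fin]
    have hdetPN : P.det ∈ nonZeroDivisors R := by
      rw [hdetP]; exact pow_mem haN n
    have hψ''d : ψ''.det ∈ nonZeroDivisors R := by rw [h4]; exact hψ'd
    have hAdet : A.det = a := Matrix.det_unique A
    have hdetprod : a * D'.det = a ^ n * ψ''.det := by
      calc a * D'.det = A.det * D'.det := by rw [hAdet]
        _ = (P * ψ'').det := by rw [hPψ, Matrix.det_fromBlocks_zero₂₁]
        _ = P.det * ψ''.det := Matrix.det_mul _ _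
        _ = a ^ n * ψ''.det := by rw [hdetP]
    have hD'N : D'.det ∈ nonZeroDivisors R := by
      have : a * D'.det ∈ nonZeroDivisors R := by
        rw [hdetprod]; exact mul_mem (pow_mem haN n) hψ''d
      exact (mul_mem_nonZeroDivisors.1 this).2
    have hih : cl D' = Ring.ord R D'.det := ih (Fin n) (Fintype.card_fin n) D' hD'N
    have e1 : cl (P * ψ'') = n • Ring.ord R a + cl ψ'' := by
      rw [cl_mul P ψ'' hdetPN, hPdef, cl_fromBlocks_elim, Fintype.card_fin]
    have e2 : cl (P * ψ'') = Ring.ord R a + cl D' := by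
      rw [hPψ, cl_fromBlocks_upper A B D' hD'N]
    have e3 : Ring.ord R a + Ring.ord R D'.det = n • Ring.ord R a + Ring.ord R ψ''.det := by
      rw [← Ring.ord_mul _ hD'N, hdetprod, Ring.ord_mul _ hψ''d, Ring.ord_pow haN]
    have e4 : n • Ring.ord R a + cl ψ'' = n • Ring.ord R a + Ring.ord R ψ''.det := by
      rw [← e1, e2, hih, e3]
    have e5 := ENat.add_right_injective_of_ne_top (nsmul_ord_ne_top n a (hH a haN)) e4
    rw [← h1, ← h3, e5, h4, h2]

end Induction

section Avoid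

variable {R : Type u} [CommRing R]

lemma coset_avoid (s : Finset (Ideal R)) (hs : ∀ p ∈ s, p.IsPrime) (a : R) (J : Ideal R)
    (h : ∀ p ∈ s, a ∈ p → ¬ J ≤ p) : ∃ x ∈ J, ∀ p ∈ s, a + x ∉ p := by
  classical
  obtain ⟨n, hn⟩ : ∃ n, s.card = n := ⟨_, rfl⟩
  induction n generalizing s with
  | zero =>
    rw [Finset.card_eq_zero] at hn
    subst hn
    exact ⟨0, J.zero_mem, by simp⟩
  | succ n ih =>
    have hne : s.Nonempty := by
      rw [← Finset.card_pos]; omega
    obtain ⟨p₀, hp₀s, hp₀min⟩ := s.exists_minimal hne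
    have hcard : (s.erase p₀).card = n := by
      rw [Finset.card_erase_of_mem hp₀s]; omega
    obtain ⟨x', hx'J, hx'⟩ := ih (s.erase p₀) (fun p hp => hs p (Finset.mem_of_mem_erase hp))
      (fun p hp => h p (Finset.mem_of_mem_erase hp)) hcard
    by_cases hcase : a + x' ∈ p₀
    · have hJ : ¬ J ≤ p₀ := by
        intro hJ
        have hx'p : x' ∈ p₀ := hJ hx'J
        have hap : a ∈ p₀ := by
          have := p₀.sub_mem hcase hx'p
          simpa using this
        exact h p₀ hp₀s hap hJ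
      have hprime : p₀.IsPrime := hs p₀ hp₀s
      have hK : ¬ J * (s.erase p₀).prod id ≤ p₀ := by
        intro hK
        rcases (hprime.mul_le).1 hK with h1 | h1
        · exact hJ h1
        · obtain ⟨p, hp, hpp⟩ := (hprime.prod_le).1 h1
          have hps : p ∈ s := Finset.mem_of_mem_erase hp
          have : p₀ ≤ p := hp₀min hps hpp
          exact (Finset.ne_of_mem_erase hp) (le_antisymm hpp this)
      have hex : ∃ y, y ∈ J * (s.erase p₀).prod id ∧ y ∉ p₀ := by
        by_contra hcon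
        apply hK
        intro y hy
        by_contra hyn
        exact hcon ⟨y, hy, hyn⟩
      obtain ⟨y, hyK, hyp⟩ := hex
      have hyJ : y ∈ J := Ideal.mul_le_left hyK
      have hyp' : ∀ p ∈ s.erase p₀, y ∈ p := by
        intro p hp
        have h1 : J * (s.erase p₀).prod id ≤ (s.erase p₀).prod id := Ideal.mul_le_right
        have h2 : (s.erase p₀).prod id ≤ p := by
          have := Ideal.prod_le_inf (s := s.erase p₀) (f := id)
          exact this.trans (Finset.inf_le hp)
        exact h2 (h1 hyK)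
      refine ⟨x' + y, J.add_mem hx'J hyJ, ?_⟩
      intro p hp hmem
      by_cases hpp : p = p₀
      · subst hpp
        apply hyp
        have := p.sub_mem hmem hcase
        have e : a + (x' + y) - (a + x') = y := by ring
        rwa [e] at this
      · have hpe : p ∈ s.erase p₀ := Finset.mem_erase.2 ⟨hpp, hp⟩
        apply hx' p hpe
        have := p.sub_mem hmem (hyp' p hpe)
        have e : a + (x' + y) - y = a + x' := by ring
        rwa [e] at this
    · refine ⟨x', hx'J, ?_⟩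
      intro p hp
      by_cases hpp : p = p₀
      · subst hpp; exact hcase
      · exact hx' p (Finset.mem_erase.2 ⟨hpp, hp⟩)


lemma exists_add_mem_nonZeroDivisors [IsNoetherianRing R] (a : R) (J : Ideal R)
    (h : ∃ z ∈ Ideal.span {a} ⊔ J, z ∈ nonZeroDivisors R) :
    ∃ x ∈ J, a + x ∈ nonZeroDivisors R := by
  classical
  obtain ⟨z, hz, hzN⟩ := h
  have hfin := associatedPrimes.finite R R
  have hU := biUnion_associatedPrimes_eq_compl_nonZeroDivisors R
  have key := coset_avoid hfin.toFinset (fun p hp => by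
    rw [Set.Finite.mem_toFinset] at hp
    exact hp.isPrime) a J (by
    intro p hp hap hJp
    rw [Set.Finite.mem_toFinset] at hp
    have hle : Ideal.span {a} ⊔ J ≤ p := sup_le ((Ideal.span_singleton_le_iff_mem p).2 hap) hJp
    have hzp : z ∈ p := hle hz
    have : z ∈ ⋃ p ∈ associatedPrimes R R, (p : Set R) := Set.mem_biUnion hp hzp
    rw [hU] at this
    exact this hzN)
  obtain ⟨x, hxJ, hx⟩ := key
  refine ⟨x, hxJ, ?_⟩
  by_contra hcon
  have : a + x ∈ ⋃ p ∈ associatedPrimes R R, (p : Set R) := by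
    rw [hU]; exact hcon
  rw [Set.mem_iUnion₂] at this
  obtain ⟨p, hp, hmem⟩ := this
  exact hx p (by rw [Set.Finite.mem_toFinset]; exact hp) hmem

lemma exists_pivot [IsNoetherianRing R] (κ : Type) [Fintype κ] [DecidableEq κ]
    (ψ : Matrix (Unit ⊕ κ) (Unit ⊕ κ) R) (hψ : ψ.det ∈ nonZeroDivisors R) :
    ∃ lam : Matrix Unit κ R,
      (fromBlocks (1 : Matrix Unit Unit R) lam 0 (1 : Matrix κ κ R) * ψ) (Sum.inl ()) (Sum.inl ())
        ∈ nonZeroDivisors R := by
  set a := ψ (Sum.inl ()) (Sum.inl ()) with ha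
  set J : Ideal R := Ideal.span (Set.range fun k : κ => ψ (Sum.inr k) (Sum.inl ())) with hJ
  have hdet : ψ.det ∈ Ideal.span {a} ⊔ J := by
    have h1 : (ψ.adjugate * ψ) (Sum.inl ()) (Sum.inl ()) = ψ.det := by
      rw [Matrix.adjugate_mul]; simp
    rw [← h1, Matrix.mul_apply, Fintype.sum_sum_type]
    apply Ideal.add_mem
    · apply Ideal.mem_sup_left
      simp only [Finset.univ_unique, Finset.sum_singleton]
      exact Ideal.mul_mem_left _ _ (Ideal.mem_span_singleton_self a)
    · apply Ideal.mem_sup_right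
      apply Ideal.sum_mem
      intro k _
      exact Ideal.mul_mem_left _ _ (Ideal.subset_span ⟨k, rfl⟩)
  obtain ⟨x, hxJ, hx⟩ := exists_add_mem_nonZeroDivisors a J ⟨_, hdet, hψ⟩
  rw [hJ, Ideal.mem_span_range_iff_exists_fun] at hxJ
  obtain ⟨c, hc⟩ := hxJ
  refine ⟨Matrix.of fun _ k => c k, ?_⟩
  have : (fromBlocks (1 : Matrix Unit Unit R) (Matrix.of fun _ k => c k) 0 (1 : Matrix κ κ R) * ψ)
      (Sum.inl ()) (Sum.inl ()) = a + x := by
    rw [Matrix.mul_apply, Fintype.sum_sum_type]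
    simp only [Finset.univ_unique, Finset.sum_singleton, Matrix.fromBlocks_apply₁₁,
      Matrix.fromBlocks_apply₁₂, Matrix.one_apply_eq, one_mul, Matrix.of_apply]
    rw [← hc]
  rw [this]
  exact hx

theorem cl_eq_ord_det_of_noetherian [IsNoetherianRing R]
    (hH : ∀ a ∈ nonZeroDivisors R, Ring.ord R a ≠ ⊤)
    (ι : Type) [Fintype ι] [DecidableEq ι] (ψ : Matrix ι ι R)
    (hψ : ψ.det ∈ nonZeroDivisors R) : cl ψ = Ring.ord R ψ.det :=
  cl_eq_ord_det hH (fun κ _ _ ψ hψ => exists_pivot κ ψ hψ) (Fintype.card ι) ι rfl ψ hψ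

end Avoid

end Groth.Agent.Lib.Helper6.DetLen
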