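import Groth.Agent.Lib.Helper6.DetLen

set_option linter.unusedSectionVars false
set_option linter.unusedVariables false
set_option autoImplicit false
set_option maxHeartbeats 400000

noncomputable section

namespace Groth.Agent.Lib.Helper6.DetLen

open Matrix

universe u

section Transfer

variable {A A' : Type u} [CommRing A] [CommRing A'] [Algebra A A']

/-- If every `A`-submodule of an `A'`-module is an `A'`-submodule, lengths agree. -/
lemma length_restrict (N' : Type u) [AddCommGroup N'] [Module A' N'] [Module A N']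
    [IsScalarTower A A' N']
    (hclosed : ∀ (P : Submodule A N') (a' : A') (x : N'), x ∈ P → a' • x ∈ P) :
    Module.length A N' = Module.length A' N' := by
  let e : Submodule A' N' ≃o Submodule A N' :=
    { toFun := fun P => P.restrictScalars A
      invFun := fun P =>
        { carrier := P
          add_mem' := P.add_mem
          zero_mem' := P.zero_mem
          smul_mem' := fun a' x hx => hclosed P a' x hx }
      left_inv := fun P => by ext; rfl
      right_inv := fun P => by ext; rfl
      map_rel_iff' := by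
        intro P Q
        exact Iff.rfl }
  apply WithBot.coe_injective
  rw [Module.coe_length, Module.coe_length, Order.krullDim_eq_of_orderIso e]

variable {ι : Type} [Fintype ι] [DecidableEq ι]

lemma map_mulVec' (ψ : Matrix ι ι A) (v : ι → A) :
    (fun i => algebraMap A A' ((ψ *ᵥ v) i)) =
      (ψ.map (algebraMap A A')) *ᵥ (fun i => algebraMap A A' (v i)) := by
  funext i
  exact (RingHom.map_mulVec (algebraMap A A') ψ v i)

theorem cl_transfer (d : A)
    (hsurj : ∀ a' : A', ∃ (a : A) (b' : A'), a' = algebraMap A A' a + algebraMap A A' d * b')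
    (hinj : ∀ a : A, algebraMap A A' a ∈ Ideal.span {algebraMap A A' d} → a ∈ Ideal.span {d})
    (ψ θ : Matrix ι ι A) (hψθ : ψ * θ = d • (1 : Matrix ι ι A)) :
    cl ψ = cl (ψ.map (algebraMap A A')) := by
  set f := algebraMap A A' with hf
  set ψ' := ψ.map f with hψ'
  set θ' := θ.map f with hθ'
  have hψθ' : ψ' * θ' = (f d) • (1 : Matrix ι ι A') := by
    rw [hψ', hθ', ← Matrix.map_mul, hψθ]
    ext i j
    by_cases hij : i = j
    · subst hij; simp
    · simp [hij]
  -- `d' • w ∈ range ψ'`
  have hdrange : ∀ w : ι → A', (f d) • w ∈ LinearMap.range (Matrix.toLin' ψ') := by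
    intro w
    refine ⟨θ' *ᵥ w, ?_⟩
    rw [Matrix.toLin'_apply, Matrix.mulVec_mulVec, hψθ', Matrix.smul_mulVec, Matrix.one_mulVec]
  have hdrangeA : ∀ w : ι → A, d • w ∈ LinearMap.range (Matrix.toLin' ψ) := by
    intro w
    refine ⟨θ *ᵥ w, ?_⟩
    rw [Matrix.toLin'_apply, Matrix.mulVec_mulVec, hψθ, Matrix.smul_mulVec, Matrix.one_mulVec]
  -- step 1
  have step1 : Module.length A ((ι → A') ⧸ LinearMap.range (Matrix.toLin' ψ')) =
      Module.length A' ((ι → A') ⧸ LinearMap.range (Matrix.toLin' ψ')) := by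
    apply length_restrict
    intro P a' x hx
    obtain ⟨a, b', hab⟩ := hsurj a'
    obtain ⟨w, rfl⟩ := Submodule.Quotient.mk_surjective _ x
    have h0 : (f d) • (Submodule.Quotient.mk w : (ι → A') ⧸ LinearMap.range (Matrix.toLin' ψ')) = 0 := by
      rw [← Submodule.Quotient.mk_smul, Submodule.Quotient.mk_eq_zero]
      exact hdrange w
    rw [hab, add_smul, mul_comm, mul_smul, h0, smul_zero, add_zero, algebraMap_smul]
    exact P.smul_mem a hx
  -- step 2
  let g₀ : (ι → A) →ₗ[A] ((ι → A') ⧸ LinearMap.range (Matrix.toLin' ψ')) :=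
    ((LinearMap.range (Matrix.toLin' ψ')).mkQ.restrictScalars A) ∘ₗ
      (LinearMap.compLeft (Algebra.linearMap A A') ι)
  have hg₀ : ∀ v, g₀ v = Submodule.Quotient.mk (fun i => f (v i)) := fun v => rfl
  have hg₀surj : Function.Surjective g₀ := by
    intro x
    obtain ⟨w, rfl⟩ := Submodule.Quotient.mk_surjective _ x
    choose a b' hab using fun i => hsurj (w i)
    refine ⟨a, ?_⟩
    rw [hg₀]
    symm
    rw [Submodule.Quotient.eq]
    have : w - (fun i => f (a i)) = (f d) • b' := by
      funext i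
      simp only [Pi.sub_apply, Pi.smul_apply, smul_eq_mul]
      rw [hab i]; ring
    rw [this]
    exact hdrange b'
  have hg₀ker : LinearMap.ker g₀ = LinearMap.range (Matrix.toLin' ψ) := by
    ext v
    rw [LinearMap.mem_ker, hg₀, Submodule.Quotient.mk_eq_zero]
    constructor
    · rintro ⟨y', hy'⟩
      rw [Matrix.toLin'_apply] at hy'
      choose y z' hyz using fun i => hsurj (y' i)
      have hy'eq : y' = (fun i => f (y i)) + (f d) • z' := by
        funext i
        simp only [Pi.add_apply, Pi.smul_apply, smul_eq_mul]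
        exact hyz i
      -- v - ψ y has coordinates mapping into span{d'}
      have hcoord : ∀ i, (v - ψ *ᵥ y) i ∈ Ideal.span {d} := by
        intro i
        apply hinj
        rw [Ideal.mem_span_singleton]
        refine ⟨(ψ' *ᵥ z') i, ?_⟩
        have h1 := congrFun hy' i
        rw [hy'eq, Matrix.mulVec_add, Matrix.mulVec_smul, ← map_mulVec'] at h1
        simp only [Pi.add_apply, Pi.smul_apply, smul_eq_mul] at h1
        rw [Pi.sub_apply, map_sub, ← h1]
        ring
      have hex : ∀ i, ∃ u, (v - ψ *ᵥ y) i = d * u := by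
        intro i
        have := hcoord i
        rw [Ideal.mem_span_singleton] at this
        exact this
      choose u hu using hex
      have hv : v = ψ *ᵥ y + d • u := by
        funext i
        have := hu i
        simp only [Pi.sub_apply] at this
        simp only [Pi.add_apply, Pi.smul_apply, smul_eq_mul]
        rw [← this]; ring
      rw [hv]
      exact Submodule.add_mem _ ⟨y, Matrix.toLin'_apply _ _⟩ (hdrangeA u)
    · rintro ⟨y, rfl⟩
      refine ⟨fun i => f (y i), ?_⟩
      rw [Matrix.toLin'_apply, Matrix.toLin'_apply, ← map_mulVec']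
  unfold cl
  rw [clL_eq_of_surjective_ker _ g₀ hg₀surj hg₀ker, step1]
  rfl

end Transfer

section Semiloc

variable (A : Type u) [CommRing A] (d : A)

/-- elements that are units modulo `d`. -/
def unitsMod : Submonoid A :=
  (IsUnit.submonoid (A ⧸ Ideal.span {d})).comap (Ideal.Quotient.mk (Ideal.span {d}))

lemma mem_unitsMod (s : A) : s ∈ unitsMod A d ↔ IsUnit (Ideal.Quotient.mk (Ideal.span {d}) s) :=
  Iff.rfl

lemma exists_mul_eq_one_add (s : A) (hs : s ∈ unitsMod A d) : ∃ t c : A, s * t = 1 + d * c := by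
  rw [mem_unitsMod] at hs
  obtain ⟨tbar, ht⟩ := hs.exists_right_inv
  obtain ⟨t, rfl⟩ := Ideal.Quotient.mk_surjective tbar
  rw [← map_mul, ← map_one (Ideal.Quotient.mk (Ideal.span {d})), Ideal.Quotient.eq,
    Ideal.mem_span_singleton] at ht
  obtain ⟨c, hc⟩ := ht
  exact ⟨t, c, by rw [← hc]; ring⟩

abbrev Aloc := Localization (unitsMod A d)

lemma aloc_surj (a' : Aloc A d) : ∃ (a : A) (b' : Aloc A d),
    a' = algebraMap A (Aloc A d) a + algebraMap A (Aloc A d) d * b' := by
  obtain ⟨a, s, rfl⟩ := IsLocalization.exists_mk'_eq (unitsMod A d) a'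
  obtain ⟨t, c, htc⟩ := exists_mul_eq_one_add A d s s.2
  refine ⟨a * t, - IsLocalization.mk' (Aloc A d) (a * c) s, ?_⟩
  rw [IsLocalization.mk'_eq_iff_eq_mul, add_mul, mul_assoc, neg_mul, IsLocalization.mk'_spec,
    ← map_mul, mul_neg, ← map_mul, ← sub_eq_add_neg, ← map_sub]
  congr 1
  have : a * t * (s : A) = a * ((s : A) * t) := by ring
  rw [this, htc]
  ring

lemma aloc_inj (a : A)
    (h : algebraMap A (Aloc A d) a ∈ Ideal.span {algebraMap A (Aloc A d) d}) :
    a ∈ Ideal.span {d} := by
  rw [Ideal.mem_span_singleton] at h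
  obtain ⟨b', hb'⟩ := h
  obtain ⟨b, s, rfl⟩ := IsLocalization.exists_mk'_eq (unitsMod A d) b'
  have h1 : algebraMap A (Aloc A d) (a * s) = algebraMap A (Aloc A d) (d * b) := by
    rw [map_mul, hb', mul_assoc, IsLocalization.mk'_spec, map_mul]
  obtain ⟨u, hu⟩ := (IsLocalization.eq_iff_exists (unitsMod A d) (Aloc A d)).1 h1
  have h2 : Ideal.Quotient.mk (Ideal.span {d}) ((u : A) * (s : A)) * Ideal.Quotient.mk (Ideal.span {d}) a = 0 := by
    rw [← map_mul, Ideal.Quotient.eq_zero_iff_mem, Ideal.mem_span_singleton]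
    exact ⟨u * b, by rw [mul_assoc, mul_comm (s : A) a, hu]; ring⟩
  have hunit : IsUnit (Ideal.Quotient.mk (Ideal.span {d}) ((u : A) * (s : A))) :=
    (mem_unitsMod A d _).1 ((unitsMod A d).mul_mem u.2 s.2)
  have h3 := (hunit.mul_right_eq_zero).1 h2
  rwa [Ideal.Quotient.eq_zero_iff_mem] at h3

lemma aloc_isUnit_one_add (x : Aloc A d) : IsUnit (1 + algebraMap A (Aloc A d) d * x) := by
  obtain ⟨a, s, rfl⟩ := IsLocalization.exists_mk'_eq (unitsMod A d) x
  have hmem : (s : A) + d * a ∈ unitsMod A d := by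
    rw [mem_unitsMod, map_add]
    have : Ideal.Quotient.mk (Ideal.span {d}) (d * a) = 0 := by
      rw [Ideal.Quotient.eq_zero_iff_mem, Ideal.mem_span_singleton]; exact ⟨a, rfl⟩
    rw [this, add_zero]
    exact (mem_unitsMod A d _).1 s.2
  have : 1 + algebraMap A (Aloc A d) d * IsLocalization.mk' (Aloc A d) a s =
      IsLocalization.mk' (Aloc A d) ((s : A) + d * a) s := by
    symm
    rw [IsLocalization.mk'_eq_iff_eq_mul, add_mul, one_mul, mul_assoc, IsLocalization.mk'_spec,
      map_add, map_mul]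
  rw [this]
  exact IsUnit.of_mul_eq_one _ (IsLocalization.mk'_mul_mk'_eq_one' (S := Aloc A d) _ s hmem)

lemma aloc_mem_of_isMaximal (m : Ideal (Aloc A d)) (hm : m.IsMaximal) :
    algebraMap A (Aloc A d) d ∈ m := by
  by_contra hd
  obtain ⟨y, i, hi, hyi⟩ := hm.exists_inv hd
  have : i = 1 + algebraMap A (Aloc A d) d * (-y) := by
    rw [← hyi]; ring
  have hu : IsUnit i := by rw [this]; exact aloc_isUnit_one_add A d _
  exact hm.ne_top (Ideal.eq_top_of_isUnit_mem _ hi hu)

section Noeth

variable [IsNoetherianRing A]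

lemma aloc_ord_eq : Ring.ord (Aloc A d) (algebraMap A (Aloc A d) d) = Ring.ord A d := by
  have h := cl_transfer (A := A) (A' := Aloc A d) (ι := Unit) d (aloc_surj A d) (aloc_inj A d)
    (Matrix.of fun _ _ => d) 1 (by ext i j; simp)
  rw [cl_unit, cl_unit] at h
  simpa using h.symm

lemma aloc_krullDimLE (hd : Ring.ord A d ≠ ⊤) : Ring.KrullDimLE 1 (Aloc A d) := by
  haveI : IsNoetherianRing (Aloc A d) :=
    IsLocalization.isNoetherianRing (unitsMod A d) (Aloc A d) inferInstance
  set d' := algebraMap A (Aloc A d) d with hd'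
  have hfin : Module.length (Aloc A d) (Aloc A d ⧸ Ideal.span {d'}) ≠ ⊤ := by
    have := aloc_ord_eq A d
    rw [Ring.ord] at this
    rw [this]; exact hd
  have hFL : IsFiniteLength (Aloc A d) (Aloc A d ⧸ Ideal.span {d'}) :=
    Module.length_ne_top_iff.1 hfin
  have hArt : IsArtinian (Aloc A d) (Aloc A d ⧸ Ideal.span {d'}) :=
    (isFiniteLength_iff_isNoetherian_isArtinian.1 hFL).2
  haveI : IsArtinianRing (Aloc A d ⧸ Ideal.span {d'}) := isArtinian_of_tower (Aloc A d) hArt
  have hmaxq : ∀ q : Ideal (Aloc A d), q.IsPrime → d' ∈ q → q.IsMaximal := by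
    intro q hq hdq
    have hle : Ideal.span {d'} ≤ q := (Ideal.span_singleton_le_iff_mem q).2 hdq
    haveI : (q.map (Ideal.Quotient.mk (Ideal.span {d'}))).IsPrime :=
      Ideal.map_isPrime_of_surjective Ideal.Quotient.mk_surjective (by rw [Ideal.mk_ker]; exact hle)
    haveI : (q.map (Ideal.Quotient.mk (Ideal.span {d'}))).IsMaximal :=
      IsArtinianRing.isMaximal_of_isPrime _
    have := Ideal.comap_isMaximal_of_surjective (Ideal.Quotient.mk (Ideal.span {d'}))
      Ideal.Quotient.mk_surjective (K := q.map (Ideal.Quotient.mk (Ideal.span {d'})))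
    rwa [Ideal.comap_map_mk hle] at this
  apply Ring.KrullDimLE.mk₁
  intro P hP
  obtain ⟨m, hm, hPm⟩ := Ideal.exists_le_maximal P hP.ne_top
  have hdm : d' ∈ m := aloc_mem_of_isMaximal A d m hm
  haveI := hm.isPrime
  have hmin : m ∈ (Ideal.span {d'}).minimalPrimes := by
    refine ⟨⟨hm.isPrime, (Ideal.span_singleton_le_iff_mem m).2 hdm⟩, ?_⟩
    rintro q ⟨hq, hdq⟩ hqm
    have hqmax := hmaxq q hq ((Ideal.span_singleton_le_iff_mem q).1 hdq)
    exact (hqmax.eq_of_le hm.ne_top hqm).ge
  have hht : m.height ≤ 1 :=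
    Ideal.height_le_one_of_isPrincipal_of_mem_minimalPrimes _ m hmin
  by_cases hPm' : P = m
  · right; rw [hPm']; exact hm
  · left
    have hlt : P < m := lt_of_le_of_ne hPm hPm'
    have h1 := Ideal.height_add_one_le_of_lt_of_isPrime hlt
    have h2 : P.height + 1 ≤ 1 := h1.trans hht
    have h3 : P.height = 0 := by
      by_contra h
      have h4 : 1 ≤ P.height := Order.one_le_iff_pos.2 (pos_iff_ne_zero.2 h)
      have h5 : (1 : ℕ∞) + 1 ≤ 1 := (add_le_add_left h4 1).trans h2
      have h6 : ((2 : ℕ) : ℕ∞) ≤ ((1 : ℕ) : ℕ∞) := by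
        have e1 : ((2 : ℕ) : ℕ∞) = 1 + 1 := by norm_num
        have e2 : ((1 : ℕ) : ℕ∞) = 1 := by norm_num
        rw [e1, e2]; exact h5
      exact absurd (Nat.cast_le.1 h6) (by norm_num)
    exact Ideal.height_eq_zero_iff.1 h3

end Noeth

end Semiloc

section Infinite

variable {A : Type u} [CommRing A] [IsNoetherianRing A]
variable {ι : Type} [Fintype ι] [DecidableEq ι]

lemma ord_ne_top_of_cl_ne_top (ψ : Matrix ι ι A) (hcl : cl ψ ≠ ⊤) : Ring.ord A ψ.det ≠ ⊤ := by
  set d := ψ.det with hd
  set Rg := LinearMap.range (Matrix.toLin' ψ) with hRg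
  have hFL : IsFiniteLength A ((ι → A) ⧸ Rg) := Module.length_ne_top_iff.1 hcl
  haveI hArtM : IsArtinian A ((ι → A) ⧸ Rg) := (isFiniteLength_iff_isNoetherian_isArtinian.1 hFL).2
  let φ : A →ₗ[A] (ι → (ι → A) ⧸ Rg) :=
    LinearMap.pi fun i => LinearMap.toSpanSingleton A _ (Submodule.Quotient.mk (Pi.single i 1))
  have hφ : ∀ a i, φ a i = a • (Submodule.Quotient.mk (Pi.single i (1 : A)) : (ι → A) ⧸ Rg) :=
    fun a i => rfl
  set I : Ideal A := LinearMap.ker φ with hI
  -- A ⧸ I is Artinian
  haveI hArtI : IsArtinian A (A ⧸ I) :=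
    isArtinian_of_injective ((LinearMap.ker φ).liftQ φ le_rfl)
      (by rw [← LinearMap.ker_eq_bot]; exact Submodule.ker_liftQ_eq_bot _ _ _ le_rfl)
  haveI : IsArtinianRing (A ⧸ I) := isArtinian_of_tower A hArtI
  -- powers
  have hpow : ∀ x ∈ I, x ^ Fintype.card ι ∈ Ideal.span {d} := by
    intro x hx
    have h1 : ∀ i, ∃ θ : ι → A, ψ *ᵥ θ = x • Pi.single i 1 := by
      intro i
      have h2 : φ x i = 0 := by
        have : φ x = 0 := hx
        rw [this]; rfl
      rw [hφ, ← Submodule.Quotient.mk_smul, Submodule.Quotient.mk_eq_zero] at h2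
      obtain ⟨θ, hθ⟩ := h2
      exact ⟨θ, by rw [← Matrix.toLin'_apply]; exact hθ⟩
    choose θ hθ using h1
    have h3 : ψ * (Matrix.of fun j i => θ i j) = x • (1 : Matrix ι ι A) := by
      ext k i
      have := congrFun (hθ i) k
      rw [Matrix.mul_apply]
      simp only [Matrix.mulVec, dotProduct] at this
      simp only [Matrix.of_apply]
      rw [this]
      simp [Matrix.one_apply, Pi.single_apply, eq_comm]
    have h4 := congrArg Matrix.det h3
    rw [Matrix.det_mul, Matrix.det_smul, Matrix.det_one, mul_one] at h4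
    rw [← h4, Ideal.mem_span_singleton]
    exact ⟨_, rfl⟩
  -- all primes of A ⧸ (d) are maximal
  have hprimes : ∀ Q : Ideal (A ⧸ Ideal.span {d}), Q.IsPrime → Q.IsMaximal := by
    intro Q hQ
    set q := Q.comap (Ideal.Quotient.mk (Ideal.span {d})) with hq
    haveI hqprime : q.IsPrime := Ideal.comap_isPrime _ Q
    have hdq : Ideal.span {d} ≤ q := by
      intro y hy
      rw [hq, Ideal.mem_comap, Ideal.Quotient.eq_zero_iff_mem.2 hy]
      exact Q.zero_mem
    have hIq : I ≤ q := fun x hx => hqprime.mem_of_pow_mem _ (hdq (hpow x hx))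
    haveI : (q.map (Ideal.Quotient.mk I)).IsPrime :=
      Ideal.map_isPrime_of_surjective Ideal.Quotient.mk_surjective (by rw [Ideal.mk_ker]; exact hIq)
    haveI : (q.map (Ideal.Quotient.mk I)).IsMaximal := IsArtinianRing.isMaximal_of_isPrime _
    have hqmax : q.IsMaximal := by
      have := Ideal.comap_isMaximal_of_surjective (Ideal.Quotient.mk I)
        Ideal.Quotient.mk_surjective (K := q.map (Ideal.Quotient.mk I))
      rwa [Ideal.comap_map_mk hIq] at this
    have hQeq : Q = q.map (Ideal.Quotient.mk (Ideal.span {d})) :=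
      (Ideal.map_comap_of_surjective _ Ideal.Quotient.mk_surjective Q).symm
    rcases Ideal.map_eq_top_or_isMaximal_of_surjective (Ideal.Quotient.mk (Ideal.span {d}))
      Ideal.Quotient.mk_surjective hqmax with h | h
    · exact absurd (hQeq.trans h) hQ.ne_top
    · rw [hQeq]; exact h
  haveI : Ring.KrullDimLE 0 (A ⧸ Ideal.span {d}) := Ring.KrullDimLE.mk₀ hprimes
  haveI : IsArtinianRing (A ⧸ Ideal.span {d}) := isArtinianRing_iff_krullDimLE_zero.2 inferInstance
  haveI : IsArtinian A (A ⧸ Ideal.span {d}) :=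
    isArtinian_of_surjective_algebraMap (R := A ⧸ Ideal.span {d}) (S := A)
      Ideal.Quotient.mk_surjective
  rw [Ring.ord, Module.length_ne_top_iff, isFiniteLength_iff_isNoetherian_isArtinian]
  exact ⟨inferInstance, inferInstance⟩

end Infinite

section Main

variable {A : Type u} [CommRing A] [IsNoetherianRing A]
variable {ι : Type} [Fintype ι] [DecidableEq ι]

theorem cl_eq_ord (ψ : Matrix ι ι A) (hψ : ψ.det ∈ nonZeroDivisors A) :
    cl ψ = Ring.ord A ψ.det := by
  by_cases hd : Ring.ord A ψ.det = ⊤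
  · rw [hd]
    by_contra hcl
    exact ord_ne_top_of_cl_ne_top ψ hcl hd
  · set d := ψ.det with hdd
    haveI : IsNoetherianRing (Aloc A d) :=
      IsLocalization.isNoetherianRing (unitsMod A d) (Aloc A d) inferInstance
    haveI : Ring.KrullDimLE 1 (Aloc A d) := aloc_krullDimLE A d hd
    have h1 : cl ψ = cl (ψ.map (algebraMap A (Aloc A d))) :=
      cl_transfer d (aloc_surj A d) (aloc_inj A d) ψ ψ.adjugate (Matrix.mul_adjugate ψ)
    have hdet : (ψ.map (algebraMap A (Aloc A d))).det = algebraMap A (Aloc A d) d := by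
      rw [hdd, RingHom.map_det]; rfl
    have hN : algebraMap A (Aloc A d) d ∈ nonZeroDivisors (Aloc A d) :=
      IsLocalization.map_nonZeroDivisors_le (unitsMod A d) (Aloc A d)
        (Submonoid.mem_map_of_mem _ hψ)
    have h2 : cl (ψ.map (algebraMap A (Aloc A d))) =
        Ring.ord (Aloc A d) (ψ.map (algebraMap A (Aloc A d))).det :=
      cl_eq_ord_det_of_noetherian (fun a ha => Ring.ord_ne_top ha) ι _ (by rw [hdet]; exact hN)
    rw [h1, h2, hdet, aloc_ord_eq]

/-- linear map version -/
theorem length_coker_eq_ord {n : ℕ} (φ : (Fin n → A) →ₗ[A] (Fin n → A))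
    (hφ : LinearMap.det φ ∈ nonZeroDivisors A) :
    Module.length A ((Fin n → A) ⧸ LinearMap.range φ) = Ring.ord A (LinearMap.det φ) := by
  have h1 : Matrix.toLin' (LinearMap.toMatrix' φ) = φ := Matrix.toLin'_toMatrix' φ
  have h2 : (LinearMap.toMatrix' φ).det = LinearMap.det φ := LinearMap.det_toMatrix' φ
  have := cl_eq_ord (LinearMap.toMatrix' φ) (by rw [h2]; exact hφ)
  unfold cl clL at this
  rw [h1, h2] at this
  exact this

end Main

end Groth.Agent.Lib.Helper6.DetLen
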