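import Mathlib
import Groth.Agent.Lib.Helper6.DetLenLoc

set_option linter.unusedSectionVars false
set_option linter.unusedVariables false
set_option autoImplicit false
set_option maxHeartbeats 400000

noncomputable section

namespace Groth.Agent.Lib.Helper6.DetLen

open Matrix

universe u v

section Basis

variable {A : Type u} [CommRing A]
variable {ι : Type} [Fintype ι] [DecidableEq ι]
variable {P Q : Type v} [AddCommGroup P] [Module A P] [AddCommGroup Q] [Module A Q]

theorem length_coker_basis (bP : Module.Basis ι A P) (bQ : Module.Basis ι A Q) (L : P →ₗ[A] Q) :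
    Module.length A (Q ⧸ LinearMap.range L) = cl (LinearMap.toMatrix bP bQ L) := by
  unfold cl clL
  have h : (LinearMap.range L).map (bQ.equivFun : Q →ₗ[A] (ι → A)) =
      LinearMap.range (Matrix.toLin' (LinearMap.toMatrix bP bQ L)) := by
    ext x
    simp only [Submodule.mem_map, LinearMap.mem_range, exists_exists_eq_and]
    constructor
    · rintro ⟨p, rfl⟩
      refine ⟨bP.equivFun p, ?_⟩
      rw [Matrix.toLin'_apply]
      have := LinearMap.toMatrix_mulVec_repr bP bQ L p
      exact this
    · rintro ⟨v, rfl⟩
      refine ⟨bP.equivFun.symm v, ?_⟩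
      rw [Matrix.toLin'_apply]
      have := LinearMap.toMatrix_mulVec_repr bP bQ L (bP.equivFun.symm v)
      have h2 : (bP.repr (bP.equivFun.symm v) : ι → A) = v := by
        have := bP.equivFun.apply_symm_apply v
        exact this
      rw [h2] at this
      exact this.symm
  exact (Submodule.Quotient.equiv _ _ bQ.equivFun h).length_eq

end Basis

section DVR

variable {B : Type u} [CommRing B] [IsDomain B] [IsDiscreteValuationRing B]
variable {ι : Type} [Fintype ι] [DecidableEq ι]

theorem cl_eq_addVal (ψ : Matrix ι ι B) :
    cl ψ = IsDiscreteValuationRing.addVal B ψ.det := by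
  by_cases hd : ψ.det = 0
  · rw [hd, AddValuation.map_zero]
    by_contra hcl
    have := ord_ne_top_of_cl_ne_top ψ hcl
    rw [Ring.ord_eq_addVal, hd, AddValuation.map_zero] at this
    exact this rfl
  · rw [cl_eq_ord ψ (mem_nonZeroDivisors_of_ne_zero hd), Ring.ord_eq_addVal]

end DVR

end Groth.Agent.Lib.Helper6.DetLen
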