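import Mathlib

/-! The `F`-nilpotent part of a `V`-reduced module with finitely generated `M/VM` is killed by one
power of `F`. -/

set_option linter.unusedSectionVars false
set_option autoImplicit false
noncomputable section

namespace Groth.Agent.Lib.Helper6.DieudNil

universe u v

variable {W : Type u} [CommRing W] (σ : W →+* W) {M : Type v} [AddCommGroup M] [Module W M]
  (F V : M →+ M) (hF : ∀ (a : W) (m : M), F (a • m) = σ a • F m)

include hF in
lemma iter_smul (n : ℕ) (a : W) (m : M) : (⇑F)^[n] (a • m) = ((⇑σ)^[n] a) • (⇑F)^[n] m := by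
  induction n generalizing a m with
  | zero => rfl
  | succ n ih =>
    rw [Function.iterate_succ_apply, Function.iterate_succ_apply, Function.iterate_succ_apply,
      hF, ih]

lemma iter_add (n : ℕ) (a b : M) : (⇑F)^[n] (a + b) = (⇑F)^[n] a + (⇑F)^[n] b := by
  induction n generalizing a b with
  | zero => rfl
  | succ n ih =>
    rw [Function.iterate_succ_apply, Function.iterate_succ_apply, Function.iterate_succ_apply,
      map_add, ih]

lemma iter_zero (n : ℕ) : (⇑F)^[n] (0 : M) = 0 := by
  induction n with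
  | zero => rfl
  | succ n ih => rw [Function.iterate_succ_apply, map_zero, ih]

lemma iter_sub (n : ℕ) (a b : M) : (⇑F)^[n] (a - b) = (⇑F)^[n] a - (⇑F)^[n] b := by
  induction n generalizing a b with
  | zero => rfl
  | succ n ih =>
    rw [Function.iterate_succ_apply, Function.iterate_succ_apply, Function.iterate_succ_apply,
      map_sub, ih]

/-- kernel of `F^n` -/
def K (n : ℕ) : Submodule W M where
  carrier := {m | (⇑F)^[n] m = 0}
  add_mem' := by
    intro a b ha hb
    show (⇑F)^[n] (a + b) = 0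
    rw [iter_add, ha, hb, add_zero]
  zero_mem' := iter_zero F n
  smul_mem' := by
    intro c x hx
    show (⇑F)^[n] (c • x) = 0
    rw [iter_smul σ F hF, hx, smul_zero]

lemma mem_K {n : ℕ} {m : M} : m ∈ K σ F hF n ↔ (⇑F)^[n] m = 0 := Iff.rfl

lemma K_mono : Monotone (K σ F hF) := by
  refine monotone_nat_of_le_succ fun n m hm => ?_
  rw [mem_K] at hm ⊢
  rw [Function.iterate_succ_apply', hm, map_zero]

variable (hcomm : ∀ m : M, F (V m) = V (F m)) (hVinj : Function.Injective V)
  (hsep : ∀ x : M, (∀ n : ℕ, ∃ y : M, x = (⇑V)^[n] y) → x = 0)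
  (hVsm : ∀ (a : W) (m : M), ∃ m' : M, a • V m = V m')

include hcomm in
lemma iter_comm (n : ℕ) (m : M) : (⇑F)^[n] (V m) = V ((⇑F)^[n] m) := by
  induction n generalizing m with
  | zero => rfl
  | succ n ih =>
    rw [Function.iterate_succ_apply, Function.iterate_succ_apply, hcomm, ih]

include hVsm in
lemma span_range_V (x : M) (hx : x ∈ Submodule.span W (Set.range V)) : ∃ z, x = V z := by
  induction hx using Submodule.span_induction with
  | mem x hx =>
    obtain ⟨z, rfl⟩ := hx
    exact ⟨z, rfl⟩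
  | zero => exact ⟨0, (map_zero V).symm⟩
  | add a b _ _ ha hb =>
    obtain ⟨z1, rfl⟩ := ha
    obtain ⟨z2, rfl⟩ := hb
    exact ⟨z1 + z2, (map_add V _ _).symm⟩
  | smul r a _ ha =>
    obtain ⟨z, rfl⟩ := ha
    exact hVsm r z

include hcomm hVinj hsep hVsm in
theorem K_succ_eq (i : ℕ)
    (h : K σ F hF (i + 1) ≤ K σ F hF i ⊔ Submodule.span W (Set.range V)) :
    K σ F hF (i + 1) = K σ F hF i := by
  apply le_antisymm _ (K_mono σ F hF (Nat.le_succ i))
  -- T = F^i K_{i+1}
  have hstep : ∀ x ∈ K σ F hF (i + 1), ∃ z ∈ K σ F hF (i + 1),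
      (⇑F)^[i] x = V ((⇑F)^[i] z) := by
    intro x hx
    obtain ⟨y, hy, w, hw, hxy⟩ := Submodule.mem_sup.1 (h hx)
    obtain ⟨z, rfl⟩ := span_range_V V hVsm w hw
    have hz : z ∈ K σ F hF (i + 1) := by
      have h1 : V z ∈ K σ F hF (i + 1) := by
        have : V z = x - y := by rw [← hxy]; abel
        rw [this]
        exact Submodule.sub_mem _ hx (K_mono σ F hF (Nat.le_succ i) hy)
      rw [mem_K, iter_comm F V hcomm] at h1
      rw [mem_K]
      exact hVinj (h1.trans (map_zero V).symm)
    refine ⟨z, hz, ?_⟩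
    rw [← hxy, iter_add, (mem_K σ F hF).1 hy, zero_add, iter_comm F V hcomm]
  have hiter : ∀ n : ℕ, ∀ x ∈ K σ F hF (i + 1), ∃ z ∈ K σ F hF (i + 1),
      (⇑F)^[i] x = (⇑V)^[n] ((⇑F)^[i] z) := by
    intro n
    induction n with
    | zero => exact fun x hx => ⟨x, hx, rfl⟩
    | succ n ih =>
      intro x hx
      obtain ⟨z, hz, hxz⟩ := hstep x hx
      obtain ⟨z', hz', hzz'⟩ := ih z hz
      refine ⟨z', hz', ?_⟩
      rw [hxz, hzz', Function.iterate_succ_apply']
  intro x hx
  rw [mem_K]
  refine hsep _ fun n => ?_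
  obtain ⟨z, _, hz⟩ := hiter n x hx
  exact ⟨_, hz⟩

include hF hcomm hVinj hsep hVsm in
theorem exists_bound [IsNoetherian W (M ⧸ Submodule.span W (Set.range V))] :
    ∃ c : ℕ, ∀ x : M, (∃ n : ℕ, (⇑F)^[n] x = 0) → (⇑F)^[c] x = 0 := by
  obtain ⟨c, hc⟩ := monotone_stabilizes_iff_noetherian.2 ‹_›
    ⟨fun i => (K σ F hF i).map (Submodule.span W (Set.range V)).mkQ,
      fun a b hab => Submodule.map_mono (K_mono σ F hF hab)⟩
  have h1 : K σ F hF (c + 1) = K σ F hF c := by
    apply K_succ_eq σ F V hF hcomm hVinj hsep hVsm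
    intro x hx
    have h2 : (Submodule.span W (Set.range V)).mkQ x ∈
        (K σ F hF c).map (Submodule.span W (Set.range V)).mkQ := by
      have := hc (c + 1) (Nat.le_succ c)
      simp only [OrderHom.coe_mk] at this
      rw [this]
      exact Submodule.mem_map_of_mem hx
    obtain ⟨y, hy, hyx⟩ := h2
    have h3 : x - y ∈ Submodule.span W (Set.range V) := by
      rw [← Submodule.Quotient.mk_eq_zero, Submodule.Quotient.mk_sub, sub_eq_zero]
      exact hyx.symm
    rw [Submodule.mem_sup]
    exact ⟨y, hy, x - y, h3, by abel⟩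
  have h2 : ∀ n, K σ F hF (c + n) = K σ F hF c := by
    intro n
    induction n with
    | zero => rfl
    | succ n ih =>
      apply le_antisymm _ (K_mono σ F hF (by omega))
      intro x hx
      have h3 : F x ∈ K σ F hF (c + n) := by
        rw [mem_K, ← Function.iterate_succ_apply]
        exact hx
      rw [ih] at h3
      have h4 : x ∈ K σ F hF (c + 1) := by
        rw [mem_K, Function.iterate_succ_apply]
        exact h3
      rw [h1] at h4
      exact h4
  refine ⟨c, fun x ⟨n, hn⟩ => ?_⟩
  have h3 : x ∈ K σ F hF (c + n) := K_mono σ F hF (by omega : n ≤ c + n) hn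
  rw [h2] at h3
  exact h3

end Groth.Agent.Lib.Helper6.DieudNil
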