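import Mathlib
import Groth.Prelude.Def_DiffOp
import Groth.Agent.Lib.Helper3.DiffOp

/-!
# Differential operators: the two-sided action of `A ⊗[R] B` on `Hom_R(M, N)` and
base change along a formally étale map.
-/

set_option linter.unusedSectionVars false
set_option autoImplicit false
set_option maxHeartbeats 400000

noncomputable section

namespace Groth.Agent.Helper6.DiffBC

open Diff16 TensorProduct Groth.Agent.Helper3.DiffOp

universe u

section Ev

variable (R A B : Type u) [CommRing R] [CommRing A] [CommRing B] [Algebra R A] [Algebra R B]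
  [Algebra B A] [IsScalarTower R B A]
variable (M N : Type u) [AddCommGroup M] [Module R M] [Module B M] [IsScalarTower R B M]
  [AddCommGroup N] [Module R N] [Module A N] [Module B N] [IsScalarTower R A N]
  [IsScalarTower R B N] [IsScalarTower B A N]

/-- precomposition with the scalar `b`. -/
def rcLin (b : B) : (M →ₗ[R] N) →ₗ[R] (M →ₗ[R] N) where
  toFun E := E ∘ₗ ((LinearMap.lsmul B M b).restrictScalars R)
  map_add' E E' := by ext m; simp
  map_smul' r E := by ext m; simp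

lemma rcLin_apply (b : B) (E : M →ₗ[R] N) (m : M) : rcLin R B M N b E m = E (b • m) := rfl

/-- postcomposition with the scalar `a`. -/
def lcLin (a : A) : (M →ₗ[R] N) →ₗ[R] (M →ₗ[R] N) where
  toFun E := ((LinearMap.lsmul A N a).restrictScalars R) ∘ₗ E
  map_add' E E' := by ext m; simp
  map_smul' r E := by
    ext m
    show a • (r • E m) = r • (a • E m)
    exact smul_comm a r (E m)

lemma lcLin_apply (a : A) (E : M →ₗ[R] N) (m : M) : lcLin R A M N a E m = a • E m := rfl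

def rc : B →ₐ[R] Module.End R (M →ₗ[R] N) :=
  AlgHom.ofLinearMap
    { toFun := rcLin R B M N
      map_add' := fun b b' => by ext E m; simp [rcLin_apply, add_smul]
      map_smul' := fun r b => by ext E m; simp [rcLin_apply] }
    (by ext E m; simp [rcLin_apply])
    (fun b b' => by ext E m; simp [rcLin_apply, mul_smul, smul_comm b b' m])

def lc : A →ₐ[R] Module.End R (M →ₗ[R] N) :=
  AlgHom.ofLinearMap
    { toFun := lcLin R A M N
      map_add' := fun a a' => by ext E m; simp [lcLin_apply, add_smul]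
      map_smul' := fun r a => by ext E m; simp [lcLin_apply] }
    (by ext E m; simp [lcLin_apply])
    (fun a a' => by ext E m; simp [lcLin_apply, mul_smul])

lemma rc_apply (b : B) (E : M →ₗ[R] N) (m : M) : rc R B M N b E m = E (b • m) := rfl
lemma lc_apply (a : A) (E : M →ₗ[R] N) (m : M) : lc R A M N a E m = a • E m := rfl

/-- The two-sided action of `A ⊗[R] B` on `Hom_R(M,N)`. -/
def ev : A ⊗[R] B →ₐ[R] Module.End R (M →ₗ[R] N) :=
  Algebra.TensorProduct.lift (lc R A M N) (rc R B M N) (fun a b => by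
    ext E m
    simp [lc_apply, rc_apply])

lemma ev_tmul (a : A) (b : B) (E : M →ₗ[R] N) (m : M) :
    ev R A B M N (a ⊗ₜ b) E m = a • E (b • m) := by
  simp [ev, lc_apply, rc_apply]

/-- the generators of the diagonal ideal. -/
def dl (b : B) : A ⊗[R] B := (1 : A) ⊗ₜ[R] b - (algebraMap B A b) ⊗ₜ[R] (1 : B)

lemma ev_dl (b : B) (E : M →ₗ[R] N) :
    ev R A B M N (dl R A B b) E = commutator R B M N E b := by
  ext m
  simp [dl, ev_tmul, commutator_apply]

/-- the multiplication map `A ⊗[R] B → A`. -/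
def mu : A ⊗[R] B →ₐ[R] A :=
  Algebra.TensorProduct.productMap (AlgHom.id R A) (IsScalarTower.toAlgHom R B A)

lemma mu_tmul (a : A) (b : B) : mu R A B (a ⊗ₜ b) = a * algebraMap B A b := by
  simp [mu]

/-- the diagonal ideal. -/
def JJ : Ideal (A ⊗[R] B) := RingHom.ker (mu R A B)

lemma dl_mem_JJ (b : B) : dl R A B b ∈ JJ R A B := by
  simp [JJ, RingHom.mem_ker, dl, mu_tmul]

lemma sub_mu_mem (t : A ⊗[R] B) :
    t - (mu R A B t) ⊗ₜ[R] (1 : B) ∈ Ideal.span (Set.range (dl R A B)) := by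
  induction t using TensorProduct.induction_on with
  | zero => simp
  | tmul a b =>
    have : a ⊗ₜ[R] b - (mu R A B (a ⊗ₜ b)) ⊗ₜ[R] (1 : B) = (a ⊗ₜ[R] (1 : B)) * dl R A B b := by
      rw [mu_tmul, dl, mul_sub, Algebra.TensorProduct.tmul_mul_tmul,
        Algebra.TensorProduct.tmul_mul_tmul, mul_one, one_mul, one_mul]
    rw [this]
    exact Ideal.mul_mem_left _ _ (Ideal.subset_span ⟨b, rfl⟩)
  | add x y hx hy =>
    have : x + y - (mu R A B (x + y)) ⊗ₜ[R] (1 : B) =
        (x - (mu R A B x) ⊗ₜ[R] (1 : B)) + (y - (mu R A B y) ⊗ₜ[R] (1 : B)) := by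
      rw [map_add, add_tmul]; abel
    rw [this]
    exact Ideal.add_mem _ hx hy

lemma JJ_eq_span : JJ R A B = Ideal.span (Set.range (dl R A B)) := by
  apply le_antisymm
  · intro t ht
    have h := sub_mu_mem R A B t
    have h0 : mu R A B t = 0 := ht
    rw [h0, zero_tmul, sub_zero] at h
    exact h
  · rw [Ideal.span_le]
    rintro _ ⟨b, rfl⟩
    exact dl_mem_JJ R A B b

variable {M N}

/-- the annihilator of `E` for the two-sided action. -/
def annE (E : M →ₗ[R] N) : Ideal (A ⊗[R] B) where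
  carrier := {t | ev R A B M N t E = 0}
  add_mem' := fun {s t} hs ht => by
    simp only [Set.mem_ofPred_eq] at hs ht ⊢
    rw [map_add, LinearMap.add_apply, hs, ht, add_zero]
  zero_mem' := by simp
  smul_mem' := fun c t ht => by
    simp only [Set.mem_ofPred_eq] at ht ⊢
    rw [smul_eq_mul, map_mul, Module.End.mul_apply, ht, map_zero]

lemma mem_annE (E : M →ₗ[R] N) (t : A ⊗[R] B) : t ∈ annE R A B E ↔ ev R A B M N t E = 0 :=
  Iff.rfl

lemma mem_annE_commutator (E : M →ₗ[R] N) (b : B) (t : A ⊗[R] B) :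
    t ∈ annE R A B (commutator R B M N E b) ↔ t * dl R A B b ∈ annE R A B E := by
  rw [mem_annE, mem_annE, map_mul, Module.End.mul_apply, ev_dl]

theorem isDiffOpLE_iff_le_annE (k : ℕ) : ∀ (E : M →ₗ[R] N),
    IsDiffOpLE R B M N k E ↔ (JJ R A B) ^ (k + 1) ≤ annE R A B E := by
  induction k with
  | zero =>
    intro E
    rw [zero_add, pow_one, JJ_eq_span, Ideal.span_le]
    constructor
    · rintro h _ ⟨b, rfl⟩
      show ev R A B M N (dl R A B b) E = 0
      rw [ev_dl]
      exact commutator_eq_zero_of_isDiffOpLE_zero h b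
    · intro h b m
      have h1 : ev R A B M N (dl R A B b) E = 0 := h ⟨b, rfl⟩
      rw [ev_dl] at h1
      have h2 := LinearMap.congr_fun h1 m
      rw [commutator_apply, LinearMap.zero_apply] at h2
      exact sub_eq_zero.mp h2
  | succ k ih =>
    intro E
    rw [isDiffOpLE_succ_iff, pow_succ]
    constructor
    · intro h
      rw [Ideal.mul_le]
      intro r hr s hs
      rw [JJ_eq_span] at hs
      induction hs using Submodule.span_induction with
      | mem s hs =>
        obtain ⟨b, rfl⟩ := hs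
        rw [← mem_annE_commutator]
        exact (ih _).mp (h b) hr
      | zero => simp
      | add s₁ s₂ _ _ h₁ h₂ => rw [mul_add]; exact Ideal.add_mem _ h₁ h₂
      | smul c s _ hs' =>
        rw [smul_eq_mul, mul_left_comm]
        exact Ideal.mul_mem_left _ _ hs'
    · intro h b
      rw [ih]
      intro r hr
      rw [mem_annE_commutator]
      exact h (Ideal.mul_mem_mul hr (dl_mem_JJ R A B b))

end Ev

section Exist

variable (R S S' : Type u) [CommRing R] [CommRing S] [CommRing S'] [Algebra R S] [Algebra R S']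
  [Algebra S S'] [IsScalarTower R S S']

/-- `(S' ⊗[R] S) / J^(k+1)`, wrapped so that it only carries the right `S`-algebra structure. -/
def QQ (k : ℕ) : Type u := (S' ⊗[R] S) ⧸ (JJ R S' S) ^ (k + 1)

instance (k : ℕ) : CommRing (QQ R S S' k) := by unfold QQ; infer_instance

def qmk (k : ℕ) : S' ⊗[R] S →+* QQ R S S' k := Ideal.Quotient.mk _

lemma qmk_surjective (k : ℕ) : Function.Surjective (qmk R S S' k) := Ideal.Quotient.mk_surjective

lemma qmk_eq_zero_iff (k : ℕ) (t : S' ⊗[R] S) :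
    qmk R S S' k t = 0 ↔ t ∈ (JJ R S' S) ^ (k + 1) := Ideal.Quotient.eq_zero_iff_mem

instance (k : ℕ) : Algebra S (QQ R S S' k) :=
  ((qmk R S S' k).comp
    (Algebra.TensorProduct.includeRight : S →ₐ[R] S' ⊗[R] S).toRingHom).toAlgebra

lemma algebraMap_QQ (k : ℕ) (s : S) :
    algebraMap S (QQ R S S' k) s = qmk R S S' k ((1 : S') ⊗ₜ[R] s) := rfl

def qpiRing (k : ℕ) : QQ R S S' k →+* S' :=
  Ideal.Quotient.lift ((JJ R S' S) ^ (k + 1)) (mu R S' S).toRingHom (fun a ha => by
    have h : a ∈ JJ R S' S := Ideal.pow_le_self (by omega) ha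
    exact h)

lemma qpiRing_mk (k : ℕ) (t : S' ⊗[R] S) :
    qpiRing R S S' k (qmk R S S' k t) = mu R S' S t := rfl

def qpi (k : ℕ) : QQ R S S' k →ₐ[S] S' :=
  { qpiRing R S S' k with
    commutes' := fun s => by
      show qpiRing R S S' k (algebraMap S (QQ R S S' k) s) = _
      rw [algebraMap_QQ, qpiRing_mk, mu_tmul, one_mul] }

lemma qpi_mk (k : ℕ) (t : S' ⊗[R] S) :
    qpi R S S' k (qmk R S S' k t) = mu R S' S t := rfl

lemma qpi_surjective (k : ℕ) : Function.Surjective (qpi R S S' k) := by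
  intro b
  refine ⟨qmk R S S' k (b ⊗ₜ[R] (1 : S)), ?_⟩
  rw [qpi_mk, mu_tmul, map_one, mul_one]

lemma ker_qpi_le (k : ℕ) :
    RingHom.ker (qpi R S S' k : QQ R S S' k →+* S') ≤ Ideal.map (qmk R S S' k) (JJ R S' S) := by
  intro x hx
  obtain ⟨t, rfl⟩ := qmk_surjective R S S' k x
  have h : mu R S' S t = 0 := hx
  exact Ideal.mem_map_of_mem _ h

lemma ker_qpi_pow (k : ℕ) :
    (RingHom.ker (qpi R S S' k : QQ R S S' k →+* S')) ^ (k + 1) = ⊥ := by
  rw [eq_bot_iff]
  refine (Ideal.pow_right_mono (ker_qpi_le R S S' k) (k + 1)).trans ?_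
  rw [← Ideal.map_pow]
  intro x hx
  have h2 : Ideal.map (qmk R S S' k) ((JJ R S' S) ^ (k + 1)) = ⊥ := by
    unfold qmk
    exact Ideal.map_quotient_self _
  rw [h2] at hx
  exact hx

variable [Algebra.FormallySmooth S S']

/-- the lift of the identity given by formal smoothness. -/
def psi (k : ℕ) : S' →ₐ[S] QQ R S S' k :=
  Algebra.FormallySmooth.liftOfSurjective (AlgHom.id S S') (qpi R S S' k) (qpi_surjective R S S' k)
    ⟨k + 1, ker_qpi_pow R S S' k⟩

lemma qpi_psi (k : ℕ) (b : S') : qpi R S S' k (psi R S S' k b) = b :=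
  Algebra.FormallySmooth.liftOfSurjective_apply (AlgHom.id S S') (qpi R S S' k)
    (qpi_surjective R S S' k) ⟨k + 1, ker_qpi_pow R S S' k⟩ b

lemma theta_mem (k : ℕ) (b : S') :
    psi R S S' k b - qmk R S S' k (b ⊗ₜ[R] (1 : S)) ∈
      RingHom.ker (qpi R S S' k : QQ R S S' k →+* S') := by
  rw [RingHom.mem_ker]
  show qpi R S S' k (psi R S S' k b - qmk R S S' k (b ⊗ₜ[R] (1 : S))) = 0
  rw [map_sub, qpi_psi, qpi_mk, mu_tmul, map_one, mul_one, sub_self]

variable {R S S'}
variable {M N' : Type u} [AddCommGroup M] [Module R M] [Module S M] [IsScalarTower R S M]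
  [AddCommGroup N'] [Module R N'] [Module S' N'] [Module S N'] [IsScalarTower R S' N']
  [IsScalarTower R S N'] [IsScalarTower S S' N']

/-- the action of the class `q` on `D₀` (through an arbitrary representative). -/
def KK (k : ℕ) (D₀ : M →ₗ[R] N') (q : QQ R S S' k) : M →ₗ[R] N' :=
  ev R S' S M N' (qmk_surjective R S S' k q).choose D₀

lemma KK_mk {k : ℕ} {D₀ : M →ₗ[R] N'} (hD₀ : IsDiffOpLE R S M N' k D₀) (t : S' ⊗[R] S) :
    KK k D₀ (qmk R S S' k t) = ev R S' S M N' t D₀ := by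
  unfold KK
  set t' := (qmk_surjective R S S' k (qmk R S S' k t)).choose with ht'
  have h1 : qmk R S S' k t' = qmk R S S' k t :=
    (qmk_surjective R S S' k (qmk R S S' k t)).choose_spec
  have h2 : t' - t ∈ (JJ R S' S) ^ (k + 1) := by
    rw [← qmk_eq_zero_iff, map_sub, h1, sub_self]
  have h3 : ev R S' S M N' (t' - t) D₀ = 0 :=
    ((isDiffOpLE_iff_le_annE R S' S k D₀).mp hD₀) h2
  rw [map_sub, LinearMap.sub_apply, sub_eq_zero] at h3
  exact h3

lemma KK_add {k : ℕ} {D₀ : M →ₗ[R] N'} (hD₀ : IsDiffOpLE R S M N' k D₀) (q q' : QQ R S S' k) :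
    KK k D₀ (q + q') = KK k D₀ q + KK k D₀ q' := by
  obtain ⟨t, rfl⟩ := qmk_surjective R S S' k q
  obtain ⟨t', rfl⟩ := qmk_surjective R S S' k q'
  rw [← map_add, KK_mk hD₀, KK_mk hD₀, KK_mk hD₀, map_add, LinearMap.add_apply]

lemma KK_sub {k : ℕ} {D₀ : M →ₗ[R] N'} (hD₀ : IsDiffOpLE R S M N' k D₀) (q q' : QQ R S S' k) :
    KK k D₀ (q - q') = KK k D₀ q - KK k D₀ q' := by
  obtain ⟨t, rfl⟩ := qmk_surjective R S S' k q
  obtain ⟨t', rfl⟩ := qmk_surjective R S S' k q'
  rw [← map_sub, KK_mk hD₀, KK_mk hD₀, KK_mk hD₀, map_sub, LinearMap.sub_apply]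

lemma KK_zero {k : ℕ} {D₀ : M →ₗ[R] N'} (hD₀ : IsDiffOpLE R S M N' k D₀) :
    KK k D₀ (0 : QQ R S S' k) = 0 := by
  have := KK_mk hD₀ (0 : S' ⊗[R] S)
  rw [map_zero, map_zero, LinearMap.zero_apply] at this
  exact this

lemma KK_one {k : ℕ} {D₀ : M →ₗ[R] N'} (hD₀ : IsDiffOpLE R S M N' k D₀) :
    KK k D₀ (1 : QQ R S S' k) = D₀ := by
  have := KK_mk hD₀ (1 : S' ⊗[R] S)
  rw [map_one, map_one, Module.End.one_apply] at this
  exact this

lemma KK_mk_mul {k : ℕ} {D₀ : M →ₗ[R] N'} (hD₀ : IsDiffOpLE R S M N' k D₀) (t : S' ⊗[R] S)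
    (q : QQ R S S' k) :
    KK k D₀ (qmk R S S' k t * q) = ev R S' S M N' t (KK k D₀ q) := by
  obtain ⟨t', rfl⟩ := qmk_surjective R S S' k q
  rw [← map_mul, KK_mk hD₀, KK_mk hD₀, map_mul, Module.End.mul_apply]

lemma KK_smulRight {k : ℕ} {D₀ : M →ₗ[R] N'} (hD₀ : IsDiffOpLE R S M N' k D₀) (s : S)
    (q : QQ R S S' k) (m : M) :
    KK k D₀ (algebraMap S (QQ R S S' k) s * q) m = KK k D₀ q (s • m) := by
  rw [algebraMap_QQ, KK_mk_mul hD₀, ev_tmul, one_smul]

lemma KK_smulLeft {k : ℕ} {D₀ : M →ₗ[R] N'} (hD₀ : IsDiffOpLE R S M N' k D₀) (b : S')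
    (q : QQ R S S' k) (m : M) :
    KK k D₀ (qmk R S S' k (b ⊗ₜ[R] (1 : S)) * q) m = b • KK k D₀ q m := by
  rw [KK_mk_mul hD₀, ev_tmul, one_smul]

/-- the additive bi-map underlying `Dq`. -/
def DqAdd {k : ℕ} {D₀ : M →ₗ[R] N'} (hD₀ : IsDiffOpLE R S M N' k D₀) (q : QQ R S S' k) :
    S' →+ M →+ N' where
  toFun a := (KK k D₀ (q * psi R S S' k a)).toAddMonoidHom
  map_zero' := by
    ext m
    simp [KK_zero hD₀]
  map_add' a a' := by
    ext m
    simp [mul_add, KK_add hD₀]

lemma DqAdd_apply {k : ℕ} {D₀ : M →ₗ[R] N'} (hD₀ : IsDiffOpLE R S M N' k D₀) (q : QQ R S S' k)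
    (a : S') (m : M) : DqAdd hD₀ q a m = KK k D₀ (q * psi R S S' k a) m := rfl

lemma DqAdd_balanced {k : ℕ} {D₀ : M →ₗ[R] N'} (hD₀ : IsDiffOpLE R S M N' k D₀)
    (q : QQ R S S' k) (s : S) (a : S') (m : M) :
    DqAdd hD₀ q (s • a) m = DqAdd hD₀ q a (s • m) := by
  rw [DqAdd_apply, DqAdd_apply, map_smul, Algebra.smul_def, mul_left_comm, KK_smulRight hD₀]

/-- the family of operators `a ⊗ m ↦ (q ψ(a) · D₀)(m)`. -/
def Dq {k : ℕ} {D₀ : M →ₗ[R] N'} (hD₀ : IsDiffOpLE R S M N' k D₀) (q : QQ R S S' k) :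
    S' ⊗[S] M →ₗ[R] N' where
  toFun := TensorProduct.liftAddHom (DqAdd hD₀ q) (DqAdd_balanced hD₀ q)
  map_add' := map_add _
  map_smul' r x := by
    induction x using TensorProduct.induction_on with
    | zero => simp
    | tmul a m =>
      rw [TensorProduct.smul_tmul', RingHom.id_apply, TensorProduct.liftAddHom_tmul,
        TensorProduct.liftAddHom_tmul, ← algebraMap_smul S r a, DqAdd_balanced, algebraMap_smul,
        DqAdd_apply, DqAdd_apply, map_smul]
    | add x y hx hy => simp only [smul_add, map_add, hx, hy]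

lemma Dq_tmul {k : ℕ} {D₀ : M →ₗ[R] N'} (hD₀ : IsDiffOpLE R S M N' k D₀) (q : QQ R S S' k)
    (a : S') (m : M) : Dq hD₀ q (a ⊗ₜ[S] m) = KK k D₀ (q * psi R S S' k a) m := rfl

lemma Dq_zero {k : ℕ} {D₀ : M →ₗ[R] N'} (hD₀ : IsDiffOpLE R S M N' k D₀) :
    Dq hD₀ (0 : QQ R S S' k) = 0 := by
  ext x
  induction x using TensorProduct.induction_on with
  | zero => simp
  | tmul a m => rw [Dq_tmul, zero_mul, KK_zero hD₀]; rfl
  | add x y hx hy => rw [map_add, hx, hy]; simp

lemma commutator_Dq {k : ℕ} {D₀ : M →ₗ[R] N'} (hD₀ : IsDiffOpLE R S M N' k D₀)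
    (q : QQ R S S' k) (b : S') :
    commutator R S' (S' ⊗[S] M) N' (Dq hD₀ q) b =
      Dq hD₀ ((psi R S S' k b - qmk R S S' k (b ⊗ₜ[R] (1 : S))) * q) := by
  ext x
  induction x using TensorProduct.induction_on with
  | zero => simp
  | tmul a m =>
    have e1 : b • (a ⊗ₜ[S] m) = (b * a) ⊗ₜ[S] m := by
      rw [TensorProduct.smul_tmul', smul_eq_mul]
    have e2 : ((psi R S S' k b - qmk R S S' k (b ⊗ₜ[R] (1 : S))) * q) * psi R S S' k a =
        q * (psi R S S' k b * psi R S S' k a) -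
          qmk R S S' k (b ⊗ₜ[R] (1 : S)) * (q * psi R S S' k a) := by ring
    rw [commutator_apply, e1, Dq_tmul, Dq_tmul, Dq_tmul, map_mul, e2, KK_sub hD₀,
      LinearMap.sub_apply, KK_smulLeft hD₀]
  | add x y hx hy => rw [map_add, map_add, hx, hy]

lemma isDiffOpLE_zero_of_commutator {X Y : Type u} [AddCommGroup X] [Module R X] [Module S' X]
    [IsScalarTower R S' X] [AddCommGroup Y] [Module R Y] [Module S' Y] [IsScalarTower R S' Y]
    (E : X →ₗ[R] Y) (h : ∀ b : S', commutator R S' X Y E b = 0) : IsDiffOpLE R S' X Y 0 E := by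
  intro b x
  have h1 := LinearMap.congr_fun (h b) x
  rw [commutator_apply, LinearMap.zero_apply] at h1
  exact sub_eq_zero.mp h1

lemma isDiffOpLE_Dq {k : ℕ} {D₀ : M →ₗ[R] N'} (hD₀ : IsDiffOpLE R S M N' k D₀) :
    ∀ (j i : ℕ), i + j = k → ∀ q ∈ (RingHom.ker (qpi R S S' k : QQ R S S' k →+* S')) ^ i,
      IsDiffOpLE R S' (S' ⊗[S] M) N' j (Dq hD₀ q) := by
  intro j
  induction j with
  | zero =>
    intro i hi q hq
    apply isDiffOpLE_zero_of_commutator
    intro b
    rw [commutator_Dq]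
    have h1 : (psi R S S' k b - qmk R S S' k (b ⊗ₜ[R] (1 : S))) * q ∈
        (RingHom.ker (qpi R S S' k : QQ R S S' k →+* S')) ^ (k + 1) := by
      have hik : i = k := by omega
      subst hik
      rw [pow_succ']
      exact Ideal.mul_mem_mul (theta_mem R S S' i b) hq
    rw [ker_qpi_pow] at h1
    rw [(Ideal.mem_bot).mp h1, Dq_zero]
  | succ j ih =>
    intro i hi q hq b
    rw [commutator_Dq]
    apply ih (i + 1) (by omega)
    rw [pow_succ']
    exact Ideal.mul_mem_mul (theta_mem R S S' k b) hq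

theorem exists_extension {k : ℕ} {D₀ : M →ₗ[R] N'} (hD₀ : IsDiffOpLE R S M N' k D₀) :
    ∃ D' : S' ⊗[S] M →ₗ[R] N', IsDiffOpLE R S' (S' ⊗[S] M) N' k D' ∧
      ∀ m : M, D' ((1 : S') ⊗ₜ[S] m) = D₀ m := by
  refine ⟨Dq hD₀ 1, isDiffOpLE_Dq hD₀ k 0 (by omega) 1 (by simp), ?_⟩
  intro m
  rw [Dq_tmul, map_one, mul_one, KK_one hD₀]

end Exist

section Uniq

variable (R S S' : Type u) [CommRing R] [CommRing S] [CommRing S'] [Algebra R S] [Algebra R S']
  [Algebra S S'] [IsScalarTower R S S']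

/-- the ideal generated by the `1 ⊗ s - s ⊗ 1` with `s` coming from `S`. -/
def JS : Ideal (S' ⊗[R] S') :=
  Ideal.span (Set.range fun s : S => dl R S' S' (algebraMap S S' s))

lemma JS_le : JS R S S' ≤ JJ R S' S' := by
  unfold JS
  rw [Ideal.span_le]
  rintro _ ⟨s, rfl⟩
  exact dl_mem_JJ R S' S' _

/-- `(S' ⊗[R] S') / (JS + J^(n+1))`, wrapped. -/
def CC (n : ℕ) : Type u := (S' ⊗[R] S') ⧸ (JS R S S' ⊔ (JJ R S' S') ^ (n + 1))

instance (n : ℕ) : CommRing (CC R S S' n) := by unfold CC; infer_instance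

def cmk (n : ℕ) : S' ⊗[R] S' →+* CC R S S' n := Ideal.Quotient.mk _

lemma cmk_surjective (n : ℕ) : Function.Surjective (cmk R S S' n) := Ideal.Quotient.mk_surjective

lemma cmk_eq_zero_iff (n : ℕ) (t : S' ⊗[R] S') :
    cmk R S S' n t = 0 ↔ t ∈ JS R S S' ⊔ (JJ R S' S') ^ (n + 1) := Ideal.Quotient.eq_zero_iff_mem

def lamLRing (n : ℕ) : S' →+* CC R S S' n :=
  (cmk R S S' n).comp (Algebra.TensorProduct.includeLeft : S' →ₐ[R] S' ⊗[R] S').toRingHom

def lamRRing (n : ℕ) : S' →+* CC R S S' n :=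
  (cmk R S S' n).comp (Algebra.TensorProduct.includeRight : S' →ₐ[R] S' ⊗[R] S').toRingHom

lemma lamLRing_apply (n : ℕ) (b : S') : lamLRing R S S' n b = cmk R S S' n (b ⊗ₜ[R] (1 : S')) := rfl
lemma lamRRing_apply (n : ℕ) (b : S') : lamRRing R S S' n b = cmk R S S' n ((1 : S') ⊗ₜ[R] b) := rfl

instance (n : ℕ) : Algebra S (CC R S S' n) :=
  ((lamLRing R S S' n).comp (algebraMap S S')).toAlgebra

lemma algebraMap_CC (n : ℕ) (s : S) :
    algebraMap S (CC R S S' n) s = cmk R S S' n ((algebraMap S S' s) ⊗ₜ[R] (1 : S')) := rfl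

def lamL (n : ℕ) : S' →ₐ[S] CC R S S' n :=
  { lamLRing R S S' n with
    commutes' := fun s => rfl }

def lamR (n : ℕ) : S' →ₐ[S] CC R S S' n :=
  { lamRRing R S S' n with
    commutes' := fun s => by
      show lamRRing R S S' n (algebraMap S S' s) = algebraMap S (CC R S S' n) s
      rw [algebraMap_CC, lamRRing_apply, ← sub_eq_zero, ← map_sub, cmk_eq_zero_iff]
      refine Ideal.mem_sup_left (Ideal.subset_span ⟨s, ?_⟩)
      simp [dl] }

lemma lamL_apply (n : ℕ) (b : S') : lamL R S S' n b = cmk R S S' n (b ⊗ₜ[R] (1 : S')) := rfl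
lemma lamR_apply (n : ℕ) (b : S') : lamR R S S' n b = cmk R S S' n ((1 : S') ⊗ₜ[R] b) := rfl

def cpi (n : ℕ) : CC R S S' n →+* S' :=
  Ideal.Quotient.lift (JS R S S' ⊔ (JJ R S' S') ^ (n + 1)) (mu R S' S').toRingHom (fun a ha => by
    have h : a ∈ JJ R S' S' :=
      (sup_le (JS_le R S S') (Ideal.pow_le_self (by omega))) ha
    exact h)

lemma cpi_mk (n : ℕ) (t : S' ⊗[R] S') : cpi R S S' n (cmk R S S' n t) = mu R S' S' t := rfl

lemma ker_cpi_le (n : ℕ) :
    RingHom.ker (cpi R S S' n) ≤ Ideal.map (cmk R S S' n) (JJ R S' S') := by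
  intro x hx
  obtain ⟨t, rfl⟩ := cmk_surjective R S S' n x
  have h : mu R S' S' t = 0 := hx
  exact Ideal.mem_map_of_mem _ h

lemma ker_cpi_pow (n : ℕ) : (RingHom.ker (cpi R S S' n)) ^ (n + 1) = ⊥ := by
  rw [eq_bot_iff]
  refine (Ideal.pow_right_mono (ker_cpi_le R S S' n) (n + 1)).trans ?_
  rw [← Ideal.map_pow]
  intro x hx
  have h2 : Ideal.map (cmk R S S' n) (JS R S S' ⊔ (JJ R S' S') ^ (n + 1)) = ⊥ := by
    unfold cmk
    exact Ideal.map_quotient_self _
  have h3 : Ideal.map (cmk R S S' n) ((JJ R S' S') ^ (n + 1)) ≤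
      Ideal.map (cmk R S S' n) (JS R S S' ⊔ (JJ R S' S') ^ (n + 1)) :=
    Ideal.map_mono le_sup_right
  rw [h2] at h3
  exact h3 hx

theorem JJ_le_JS_sup [Algebra.FormallyUnramified S S'] (n : ℕ) :
    JJ R S' S' ≤ JS R S S' ⊔ (JJ R S' S') ^ (n + 1) := by
  have key : lamL R S S' n = lamR R S S' n := by
    apply Algebra.FormallyUnramified.ext' (cpi R S S' n) ⟨n + 1, ker_cpi_pow R S S' n⟩
    intro b
    rw [lamL_apply, lamR_apply, cpi_mk, cpi_mk, mu_tmul, mu_tmul]
    simp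
  refine (JJ_eq_span R S' S').le.trans ?_
  rw [Ideal.span_le]
  rintro _ ⟨b, rfl⟩
  show dl R S' S' b ∈ JS R S S' ⊔ (JJ R S' S') ^ (n + 1)
  rw [← cmk_eq_zero_iff]
  have h := AlgHom.congr_fun key b
  rw [lamL_apply, lamR_apply] at h
  simp only [dl, map_sub]
  rw [sub_eq_zero]
  simpa using h.symm

variable {R S S'}
variable {M N' : Type u} [AddCommGroup M] [Module R M] [Module S M] [IsScalarTower R S M]
  [AddCommGroup N'] [Module R N'] [Module S' N'] [IsScalarTower R S' N']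

lemma eq_zero_of_order_zero (D' : S' ⊗[S] M →ₗ[R] N')
    (hD' : IsDiffOpLE R S' (S' ⊗[S] M) N' 0 D') (hv : ∀ m : M, D' ((1 : S') ⊗ₜ[S] m) = 0) :
    D' = 0 := by
  ext x
  induction x using TensorProduct.induction_on with
  | zero => simp
  | tmul a m =>
    have e : a ⊗ₜ[S] m = a • ((1 : S') ⊗ₜ[S] m) := by
      rw [TensorProduct.smul_tmul', smul_eq_mul, mul_one]
    rw [e, hD' a, hv, smul_zero, LinearMap.zero_apply]
  | add x y hx hy => rw [map_add, hx, hy]; simp

theorem eq_zero_of_vanish [Algebra.FormallyUnramified S S'] (k : ℕ) :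
    ∀ (D' : S' ⊗[S] M →ₗ[R] N'), IsDiffOpLE R S' (S' ⊗[S] M) N' k D' →
      (∀ m : M, D' ((1 : S') ⊗ₜ[S] m) = 0) → D' = 0 := by
  induction k with
  | zero => exact eq_zero_of_order_zero
  | succ j ih =>
    intro D' hD' hv
    have hS : ∀ s : S, commutator R S' (S' ⊗[S] M) N' D' (algebraMap S S' s) = 0 := by
      intro s
      apply ih _ (hD' _)
      intro m
      have e : (algebraMap S S' s) • ((1 : S') ⊗ₜ[S] m) = (1 : S') ⊗ₜ[S] (s • m) := by
        rw [TensorProduct.smul_tmul', smul_eq_mul, mul_one, ← TensorProduct.smul_tmul,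
          Algebra.smul_def, mul_one]
      rw [commutator_apply, e, hv, hv, smul_zero, sub_zero]
    have h1 : (JJ R S' S') ^ (j + 1 + 1) ≤ annE R S' S' D' :=
      (isDiffOpLE_iff_le_annE R S' S' (j + 1) D').mp hD'
    have h2 : JS R S S' ≤ annE R S' S' D' := by
      unfold JS
      rw [Ideal.span_le]
      rintro _ ⟨s, rfl⟩
      show ev R S' S' (S' ⊗[S] M) N' (dl R S' S' (algebraMap S S' s)) D' = 0
      rw [ev_dl]
      exact hS s
    have h3 : JJ R S' S' ≤ annE R S' S' D' :=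
      (JJ_le_JS_sup R S S' (j + 1)).trans (sup_le h2 h1)
    have h4 : IsDiffOpLE R S' (S' ⊗[S] M) N' 0 D' := by
      rw [isDiffOpLE_iff_le_annE R S' S' 0 D', zero_add, pow_one]
      exact h3
    exact eq_zero_of_order_zero D' h4 hv

end Uniq

section Core

variable {R S S' : Type u} [CommRing R] [CommRing S] [CommRing S'] [Algebra R S] [Algebra R S']
  [Algebra S S'] [IsScalarTower R S S']

lemma isDiffOpLE_zero_restrictScalars {X Y : Type u} [AddCommGroup X] [Module R X] [Module S X]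
    [IsScalarTower R S X] [AddCommGroup Y] [Module R Y] [Module S Y] [IsScalarTower R S Y]
    (α : X →ₗ[S] Y) : IsDiffOpLE R S X Y 0 (α.restrictScalars R) := by
  intro b x
  simp

variable {M N' : Type u} [AddCommGroup M] [Module R M] [Module S M] [IsScalarTower R S M]
  [AddCommGroup N'] [Module R N'] [Module S' N'] [Module S N'] [IsScalarTower R S' N']
  [IsScalarTower R S N'] [IsScalarTower S S' N']

theorem existsUnique_extension [Algebra.FormallyEtale S S'] {k : ℕ} {D₀ : M →ₗ[R] N'}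
    (hD₀ : IsDiffOpLE R S M N' k D₀) :
    ∃! D' : S' ⊗[S] M →ₗ[R] N', IsDiffOpLE R S' (S' ⊗[S] M) N' k D' ∧
      ∀ m : M, D' ((1 : S') ⊗ₜ[S] m) = D₀ m := by
  obtain ⟨D', h1, h2⟩ := exists_extension (S' := S') hD₀
  refine ⟨D', ⟨h1, h2⟩, ?_⟩
  rintro D'' ⟨h1', h2'⟩
  have h := eq_zero_of_vanish k (D'' - D') (isDiffOpLE_sub h1' h1) (fun m => by
    rw [LinearMap.sub_apply, h2, h2', sub_self])
  exact sub_eq_zero.mp h

/-- restriction of scalars of the order condition along `S → S'`. -/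
lemma isDiffOpLE_restrict {X Y : Type u} [AddCommGroup X] [Module R X] [Module S X] [Module S' X]
    [IsScalarTower R S X] [IsScalarTower R S' X] [IsScalarTower S S' X]
    [AddCommGroup Y] [Module R Y] [Module S Y] [Module S' Y]
    [IsScalarTower R S Y] [IsScalarTower R S' Y] [IsScalarTower S S' Y] (k : ℕ) :
    ∀ (E : X →ₗ[R] Y), IsDiffOpLE R S' X Y k E → IsDiffOpLE R S X Y k E := by
  induction k with
  | zero =>
    intro E hE s x
    rw [← algebraMap_smul S' s x, hE, algebraMap_smul]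
  | succ k ih =>
    intro E hE s
    have : commutator R S X Y E s = commutator R S' X Y E (algebraMap S S' s) := by
      ext x
      rw [commutator_apply, commutator_apply, algebraMap_smul, algebraMap_smul]
    rw [this]
    exact ih _ (hE _)

theorem universal_baseChange [Algebra.FormallyEtale S S'] {M P : Type u}
    [AddCommGroup M] [Module S M] [Module R M] [IsScalarTower R S M]
    [AddCommGroup P] [Module S P] [Module R P] [IsScalarTower R S P] (k : ℕ) (Du : M →ₗ[R] P)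
    (huniv : ∀ (N : Type u) [AddCommGroup N] [Module S N] [Module R N] [IsScalarTower R S N]
      (D : M →ₗ[R] N), IsDiffOpLE R S M N k D → ∃! α : P →ₗ[S] N, α.restrictScalars R ∘ₗ Du = D)
    (Du' : S' ⊗[S] M →ₗ[R] S' ⊗[S] P) (hDu' : IsDiffOpLE R S' (S' ⊗[S] M) (S' ⊗[S] P) k Du')
    (hext : ∀ m : M, Du' ((1 : S') ⊗ₜ[S] m) = (1 : S') ⊗ₜ[S] Du m)
    {N' : Type u} [AddCommGroup N'] [Module S' N'] [Module R N'] [IsScalarTower R S' N']
    [Module S N'] [IsScalarTower S S' N'] [IsScalarTower R S N']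
    (D' : S' ⊗[S] M →ₗ[R] N') (hD' : IsDiffOpLE R S' (S' ⊗[S] M) N' k D') :
    ∃! α : S' ⊗[S] P →ₗ[S'] N', α.restrictScalars R ∘ₗ Du' = D' := by
  have hD'₀ : IsDiffOpLE R S M N' k (D' ∘ₗ (TensorProduct.mk S S' M 1).restrictScalars R) := by
    have h := isDiffOpLE_comp
      (isDiffOpLE_zero_restrictScalars (R := R) (TensorProduct.mk S S' M 1))
      (isDiffOpLE_restrict (S := S) k D' hD')
    rwa [zero_add] at h
  obtain ⟨α, hα, hαu⟩ := huniv N' _ hD'₀
  have hα' : ∀ m : M, α (Du m) = D' ((1 : S') ⊗ₜ[S] m) := fun m => LinearMap.congr_fun hα m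
  refine ⟨α.liftBaseChange S', ?_, ?_⟩
  · have hord : IsDiffOpLE R S' (S' ⊗[S] M) N' k
        ((α.liftBaseChange S').restrictScalars R ∘ₗ Du') :=
      isDiffOpLE_comp hDu' (isDiffOpLE_zero_restrictScalars (R := R) (α.liftBaseChange S'))
    have h := eq_zero_of_vanish k _ (isDiffOpLE_sub hord hD') (fun m => by
      rw [LinearMap.sub_apply, LinearMap.comp_apply, hext, LinearMap.restrictScalars_apply,
        LinearMap.liftBaseChange_tmul, one_smul, hα', sub_self])
    exact sub_eq_zero.mp h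
  · intro β hβ
    have hβ' : ∀ x, β (Du' x) = D' x := fun x => LinearMap.congr_fun hβ x
    have hγ : (β.restrictScalars S) ∘ₗ (TensorProduct.mk S S' P 1) = α := by
      apply hαu
      ext m
      show β ((1 : S') ⊗ₜ[S] Du m) = D' ((1 : S') ⊗ₜ[S] m)
      rw [← hext, hβ']
    refine LinearMap.ext fun x => ?_
    induction x using TensorProduct.induction_on with
    | zero => simp
    | tmul a p =>
      have e : a ⊗ₜ[S] p = a • ((1 : S') ⊗ₜ[S] p) := by
        rw [TensorProduct.smul_tmul', smul_eq_mul, mul_one]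
      rw [LinearMap.liftBaseChange_tmul, e, map_smul, ← hγ]
      rfl
    | add x y hx hy => rw [map_add, map_add, hx, hy]

theorem existsUnique_of_isBaseChange [Algebra.FormallyEtale S S'] {M M' N' : Type u}
    [AddCommGroup M] [Module R M] [Module S M] [IsScalarTower R S M]
    [AddCommGroup M'] [Module R M'] [Module S M'] [Module S' M'] [IsScalarTower R S M']
    [IsScalarTower R S' M'] [IsScalarTower S S' M']
    [AddCommGroup N'] [Module R N'] [Module S' N'] [Module S N'] [IsScalarTower R S' N']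
    [IsScalarTower R S N'] [IsScalarTower S S' N']
    (f : M →ₗ[S] M') (hf : IsBaseChange S' f) {k : ℕ} {D₀ : M →ₗ[R] N'}
    (hD₀ : IsDiffOpLE R S M N' k D₀) :
    ∃! E : M' →ₗ[R] N', IsDiffOpLE R S' M' N' k E ∧ ∀ m : M, E (f m) = D₀ m := by
  obtain ⟨D', ⟨h1, h2⟩, h3⟩ := existsUnique_extension (S' := S') hD₀
  have he : ∀ m : M, hf.equiv ((1 : S') ⊗ₜ[S] m) = f m := fun m => by
    rw [IsBaseChange.equiv_tmul, one_smul]
  have he' : ∀ m : M, hf.equiv.symm (f m) = (1 : S') ⊗ₜ[S] m := fun m => by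
    rw [← he, LinearEquiv.symm_apply_apply]
  refine ⟨D' ∘ₗ (hf.equiv.symm.toLinearMap.restrictScalars R), ⟨?_, ?_⟩, ?_⟩
  · have h := isDiffOpLE_comp
      (isDiffOpLE_zero_restrictScalars (R := R) hf.equiv.symm.toLinearMap) h1
    rwa [zero_add] at h
  · intro m
    rw [LinearMap.comp_apply, LinearMap.restrictScalars_apply, LinearEquiv.coe_coe, he', h2]
  · rintro E ⟨hE1, hE2⟩
    have h4 : E ∘ₗ (hf.equiv.toLinearMap.restrictScalars R) = D' := by
      apply h3
      refine ⟨?_, ?_⟩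
      · have h := isDiffOpLE_comp
          (isDiffOpLE_zero_restrictScalars (R := R) hf.equiv.toLinearMap) hE1
        rwa [zero_add] at h
      · intro m
        rw [LinearMap.comp_apply, LinearMap.restrictScalars_apply, LinearEquiv.coe_coe, he, hE2]
    rw [← h4]
    ext x
    simp

end Core

end Groth.Agent.Helper6.DiffBC
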