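import Mathlib
import Groth.Prelude.Def_DiffOp
import Groth.Agent.Lib.Helper3.DiffOp

/-!
# A universal differential operator of order `≤ k` out of a module.
-/

set_option linter.unusedSectionVars false
set_option autoImplicit false
set_option maxHeartbeats 400000

noncomputable section

namespace Groth.Agent.Helper6.DiffUniv

open Diff16 TensorProduct Groth.Agent.Helper3.DiffOp

universe u

variable (R S : Type u) [CommRing R] [CommRing S] [Algebra R S]
variable (M : Type u) [AddCommGroup M] [Module S M] [Module R M] [IsScalarTower R S M]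

lemma linearize_tmul' {N : Type u} [AddCommGroup N] [Module S N] [Module R N] [IsScalarTower R S N]
    (D : M →ₗ[R] N) (s : S) (m : M) : linearize R S M N D (s ⊗ₜ[R] m) = s • D m := by
  simp [linearize]

lemma linearize_smul {N : Type u} [AddCommGroup N] [Module S N] [Module R N] [IsScalarTower R S N]
    (D : M →ₗ[R] N) (s : S) (x : S ⊗[R] M) :
    linearize R S M N D (s • x) = s • linearize R S M N D x := by
  induction x using TensorProduct.induction_on with
  | zero => simp
  | tmul a m =>
    rw [TensorProduct.smul_tmul', linearize_tmul', linearize_tmul', smul_eq_mul, mul_smul]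
  | add x y hx hy => rw [smul_add, map_add, map_add, hx, hy, smul_add]

/-- the `S`-linear version of `linearize`. -/
def linS {N : Type u} [AddCommGroup N] [Module S N] [Module R N] [IsScalarTower R S N]
    (D : M →ₗ[R] N) : S ⊗[R] M →ₗ[S] N where
  toFun := linearize R S M N D
  map_add' := map_add _
  map_smul' := linearize_smul R S M D

lemma linS_apply {N : Type u} [AddCommGroup N] [Module S N] [Module R N] [IsScalarTower R S N]
    (D : M →ₗ[R] N) (x : S ⊗[R] M) : linS R S M D x = linearize R S M N D x := rfl

/-- the common kernel of the linearisations of all operators of order `≤ k`. -/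
def KU (k : ℕ) : Submodule S (S ⊗[R] M) where
  carrier := {x | ∀ (N : Type u) [AddCommGroup N] [Module S N] [Module R N] [IsScalarTower R S N]
    (D : M →ₗ[R] N), IsDiffOpLE R S M N k D → linearize R S M N D x = 0}
  add_mem' := fun {x y} hx hy N _ _ _ _ D hD => by
    rw [map_add, hx N D hD, hy N D hD, add_zero]
  zero_mem' := fun N _ _ _ _ D _ => map_zero _
  smul_mem' := fun s x hx N _ _ _ _ D hD => by
    rw [linearize_smul, hx N D hD, smul_zero]

lemma mem_KU (k : ℕ) (x : S ⊗[R] M) : x ∈ KU R S M k ↔
    ∀ (N : Type u) [AddCommGroup N] [Module S N] [Module R N] [IsScalarTower R S N]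
      (D : M →ₗ[R] N), IsDiffOpLE R S M N k D → linearize R S M N D x = 0 := Iff.rfl

/-- the universal target. -/
abbrev PU (k : ℕ) : Type u := (S ⊗[R] M) ⧸ KU R S M k

lemma commutator_comp_linear {X Y : Type u} [AddCommGroup X] [Module S X] [Module R X]
    [IsScalarTower R S X] [AddCommGroup Y] [Module S Y] [Module R Y] [IsScalarTower R S Y]
    (α : X →ₗ[R] Y) (hα : ∀ (s : S) (x : X), α (s • x) = s • α x) (E : M →ₗ[R] X) (s : S) :
    commutator R S M Y (α ∘ₗ E) s = α ∘ₗ commutator R S M X E s := by
  ext m
  simp only [commutator_apply, LinearMap.comp_apply, map_sub, hα]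

lemma isDiffOpLE_mkQ_comp (k : ℕ) : ∀ (j : ℕ) (E : M →ₗ[R] S ⊗[R] M),
    (∀ (N : Type u) [AddCommGroup N] [Module S N] [Module R N] [IsScalarTower R S N]
      (D : M →ₗ[R] N), IsDiffOpLE R S M N k D →
        IsDiffOpLE R S M N j (linearize R S M N D ∘ₗ E)) →
    IsDiffOpLE R S M (PU R S M k) j (((KU R S M k).mkQ).restrictScalars R ∘ₗ E) := by
  intro j
  induction j with
  | zero =>
    intro E h s m
    show (KU R S M k).mkQ (E (s • m)) = s • (KU R S M k).mkQ (E m)
    rw [← map_smul, ← sub_eq_zero, ← map_sub, Submodule.mkQ_apply, Submodule.Quotient.mk_eq_zero]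
    intro N _ _ _ _ D hD
    rw [map_sub, linearize_smul, sub_eq_zero]
    exact h N D hD s m
  | succ j ih =>
    intro E h s
    rw [commutator_comp_linear R S M _ (fun s x => by simp) E s]
    apply ih
    intro N _ _ _ _ D hD
    rw [← commutator_comp_linear R S M _ (linearize_smul R S M D) E s]
    exact h N D hD s

/-- the universal operator. -/
def DU (k : ℕ) : M →ₗ[R] PU R S M k :=
  ((KU R S M k).mkQ).restrictScalars R ∘ₗ (TensorProduct.mk R S M 1)

lemma DU_apply (k : ℕ) (m : M) :
    DU R S M k m = (KU R S M k).mkQ ((1 : S) ⊗ₜ[R] m) := rfl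

lemma isDiffOpLE_DU (k : ℕ) : IsDiffOpLE R S M (PU R S M k) k (DU R S M k) := by
  apply isDiffOpLE_mkQ_comp
  intro N _ _ _ _ D hD
  have : linearize R S M N D ∘ₗ (TensorProduct.mk R S M 1) = D := by
    ext m
    simp [linearize_tmul']
  rw [this]
  exact hD

theorem universal (k : ℕ) {N : Type u} [AddCommGroup N] [Module S N] [Module R N]
    [IsScalarTower R S N] (D' : M →ₗ[R] N) (hD' : IsDiffOpLE R S M N k D') :
    ∃! α : PU R S M k →ₗ[S] N, α.restrictScalars R ∘ₗ DU R S M k = D' := by
  have hle : KU R S M k ≤ LinearMap.ker (linS R S M D') := by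
    intro x hx
    rw [LinearMap.mem_ker, linS_apply]
    exact hx N D' hD'
  refine ⟨(KU R S M k).liftQ (linS R S M D') hle, ?_, ?_⟩
  · ext m
    show (KU R S M k).liftQ (linS R S M D') hle ((KU R S M k).mkQ ((1 : S) ⊗ₜ[R] m)) = D' m
    rw [Submodule.mkQ_apply, Submodule.liftQ_apply, linS_apply, linearize_tmul', one_smul]
  · intro β hβ
    have hβ' : ∀ m : M, β ((KU R S M k).mkQ ((1 : S) ⊗ₜ[R] m)) = D' m :=
      fun m => LinearMap.congr_fun hβ m
    apply Submodule.linearMap_qext
    refine LinearMap.ext fun x => ?_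
    induction x using TensorProduct.induction_on with
    | zero => simp
    | tmul s m =>
      have e : s ⊗ₜ[R] m = s • ((1 : S) ⊗ₜ[R] m) := by
        rw [TensorProduct.smul_tmul', smul_eq_mul, mul_one]
      rw [LinearMap.comp_apply, LinearMap.comp_apply, e, map_smul, map_smul, hβ',
        Submodule.mkQ_apply, map_smul, Submodule.liftQ_apply, linS_apply, linearize_tmul',
        one_smul]
    | add x y hx hy => rw [map_add, map_add, hx, hy]

end Groth.Agent.Helper6.DiffUniv
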