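import Mathlib
import Groth.Agent.S2219

set_option autoImplicit false
set_option linter.style.haveILetI false
set_option linter.unusedSectionVars false
set_option linter.overlappingInstances false

attribute [local instance] FractionRing.liftAlgebra FractionRing.isScalarTower_liftAlgebra
  Ideal.Quotient.field

namespace Groth.Agent.Lib.Helper6.DifferentTame

open nonZeroDivisors Algebra Module

section

variable (A K : Type*) (L : Type*) {B : Type*} [CommRing A] [Field K] [CommRing B] [Field L]
variable [Algebra A K] [Algebra B L] [Algebra A B] [Algebra K L] [Algebra A L]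
variable [IsScalarTower A K L] [IsScalarTower A B L]
variable [IsDomain A] [IsFractionRing A K]
  [FiniteDimensional K L] [Algebra.IsSeparable K L] [IsIntegralClosure B A L]
variable [IsFractionRing B L] [IsDedekindDomain A] [IsDedekindDomain B]
  [Module.IsTorsionFree A B] [Module.Finite A B]

include K L in
lemma dvd_differentIdeal_of_forall_intTrace_mem_aux
    {p : Ideal A} [p.IsMaximal] (hp : p ≠ ⊥) (I a : Ideal B)
    (ha : p.map (algebraMap A B) = I * a)
    (h : ∀ x ∈ a, intTrace A B x ∈ p) : I ∣ differentIdeal A B := by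
  have hp' := (Ideal.map_eq_bot_iff_of_injective
    (FaithfulSMul.algebraMap_injective A B)).not.mpr hp
  have habot : a ≠ ⊥ := fun ha' ↦ hp' (by simpa [ha'] using ha)
  have hPbot : I ≠ ⊥ := by
    rintro rfl; apply hp'
    rwa [Ideal.bot_mul] at ha
  have hP : ((I :)⁻¹ : FractionalIdeal B⁰ L) = a / p.map (algebraMap A B) := by
    apply inv_involutive.injective
    simp only [ha, FractionalIdeal.coeIdeal_mul, inv_div, mul_div_assoc]
    rw [div_self (by simpa), mul_one, inv_inv]
  rw [Ideal.dvd_iff_le, differentialIdeal_le_iff (K := K) (L := L) hPbot, hP,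
    Submodule.map_le_iff_le_comap]
  intro x hx
  rw [Submodule.restrictScalars_mem, FractionalIdeal.mem_coe,
    FractionalIdeal.mem_div_iff_of_ne_zero (by simpa using hp')] at hx
  rw [Submodule.mem_comap, LinearMap.coe_restrictScalars, ← FractionalIdeal.coe_one,
    ← div_self (G₀ := FractionalIdeal A⁰ K) (a := p) (by simpa using hp),
    FractionalIdeal.mem_coe, FractionalIdeal.mem_div_iff_of_ne_zero (by simpa using hp)]
  simp only [FractionalIdeal.mem_coeIdeal, forall_exists_index, and_imp,
    forall_apply_eq_imp_iff₂] at hx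
  intro y hy'
  obtain ⟨y, hy, rfl : algebraMap A K _ = _⟩ := (FractionalIdeal.mem_coeIdeal _).mp hy'
  obtain ⟨z, hz, hz'⟩ := hx _ (Ideal.mem_map_of_mem _ hy)
  have : Algebra.trace K L (algebraMap B L z) ∈ (p : FractionalIdeal A⁰ K) := by
    rw [← Algebra.algebraMap_intTrace (A := A)]
    exact ⟨Algebra.intTrace A B z, h z hz, rfl⟩
  rwa [mul_comm, ← smul_eq_mul, ← map_smul, Algebra.smul_def, mul_comm,
    ← IsScalarTower.algebraMap_apply, IsScalarTower.algebraMap_apply A B L, ← hz']

end

section fr

variable (A : Type*) {B : Type*} [CommRing A] [CommRing B] [Algebra A B]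
  [IsDedekindDomain A] [IsDedekindDomain B] [Module.IsTorsionFree A B] [Module.Finite A B]
  [Algebra.IsSeparable (FractionRing A) (FractionRing B)]

lemma dvd_differentIdeal_of_forall_intTrace_mem
    {p : Ideal A} [p.IsMaximal] (hp : p ≠ ⊥) (I a : Ideal B)
    (ha : p.map (algebraMap A B) = I * a)
    (h : ∀ x ∈ a, intTrace A B x ∈ p) : I ∣ differentIdeal A B := by
  have : IsLocalization (algebraMapSubmonoid B A⁰) (FractionRing B) :=
    IsIntegralClosure.isLocalization _ (FractionRing A) _ _
  have : FiniteDimensional (FractionRing A) (FractionRing B) := .of_isLocalization A B A⁰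
  exact dvd_differentIdeal_of_forall_intTrace_mem_aux A (FractionRing A) (FractionRing B) hp I a
    ha h

theorem map_dvd_differentIdeal_iff {p : Ideal A} [p.IsMaximal] (hp : p ≠ ⊥) :
    p.map (algebraMap A B) ∣ differentIdeal A B ↔ ∀ x : B, intTrace A B x ∈ p := by
  constructor
  · intro h x
    by_contra hx
    exact not_dvd_differentIdeal_of_intTrace_not_mem A (p.map (algebraMap A B)) ⊤
      (Ideal.mul_top _) x trivial hx h
  · intro h
    exact dvd_differentIdeal_of_forall_intTrace_mem A hp _ ⊤ (Ideal.mul_top _).symm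
      (fun x _ => h x)

theorem forall_intTrace_mem_iff (p : Ideal A) [p.IsMaximal] :
    (∀ x : B, intTrace A B x ∈ p) ↔
      Algebra.trace (A ⧸ p) (B ⧸ p.map (algebraMap A B)) = 0 := by
  constructor
  · intro h
    refine LinearMap.ext fun x => ?_
    obtain ⟨x, rfl⟩ := Ideal.Quotient.mk_surjective x
    rw [Algebra.trace_quotient_eq_of_isDedekindDomain, LinearMap.zero_apply,
      Ideal.Quotient.eq_zero_iff_mem]
    exact h x
  · intro h x
    rw [← Ideal.Quotient.eq_zero_iff_mem, ← Algebra.trace_quotient_eq_of_isDedekindDomain, h,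
      LinearMap.zero_apply]

end fr

section dvr

open IsLocalRing

variable (A B : Type*) [CommRing A] [IsDomain A] [IsDiscreteValuationRing A]
  [CommRing B] [IsDomain B] [IsDiscreteValuationRing B] [Algebra A B] [Module.Finite A B]
  [Module.IsTorsionFree A B] [IsLocalHom (algebraMap A B)]

instance liesOver_max : (maximalIdeal B).LiesOver (maximalIdeal A) :=
  ⟨by
    ext a
    rw [Ideal.mem_comap, mem_maximalIdeal, mem_maximalIdeal, mem_nonunits_iff, mem_nonunits_iff,
      not_iff_not]
    exact ⟨fun h => h.map _, fun h => isUnit_of_map_unit (algebraMap A B) a h⟩⟩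

theorem map_max_ne_bot : (maximalIdeal A).map (algebraMap A B) ≠ ⊥ :=
  (Ideal.map_eq_bot_iff_of_injective (FaithfulSMul.algebraMap_injective A B)).not.mpr
    (IsDiscreteValuationRing.not_a_field A)

/-- `m_A B = m_B ^ e`. -/
theorem map_max_eq_pow :
    (maximalIdeal A).map (algebraMap A B) =
      maximalIdeal B ^ (Ideal.ramificationIdx (maximalIdeal B) A) := by
  have hpS := map_max_ne_bot A B
  obtain ⟨Q, hQ, h⟩ := Ideal.eq_prime_pow_mul_coprime hpS (maximalIdeal B)
  have hQtop : Q = ⊤ := by
    by_contra hne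
    have hle : Q ≤ maximalIdeal B := le_maximalIdeal hne
    rw [sup_of_le_left hle] at hQ
    exact (maximalIdeal.isMaximal B).ne_top hQ
  rw [hQtop, Ideal.mul_top,
    ← Ideal.IsDedekindDomain.ramificationIdx_eq_normalizedFactors_count (maximalIdeal A)
      (maximalIdeal B) hpS] at h
  exact h

theorem ramificationIdx_pos' : 0 < Ideal.ramificationIdx (maximalIdeal B) A :=
  Ideal.ramificationIdx_pos (maximalIdeal B) A

theorem different_eq_iff [Algebra.IsSeparable (FractionRing A) (FractionRing B)] :
    differentIdeal A B = maximalIdeal B ^ (Ideal.ramificationIdx (maximalIdeal B) A - 1) ↔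
      ¬ (maximalIdeal A).map (algebraMap A B) ∣ differentIdeal A B := by
  have hp : maximalIdeal A ≠ ⊥ := IsDiscreteValuationRing.not_a_field A
  have hP : maximalIdeal B ≠ ⊥ := IsDiscreteValuationRing.not_a_field B
  have hmap := map_max_eq_pow A B
  have hepos := ramificationIdx_pos' A B
  set e := Ideal.ramificationIdx (maximalIdeal B) A with he
  have h1 : maximalIdeal B ^ (e - 1) ∣ differentIdeal A B :=
    pow_sub_one_dvd_differentIdeal A (maximalIdeal B) e hp (by rw [hmap])
  have hee : e - 1 + 1 = e := Nat.sub_add_cancel hepos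
  rw [hmap]
  constructor
  · intro hD hdvd
    rw [hD, Ideal.dvd_iff_le] at hdvd
    have hlt : maximalIdeal B ^ (e - 1 + 1) < maximalIdeal B ^ (e - 1) :=
      Ideal.pow_succ_lt_pow hP (e - 1)
    rw [hee] at hlt
    exact (not_le_of_gt hlt) hdvd
  · intro hnd
    obtain ⟨J, hJ⟩ := h1
    by_cases hJt : J = ⊤
    · rw [hJ, hJt, Ideal.mul_top]
    · exfalso
      have hle : J ≤ maximalIdeal B := le_maximalIdeal hJt
      obtain ⟨J', hJ'⟩ := Ideal.dvd_iff_le.2 hle
      apply hnd
      refine ⟨J', ?_⟩
      rw [hJ, hJ', ← mul_assoc, ← pow_succ, hee]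

end dvr

section final

open IsLocalRing

universe u

variable (A B : Type u) [CommRing A] [IsDomain A] [IsDiscreteValuationRing A]
  [CommRing B] [IsDomain B] [IsDiscreteValuationRing B] [Algebra A B] [Module.Finite A B]
  [Module.IsTorsionFree A B] [IsLocalHom (algebraMap A B)]

theorem length_quot_self (n : ℕ) (I : Ideal B) (hI : I = maximalIdeal B ^ n) :
    Module.length (B ⧸ I) (B ⧸ I) = n := by
  subst hI
  rw [← Module.length_eq_of_surjective (S := B) Ideal.Quotient.mk_surjective,
    IsDiscreteValuationRing.length_quotient_pow_maximalIdeal]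

theorem natCast_ne_zero_iff (k : Type*) [Field k] (n : ℕ) (hn : 0 < n) :
    (n : k) ≠ 0 ↔ ∀ q : ℕ, q.Prime → CharP k q → ¬ q ∣ n := by
  constructor
  · intro h q _ hq hdvd
    exact h ((CharP.cast_eq_zero_iff k q n).2 hdvd)
  · intro h h0
    obtain ⟨q, hq⟩ := CharP.exists k
    rcases CharP.char_is_prime_or_zero k q with hq' | hq'
    · exact h q hq' hq ((CharP.cast_eq_zero_iff k q n).1 h0)
    · subst hq'
      haveI : CharZero k := CharP.charP_to_charZero k
      exact hn.ne' (Nat.cast_eq_zero.1 h0)

theorem trace_ne_zero_iff :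
    Algebra.trace (A ⧸ maximalIdeal A) (B ⧸ (maximalIdeal A).map (algebraMap A B)) ≠ 0 ↔
      (Algebra.IsSeparable (ResidueField A) (ResidueField B) ∧
        ((Ideal.ramificationIdx (maximalIdeal B) A : ℕ) : ResidueField A) ≠ 0) := by
  have hmap := map_max_eq_pow A B
  have hepos := ramificationIdx_pos' A B
  have hne_top : (maximalIdeal A).map (algebraMap A B) ≠ ⊤ := by
    rw [hmap]
    intro h
    have : maximalIdeal B ^ (Ideal.ramificationIdx (maximalIdeal B) A) ≤ maximalIdeal B :=
      Ideal.pow_le_self hepos.ne'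
    rw [h] at this
    exact (maximalIdeal.isMaximal B).ne_top (top_le_iff.1 this)
  haveI : Nontrivial (B ⧸ (maximalIdeal A).map (algebraMap A B)) :=
    Ideal.Quotient.nontrivial_iff.2 hne_top
  haveI : IsLocalRing (B ⧸ (maximalIdeal A).map (algebraMap A B)) :=
    IsLocalRing.of_surjective' (Ideal.Quotient.mk _) Ideal.Quotient.mk_surjective
  haveI : Module.Finite (A ⧸ maximalIdeal A) (B ⧸ (maximalIdeal A).map (algebraMap A B)) :=
    Module.Finite.of_restrictScalars_finite A _ _
  rw [Groth.Agent.S2219.result, length_quot_self B _ _ hmap, ENat.toNat_natCast,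
    ← natCast_ne_zero_iff (A ⧸ maximalIdeal A) _ hepos]
  refine and_congr ?_ Iff.rfl
  haveI : IsLocalHom (Ideal.Quotient.mk ((maximalIdeal A).map (algebraMap A B))) :=
    IsLocalHom.of_surjective _ Ideal.Quotient.mk_surjective
  let f : ResidueField B →+* ResidueField (B ⧸ (maximalIdeal A).map (algebraMap A B)) :=
    ResidueField.map (Ideal.Quotient.mk ((maximalIdeal A).map (algebraMap A B)))
  have hf : Function.Bijective f := by
    refine ⟨f.injective, fun y => ?_⟩
    obtain ⟨y, rfl⟩ := residue_surjective y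
    obtain ⟨b, rfl⟩ := Ideal.Quotient.mk_surjective y
    exact ⟨residue B b, rfl⟩
  let e₂ := RingEquiv.ofBijective f hf
  symm
  refine Algebra.IsSeparable.iff_of_equiv_equiv (RingEquiv.refl (ResidueField A)) e₂ ?_
  apply Ideal.Quotient.ringHom_ext
  ext a
  rfl

end final


end Groth.Agent.Lib.Helper6.DifferentTame
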