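import Mathlib.Tactic
import Mathlib.RingTheory.Nakayama
import Mathlib.RingTheory.OrzechProperty
import Mathlib.RingTheory.LocalRing.MaximalIdeal.Basic
import Mathlib.RingTheory.TensorProduct.Basic
import Mathlib.Algebra.DirectSum.Module
import Mathlib.LinearAlgebra.Projection
import Mathlib.Order.CompactlyGenerated.Basic
import Mathlib.RingTheory.Finiteness.Basic
import Mathlib.RingTheory.Finiteness.Cardinality

/-! Nakayama-type argument for a module which is a direct sum of finite modules over a local ring. -/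

set_option autoImplicit false

namespace Groth.Agent.Helper6.DirSumNak

universe u
open TensorProduct IsLocalRing

variable {R S : Type u} [CommRing R] [IsLocalRing R] [CommRing S] [Algebra R S]
  (N : Type u) [AddCommGroup N] [Module S N] [Module R N] [IsScalarTower R S N]

/-- multiplication by `s : S` as an `R`-linear endomorphism of `N` -/
def mulS (s : S) : N →ₗ[R] N :=
  { toFun := fun y => s • y
    map_add' := fun y z => smul_add _ _ _
    map_smul' := fun r y => by simp only [RingHom.id_apply]; rw [smul_comm] }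

omit [IsLocalRing R] in
@[simp] theorem mulS_apply (s : S) (y : N) : mulS (R := R) N s y = s • y := rfl

variable {N}

theorem proj_smul_mem {P : Submodule R N} (π : N →ₗ[R] P) (b : S)
    (hb : b ∈ (maximalIdeal R).map (algebraMap R S)) (n : N) :
    π (b • n) ∈ (maximalIdeal R • ⊤ : Submodule R P) := by
  unfold Ideal.map at hb
  revert n
  refine Submodule.span_induction ?_ ?_ ?_ ?_ hb
  · rintro x ⟨r, hr, rfl⟩ n
    rw [algebraMap_smul, map_smul]
    exact Submodule.smul_mem_smul hr Submodule.mem_top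
  · intro n; rw [zero_smul, map_zero]; exact Submodule.zero_mem _
  · intro x y _ _ hx hy n
    rw [add_smul, map_add]; exact Submodule.add_mem _ (hx n) (hy n)
  · intro s x _ hx n
    rw [smul_eq_mul, mul_comm, mul_smul]
    exact hx (s • n)

theorem compress_bijective {P : Submodule R N} [Module.Finite R P] (π : N →ₗ[R] P)
    (hπ : ∀ p : P, π (p : N) = p) (b : S) (hb : b ∈ (maximalIdeal R).map (algebraMap R S)) :
    Function.Bijective (π ∘ₗ mulS N (1 - b) ∘ₗ P.subtype) := by
  set g : P →ₗ[R] P := π ∘ₗ mulS N (1 - b) ∘ₗ P.subtype with hg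
  have hsurj : Function.Surjective g := by
    rw [← LinearMap.range_eq_top]
    apply top_le_iff.mp
    apply Submodule.le_of_le_smul_of_le_jacobson_bot (I := maximalIdeal R) Module.Finite.fg_top
      (IsLocalRing.maximalIdeal_le_jacobson ⊥)
    intro p _
    have h1 : p = g p + π (b • (p : N)) := by
      rw [hg]
      simp only [LinearMap.comp_apply, Submodule.subtype_apply, mulS_apply]
      rw [← map_add, sub_smul, one_smul, sub_add_cancel, hπ]
    rw [h1]
    exact Submodule.add_mem_sup (LinearMap.mem_range_self _ _) (proj_smul_mem π b hb _)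
  exact ⟨OrzechProperty.injective_of_surjective_endomorphism g hsurj, hsurj⟩

variable (M : Type u) [AddCommGroup M] [Module R M]

omit [IsLocalRing R] in
theorem smul_eq_rTensor (s : S) (t : N ⊗[R] M) : s • t = (mulS (R := R) N s).rTensor M t := by
  induction t using TensorProduct.induction_on with
  | zero => simp
  | tmul n m =>
    rw [LinearMap.rTensor_tmul, TensorProduct.smul_tmul']
    rfl
  | add t₁ t₂ h₁ h₂ => rw [map_add, smul_add, h₁, h₂]

/-- If `z` comes from `P ⊗ M` where `P` is a finite direct summand of `N`,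
and `(1 - b) • z = 0` with `b ∈ 𝔪 S`, then `z = 0`. -/
theorem eq_zero_of_mem_range {P : Submodule R N} [Module.Finite R P] (π : N →ₗ[R] P)
    (hπ : ∀ p : P, π (p : N) = p) (b : S) (hb : b ∈ (maximalIdeal R).map (algebraMap R S))
    (z : N ⊗[R] M) (hz : z ∈ LinearMap.range (P.subtype.rTensor M))
    (h0 : (1 - b) • z = 0) : z = 0 := by
  obtain ⟨z', rfl⟩ := hz
  have hbij := compress_bijective π hπ b hb
  let e : P ≃ₗ[R] P := LinearEquiv.ofBijective _ hbij
  have h1 : (e.rTensor M) z' = 0 := by
    have : (e.rTensor M) z' = (π.rTensor M) ((1 - b) • (P.subtype.rTensor M z')) := by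
      rw [smul_eq_rTensor]
      have : (e.rTensor M : P ⊗[R] M →ₗ[R] P ⊗[R] M) =
          (π.rTensor M) ∘ₗ ((mulS (R := R) N (1 - b)).rTensor M) ∘ₗ (P.subtype.rTensor M) := by
        rw [← LinearMap.rTensor_comp, ← LinearMap.rTensor_comp]
        rfl
      calc (e.rTensor M) z' = (e.rTensor M : P ⊗[R] M →ₗ[R] P ⊗[R] M) z' := rfl
        _ = _ := by rw [this]; rfl
    rw [this, h0, map_zero]
  have : z' = 0 := (LinearEquiv.map_eq_zero_iff _).mp h1
  rw [this, map_zero]

omit [IsLocalRing R] in
theorem range_rTensor_mono {P P' : Submodule R N} (hle : P ≤ P') :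
    LinearMap.range (P.subtype.rTensor M) ≤ LinearMap.range (P'.subtype.rTensor M) := by
  have : P.subtype = P'.subtype ∘ₗ Submodule.inclusion hle := by
    ext x; rfl
  rw [this, LinearMap.rTensor_comp]
  exact LinearMap.range_comp_le_range _ _

omit [IsLocalRing R] in
theorem tmul_mem_range {P : Submodule R N} (n : N) (hn : n ∈ P) (m : M) :
    n ⊗ₜ[R] m ∈ LinearMap.range (P.subtype.rTensor M) :=
  ⟨(⟨n, hn⟩ : P) ⊗ₜ[R] m, by rw [LinearMap.rTensor_tmul]; rfl⟩

omit [IsLocalRing R] in
/-- Any element of `N ⊗ M` comes from `F_J ⊗ M` for a finite set `J` of indices. -/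
theorem exists_finset_mem_range {ι : Type u} (F : ι → Submodule R N) (htop : iSup F = ⊤)
    (z : N ⊗[R] M) :
    ∃ J : Finset ι, z ∈ LinearMap.range ((⨆ i ∈ J, F i).subtype.rTensor M) := by
  classical
  induction z using TensorProduct.induction_on with
  | zero => exact ⟨∅, Submodule.zero_mem _⟩
  | tmul n m =>
    have hn : n ∈ iSup F := by rw [htop]; exact Submodule.mem_top
    obtain ⟨J, hJ⟩ := Submodule.mem_iSup_iff_exists_finset.mp hn
    exact ⟨J, tmul_mem_range M n hJ m⟩
  | add t₁ t₂ h₁ h₂ =>
    obtain ⟨J₁, h₁⟩ := h₁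
    obtain ⟨J₂, h₂⟩ := h₂
    have hle₁ : (⨆ i ∈ J₁, F i) ≤ ⨆ i ∈ J₁ ∪ J₂, F i :=
      biSup_mono fun i hi => Finset.mem_union_left _ hi
    have hle₂ : (⨆ i ∈ J₂, F i) ≤ ⨆ i ∈ J₁ ∪ J₂, F i :=
      biSup_mono fun i hi => Finset.mem_union_right _ hi
    exact ⟨J₁ ∪ J₂, Submodule.add_mem _ (range_rTensor_mono M hle₁ h₁)
      (range_rTensor_mono M hle₂ h₂)⟩

omit [IsLocalRing R] in
theorem isCompl_biSup {ι : Type u} (F : ι → Submodule R N) (hind : iSupIndep F)
    (htop : iSup F = ⊤) (J : Finset ι) :
    IsCompl (⨆ i ∈ J, F i) (⨆ i ∈ ((J : Set ι)ᶜ), F i) := by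
  constructor
  · exact hind.disjoint_biSup_biSup' (s := (J : Set ι)) (t := (J : Set ι)ᶜ)
      disjoint_compl_right J.finite_toSet
  · rw [codisjoint_iff]
    rw [← htop]
    have := iSup_union (f := F) (s := (J : Set ι)) (t := (J : Set ι)ᶜ)
    rw [Set.union_compl_self] at this
    simp only [Set.mem_univ, iSup_pos] at this
    rw [this]
    rfl

end Groth.Agent.Helper6.DirSumNak
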