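import Mathlib.Tactic
import Mathlib.Algebra.Algebra.Rat
import Mathlib.Algebra.BigOperators.Intervals
import Mathlib.Data.Nat.Choose.Sum

/-! Divided-power identities `c k = y^k / k!` in a ℚ-algebra. -/

set_option autoImplicit false

namespace Groth.Agent.Helper6.DivPow

open Finset

theorem alt_choose (k : ℕ) (hk : 1 ≤ k) :
    ∑ i ∈ Finset.Ico 1 (k + 1), (-1 : ℚ) ^ (i - 1) * (k.choose i : ℚ) = 1 := by
  have h0 : ∑ i ∈ Finset.range (k + 1), (-1 : ℚ) ^ i * (k.choose i : ℚ) = 0 := by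
    have := Int.alternating_sum_range_choose_of_ne (n := k) (by omega)
    have h2 := congrArg (Int.cast : ℤ → ℚ) this
    push_cast at h2
    exact h2
  rw [Finset.range_eq_Ico, Finset.sum_eq_sum_Ico_succ_bot (by omega)] at h0
  simp only [pow_zero, Nat.choose_zero_right, Nat.cast_one, mul_one, zero_add] at h0
  have h1 : ∑ i ∈ Finset.Ico 1 (k + 1), (-1 : ℚ) ^ (i - 1) * (k.choose i : ℚ)
      = - ∑ i ∈ Finset.Ico 1 (k + 1), (-1 : ℚ) ^ i * (k.choose i : ℚ) := by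
    rw [← Finset.sum_neg_distrib]
    apply Finset.sum_congr rfl
    intro i hi
    have hi1 : 1 ≤ i := (Finset.mem_Ico.mp hi).1
    obtain ⟨j, rfl⟩ : ∃ j, i = j + 1 := ⟨i - 1, by omega⟩
    simp only [Nat.add_sub_cancel, pow_succ]
    ring
  rw [h1]
  linarith

variable {R : Type*} [CommRing R] [Algebra ℚ R]

theorem neg_one_pow_mul (n : ℕ) (x : R) : (-1 : R) ^ n * x = ((-1 : ℚ) ^ n) • x := by
  rcases Nat.even_or_odd n with h | h
  · simp [h.neg_one_pow]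
  · simp [h.neg_one_pow]

theorem c_mul_c (y : R) (c : ℕ → R) (hc : ∀ k : ℕ, c k = ((Nat.factorial k : ℚ)⁻¹) • y ^ k)
    (k i : ℕ) (hi : i ≤ k) :
    c i * c (k - i) = ((k.choose i : ℚ) * ((k.factorial : ℚ)⁻¹)) • y ^ k := by
  rw [hc i, hc (k - i), smul_mul_smul_comm, ← pow_add, Nat.add_sub_cancel' hi]
  congr 1
  have h := Nat.choose_mul_factorial_mul_factorial hi
  have hq : (k.choose i : ℚ) * (i.factorial : ℚ) * ((k - i).factorial : ℚ) = (k.factorial : ℚ) := by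
    exact_mod_cast h
  have h1 : (i.factorial : ℚ) ≠ 0 := by exact_mod_cast Nat.factorial_ne_zero i
  have h2 : ((k - i).factorial : ℚ) ≠ 0 := by exact_mod_cast Nat.factorial_ne_zero (k - i)
  have h3 : (k.factorial : ℚ) ≠ 0 := by exact_mod_cast Nat.factorial_ne_zero k
  have h4 : (k.choose i : ℚ) ≠ 0 := by
    exact_mod_cast (Nat.choose_pos hi).ne'
  rw [← hq]
  field_simp

/-- `Σ_{i=1}^{k} (-1)^(i-1) c_i c_(k-i) = c_k` for `k ≥ 1`. -/
theorem alt_sum (y : R) (c : ℕ → R) (hc : ∀ k : ℕ, c k = ((Nat.factorial k : ℚ)⁻¹) • y ^ k)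
    (k : ℕ) (hk : 1 ≤ k) :
    ∑ i ∈ Finset.Ico 1 (k + 1), (-1 : R) ^ (i - 1) * c i * c (k - i) = c k := by
  have h1 : ∀ i ∈ Finset.Ico 1 (k + 1), (-1 : R) ^ (i - 1) * c i * c (k - i)
      = ((-1 : ℚ) ^ (i - 1) * (k.choose i : ℚ) * ((k.factorial : ℚ)⁻¹)) • y ^ k := by
    intro i hi
    have hik : i ≤ k := by have := (Finset.mem_Ico.mp hi).2; omega
    rw [mul_assoc, c_mul_c y c hc k i hik, neg_one_pow_mul, smul_smul]
    congr 1; ring
  rw [Finset.sum_congr rfl h1, ← Finset.sum_smul, ← Finset.sum_mul, alt_choose k hk, one_mul, hc k]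

end Groth.Agent.Helper6.DivPow
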