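import Mathlib

set_option autoImplicit false
open CategoryTheory CategoryTheory.Limits
universe w v₁ u₁

namespace Groth.Agent.Helper6.EqRelPsh

variable {C : Type u₁} [Category.{v₁} C] {R X : Cᵒᵖ ⥤ Type w} (p₁ p₂ : R ⟶ X)

/-- The objectwise relation. -/
def Rel (c : Cᵒᵖ) (a a' : X.obj c) : Prop := ∃ r : R.obj c, p₁.app c r = a ∧ p₂.app c r = a'

/-- The presheaf of pairs with equal images. -/
def Y : Cᵒᵖ ⥤ Type w where
  obj c := {xy : R.obj c × R.obj c // p₁.app c xy.1 = p₁.app c xy.2 ∧ p₂.app c xy.1 = p₂.app c xy.2}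
  map {c d} f := ↾(fun xy => ⟨(R.map f xy.1.1, R.map f xy.1.2), by
    constructor
    · rw [NatTrans.naturality_apply, NatTrans.naturality_apply, xy.2.1]
    · rw [NatTrans.naturality_apply, NatTrans.naturality_apply, xy.2.2]⟩)
  map_id c := by
    ext ⟨⟨x, y⟩, h⟩ <;> simp
  map_comp f g := by
    ext ⟨⟨x, y⟩, h⟩ <;> simp

def Y₁ : Y p₁ p₂ ⟶ R where
  app c := ↾(fun xy => xy.1.1)
  naturality c d f := by ext ⟨⟨x, y⟩, h⟩; rfl

def Y₂ : Y p₁ p₂ ⟶ R where
  app c := ↾(fun xy => xy.1.2)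
  naturality c d f := by ext ⟨⟨x, y⟩, h⟩; rfl

variable {p₁ p₂}

theorem inj_of_jointlyMono (h : JointlyMono₂ p₁ p₂) (c : Cᵒᵖ) (x y : R.obj c)
    (h1 : p₁.app c x = p₁.app c y) (h2 : p₂.app c x = p₂.app c y) : x = y := by
  have e : Y₁ p₁ p₂ = Y₂ p₁ p₂ := by
    apply h.right_cancellation
    · ext c ⟨⟨x, y⟩, h⟩; exact h.1
    · ext c ⟨⟨x, y⟩, h⟩; exact h.2
  have := congrArg (fun (φ : Y p₁ p₂ ⟶ R) => φ.app c ⟨(x, y), h1, h2⟩) e
  exact this

theorem rel_equivalence (e : EquivalenceRelation p₁ p₂) (c : Cᵒᵖ) : Equivalence (Rel p₁ p₂ c) where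
  refl a := ⟨e.r.app c a,
    congrArg (fun (φ : X ⟶ X) => φ.app c a) e.reflexivity₁,
    congrArg (fun (φ : X ⟶ X) => φ.app c a) e.reflexivity₂⟩
  symm := by
    rintro a a' ⟨r, rfl, rfl⟩
    refine ⟨e.s.app c r, ?_, ?_⟩
    · exact congrArg (fun (φ : R ⟶ X) => φ.app c r) e.symmetry₁
    · exact congrArg (fun (φ : R ⟶ X) => φ.app c r) e.symmetry₂
  trans := by
    rintro a a' a'' ⟨r, rfl, rfl⟩ ⟨r', h1, rfl⟩
    have hpb : IsPullback e.c.fst e.c.snd p₂ p₁ := IsPullback.of_isLimit e.isLimit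
    have HV := hpb.map ((evaluation Cᵒᵖ (Type w)).obj c)
    obtain ⟨z, hz1, hz2⟩ := Types.exists_of_isPullback HV r r' h1.symm
    refine ⟨e.t.app c z, ?_, ?_⟩
    · have := congrArg (fun (φ : e.c.pt ⟶ X) => φ.app c z) e.transitivity₁
      exact this.trans (congrArg (p₁.app c) hz1)
    · have := congrArg (fun (φ : e.c.pt ⟶ X) => φ.app c z) e.transitivity₂
      exact this.trans (congrArg (p₂.app c) hz2)

theorem rel_map (c d : Cᵒᵖ) (f : c ⟶ d) (a a' : X.obj c) (h : Rel p₁ p₂ c a a') :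
    Rel p₁ p₂ d (X.map f a) (X.map f a') := by
  obtain ⟨r, rfl, rfl⟩ := h
  exact ⟨R.map f r, NatTrans.naturality_apply _ _ _, NatTrans.naturality_apply _ _ _⟩

variable (p₁ p₂)

/-- The quotient presheaf. -/
def B : Cᵒᵖ ⥤ Type w where
  obj c := Quot (Rel p₁ p₂ c)
  map {c d} f := ↾(Quot.map (X.map f) (rel_map c d f))
  map_id c := by
    ext ⟨a⟩
    simp [Quot.map]
  map_comp f g := by
    ext ⟨a⟩
    simp [Quot.map]

/-- The quotient map. -/
def π : X ⟶ B p₁ p₂ where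
  app c := ↾(Quot.mk _)
  naturality c d f := by ext a; rfl

theorem cond : p₁ ≫ π p₁ p₂ = p₂ ≫ π p₁ p₂ := by
  ext c r
  exact Quot.sound ⟨r, rfl, rfl⟩

variable {p₁ p₂}

theorem inl_eq_inr (e : EquivalenceRelation p₁ p₂) {T : Cᵒᵖ ⥤ Type w} (f g : X ⟶ T)
    (h : p₁ ≫ f = p₂ ≫ g) : f = g := by
  have h1 : e.r ≫ p₁ ≫ f = e.r ≫ p₂ ≫ g := by rw [h]
  rw [← Category.assoc, ← Category.assoc, e.reflexivity₁, e.reflexivity₂, Category.id_comp,
    Category.id_comp] at h1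
  exact h1

/-- descent to the quotient. -/
def desc {T : Cᵒᵖ ⥤ Type w} (f : X ⟶ T) (h : p₁ ≫ f = p₂ ≫ f) : B p₁ p₂ ⟶ T where
  app c := ↾(Quot.lift (f.app c) (by
    rintro a a' ⟨r, rfl, rfl⟩
    exact congrArg (fun (φ : R ⟶ T) => φ.app c r) h))
  naturality c d g := by
    ext ⟨a⟩
    exact NatTrans.naturality_apply f g a

theorem π_desc {T : Cᵒᵖ ⥤ Type w} (f : X ⟶ T) (h : p₁ ≫ f = p₂ ≫ f) :
    π p₁ p₂ ≫ desc f h = f := by
  ext c a; rfl

theorem desc_uniq {T : Cᵒᵖ ⥤ Type w} (m m' : B p₁ p₂ ⟶ T) (h : π p₁ p₂ ≫ m = π p₁ p₂ ≫ m') :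
    m = m' := by
  ext c ⟨a⟩
  exact congrArg (fun (φ : X ⟶ T) => φ.app c a) h

theorem isPushout (e : EquivalenceRelation p₁ p₂) :
    IsPushout p₁ p₂ (π p₁ p₂) (π p₁ p₂) := by
  refine ⟨⟨cond p₁ p₂⟩, ⟨PushoutCocone.IsColimit.mk _
    (fun s => desc s.inl (by
      have h1 := inl_eq_inr e s.inl s.inr s.condition
      have h2 := s.condition
      rw [← h1] at h2; exact h2)) ?_ ?_ ?_⟩⟩
  · intro s; exact π_desc _ _
  · intro s
    rw [π_desc]
    exact inl_eq_inr e s.inl s.inr s.condition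
  · intro s m h1 h2
    apply desc_uniq
    rw [π_desc]; exact h1

theorem exists_of_cond (e : EquivalenceRelation p₁ p₂) {T : Cᵒᵖ ⥤ Type w} (f g : T ⟶ X)
    (h : f ≫ π p₁ p₂ = g ≫ π p₁ p₂) (c : Cᵒᵖ) (y : T.obj c) :
    ∃ r : R.obj c, p₁.app c r = f.app c y ∧ p₂.app c r = g.app c y := by
  have h1 : Quot.mk (Rel p₁ p₂ c) (f.app c y) = Quot.mk (Rel p₁ p₂ c) (g.app c y) :=
    congrArg (fun (φ : T ⟶ B p₁ p₂) => φ.app c y) h
  exact ((rel_equivalence e c).quot_mk_eq_iff _ _).mp h1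

/-- lift into the relation. -/
noncomputable def lift (e : EquivalenceRelation p₁ p₂) {T : Cᵒᵖ ⥤ Type w} (f g : T ⟶ X)
    (h : f ≫ π p₁ p₂ = g ≫ π p₁ p₂) : T ⟶ R where
  app c := ↾(fun y => (exists_of_cond e f g h c y).choose)
  naturality c d k := by
    ext y
    apply inj_of_jointlyMono e.toJointlyMono₂
    · change p₁.app d (exists_of_cond e f g h d (T.map k y)).choose =
        p₁.app d (R.map k (exists_of_cond e f g h c y).choose)
      rw [(exists_of_cond e f g h d (T.map k y)).choose_spec.1, NatTrans.naturality_apply,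
        NatTrans.naturality_apply, (exists_of_cond e f g h c y).choose_spec.1]
    · change p₂.app d (exists_of_cond e f g h d (T.map k y)).choose =
        p₂.app d (R.map k (exists_of_cond e f g h c y).choose)
      rw [(exists_of_cond e f g h d (T.map k y)).choose_spec.2, NatTrans.naturality_apply,
        NatTrans.naturality_apply, (exists_of_cond e f g h c y).choose_spec.2]

theorem lift_fst (e : EquivalenceRelation p₁ p₂) {T : Cᵒᵖ ⥤ Type w} (f g : T ⟶ X)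
    (h : f ≫ π p₁ p₂ = g ≫ π p₁ p₂) : lift e f g h ≫ p₁ = f := by
  ext c y
  exact (exists_of_cond e f g h c y).choose_spec.1

theorem lift_snd (e : EquivalenceRelation p₁ p₂) {T : Cᵒᵖ ⥤ Type w} (f g : T ⟶ X)
    (h : f ≫ π p₁ p₂ = g ≫ π p₁ p₂) : lift e f g h ≫ p₂ = g := by
  ext c y
  exact (exists_of_cond e f g h c y).choose_spec.2

theorem isKernelPair (e : EquivalenceRelation p₁ p₂) :
    IsKernelPair (π p₁ p₂) p₁ p₂ := by
  refine ⟨⟨cond p₁ p₂⟩, ⟨PullbackCone.IsLimit.mk _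
    (fun s => lift e s.fst s.snd s.condition) ?_ ?_ ?_⟩⟩
  · intro s; exact lift_fst e _ _ _
  · intro s; exact lift_snd e _ _ _
  · intro s m h1 h2
    apply e.right_cancellation
    · rw [lift_fst]; exact h1
    · rw [lift_snd]; exact h2

theorem universally_effectiveEpi_of_surj {F G : Cᵒᵖ ⥤ Type w} (f : F ⟶ G)
    (hf : ∀ c, Function.Surjective (f.app c)) :
    MorphismProperty.universally (fun (A B : Cᵒᵖ ⥤ Type w) (p : A ⟶ B) => EffectiveEpi p) f := by
  intro F' G' i₁ i₂ f' H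
  have hf' : ∀ c, Function.Surjective (f'.app c) := by
    intro c s
    obtain ⟨t, ht⟩ := hf c (i₂.app c s)
    have HV := H.map ((evaluation Cᵒᵖ (Type w)).obj c)
    obtain ⟨x, hx1, hx2⟩ := Types.exists_of_isPullback HV s t ht.symm
    exact ⟨x, hx1⟩
  haveI : ∀ c, Epi (f'.app c) := fun c => (epi_iff_surjective _).mpr (hf' c)
  haveI : Epi f' := NatTrans.epi_of_epi_app f'
  have := IsRegularEpiCategory.regularEpiOfEpi f'
  infer_instance

theorem main (e : EquivalenceRelation p₁ p₂) : IsUniversallyEffectiveEquivalenceRelation p₁ p₂ :=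
  ⟨⟨{ toEquivalenceRelation := e
      B := B p₁ p₂
      π := π p₁ p₂
      isKernelPair := isKernelPair e
      isPushout := isPushout e
      universally_effectiveEpi_π := universally_effectiveEpi_of_surj _ (fun c => by
        rintro ⟨a⟩; exact ⟨a, rfl⟩) }⟩⟩

end Groth.Agent.Helper6.EqRelPsh
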