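import Groth.Agent.Lib.Helper6.EqRelPsh
import Groth.Agent.S5218

set_option autoImplicit false
open CategoryTheory CategoryTheory.Limits
universe w v₁ u₁

namespace Groth.Agent.Helper6.EqRelShf

variable {C : Type u₁} [Category.{v₁} C] (J : GrothendieckTopology C) [HasSheafify J (Type w)]
  {R X : Sheaf J (Type w)} {p₁ p₂ : R ⟶ X}

theorem jointlyMono (h : JointlyMono₂ p₁ p₂) :
    JointlyMono₂ ((sheafToPresheaf J (Type w)).map p₁) ((sheafToPresheaf J (Type w)).map p₂) where
  right_cancellation Y f g h1 h2 := by
    let adj := sheafificationAdjunction J (Type w)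
    apply (adj.homEquiv Y R).symm.injective
    apply h.right_cancellation
    · rw [← adj.homEquiv_naturality_right_symm, ← adj.homEquiv_naturality_right_symm, h1]
    · rw [← adj.homEquiv_naturality_right_symm, ← adj.homEquiv_naturality_right_symm, h2]

/-- the underlying presheaf equivalence relation -/
noncomputable def eqRelPsh (e : EquivalenceRelation p₁ p₂) :
    EquivalenceRelation ((sheafToPresheaf J (Type w)).map p₁) ((sheafToPresheaf J (Type w)).map p₂) :=
  haveI := jointlyMono J e.toJointlyMono₂
  { __ := e.toReflexiveRelation.map (sheafToPresheaf J (Type w))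
    __ := e.toSymmetricRelation.map (sheafToPresheaf J (Type w))
    __ := e.toTransitiveRelation.map (sheafToPresheaf J (Type w)) }

theorem main (e : EquivalenceRelation p₁ p₂) : IsUniversallyEffectiveEquivalenceRelation p₁ p₂ := by
  let ι := sheafToPresheaf J (Type w)
  let a := presheafToSheaf J (Type w)
  let adj := sheafificationAdjunction J (Type w)
  let e' := eqRelPsh J e
  let π₀ := EqRelPsh.π (ι.map p₁) (ι.map p₂)
  have hK : IsPullback (ι.map p₁) (ι.map p₂) π₀ π₀ := EqRelPsh.isKernelPair e'
  have hP : IsPushout (ι.map p₁) (ι.map p₂) π₀ π₀ := EqRelPsh.isPushout e'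
  let εR : a.obj (ι.obj R) ≅ R := asIso (adj.counit.app R)
  let εX : a.obj (ι.obj X) ≅ X := asIso (adj.counit.app X)
  have n1 : a.map (ι.map p₁) ≫ εX.hom = εR.hom ≫ p₁ := adj.counit.naturality p₁
  have n2 : a.map (ι.map p₂) ≫ εX.hom = εR.hom ≫ p₂ := adj.counit.naturality p₂
  let π : X ⟶ a.obj (EqRelPsh.B (ι.map p₁) (ι.map p₂)) := εX.inv ≫ a.map π₀
  have hK' : IsPullback p₁ p₂ π π :=
    (hK.map a).of_iso εR εX εX (Iso.refl _) n1 n2 (by simp [π]) (by simp [π])
  have hP' : IsPushout p₁ p₂ π π :=
    (hP.map a).of_iso εR εX εX (Iso.refl _) n1 n2 (by simp [π]) (by simp [π])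
  haveI : Epi π := by
    have : Epi π₀ := by
      haveI : ∀ c, Epi (π₀.app c) := fun c => (epi_iff_surjective _).mpr (by
        rintro ⟨x⟩; exact ⟨x, rfl⟩)
      exact NatTrans.epi_of_epi_app π₀
    infer_instance
  exact ⟨⟨{ toEquivalenceRelation := e
            B := _
            π := π
            isKernelPair := hK'
            isPushout := hP'
            universally_effectiveEpi_π := Groth.Agent.S5218.result J π }⟩⟩

end Groth.Agent.Helper6.EqRelShf
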