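import Mathlib

namespace Groth.Agent.Lib.Helper6.EqTower

open TensorProduct

universe u

/-- Kernel of `V → κ(p) ⊗ V`. -/
theorem ker_residue {A V : Type u} [CommRing A] [AddCommGroup V] [Module A V] (p : Ideal A)
    [p.IsPrime] (v : V) (hv : (1 : p.ResidueField) ⊗ₜ[A] v = 0) :
    ∃ s ∉ p, s • v ∈ (p • ⊤ : Submodule A V) := by
  -- the map to `κ(p) ⊗[A/p] (V / pV)`
  let Vb := V ⧸ (p • ⊤ : Submodule A V)
  let Ψ : p.ResidueField ⊗[A] V →ₗ[A] p.ResidueField ⊗[A ⧸ p] Vb :=
    TensorProduct.lift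
      (LinearMap.mk₂ A (fun (k : p.ResidueField) (x : V) =>
          k ⊗ₜ[A ⧸ p] (Submodule.Quotient.mk x : Vb))
        (fun k k' x => TensorProduct.add_tmul _ _ _)
        (fun a k x => by
          show (a • k) ⊗ₜ[A ⧸ p] (Submodule.Quotient.mk x : Vb) = a • (k ⊗ₜ[A ⧸ p] _)
          rw [TensorProduct.smul_tmul'])
        (fun k x x' => by
          show k ⊗ₜ[A ⧸ p] (Submodule.Quotient.mk (x + x') : Vb) = _
          rw [Submodule.Quotient.mk_add, TensorProduct.tmul_add])
        (fun a k x => by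
          show k ⊗ₜ[A ⧸ p] (Submodule.Quotient.mk (a • x) : Vb) = a • (k ⊗ₜ[A ⧸ p] _)
          rw [Submodule.Quotient.mk_smul, TensorProduct.tmul_smul]))
  have h1 : (1 : p.ResidueField) ⊗ₜ[A ⧸ p] (Submodule.Quotient.mk v : Vb) = 0 := by
    have := congrArg Ψ hv
    simpa [Ψ] using this
  have hloc : IsLocalizedModule (nonZeroDivisors (A ⧸ p))
      (TensorProduct.mk (A ⧸ p) p.ResidueField Vb 1) :=
    IsLocalization.tensorProduct_isLocalizedModule _ _
  have h2 : TensorProduct.mk (A ⧸ p) p.ResidueField Vb 1 (Submodule.Quotient.mk v) = 0 := h1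
  obtain ⟨⟨c, hc⟩, hcv⟩ := (IsLocalizedModule.eq_zero_iff (nonZeroDivisors (A ⧸ p))
    (TensorProduct.mk (A ⧸ p) p.ResidueField Vb 1)).mp h2
  obtain ⟨s, rfl⟩ := Ideal.Quotient.mk_surjective c
  refine ⟨s, ?_, ?_⟩
  · intro hs
    have : (Ideal.Quotient.mk p s) = 0 := Ideal.Quotient.eq_zero_iff_mem.mpr hs
    exact nonZeroDivisors.ne_zero hc this
  · have h3 : (Ideal.Quotient.mk p s) • (Submodule.Quotient.mk v : Vb) = 0 := hcv
    have h4 : (Submodule.Quotient.mk (s • v) : Vb) = 0 := by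
      rw [Submodule.Quotient.mk_smul]
      exact h3
    exact (Submodule.Quotient.mk_eq_zero _).mp h4


/-- An element of the "dominion" of `A` in `C` lies in `A + pC` up to an element outside `p`. -/
theorem dominion_mod {A C : Type u} [CommRing A] [CommRing C] [Algebra A C] (p : Ideal A)
    [p.IsPrime] [Nontrivial (p.ResidueField ⊗[A] C)] (b : C)
    (hb : b ⊗ₜ[A] (1 : C) = (1 : C) ⊗ₜ[A] b) :
    ∃ s ∉ p, ∃ a : A, s • b - algebraMap A C a ∈ (p • ⊤ : Submodule A C) := by
  -- a functional `φ` with `φ 1 = 1`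
  have hinj : Function.Injective (Algebra.linearMap p.ResidueField (p.ResidueField ⊗[A] C)) :=
    (algebraMap p.ResidueField (p.ResidueField ⊗[A] C)).injective
  obtain ⟨φ, hφ⟩ := LinearMap.exists_leftInverse_of_injective _
    (LinearMap.ker_eq_bot.mpr hinj)
  have hφ1 : φ 1 = 1 := by
    have := LinearMap.congr_fun hφ 1
    rw [LinearMap.comp_apply, Algebra.linearMap_apply, map_one] at this
    exact this
  let Θ : C ⊗[A] C →ₗ[A] p.ResidueField ⊗[A] C :=
    TensorProduct.lift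
      (LinearMap.mk₂ A (fun (c c' : C) => φ ((1 : p.ResidueField) ⊗ₜ[A] c) •
          ((1 : p.ResidueField) ⊗ₜ[A] c'))
        (fun c₁ c₂ c' => by
          show φ ((1 : p.ResidueField) ⊗ₜ[A] (c₁ + c₂)) • _ = _
          rw [TensorProduct.tmul_add, map_add, add_smul])
        (fun a c c' => by
          show φ ((1 : p.ResidueField) ⊗ₜ[A] (a • c)) • _ = a • _
          rw [TensorProduct.tmul_smul, ← algebraMap_smul p.ResidueField a
            ((1 : p.ResidueField) ⊗ₜ[A] c), map_smul, smul_assoc, algebraMap_smul])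
        (fun c c₁ c₂ => by
          show _ • ((1 : p.ResidueField) ⊗ₜ[A] (c₁ + c₂)) = _
          rw [TensorProduct.tmul_add, smul_add])
        (fun a c c' => by
          show _ • ((1 : p.ResidueField) ⊗ₜ[A] (a • c')) = a • _
          rw [TensorProduct.tmul_smul, smul_comm]))
  have h1 := congrArg Θ hb
  have h2 : φ ((1 : p.ResidueField) ⊗ₜ[A] b) • ((1 : p.ResidueField) ⊗ₜ[A] (1 : C)) =
      φ ((1 : p.ResidueField) ⊗ₜ[A] (1 : C)) • ((1 : p.ResidueField) ⊗ₜ[A] b) := h1
  have h3 : ((1 : p.ResidueField) ⊗ₜ[A] (1 : C)) = (1 : p.ResidueField ⊗[A] C) := rfl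
  rw [h3, hφ1, one_smul] at h2
  -- write `λ = a / s`
  obtain ⟨x, y, hy, hxy⟩ := IsFractionRing.div_surjective (A := A ⧸ p)
    (φ ((1 : p.ResidueField) ⊗ₜ[A] b))
  obtain ⟨a, rfl⟩ := Ideal.Quotient.mk_surjective x
  obtain ⟨s, rfl⟩ := Ideal.Quotient.mk_surjective y
  have hs : s ∉ p := by
    intro hs
    have : (Ideal.Quotient.mk p s) = 0 := Ideal.Quotient.eq_zero_iff_mem.mpr hs
    exact nonZeroDivisors.ne_zero hy this
  have hs0 : algebraMap (A ⧸ p) p.ResidueField (Ideal.Quotient.mk p s) ≠ 0 := by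
    intro h
    exact nonZeroDivisors.ne_zero hy
      ((IsFractionRing.injective (A ⧸ p) p.ResidueField) (by rw [h, map_zero]))
  have hsa : algebraMap A p.ResidueField s • ((1 : p.ResidueField) ⊗ₜ[A] b) =
      algebraMap A p.ResidueField a • (1 : p.ResidueField ⊗[A] C) := by
    rw [← h2, ← hxy, smul_smul]
    congr 1
    rw [IsScalarTower.algebraMap_apply A (A ⧸ p) p.ResidueField s,
      IsScalarTower.algebraMap_apply A (A ⧸ p) p.ResidueField a]
    field_simp
    rfl
  have hzero : (1 : p.ResidueField) ⊗ₜ[A] (s • b - algebraMap A C a) = 0 := by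
    have e1 : (1 : p.ResidueField) ⊗ₜ[A] (s • b) =
        algebraMap A p.ResidueField s • ((1 : p.ResidueField) ⊗ₜ[A] b) := by
      rw [TensorProduct.tmul_smul, algebraMap_smul]
    have e2 : (1 : p.ResidueField) ⊗ₜ[A] (algebraMap A C a) =
        algebraMap A p.ResidueField a • (1 : p.ResidueField ⊗[A] C) := by
      rw [Algebra.algebraMap_eq_smul_one (A := C) a, TensorProduct.tmul_smul, algebraMap_smul]
      rfl
    rw [TensorProduct.tmul_sub, e1, e2, hsa, sub_self]
  obtain ⟨s', hs', hmem⟩ := ker_residue p _ hzero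
  refine ⟨s' * s, fun h => (Ideal.IsPrime.mem_or_mem inferInstance h).elim hs' hs, s' * a, ?_⟩
  have : (s' * s) • b - algebraMap A C (s' * a) = s' • (s • b - algebraMap A C a) := by
    rw [smul_sub, mul_smul, map_mul, Algebra.smul_def s' (algebraMap A C a)]
  rw [this]
  exact hmem

theorem nontrivial_of_injective {A C : Type u} [CommRing A] [CommRing C] [Algebra A C]
    [Module.Finite A C] (hinj : Function.Injective (algebraMap A C)) (p : Ideal A) [p.IsPrime] :
    Nontrivial (p.ResidueField ⊗[A] C) := by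
  have : Algebra.IsIntegral A C := Algebra.IsIntegral.of_finite A C
  have : FaithfulSMul A C := (faithfulSMul_iff_algebraMap_injective A C).mpr hinj
  obtain ⟨⟨q, hq, hqp⟩⟩ := Ideal.nonempty_primesOver (S := C) p
  exact (PrimeSpectrum.nontrivial_iff_mem_rangeComap (S := C) ⟨p, inferInstance⟩).mpr
    ⟨⟨q, hq⟩, PrimeSpectrum.ext hqp.over.symm⟩

/-- `p`-saturation of a submodule. -/
def sat {A M : Type u} [CommRing A] [AddCommGroup M] [Module A M] (p : Ideal A) [p.IsPrime]
    (N : Submodule A M) : Submodule A M where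
  carrier := {z | ∃ s, s ∉ p ∧ s • z ∈ N}
  add_mem' := by
    rintro x y ⟨s, hs, hx⟩ ⟨t, ht, hy⟩
    refine ⟨s * t, fun h => (Ideal.IsPrime.mem_or_mem inferInstance h).elim hs ht, ?_⟩
    rw [smul_add]
    refine N.add_mem ?_ ?_
    · rw [mul_comm, mul_smul]
      exact N.smul_mem _ hx
    · rw [mul_smul]
      exact N.smul_mem _ hy
  zero_mem' := ⟨1, fun h => (inferInstance : p.IsPrime).ne_top ((Ideal.eq_top_iff_one p).mpr h),
    by simp⟩
  smul_mem' := by
    rintro a x ⟨s, hs, hx⟩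
    refine ⟨s, hs, ?_⟩
    rw [smul_comm]
    exact N.smul_mem _ hx

section satLemmas

variable {A M : Type u} [CommRing A] [AddCommGroup M] [Module A M] (p : Ideal A) [p.IsPrime]

theorem mem_sat {N : Submodule A M} {z : M} : z ∈ sat p N ↔ ∃ s, s ∉ p ∧ s • z ∈ N := Iff.rfl

theorem le_sat (N : Submodule A M) : N ≤ sat p N := fun z hz =>
  ⟨1, fun h => (inferInstance : p.IsPrime).ne_top ((Ideal.eq_top_iff_one p).mpr h), by
    rwa [one_smul]⟩

theorem sat_mono {N N' : Submodule A M} (h : N ≤ N') : sat p N ≤ sat p N' := by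
  rintro z ⟨s, hs, hz⟩
  exact ⟨s, hs, h hz⟩

theorem sat_sat_le (N : Submodule A M) : sat p (sat p N) ≤ sat p N := by
  rintro z ⟨s, hs, t, ht, hz⟩
  refine ⟨t * s, fun h => (Ideal.IsPrime.mem_or_mem inferInstance h).elim ht hs, ?_⟩
  rwa [mul_smul]

theorem sat_le_of_le_sat {N N' : Submodule A M} (h : N ≤ sat p N') : sat p N ≤ sat p N' :=
  (sat_mono p h).trans (sat_sat_le p N')

theorem smul_sat_le (I : Ideal A) (N : Submodule A M) : I • sat p N ≤ sat p (I • N) := by
  rw [Submodule.smul_le]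
  rintro r hr n ⟨s, hs, hn⟩
  refine ⟨s, hs, ?_⟩
  rw [smul_comm]
  exact Submodule.smul_mem_smul hr hn

theorem exists_common (D N : Submodule A M) (hN : N.FG) (h : N ≤ sat p D) :
    ∃ s, s ∉ p ∧ ∀ z ∈ N, s • z ∈ D := by
  revert h
  refine Submodule.fg_induction
    (motive := fun N _ => N ≤ sat p D → ∃ s, s ∉ p ∧ ∀ z ∈ N, s • z ∈ D) ?_ ?_ N hN
  · intro x h
    obtain ⟨s, hs, hx⟩ := h (Submodule.mem_span_singleton_self x)
    refine ⟨s, hs, fun z hz => ?_⟩
    obtain ⟨a, rfl⟩ := Submodule.mem_span_singleton.mp hz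
    rw [smul_comm]
    exact D.smul_mem _ hx
  · intro N₁ N₂ _ _ ih₁ ih₂ h
    obtain ⟨s₁, hs₁, h₁⟩ := ih₁ (le_sup_left.trans h)
    obtain ⟨s₂, hs₂, h₂⟩ := ih₂ (le_sup_right.trans h)
    refine ⟨s₁ * s₂, fun h => (Ideal.IsPrime.mem_or_mem inferInstance h).elim hs₁ hs₂,
      fun z hz => ?_⟩
    obtain ⟨x, hx, y, hy, rfl⟩ := Submodule.mem_sup.mp hz
    rw [smul_add]
    refine D.add_mem ?_ ?_
    · rw [mul_comm, mul_smul]
      exact D.smul_mem _ (h₁ x hx)
    · rw [mul_smul]
      exact D.smul_mem _ (h₂ y hy)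

end satLemmas

theorem exists_pow {A : Type u} [CommRing A] [IsNoetherianRing A] (p J : Ideal A)
    (hp : p ∈ J.minimalPrimes) :
    ∃ e : ℕ, ∀ a ∈ p ^ e, ∃ s, s ∉ p ∧ s * a ∈ J := by
  have hpp : p.IsPrime := hp.1.1
  have hrad := IsLocalization.AtPrime.radical_map_of_mem_minimalPrimes
    (Localization.AtPrime p) p J hp
  obtain ⟨e, he⟩ := Ideal.exists_radical_pow_le_of_fg
    (J.map (algebraMap A (Localization.AtPrime p))) (IsNoetherian.noetherian _)
  rw [hrad, ← Ideal.map_pow] at he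
  refine ⟨e, fun a ha => ?_⟩
  have h1 := he (Ideal.mem_map_of_mem _ ha)
  obtain ⟨⟨⟨x, hx⟩, ⟨t, ht⟩⟩, hxt⟩ :=
    (IsLocalization.mem_map_algebraMap_iff p.primeCompl (Localization.AtPrime p)).mp h1
  simp only at hxt
  rw [← map_mul] at hxt
  obtain ⟨⟨c, hc⟩, hceq⟩ := (IsLocalization.eq_iff_exists p.primeCompl
    (Localization.AtPrime p)).mp hxt
  simp only at hceq
  refine ⟨c * t, fun h => (Ideal.IsPrime.mem_or_mem inferInstance h).elim hc ht, ?_⟩
  have h2 : c * t * a = c * x := by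
    rw [← hceq]
    ring
  rw [h2]
  exact J.mul_mem_left _ hx

theorem step_le {A B : Type u} [CommRing A] [CommRing B] [Algebra A B] [IsNoetherianRing A]
    [Module.Finite A B] (hinj : Function.Injective (algebraMap A B)) (p : Ideal A) [p.IsPrime]
    (S S' : Subalgebra A B)
    (hstep : ∀ b, b ∈ S' → ∃ hb : b ∈ S,
      ((⟨b, hb⟩ : S) ⊗ₜ[A] (1 : S) : S ⊗[A] S) = (1 : S) ⊗ₜ[A] (⟨b, hb⟩ : S)) :
    Subalgebra.toSubmodule S' ≤
      sat p (p • Subalgebra.toSubmodule S ⊔ Subalgebra.toSubmodule (⊥ : Subalgebra A B)) := by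
  intro b hb
  obtain ⟨hbS, heq⟩ := hstep b hb
  have hNoeth : IsNoetherian A B := isNoetherian_of_isNoetherianRing_of_finite A B
  have hfin : Module.Finite A S :=
    Module.Finite.of_injective S.val.toLinearMap Subtype.val_injective
  have hinjS : Function.Injective (algebraMap A S) := fun x y h =>
    hinj (congrArg Subtype.val h)
  have hnt := nontrivial_of_injective hinjS p
  obtain ⟨s, hs, a, hmem⟩ := dominion_mod p (⟨b, hbS⟩ : S) heq
  refine ⟨s, hs, ?_⟩
  have h1 : s • b - algebraMap A B a ∈ p • Subalgebra.toSubmodule S := by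
    have h2 := Submodule.mem_map_of_mem (f := (Subalgebra.toSubmodule S).subtype) hmem
    rw [Submodule.map_smul'', Submodule.map_top, Submodule.range_subtype] at h2
    exact h2
  have h3 : s • b = (s • b - algebraMap A B a) + algebraMap A B a := by ring
  rw [h3]
  exact Submodule.add_mem _ (Submodule.mem_sup_left h1)
    (Submodule.mem_sup_right (Subalgebra.algebraMap_mem ⊥ a))

theorem main (A B : Type u) [CommRing A] [CommRing B] [Algebra A B]
    [IsNoetherianRing A] [Module.Finite A B] (hinj : Function.Injective (algebraMap A B))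
    (C : ℕ → Subalgebra A B) (_h0 : C 0 = ⊤)
    (hstep : ∀ (i : ℕ) (b : B), b ∈ C (i + 1) ↔ ∃ hb : b ∈ C i,
      ((⟨b, hb⟩ : C i) ⊗ₜ[A] (1 : C i) : C i ⊗[A] C i) = (1 : C i) ⊗ₜ[A] (⟨b, hb⟩ : C i)) :
    ∃ m : ℕ, C m = ⊥ := by
  classical
  have hanti : Antitone C := antitone_nat_of_succ_le fun i b hb => ((hstep i b).mp hb).1
  have hNoeth : IsNoetherian A B := isNoetherian_of_isNoetherianRing_of_finite A B
  obtain ⟨D, hD⟩ : ∃ D : Submodule A B, D = Subalgebra.toSubmodule (⊥ : Subalgebra A B) :=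
    ⟨_, rfl⟩
  obtain ⟨J, hJ⟩ : ∃ J : ℕ → Ideal A, J = fun i => D.colon ((C i : Subalgebra A B) : Set B) :=
    ⟨_, rfl⟩
  have hJmem : ∀ i a, a ∈ J i ↔ ∀ b ∈ C i, a • b ∈ D := by
    intro i a
    rw [hJ]
    exact Submodule.mem_colon
  have hJmono : Monotone J := by
    intro i j hij a ha
    rw [hJmem] at ha ⊢
    exact fun b hb => ha b (hanti hij hb)
  obtain ⟨i₀, hi₀⟩ := (monotone_stabilizes_iff_noetherian (R := A) (M := A)).mpr inferInstance
    ⟨J, hJmono⟩
  by_cases htop : J i₀ = ⊤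
  · refine ⟨i₀, ?_⟩
    rw [eq_bot_iff]
    intro b hb
    have h1 : (1 : A) ∈ J i₀ := htop ▸ Submodule.mem_top
    have h2 := (hJmem i₀ 1).mp h1 b hb
    rw [one_smul, hD] at h2
    exact h2
  · exfalso
    obtain ⟨p, hp⟩ := Ideal.nonempty_minimalPrimes htop
    have hpprime : p.IsPrime := hp.1.1
    have hJp : J i₀ ≤ p := hp.1.2
    obtain ⟨e, he⟩ := exists_pow p (J i₀) hp
    have key : ∀ k, Subalgebra.toSubmodule (C (i₀ + k)) ≤
        sat p (p ^ k • Subalgebra.toSubmodule (C i₀) ⊔ D) := by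
      intro k
      induction k with
      | zero =>
        rw [pow_zero, Ideal.one_eq_top, Submodule.top_smul]
        exact le_sup_left.trans (le_sat p _)
      | succ k ih =>
        have h1 := step_le hinj p (C (i₀ + k)) (C (i₀ + k + 1)) (fun b hb => (hstep _ b).mp hb)
        rw [← hD] at h1
        refine h1.trans ?_
        refine sat_le_of_le_sat p ?_
        refine sup_le ?_ (le_sup_right.trans (le_sat p _))
        refine (Submodule.smul_mono le_rfl ih).trans ?_
        refine (smul_sat_le p p _).trans (sat_mono p ?_)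
        rw [Submodule.smul_sup, pow_succ', ← smul_eq_mul, Submodule.smul_assoc]
        exact sup_le_sup le_rfl Submodule.smul_le_right
    have h1 : Subalgebra.toSubmodule (C (i₀ + e)) ≤ sat p D := by
      refine (key e).trans (sat_le_of_le_sat p ?_)
      refine sup_le ?_ (le_sat p _)
      rw [Submodule.smul_le]
      intro a ha c hc
      obtain ⟨s, hs, hsa⟩ := he a ha
      refine ⟨s, hs, ?_⟩
      have := (hJmem i₀ (s * a)).mp hsa c hc
      rwa [mul_smul] at this
    obtain ⟨s, hs, hsD⟩ := exists_common p D _ (IsNoetherian.noetherian _) h1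
    have h2 : s ∈ J (i₀ + e) := (hJmem _ s).mpr hsD
    have h3 : J i₀ = J (i₀ + e) := hi₀ (i₀ + e) (by omega)
    rw [← h3] at h2
    exact hs (hJp h2)

end Groth.Agent.Lib.Helper6.EqTower
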