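import Mathlib

/-! Locally essentially of finite type morphisms: affine-local toolkit. -/

open CategoryTheory CategoryTheory.Limits AlgebraicGeometry TopologicalSpace

namespace Groth.Agent.Lib.Helper6.EssFT

universe u

lemma res_basicOpen {X : Scheme.{u}} {U : X.Opens} (hU : IsAffineOpen U) (r : Γ(X, U)) :
    (X.presheaf.map (homOfLE (X.basicOpen_le r)).op).hom.EssFiniteType := by
  have := hU.isLocalization_basicOpen r
  have h : Algebra.EssFiniteType Γ(X, U) Γ(X, X.basicOpen r) :=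
    Algebra.EssFiniteType.of_isLocalization _ (Submonoid.powers r)
  exact RingHom.essFiniteType_algebraMap.2 h

lemma key {X Y : Scheme.{u}} (f : X ⟶ Y) (U₁ : Y.affineOpens) (V₀ : X.affineOpens)
    (e₀ : (V₀ : X.Opens) ≤ f ⁻¹ᵁ (U₁ : Y.Opens))
    (h₀ : (f.appLE (U₁ : Y.Opens) (V₀ : X.Opens) e₀).hom.EssFiniteType)
    (U : Y.affineOpens) (x : X) (hx : x ∈ (V₀ : X.Opens)) (hfx : f.base x ∈ (U : Y.Opens)) :
    ∃ (V : X.affineOpens) (e : (V : X.Opens) ≤ f ⁻¹ᵁ (U : Y.Opens)), x ∈ (V : X.Opens) ∧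
      (V : X.Opens) ≤ V₀ ∧ (f.appLE (U : Y.Opens) (V : X.Opens) e).hom.EssFiniteType := by
  obtain ⟨a, b, hab, hxa⟩ :=
    exists_basicOpen_le_affine_inter U.2 U₁.2 (f.base x) ⟨hfx, e₀ hx⟩
  set V : X.Opens := X.basicOpen (f.appLE (U₁ : Y.Opens) (V₀ : X.Opens) e₀ b) with hVdef
  have hV : V = (V₀ : X.Opens) ⊓ f ⁻¹ᵁ (Y.basicOpen b) := Scheme.basicOpen_appLE ..
  have hVaff : IsAffineOpen V := V₀.2.basicOpen _
  have hVle : V ≤ f ⁻¹ᵁ (Y.basicOpen a) := by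
    rw [hV, hab]
    exact inf_le_right
  have hVle0 : V ≤ V₀ := by
    rw [hV]
    exact inf_le_left
  have hVleb : V ≤ f ⁻¹ᵁ (Y.basicOpen b) := by
    rw [hV]
    exact inf_le_right
  have hle : Y.basicOpen a ≤ (U : Y.Opens) := Y.basicOpen_le a
  have hleb : Y.basicOpen b ≤ (U₁ : Y.Opens) := Y.basicOpen_le b
  refine ⟨⟨V, hVaff⟩, hVle.trans (fun y hy => hle hy), ?_, hVle0, ?_⟩
  · show x ∈ V
    rw [hV]
    refine ⟨hx, ?_⟩
    show f.base x ∈ Y.basicOpen b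
    rw [← hab]
    exact hxa
  · -- the map Γ(D(b)) → Γ(V) is essentially of finite type
    have h1 : (f.appLE (U₁ : Y.Opens) V (hVle0.trans e₀)).hom.EssFiniteType := by
      rw [← Scheme.Hom.appLE_map f e₀ (homOfLE hVle0).op]
      exact h₀.comp (res_basicOpen V₀.2 _)
    have h2 : (f.appLE (Y.basicOpen b) V hVleb).hom.EssFiniteType := by
      rw [← Scheme.Hom.map_appLE f hVleb (homOfLE hleb).op] at h1
      exact RingHom.EssFiniteType.of_comp _ h1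
    have h3 : (f.appLE (Y.basicOpen a) V hVle).hom.EssFiniteType := by
      have : f.appLE (Y.basicOpen a) V hVle =
          Y.presheaf.map (eqToHom hab.symm).op ≫ f.appLE (Y.basicOpen b) V hVleb := by
        rw [Scheme.Hom.map_appLE]
      rw [this]
      refine RingHom.EssFiniteType.comp ?_ h2
      exact (RingHom.FiniteType.of_surjective _
        (ConcreteCategory.bijective_of_isIso (Y.presheaf.map (eqToHom hab.symm).op)).2).essFiniteType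
    show (f.appLE (U : Y.Opens) V _).hom.EssFiniteType
    rw [← Scheme.Hom.map_appLE f hVle (homOfLE hle).op]
    exact (res_basicOpen U.2 a).comp h3


/-- pointwise reformulation of "the preimage of `U` is covered by good affine opens" -/
lemma cover_iff {X Y : Scheme.{u}} (f : X ⟶ Y) (U : Y.affineOpens) :
    (∃ T : Set X.affineOpens, (⋃ V ∈ T, ((V : X.Opens) : Set ↥X)) =
        ((f ⁻¹ᵁ (U : Y.Opens)) : Set ↥X) ∧
      ∀ V ∈ T, ∃ e : (V : X.Opens) ≤ f ⁻¹ᵁ (U : Y.Opens),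
        (f.appLE (U : Y.Opens) (V : X.Opens) e).hom.EssFiniteType) ↔
    ∀ x : X, f.base x ∈ (U : Y.Opens) → ∃ (V : X.affineOpens)
      (e : (V : X.Opens) ≤ f ⁻¹ᵁ (U : Y.Opens)), x ∈ (V : X.Opens) ∧
        (f.appLE (U : Y.Opens) (V : X.Opens) e).hom.EssFiniteType := by
  constructor
  · rintro ⟨T, hT, hT'⟩ x hx
    have hx' : x ∈ ((f ⁻¹ᵁ (U : Y.Opens)) : Set ↥X) := hx
    rw [← hT] at hx'
    simp only [Set.mem_iUnion, SetLike.mem_coe, exists_prop] at hx'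
    obtain ⟨V, hV, hxV⟩ := hx'
    obtain ⟨e, he⟩ := hT' V hV
    exact ⟨V, e, hxV, he⟩
  · intro h
    refine ⟨{V | ∃ e : (V : X.Opens) ≤ f ⁻¹ᵁ (U : Y.Opens),
        (f.appLE (U : Y.Opens) (V : X.Opens) e).hom.EssFiniteType}, ?_, fun V hV => hV⟩
    ext x
    simp only [Set.mem_iUnion, SetLike.mem_coe, exists_prop, Set.mem_ofPred_eq]
    constructor
    · rintro ⟨V, ⟨e, -⟩, hx⟩
      exact e hx
    · intro hx
      obtain ⟨V, e, hxV, he⟩ := h x hx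
      exact ⟨V, ⟨e, he⟩, hxV⟩

theorem s15258 {X Y : Scheme.{u}} (f : X ⟶ Y) :
    (∃ S : Set Y.affineOpens, (⋃ U ∈ S, ((U : Y.Opens) : Set ↥Y)) = Set.univ ∧
      ∀ U ∈ S, ∃ T : Set X.affineOpens, (⋃ V ∈ T, ((V : X.Opens) : Set ↥X)) = ((f ⁻¹ᵁ (U : Y.Opens)) : Set ↥X) ∧
        ∀ V ∈ T, ∃ e : (V : X.Opens) ≤ f ⁻¹ᵁ (U : Y.Opens), (f.appLE (U : Y.Opens) (V : X.Opens) e).hom.EssFiniteType) ↔
    ∀ U : Y.affineOpens, ∃ T : Set X.affineOpens, (⋃ V ∈ T, ((V : X.Opens) : Set ↥X)) = ((f ⁻¹ᵁ (U : Y.Opens)) : Set ↥X) ∧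
        ∀ V ∈ T, ∃ e : (V : X.Opens) ≤ f ⁻¹ᵁ (U : Y.Opens), (f.appLE (U : Y.Opens) (V : X.Opens) e).hom.EssFiniteType := by
  constructor
  · rintro ⟨S, hS, hS'⟩ U
    rw [cover_iff]
    intro x hx
    have h1 : f.base x ∈ (⋃ U ∈ S, ((U : Y.Opens) : Set ↥Y)) := by
      rw [hS]
      exact Set.mem_univ _
    simp only [Set.mem_iUnion, SetLike.mem_coe, exists_prop] at h1
    obtain ⟨U₁, hU₁, hxU₁⟩ := h1
    obtain ⟨V₀, e₀, hxV₀, h₀⟩ := (cover_iff f U₁).1 (hS' U₁ hU₁) x hxU₁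
    obtain ⟨V, e, hxV, -, hV⟩ := key f U₁ V₀ e₀ h₀ U x hxV₀ hx
    exact ⟨V, e, hxV, hV⟩
  · intro h
    refine ⟨Set.univ, ?_, fun U _ => h U⟩
    rw [Set.eq_univ_iff_forall]
    intro y
    obtain ⟨_, ⟨U, hU, rfl⟩, hyU, -⟩ := Y.isBasis_affineOpens.exists_subset_of_mem_open
      (Set.mem_univ y) isOpen_univ
    simp only [Set.mem_iUnion, SetLike.mem_coe, exists_prop]
    exact ⟨⟨U, hU⟩, Set.mem_univ _, hyU⟩


theorem s15259 {X Y : Scheme.{u}} (f : X ⟶ Y) :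
    ((∃ S : Set Y.affineOpens, (⋃ U ∈ S, ((U : Y.Opens) : Set ↥Y)) = Set.univ ∧
      ∀ U ∈ S, ∃ T : Set X.affineOpens, (⋃ V ∈ T, ((V : X.Opens) : Set ↥X)) = ((f ⁻¹ᵁ (U : Y.Opens)) : Set ↥X) ∧
        ∀ V ∈ T, ∃ e : (V : X.Opens) ≤ f ⁻¹ᵁ (U : Y.Opens), (f.appLE (U : Y.Opens) (V : X.Opens) e).hom.EssFiniteType) ∧ QuasiCompact f) ↔
    ∀ U : Y.affineOpens, ∃ T : Set X.affineOpens, T.Finite ∧ (⋃ V ∈ T, ((V : X.Opens) : Set ↥X)) = ((f ⁻¹ᵁ (U : Y.Opens)) : Set ↥X) ∧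
        ∀ V ∈ T, ∃ e : (V : X.Opens) ≤ f ⁻¹ᵁ (U : Y.Opens), (f.appLE (U : Y.Opens) (V : X.Opens) e).hom.EssFiniteType := by
  constructor
  · rintro ⟨h, hqc⟩ U
    obtain ⟨T, hT, hT'⟩ := (s15258 f).1 h U
    have hcomp : IsCompact ((f ⁻¹ᵁ (U : Y.Opens)) : Set ↥X) :=
      quasiCompact_iff_forall_isAffineOpen.1 hqc U U.2
    obtain ⟨T', hT'sub, hT'fin, hT'cov⟩ := hcomp.elim_finite_subcover_image
      (b := T) (c := fun V : X.affineOpens => ((V : X.Opens) : Set ↥X))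
      (fun V _ => (V : X.Opens).isOpen) hT.ge
    refine ⟨T', hT'fin, ?_, fun V hV => hT' V (hT'sub hV)⟩
    apply le_antisymm
    · rw [← hT]
      exact Set.biUnion_subset_biUnion_left hT'sub
    · exact hT'cov
  · intro h
    refine ⟨(s15258 f).2 fun U => ?_, ?_⟩
    · obtain ⟨T, -, hT, hT'⟩ := h U
      exact ⟨T, hT, hT'⟩
    · rw [quasiCompact_iff_forall_isAffineOpen]
      intro U hU
      obtain ⟨T, hfin, hT, -⟩ := h ⟨U, hU⟩
      rw [← hT]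
      exact hfin.isCompact_biUnion fun V _ => V.2.isCompact


lemma isIso_appLE_of_isOpenImmersion {W P : Scheme.{u}} (j : W ⟶ P) [IsOpenImmersion j]
    (V : P.Opens) (W' : W.Opens) (hV : V ≤ j.opensRange) (e : W' ≤ j ⁻¹ᵁ V)
    (e' : j ⁻¹ᵁ V ≤ W') : IsIso (j.appLE V W' e) := by
  have := j.isIso_app V hV
  have : IsIso (homOfLE e) := ⟨homOfLE e', Subsingleton.elim _ _, Subsingleton.elim _ _⟩
  unfold Scheme.Hom.appLE
  infer_instance

lemma appLE_congr_hom {W Y' : Scheme.{u}} {φ ψ : W ⟶ Y'} (h : φ = ψ) (U : Y'.Opens)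
    (V : W.Opens) (e : V ≤ φ ⁻¹ᵁ U) : φ.appLE U V e = ψ.appLE U V (h ▸ e) := by
  subst h
  rfl

lemma transfer {W P Y' : Scheme.{u}} (j : W ⟶ P) [IsOpenImmersion j] (h : P ⟶ Y')
    (U' : Y'.Opens) (h' : W ⟶ U'.toScheme) (comm : j ≫ h = h' ≫ U'.ι)
    (H : h'.appTop.hom.EssFiniteType) :
    ∃ e : j.opensRange ≤ h ⁻¹ᵁ U', (h.appLE U' j.opensRange e).hom.EssFiniteType := by
  have e : j.opensRange ≤ h ⁻¹ᵁ U' := by
    rintro _ ⟨w, rfl⟩
    show h.base (j.base w) ∈ U'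
    have : h.base (j.base w) = (U'.ι).base (h'.base w) := by
      rw [← Scheme.Hom.comp_apply, ← Scheme.Hom.comp_apply, comm]
    rw [this]
    exact (h'.base w).2
  refine ⟨e, ?_⟩
  have e₁ : (⊤ : W.Opens) ≤ j ⁻¹ᵁ j.opensRange := fun w _ => ⟨w, rfl⟩
  have : IsIso (j.appLE j.opensRange ⊤ e₁) :=
    isIso_appLE_of_isOpenImmersion j _ _ le_rfl e₁ le_top
  have e₂ : (⊤ : U'.toScheme.Opens) ≤ U'.ι ⁻¹ᵁ U' := fun w _ => w.2
  have : IsIso (U'.ι.appLE U' ⊤ e₂) :=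
    isIso_appLE_of_isOpenImmersion U'.ι _ _ (by rw [Scheme.Opens.opensRange_ι]) e₂ le_top
  have e₃ : (⊤ : W.Opens) ≤ h' ⁻¹ᵁ ⊤ := le_rfl
  have key : h.appLE U' j.opensRange e ≫ j.appLE j.opensRange ⊤ e₁ =
      U'.ι.appLE U' ⊤ e₂ ≫ h'.appTop := by
    rw [Scheme.Hom.appLE_comp_appLE, appLE_congr_hom comm,
      ← Scheme.Hom.appLE_comp_appLE h' U'.ι U' ⊤ ⊤ e₂ e₃]
    congr 1
    exact (Scheme.Hom.app_eq_appLE _).symm
  have h1 : (h.appLE U' j.opensRange e ≫ j.appLE j.opensRange ⊤ e₁).hom.EssFiniteType := by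
    rw [key, CommRingCat.hom_comp,
      RingHom.EssFiniteType.respectsIso.cancel_left_isIso]
    exact H
  rw [CommRingCat.hom_comp, RingHom.EssFiniteType.respectsIso.cancel_right_isIso] at h1
  exact h1


lemma snd_appTop {A B S : Scheme.{u}} [IsAffine A] [IsAffine B] [IsAffine S]
    (f' : A ⟶ S) (g' : B ⟶ S) (H : f'.appTop.hom.EssFiniteType) :
    (pullback.snd f' g').appTop.hom.EssFiniteType := by
  have h1 := RingHom.EssFiniteType.isStableUnderBaseChange.pullback_fst_appTop _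
    RingHom.EssFiniteType.respectsIso g' f' H
  have h2 : pullback.snd f' g' = (pullbackSymmetry f' g').hom ≫ pullback.fst g' f' := by
    simp
  have : IsIso (pullbackSymmetry f' g').hom.appTop :=
    inferInstanceAs (IsIso ((pullbackSymmetry f' g').hom.app ⊤))
  rw [h2, Scheme.Hom.comp_appTop, CommRingCat.hom_comp,
    RingHom.EssFiniteType.respectsIso.cancel_right_isIso]
  exact h1

theorem s15261 {X Y Y' : Scheme.{u}} (f : X ⟶ Y) (g : Y' ⟶ Y)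
    (hf : ∀ U : Y.affineOpens, ∃ T : Set X.affineOpens, (⋃ V ∈ T, ((V : X.Opens) : Set ↥X)) = ((f ⁻¹ᵁ (U : Y.Opens)) : Set ↥X) ∧
        ∀ V ∈ T, ∃ e : (V : X.Opens) ≤ f ⁻¹ᵁ (U : Y.Opens), (f.appLE (U : Y.Opens) (V : X.Opens) e).hom.EssFiniteType)
    (U : Y'.affineOpens) :
    ∃ T : Set (pullback f g).affineOpens, (⋃ V ∈ T, ((V : (pullback f g).Opens) : Set ↥(pullback f g))) = (((pullback.snd f g) ⁻¹ᵁ (U : Y'.Opens)) : Set ↥(pullback f g)) ∧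
        ∀ V ∈ T, ∃ e : (V : (pullback f g).Opens) ≤ (pullback.snd f g) ⁻¹ᵁ (U : Y'.Opens), ((pullback.snd f g).appLE (U : Y'.Opens) (V : (pullback f g).Opens) e).hom.EssFiniteType := by
  rw [cover_iff]
  intro z hz
  -- affine neighbourhood of the image point in `Y`
  obtain ⟨_, ⟨UY0, hUY0, rfl⟩, hyUY, -⟩ := Y.isBasis_affineOpens.exists_subset_of_mem_open
    (Set.mem_univ (f.base ((pullback.fst f g).base z))) isOpen_univ
  obtain ⟨UY, rfl⟩ : ∃ UY : Y.affineOpens, (UY : Y.Opens) = UY0 := ⟨⟨UY0, hUY0⟩, rfl⟩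
  obtain ⟨VX, eX, hxVX, hVX⟩ := (cover_iff f UY).1 (hf UY)
    ((pullback.fst f g).base z) hyUY
  have hcond : g.base ((pullback.snd f g).base z) = f.base ((pullback.fst f g).base z) := by
    rw [← Scheme.Hom.comp_apply, ← Scheme.Hom.comp_apply, pullback.condition]
  have hy' : (pullback.snd f g).base z ∈ g ⁻¹ᵁ (UY : Y.Opens) := by
    show g.base _ ∈ (UY : Y.Opens)
    rw [hcond]
    exact hyUY
  obtain ⟨_, ⟨U10, hU10, rfl⟩, hzU1, hU1le⟩ := Y'.isBasis_affineOpens.exists_subset_of_mem_open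
    hy' (g ⁻¹ᵁ (UY : Y.Opens)).isOpen
  obtain ⟨U1, rfl⟩ : ∃ U1 : Y'.affineOpens, (U1 : Y'.Opens) = U10 := ⟨⟨U10, hU10⟩, rfl⟩
  have e' : (U1 : Y'.Opens) ≤ g ⁻¹ᵁ (UY : Y.Opens) := hU1le
  have : IsAffine (VX : X.Opens).toScheme := VX.2
  have : IsAffine (UY : Y.Opens).toScheme := UY.2
  have : IsAffine (U1 : Y'.Opens).toScheme := U1.2
  set f' := f.resLE (UY : Y.Opens) (VX : X.Opens) eX with hf'
  set g' := g.resLE (UY : Y.Opens) (U1 : Y'.Opens) e' with hg'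
  set j := pullback.map f' g' f g (VX : X.Opens).ι (U1 : Y'.Opens).ι (UY : Y.Opens).ι
    (Scheme.Hom.resLE_comp_ι f eX) (Scheme.Hom.resLE_comp_ι g e') with hj
  have H' : f'.appTop.hom.EssFiniteType := by
    have : f'.appTop = (UY : Y.Opens).topIso.hom ≫ f.appLE (UY : Y.Opens) (VX : X.Opens) eX ≫
        (VX : X.Opens).topIso.inv := Scheme.Hom.resLE_app_top f eX
    rw [this, CommRingCat.hom_comp, RingHom.EssFiniteType.respectsIso.cancel_left_isIso,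
      CommRingCat.hom_comp, RingHom.EssFiniteType.respectsIso.cancel_right_isIso]
    exact hVX
  have H := snd_appTop f' g' H'
  have comm : j ≫ pullback.snd f g = pullback.snd f' g' ≫ (U1 : Y'.Opens).ι := by
    rw [hj, pullback.lift_snd]
  obtain ⟨e₀, h₀⟩ := transfer j (pullback.snd f g) (U1 : Y'.Opens) (pullback.snd f' g') comm H
  have hz₀ : z ∈ j.opensRange := by
    show z ∈ Set.range j.base
    rw [hj, Scheme.Pullback.range_map]
    refine ⟨⟨⟨_, hxVX⟩, rfl⟩, ⟨⟨_, hzU1⟩, rfl⟩⟩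
  obtain ⟨V, e, hzV, -, hV⟩ := key (pullback.snd f g) U1
    ⟨j.opensRange, isAffineOpen_opensRange j⟩ e₀ h₀ U z hz₀ hz
  exact ⟨V, e, hzV, hV⟩

end Groth.Agent.Lib.Helper6.EssFT
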