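import Mathlib
import Groth.Agent.Lib.Helper5.Stalk.Faithful
import Groth.Prelude.Def_FlatFun
import Groth.Prelude.Def_FlatMod2

/-!
# Flatness over the base ascends along flat morphisms of the total space; transcendence degrees
of residue fields do not change along morphisms with algebraic residue field extensions (helper6)
-/

set_option backward.isDefEq.respectTransparency.types false
set_option synthInstance.maxHeartbeats 400000
set_option autoImplicit false
set_option linter.unusedSectionVars false
set_option linter.style.haveILetI false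
set_option linter.unusedSimpArgs false
universe u v w
open CategoryTheory CategoryTheory.Limits AlgebraicGeometry TopologicalSpace Topology TensorProduct

namespace Groth.Agent.Lib.Helper6.EtFlatDim

section Alg

variable {A B B' : Type u} [CommRing A] [CommRing B] [CommRing B'] [Algebra A B] [Algebra B B']
  [Algebra A B'] [IsScalarTower A B B'] [Module.Flat B B']
  (M : Type u) [AddCommGroup M] [Module B M] [Module A M] [IsScalarTower A B M]

/-- flatness over `A` of a `B`-module ascends along a flat extension `B → B'` -/
theorem flat_tensor_of_flat (h : Module.Flat A M) : Module.Flat A (B' ⊗[B] M) := by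
  rw [Module.Flat.iff_lTensor_injective']
  intro J
  let g : M ⊗[A] J →ₗ[B] M ⊗[A] A := AlgebraTensorModule.lTensor B M J.subtype
  have hg : Function.Injective g := by
    show Function.Injective (J.subtype.lTensor M)
    exact Module.Flat.lTensor_preserves_injective_linearMap _ J.subtype_injective
  have hg' : Function.Injective (g.lTensor B') :=
    Module.Flat.lTensor_preserves_injective_linearMap g hg
  let e₁ := AlgebraTensorModule.assoc A B B' B' M J
  let e₂ := AlgebraTensorModule.assoc A B B' B' M A
  have key : ∀ x, e₂ (J.subtype.lTensor (B' ⊗[B] M) x) = g.lTensor B' (e₁ x) := by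
    intro x
    induction x using TensorProduct.induction_on with
    | zero => simp
    | add x y hx hy => simp only [map_add, hx, hy]
    | tmul bm j =>
      induction bm using TensorProduct.induction_on with
      | zero => simp
      | add x y hx hy => simp only [TensorProduct.add_tmul, map_add, hx, hy]
      | tmul b m => rfl
  intro x y hxy
  apply e₁.injective
  apply hg'
  rw [← key, ← key, hxy]

end Alg

section Geom

open Groth.Agent.Lib.Helper5.StalkAdj

set_option maxHeartbeats 1600000 in
/-- flatness over the base of a module ascends along a flat morphism of the total space -/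
theorem isFlatOverAt_pullback_of_flat {X' X S : Scheme.{u}} (g' : X' ⟶ X) [Flat g'] (f : X ⟶ S)
    (F : X.Modules) (x' : X')
    (h : FlatMod.IsFlatOverAt f F (g' x')) :
    FlatMod.IsFlatOverAt (g' ≫ f) ((Scheme.Modules.pullback g').obj F) x' := by
  letI algAB : Algebra (S.presheaf.stalk (f (g' x'))) (X.presheaf.stalk (g' x')) :=
    (f.stalkMap (g' x')).hom.toAlgebra
  letI algBB' : Algebra (X.presheaf.stalk (g' x')) (X'.presheaf.stalk x') :=
    (g'.stalkMap x').hom.toAlgebra
  letI algAB' : Algebra (S.presheaf.stalk (f (g' x'))) (X'.presheaf.stalk x') :=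
    ((g' ≫ f).stalkMap x').hom.toAlgebra
  haveI t1 : IsScalarTower (S.presheaf.stalk (f (g' x'))) (X.presheaf.stalk (g' x'))
      (X'.presheaf.stalk x') := IsScalarTower.of_algebraMap_eq' (by
    show ((g' ≫ f).stalkMap x').hom = (g'.stalkMap x').hom.comp (f.stalkMap (g' x')).hom
    rw [Scheme.Hom.stalkMap_comp]
    rfl)
  haveI ff : Module.FaithfullyFlat (X.presheaf.stalk (g' x')) (X'.presheaf.stalk x') :=
    faithfullyFlat_stalkMap g' x'
  letI mA : Module (S.presheaf.stalk (f (g' x'))) (F.presheaf.stalk (g' x')) :=
    FlatMod.moduleStalkOver f F (g' x')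
  haveI t2 : IsScalarTower (S.presheaf.stalk (f (g' x'))) (X.presheaf.stalk (g' x'))
      (F.presheaf.stalk (g' x')) := IsScalarTower.of_algebraMap_smul fun r m => rfl
  letI mA' : Module (S.presheaf.stalk (f (g' x')))
      (((Scheme.Modules.pullback g').obj F).presheaf.stalk x') :=
    FlatMod.moduleStalkOver (g' ≫ f) ((Scheme.Modules.pullback g').obj F) x'
  haveI t3 : IsScalarTower (S.presheaf.stalk (f (g' x'))) (X'.presheaf.stalk x')
      (((Scheme.Modules.pullback g').obj F).presheaf.stalk x') :=
    IsScalarTower.of_algebraMap_smul fun r m => rfl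
  have hfl : Module.Flat (S.presheaf.stalk (f (g' x'))) (F.presheaf.stalk (g' x')) := h
  let e : (((Scheme.Modules.pullback g').obj F).presheaf.stalk x') ≃ₗ[X'.presheaf.stalk x']
      (X'.presheaf.stalk x') ⊗[X.presheaf.stalk (g' x')] (F.presheaf.stalk (g' x')) :=
    ((stalkPullbackIso g' x').app F).toLinearEquiv
  haveI h2 : Module.Flat (S.presheaf.stalk (f (g' x')))
      ((X'.presheaf.stalk x') ⊗[X.presheaf.stalk (g' x')] (F.presheaf.stalk (g' x'))) :=
    flat_tensor_of_flat (F.presheaf.stalk (g' x')) hfl
  have h3 : Module.Flat (S.presheaf.stalk (f (g' x')))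
      (((Scheme.Modules.pullback g').obj F).presheaf.stalk x') :=
    Module.Flat.of_linearEquiv (e.restrictScalars (S.presheaf.stalk (f (g' x'))))
  exact h3

/-- flatness over the base is invariant under isomorphisms of modules -/
theorem isFlatOverAt_of_iso {X S : Scheme.{u}} (f : X ⟶ S) {M N : X.Modules} (e : M ≅ N) (x : X)
    (h : FlatMod.IsFlatOverAt f M x) : FlatMod.IsFlatOverAt f N x := by
  letI alg : Algebra (S.presheaf.stalk (f x)) (X.presheaf.stalk x) := (f.stalkMap x).hom.toAlgebra
  letI mM : Module (S.presheaf.stalk (f x)) (M.presheaf.stalk x) := FlatMod.moduleStalkOver f M x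
  letI mN : Module (S.presheaf.stalk (f x)) (N.presheaf.stalk x) := FlatMod.moduleStalkOver f N x
  haveI t2 : IsScalarTower (S.presheaf.stalk (f x)) (X.presheaf.stalk x) (M.presheaf.stalk x) :=
    IsScalarTower.of_algebraMap_smul fun r m => rfl
  haveI t3 : IsScalarTower (S.presheaf.stalk (f x)) (X.presheaf.stalk x) (N.presheaf.stalk x) :=
    IsScalarTower.of_algebraMap_smul fun r m => rfl
  have hfl : Module.Flat (S.presheaf.stalk (f x)) (M.presheaf.stalk x) := h
  let E : (M.presheaf.stalk x) ≃ₗ[X.presheaf.stalk x] (N.presheaf.stalk x) :=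
    ((stalkSh X x).mapIso e).toLinearEquiv
  have h3 : Module.Flat (S.presheaf.stalk (f x)) (N.presheaf.stalk x) :=
    Module.Flat.of_linearEquiv (E.restrictScalars (S.presheaf.stalk (f x))).symm
  exact h3

end Geom

section Trdeg

/-- the transcendence-degree condition on fibres passes to the source of a morphism with
algebraic residue field extensions -/
theorem dimFibresLT_of_comp {X' X T : Scheme.{u}} (g : X' ⟶ X) (q : X ⟶ T) (q' : X' ⟶ T)
    (e : g ≫ q = q') (n : ℕ) (Z : Set X) (Z' : Set X') (hZ : ∀ x' ∈ Z', g x' ∈ Z)
    (halg : ∀ x' : X',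
      letI := (g.residueFieldMap x').hom.toAlgebra
      Algebra.IsAlgebraic (X.residueField (g x')) (X'.residueField x'))
    (h : FlatFun.DimFibresLT n q Z) : FlatFun.DimFibresLT n q' Z' := by
  subst e
  intro x' hx'
  have h1 := h (g x') (hZ x' hx')
  letI a1 : Algebra (T.residueField (q (g x'))) (X.residueField (g x')) :=
    (q.residueFieldMap (g x')).hom.toAlgebra
  letI a2 : Algebra (X.residueField (g x')) (X'.residueField x') :=
    (g.residueFieldMap x').hom.toAlgebra
  letI a3 : Algebra (T.residueField (q (g x'))) (X'.residueField x') :=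
    ((g ≫ q).residueFieldMap x').hom.toAlgebra
  haveI t1 : IsScalarTower (T.residueField (q (g x'))) (X.residueField (g x'))
      (X'.residueField x') := IsScalarTower.of_algebraMap_eq' (by
    show ((g ≫ q).residueFieldMap x').hom =
      (g.residueFieldMap x').hom.comp (q.residueFieldMap (g x')).hom
    rw [Scheme.residueFieldMap_comp]
    rfl)
  haveI : Algebra.IsAlgebraic (X.residueField (g x')) (X'.residueField x') := halg x'
  have key : Algebra.trdeg (T.residueField (q (g x'))) (X'.residueField x') =
      Algebra.trdeg (T.residueField (q (g x'))) (X.residueField (g x')) := by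
    rw [← trdeg_add_eq (T.residueField (q (g x'))) (X.residueField (g x'))
      (A := X'.residueField x'),
      trdeg_eq_zero (R := X.residueField (g x')) (A := X'.residueField x'), add_zero]
  show Algebra.trdeg (T.residueField (q (g x'))) (X'.residueField x') < (n : Cardinal.{u})
  rw [key]
  exact h1

end Trdeg

section Main

variable {X X' S : Scheme.{u}} (f : X ⟶ S) (F : X.Modules) (h : X' ⟶ X) [Etale h]

theorem main (n : ℕ) (T : Over S)
    (hT : FlatFun.DimFibresLT n (PicF.XTproj f T)
        {x | ¬ FlatMod.IsFlatOverAt (PicF.XTproj f T) (FGA.ET f F T) x}) :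
    FlatFun.DimFibresLT n (PicF.XTproj (h ≫ f) T)
        {x | ¬ FlatMod.IsFlatOverAt (PicF.XTproj (h ≫ f) T)
          (FGA.ET (h ≫ f) ((Scheme.Modules.pullback h).obj F) T) x} := by
  obtain ⟨hT', e1, e2⟩ : ∃ hT' : pullback (h ≫ f) T.hom ⟶ pullback f T.hom,
      hT' ≫ pullback.fst f T.hom = pullback.fst (h ≫ f) T.hom ≫ h ∧
      hT' ≫ pullback.snd f T.hom = pullback.snd (h ≫ f) T.hom :=
    ⟨pullback.lift (pullback.fst (h ≫ f) T.hom ≫ h) (pullback.snd (h ≫ f) T.hom)
      (by rw [Category.assoc, pullback.condition]), pullback.lift_fst _ _ _, pullback.lift_snd _ _ _⟩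
  have sq : IsPullback hT' (pullback.fst (h ≫ f) T.hom) (pullback.fst f T.hom) h := by
    refine IsPullback.of_right ?_ e1 (IsPullback.of_hasPullback f T.hom).flip
    rw [e2]
    exact (IsPullback.of_hasPullback (h ≫ f) T.hom).flip
  haveI : Etale hT' := MorphismProperty.of_isPullback (P := @Etale) sq.flip inferInstance
  haveI : Flat hT' := inferInstance
  let iso : (Scheme.Modules.pullback hT').obj (FGA.ET f F T) ≅
      FGA.ET (h ≫ f) ((Scheme.Modules.pullback h).obj F) T :=
    (Scheme.Modules.pullbackComp hT' (pullback.fst f T.hom)).app F ≪≫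
      (Scheme.Modules.pullbackCongr e1).app F ≪≫
      ((Scheme.Modules.pullbackComp (pullback.fst (h ≫ f) T.hom) h).app F).symm
  refine dimFibresLT_of_comp hT' (PicF.XTproj f T) (PicF.XTproj (h ≫ f) T) e2 n _ _ ?_ ?_ hT
  · intro x' hx' hflat
    apply hx'
    have h1 : FlatMod.IsFlatOverAt (hT' ≫ PicF.XTproj f T)
        ((Scheme.Modules.pullback hT').obj (FGA.ET f F T)) x' :=
      isFlatOverAt_pullback_of_flat hT' (PicF.XTproj f T) _ x' hflat
    have h2 : FlatMod.IsFlatOverAt (hT' ≫ PicF.XTproj f T)
        (FGA.ET (h ≫ f) ((Scheme.Modules.pullback h).obj F) T) x' :=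
      isFlatOverAt_of_iso _ iso x' h1
    have e2' : hT' ≫ PicF.XTproj f T = PicF.XTproj (h ≫ f) T := e2
    rw [e2'] at h2
    exact h2
  · intro x'
    letI := (hT'.residueFieldMap x').hom.toAlgebra
    haveI : Algebra.IsSeparable ((pullback f T.hom).residueField (hT' x'))
        ((pullback (h ≫ f) T.hom).residueField x') := inferInstance
    exact Algebra.IsSeparable.isAlgebraic _ _

end Main

end Groth.Agent.Lib.Helper6.EtFlatDim
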