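import Mathlib
import Groth.Agent.Lib.Helper6.EtaleCoord

set_option autoImplicit false
set_option linter.style.haveILetI false
set_option linter.unusedSectionVars false

open TensorProduct KaehlerDifferential

namespace Groth.Agent.Lib.Helper6.EtaleCoord

universe u

theorem finite_quotient {k R : Type u} [CommRing k] [IsLocalRing k]
    [Finite (IsLocalRing.ResidueField k)] [CommRing R] [Algebra k R] [Algebra.FiniteType k R]
    (m : Ideal R) [m.IsMaximal] (hm : m.comap (algebraMap k R) = IsLocalRing.maximalIdeal k) :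
    Finite (R ⧸ m) := by
  haveI : m.LiesOver (IsLocalRing.maximalIdeal k) := ⟨hm.symm⟩
  letI : Field (R ⧸ m) := Ideal.Quotient.field m
  haveI : Algebra.FiniteType k (R ⧸ m) := inferInstance  -- quotient
  haveI : Algebra.FiniteType (k ⧸ IsLocalRing.maximalIdeal k) (R ⧸ m) :=
    Algebra.FiniteType.of_restrictScalars_finiteType k _ _
  haveI : Finite (k ⧸ IsLocalRing.maximalIdeal k) := ‹Finite (IsLocalRing.ResidueField k)›
  letI : Field (k ⧸ IsLocalRing.maximalIdeal k) := Ideal.Quotient.field _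
  haveI : Module.Finite (k ⧸ IsLocalRing.maximalIdeal k) (R ⧸ m) :=
    finite_of_finite_type_of_isJacobsonRing _ _
  exact Module.finite_of_finite (k ⧸ IsLocalRing.maximalIdeal k)

theorem exists_coords {k R : Type u} [CommRing k] [CommRing R] [Algebra k R]
    (m : Ideal R) [m.IsMaximal] [Finite (R ⧸ m)] (d : ℕ) (hd : 0 < d)
    (hdim : Module.finrank (R ⧸ m) ((R ⧸ m) ⊗[R] Ω[R⁄k]) = d) :
    ∃ (x : Fin d → R) (i₀ : Fin d),
      LinearIndependent (R ⧸ m) (fun i => (1 : R ⧸ m) ⊗ₜ[R] D k R (x i)) ∧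
      Submodule.span (R ⧸ m) (Set.range (fun i => (1 : R ⧸ m) ⊗ₜ[R] D k R (x i))) = ⊤ ∧
      ∀ r : R, r ∈ m ∨ ∃ n : ℕ, r - (x i₀) ^ n ∈ m := by
  classical
  letI : Field (R ⧸ m) := Ideal.Quotient.field m
  letI : Fintype (R ⧸ m) := Fintype.ofFinite _
  let δ : R →+ (R ⧸ m) ⊗[R] Ω[R⁄k] :=
    ((TensorProduct.mk R (R ⧸ m) Ω[R⁄k] 1).toAddMonoidHom).comp
      (D k R).toLinearMap.toAddMonoidHom
  have hδ : ∀ r, δ r = (1 : R ⧸ m) ⊗ₜ[R] D k R r := fun r => rfl
  -- span
  have hspan : Submodule.span (R ⧸ m) (Set.range δ) = ⊤ := by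
    have h1 := Submodule.baseChange_span (R := R) (A := R ⧸ m) (Set.range (D k R))
    rw [KaehlerDifferential.span_range_derivation, Submodule.baseChange_top] at h1
    rw [h1]
    congr 1
    ext v
    constructor
    · rintro ⟨r, rfl⟩
      exact ⟨D k R r, ⟨r, rfl⟩, rfl⟩
    · rintro ⟨_, ⟨r, rfl⟩, rfl⟩
      exact ⟨r, rfl⟩
  -- Frobenius trick
  have hfrob : ∀ r : R, ∃ y ∈ m, δ y = - δ r := by
    intro r
    refine ⟨r ^ (Fintype.card (R ⧸ m)) - r, ?_, ?_⟩
    · rw [← Ideal.Quotient.eq, map_pow, FiniteField.pow_card]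
    · rw [map_sub]
      have : δ (r ^ (Fintype.card (R ⧸ m))) = 0 := by
        rw [hδ, Derivation.leibniz_pow, tmul_smul, ← Nat.cast_smul_eq_nsmul (R ⧸ m),
          Nat.cast_card_eq_zero, zero_smul]
      rw [this, zero_sub]
  -- generator
  obtain ⟨ζ, hζ⟩ := IsCyclic.exists_monoid_generator (α := (R ⧸ m)ˣ)
  obtain ⟨a₀, ha₀⟩ := Ideal.Quotient.mk_surjective (ζ : R ⧸ m)
  have hgen : ∀ x₀ : R, Ideal.Quotient.mk m x₀ = ζ →
      ∀ r : R, r ∈ m ∨ ∃ n : ℕ, r - x₀ ^ n ∈ m := by
    intro x₀ hx₀ r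
    by_cases hr : r ∈ m
    · exact Or.inl hr
    · right
      have hne : Ideal.Quotient.mk m r ≠ 0 := by
        rwa [Ne, Ideal.Quotient.eq_zero_iff_mem]
      obtain ⟨n, hn⟩ := hζ (Units.mk0 _ hne)
      refine ⟨n, ?_⟩
      rw [← Ideal.Quotient.eq, map_pow, hx₀]
      have := congrArg (Units.val) hn
      simp only [Units.val_pow_eq_pow_val, Units.val_mk0] at this
      exact this.symm
  -- nontrivial
  have hV : Nontrivial ((R ⧸ m) ⊗[R] Ω[R⁄k]) := by
    apply Module.nontrivial_of_finrank_pos (R := R ⧸ m)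
    rw [hdim]; exact hd
  have hex : ∃ r, δ r ≠ 0 := by
    by_contra hcon
    push Not at hcon
    have : Submodule.span (R ⧸ m) (Set.range δ) = ⊥ := by
      rw [Submodule.span_eq_bot]
      rintro _ ⟨r, rfl⟩
      exact hcon r
    rw [hspan] at this
    exact top_ne_bot this
  -- choose x₀
  have hx₀ : ∃ x₀ : R, Ideal.Quotient.mk m x₀ = ζ ∧ δ x₀ ≠ 0 := by
    by_cases h0 : δ a₀ = 0
    · obtain ⟨r, hr⟩ := hex
      obtain ⟨y, hym, hy⟩ := hfrob r
      refine ⟨a₀ + y, ?_, ?_⟩
      · rw [map_add, ha₀, Ideal.Quotient.eq_zero_iff_mem.2 hym, add_zero]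
      · rw [map_add, h0, zero_add, hy]
        exact neg_ne_zero.2 hr
    · exact ⟨a₀, ha₀, h0⟩
  obtain ⟨x₀, hx₀ζ, hx₀δ⟩ := hx₀
  have hs : LinearIndepOn (R ⧸ m) δ {x₀} := (linearIndepOn_singleton_iff (R ⧸ m)).2 hx₀δ
  obtain ⟨b, -, hsb, hsp, hli⟩ := exists_linearIndepOn_extension hs (Set.subset_univ _)
  have hsp' : ⊤ ≤ Submodule.span (R ⧸ m) (Set.range (fun r : b => δ r.1)) := by
    rw [← hspan]
    apply Submodule.span_le.2
    rw [← Set.image_univ]
    refine hsp.trans ?_
    apply Submodule.span_mono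
    rintro _ ⟨r, hr, rfl⟩
    exact ⟨⟨r, hr⟩, rfl⟩
  let B : Module.Basis b (R ⧸ m) ((R ⧸ m) ⊗[R] Ω[R⁄k]) := Module.Basis.mk hli hsp'
  haveI : Module.Finite (R ⧸ m) ((R ⧸ m) ⊗[R] Ω[R⁄k]) :=
    Module.finite_of_finrank_pos (by rw [hdim]; exact hd)
  haveI : Finite b := Module.Finite.finite_basis B
  letI : Fintype b := Fintype.ofFinite b
  have hcard : Fintype.card b = d := by
    rw [← Module.finrank_eq_card_basis B, hdim]
  let e : Fin d ≃ b := (Fintype.equivFinOfCardEq hcard).symm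
  refine ⟨fun i => (e i).1, e.symm ⟨x₀, hsb rfl⟩, ?_, ?_, ?_⟩
  · exact hli.comp e e.injective
  · rw [eq_top_iff]
    refine hsp'.trans ?_
    apply Submodule.span_mono
    rintro _ ⟨r, rfl⟩
    exact ⟨e.symm r, by simp [hδ]⟩
  · simp only [Equiv.apply_symm_apply]
    exact hgen x₀ hx₀ζ

theorem surj_aux {k R : Type u} [CommRing k] [CommRing R] [Algebra k R]
    (m : Ideal R) [m.IsMaximal] (g : R) (hg : g ∉ m) {d : ℕ} (x : Fin d → R) (i₀ : Fin d)
    (hgen : ∀ r : R, r ∈ m ∨ ∃ n : ℕ, r - (x i₀) ^ n ∈ m)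
    (φ : MvPolynomial (Fin d) k →ₐ[k] Localization.Away g)
    (hφ : ∀ i, φ (MvPolynomial.X i) = algebraMap R (Localization.Away g) (x i)) :
    Function.Surjective
      ((Ideal.Quotient.mk (m.map (algebraMap R (Localization.Away g)))).comp φ.toRingHom) := by
  set I := m.map (algebraMap R (Localization.Away g)) with hI
  have hmem : ∀ r ∈ m, Ideal.Quotient.mk I (algebraMap R (Localization.Away g) r) = 0 := by
    intro r hr
    rw [Ideal.Quotient.eq_zero_iff_mem]
    exact Ideal.mem_map_of_mem _ hr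
  obtain ⟨s, i, hi, hsi⟩ := Ideal.IsMaximal.exists_inv (inferInstance : m.IsMaximal) hg
  have hsg : Ideal.Quotient.mk I (algebraMap R (Localization.Away g) (s * g)) = 1 := by
    have : s * g = 1 - i := by rw [← hsi]; ring
    rw [this, map_sub, map_sub, hmem i hi, map_one, map_one, sub_zero]
  intro z
  obtain ⟨t, rfl⟩ := Ideal.Quotient.mk_surjective z
  obtain ⟨n, a, ha⟩ := IsLocalization.Away.surj g t
  have h1 : Ideal.Quotient.mk I t =
      Ideal.Quotient.mk I (algebraMap R (Localization.Away g) (a * s ^ n)) := by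
    have : Ideal.Quotient.mk I t = Ideal.Quotient.mk I t *
        (Ideal.Quotient.mk I (algebraMap R (Localization.Away g) (s * g))) ^ n := by
      rw [hsg, one_pow, mul_one]
    have h2 : t * (algebraMap R (Localization.Away g) (s * g)) ^ n =
        algebraMap R (Localization.Away g) (a * s ^ n) := by
      simp only [map_mul, map_pow]
      rw [← ha]
      ring
    rw [this, ← map_pow, ← map_mul, h2]
  rw [h1]
  rcases hgen (a * s ^ n) with h | ⟨n', hn'⟩
  · refine ⟨0, ?_⟩
    rw [map_zero, hmem _ h]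
  · refine ⟨MvPolynomial.X i₀ ^ n', ?_⟩
    rw [RingHom.comp_apply]
    have : φ.toRingHom (MvPolynomial.X i₀ ^ n') =
        algebraMap R (Localization.Away g) (x i₀ ^ n') := by
      rw [map_pow, map_pow]
      congr 1
      exact hφ i₀
    rw [this, ← sub_eq_zero, ← map_sub, ← map_sub]
    have := hmem _ hn'
    rw [← neg_eq_zero, ← map_neg, ← map_neg, neg_sub]
    exact this

theorem main (k : Type u) [CommRing k] [IsLocalRing k] [Finite (IsLocalRing.ResidueField k)]
    (R : Type u) [CommRing R] [Algebra k R] [Algebra.FinitePresentation k R]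
    (m : Ideal R) [m.IsMaximal] (hm : m.comap (algebraMap k R) = IsLocalRing.maximalIdeal k)
    [Algebra.IsSmoothAt k m] (d : ℕ) (hd : 0 < d)
    (hdim : Module.finrank (R ⧸ m) ((R ⧸ m) ⊗[R] KaehlerDifferential k R) = d) :
    ∃ g : R, g ∉ m ∧ ∃ φ : MvPolynomial (Fin d) k →ₐ[k] Localization.Away g,
      φ.toRingHom.Etale ∧
      Function.Surjective
        ((Ideal.Quotient.mk (m.map (algebraMap R (Localization.Away g)))).comp φ.toRingHom) := by
  haveI : Finite (R ⧸ m) := finite_quotient m hm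
  obtain ⟨x, i₀, hli, hsp, hgen⟩ := exists_coords (k := k) m d hd hdim
  have hp := bijective_atPrime_of_basis m x hli hsp
  obtain ⟨r, hr, hbij⟩ := exists_bijective_away m x hp
  obtain ⟨g₁, hg₁, hsm⟩ := Algebra.IsSmoothAt.exists_notMem_smooth k m
  have hgm : g₁ * r ∉ m := fun h =>
    ((inferInstance : m.IsPrime).mem_or_mem h).elim hg₁ hr
  refine ⟨g₁ * r, hgm, ?_⟩
  have hbg := hbij (g₁ * r) (Dvd.intro_left _ rfl)
  -- smooth
  haveI : Algebra.FormallySmooth k (Localization.Away (g₁ * r)) := by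
    rw [← Algebra.basicOpen_subset_smoothLocus_iff]
    have h1 : (PrimeSpectrum.basicOpen (g₁ * r) : Set (PrimeSpectrum R)) ⊆
        PrimeSpectrum.basicOpen g₁ := PrimeSpectrum.basicOpen_mul_le_left g₁ r
    exact h1.trans (Algebra.basicOpen_subset_smoothLocus_iff_smooth.2 hsm)
  haveI : Algebra.FinitePresentation R (Localization.Away (g₁ * r)) :=
    IsLocalization.Away.finitePresentation (g₁ * r)
  haveI : Algebra.FinitePresentation k (Localization.Away (g₁ * r)) := .trans k R _
  let φ : MvPolynomial (Fin d) k →ₐ[k] Localization.Away (g₁ * r) :=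
    MvPolynomial.aeval (fun i => algebraMap R (Localization.Away (g₁ * r)) (x i))
  have hφ : ∀ i, φ (MvPolynomial.X i) = algebraMap R (Localization.Away (g₁ * r)) (x i) :=
    fun i => MvPolynomial.aeval_X _ i
  refine ⟨φ, ?_, surj_aux m (g₁ * r) hgm x i₀ hgen φ hφ⟩
  letI : Algebra (MvPolynomial (Fin d) k) (Localization.Away (g₁ * r)) := φ.toRingHom.toAlgebra
  haveI : IsScalarTower k (MvPolynomial (Fin d) k) (Localization.Away (g₁ * r)) :=
    IsScalarTower.of_algebraMap_eq fun a => (φ.commutes a).symm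
  have hb : Function.Bijective (Finsupp.linearCombination (Localization.Away (g₁ * r))
      (fun i : Fin d => D k (Localization.Away (g₁ * r))
        (algebraMap (MvPolynomial (Fin d) k) (Localization.Away (g₁ * r))
          (MvPolynomial.X i)))) := by
    have : (fun i : Fin d => D k (Localization.Away (g₁ * r))
        (algebraMap (MvPolynomial (Fin d) k) (Localization.Away (g₁ * r))
          (MvPolynomial.X i))) = (fun i : Fin d => D k (Localization.Away (g₁ * r))
            (algebraMap R (Localization.Away (g₁ * r)) (x i))) := by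
      funext i
      congr 1
      exact hφ i
    rw [this]
    exact hbg
  haveI := formallyEtale_of_basis hb
  haveI : Algebra.FinitePresentation (MvPolynomial (Fin d) k) (Localization.Away (g₁ * r)) :=
    Algebra.FinitePresentation.of_restrict_scalars_finitePresentation k _ _
  show Algebra.Etale (MvPolynomial (Fin d) k) (Localization.Away (g₁ * r))
  exact ⟨inferInstance, inferInstance⟩

end Groth.Agent.Lib.Helper6.EtaleCoord
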