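import Mathlib

set_option autoImplicit false
set_option linter.style.haveILetI false
set_option linter.unusedSectionVars false

open Polynomial

namespace Groth.Agent.Lib.Helper6.SplitAlg

universe u

/-- A finite free, finitely presented algebra in which a monic polynomial splits completely. -/
theorem exists_splitting (n : ℕ) : ∀ (R : Type u) [CommRing R] (f : R[X]), f.Monic →
    f.natDegree = n →
    ∃ (S' : Type u) (_ : CommRing S') (_ : Algebra R S'), Module.Finite R S' ∧ Module.Free R S' ∧
      Algebra.FinitePresentation R S' ∧ (Nontrivial R → Nontrivial S') ∧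
      ∃ s : Multiset S', f.map (algebraMap R S') = (s.map fun a => X - C a).prod := by
  induction n with
  | zero =>
    intro R _ f hf hn
    refine ⟨R, inferInstance, inferInstance, inferInstance, inferInstance, inferInstance,
      fun h => h, 0, ?_⟩
    have : f = 1 := by
      have := Polynomial.eq_C_of_natDegree_eq_zero hn
      rw [this, ← hn, hf.coeff_natDegree, map_one]
    simp [this]
  | succ n ih =>
    intro R _ f hf hn
    haveI : Module.Finite R (AdjoinRoot f) := hf.finite_adjoinRoot
    haveI : Module.Free R (AdjoinRoot f) := hf.free_adjoinRoot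
    haveI : Algebra.FinitePresentation R (AdjoinRoot f) := by
      refine Algebra.FinitePresentation.of_surjective (f := AdjoinRoot.mkₐ f)
        AdjoinRoot.mk_surjective ?_
      have : RingHom.ker (AdjoinRoot.mkₐ (R := R) f).toRingHom = Ideal.span {f} := by
        ext g
        rw [RingHom.mem_ker, Ideal.mem_span_singleton]
        exact AdjoinRoot.mk_eq_zero
      rw [this]
      exact ⟨{f}, by simp⟩
    haveI hRnt : Nontrivial R := by
      by_contra h
      rw [not_nontrivial_iff_subsingleton] at h
      have : f = 0 := Subsingleton.elim _ _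
      rw [this, natDegree_zero] at hn
      exact absurd hn (by norm_num)
    haveI hAnt : Nontrivial (AdjoinRoot f) := by
      refine ⟨⟨1, 0, ?_⟩⟩
      intro h10
      have h1 : (AdjoinRoot.mk f) 1 = 0 := by rw [map_one]; exact h10
      rw [AdjoinRoot.mk_eq_zero] at h1
      have := hf.eq_one_of_isUnit (isUnit_of_dvd_one h1)
      rw [this, natDegree_one] at hn
      exact absurd hn (by norm_num)
    have hroot : (f.map (algebraMap R (AdjoinRoot f))).IsRoot (AdjoinRoot.root f) := by
      rw [Polynomial.IsRoot, Polynomial.eval_map, AdjoinRoot.algebraMap_eq]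
      exact AdjoinRoot.eval₂_root f
    have hfac := Polynomial.mul_divByMonic_eq_iff_isRoot.2 hroot
    set f₁ := (f.map (algebraMap R (AdjoinRoot f))) /ₘ (X - C (AdjoinRoot.root f)) with hf₁
    have hf₁m : f₁.Monic := by
      refine (monic_X_sub_C (AdjoinRoot.root f)).of_mul_monic_left ?_
      rw [hfac]
      exact hf.map _
    have hf₁d : f₁.natDegree = n := by
      rw [hf₁, Polynomial.natDegree_divByMonic _ (monic_X_sub_C _), natDegree_X_sub_C,
        hf.natDegree_map, hn]
      rfl
    obtain ⟨S', _, _, hfin, hfree, hfp, hnt, s, hs⟩ := ih (AdjoinRoot f) f₁ hf₁m hf₁d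
    letI : Algebra R S' := ((algebraMap (AdjoinRoot f) S').comp (algebraMap R (AdjoinRoot f))).toAlgebra
    haveI : IsScalarTower R (AdjoinRoot f) S' := IsScalarTower.of_algebraMap_eq fun _ => rfl
    refine ⟨S', inferInstance, inferInstance, Module.Finite.trans (AdjoinRoot f) S',
      Module.Free.trans (R := R) (S := AdjoinRoot f) (M := S'),
      Algebra.FinitePresentation.trans R (AdjoinRoot f) S', fun h => ?_,
      (algebraMap (AdjoinRoot f) S' (AdjoinRoot.root f)) ::ₘ s, ?_⟩
    · exact hnt hAnt
    · rw [IsScalarTower.algebraMap_eq R (AdjoinRoot f) S', ← Polynomial.map_map, ← hfac,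
        Polynomial.map_mul, hs, Multiset.map_cons, Multiset.prod_cons, Polynomial.map_sub,
        Polynomial.map_X, Polynomial.map_C]

/-- simultaneous splitting of a finite list of monic polynomials -/
theorem exists_splitting_list (n : ℕ) : ∀ (R : Type u) [CommRing R] (l : List R[X]),
    l.length = n → (∀ f ∈ l, f.Monic) →
    ∃ (S' : Type u) (_ : CommRing S') (_ : Algebra R S'), Module.Finite R S' ∧ Module.Free R S' ∧
      Algebra.FinitePresentation R S' ∧ (Nontrivial R → Nontrivial S') ∧
      ∀ f ∈ l, ∃ s : Multiset S', f.map (algebraMap R S') = (s.map fun a => X - C a).prod := by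
  induction n with
  | zero =>
    intro R _ l hl _
    refine ⟨R, inferInstance, inferInstance, inferInstance, inferInstance, inferInstance,
      fun h => h, ?_⟩
    intro f hf
    rw [List.length_eq_zero_iff.1 hl] at hf
    exact absurd hf (List.not_mem_nil)
  | succ n ih =>
    intro R _ l hl hmonic
    match l, hl, hmonic with
    | f :: l', hl, hmonic =>
      obtain ⟨S₁, _, _, hfin₁, hfree₁, hfp₁, hnt₁, s₁, hs₁⟩ :=
        exists_splitting _ R f (hmonic f (List.mem_cons_self)) rfl
      obtain ⟨S', _, _, hfin, hfree, hfp, hnt, hsplit⟩ :=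
        ih S₁ (l'.map (Polynomial.map (algebraMap R S₁)))
          (by rw [List.length_map]; simpa using hl)
          (by
            intro f' hf'
            obtain ⟨f'', hf'', rfl⟩ := List.mem_map.1 hf'
            exact (hmonic f'' (List.mem_cons_of_mem _ hf'')).map _)
      letI : Algebra R S' := ((algebraMap S₁ S').comp (algebraMap R S₁)).toAlgebra
      haveI : IsScalarTower R S₁ S' := IsScalarTower.of_algebraMap_eq fun _ => rfl
      refine ⟨S', inferInstance, inferInstance, Module.Finite.trans S₁ S',
        Module.Free.trans (R := R) (S := S₁) (M := S'),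
        Algebra.FinitePresentation.trans R S₁ S', fun h => hnt (hnt₁ h), ?_⟩
      intro f' hf'
      rcases List.mem_cons.1 hf' with rfl | hf'
      · refine ⟨s₁.map (algebraMap S₁ S'), ?_⟩
        rw [IsScalarTower.algebraMap_eq R S₁ S', ← Polynomial.map_map, hs₁,
          Polynomial.map_multiset_prod, Multiset.map_map, Multiset.map_map]
        congr 1
        apply Multiset.map_congr rfl
        intro a _
        simp
      · obtain ⟨s, hs⟩ := hsplit (f'.map (algebraMap R S₁)) (List.mem_map.2 ⟨f', hf', rfl⟩)
        refine ⟨s, ?_⟩
        rw [IsScalarTower.algebraMap_eq R S₁ S', ← Polynomial.map_map, hs]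

end Groth.Agent.Lib.Helper6.SplitAlg
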