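import Mathlib
import Groth.Agent.Lib.Helper6.SplitAlg
import Groth.Agent.Lib.Helper6.CommonField

set_option autoImplicit false
set_option linter.style.haveILetI false
set_option linter.unusedSectionVars false

open Polynomial

namespace Groth.Agent.Lib.Helper6.EtaleCover

universe u

open Groth.Agent.Lib.Helper6.SplitAlg Groth.Agent.Lib.Helper6.CommonField

/-- Key step: given a standard étale presentation of `S`, an `R`-algebra `S'` in which `f`
splits, and primes `q`, `q'` over the same prime of `R`, there is a root giving a map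
`S → S'[1/g']` pulling `q'` back to `q`. -/
theorem exists_map_away {R S S' : Type u} [CommRing R] [CommRing S] [Algebra R S]
    [CommRing S'] [Algebra R S'] (P : StandardEtalePresentation R S) (s : Multiset S')
    (hs : P.f.map (algebraMap R S') = (s.map fun a => X - C a).prod)
    (q : Ideal S) [q.IsPrime] (q' : Ideal S') [q'.IsPrime] (h : q'.under R = q.under R) :
    ∃ (g' : S') (_ : g' ∉ q') (φ : S →ₐ[R] Localization.Away g'),
      (q'.map (algebraMap S' (Localization.Away g'))).comap φ = q := by
  obtain ⟨Ω, _, α, β, hα, hβ, hαβ⟩ := exists_common_field q q' h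
  -- transport of polynomial values
  have hα_ev : ∀ p : R[X], α (aeval P.x p) = eval₂ (α.comp (algebraMap R S)) (α P.x) p := by
    intro p
    rw [aeval_def, Polynomial.hom_eval₂]
  have hβ_ev : ∀ (p : R[X]) (y : S'), β (aeval y p) =
      eval₂ (β.comp (algebraMap R S')) (β y) p := by
    intro p y
    rw [aeval_def, Polynomial.hom_eval₂]
  -- find the root
  have h1 : P.f.map (β.comp (algebraMap R S')) = (s.map fun a => X - C (β a)).prod := by
    rw [← Polynomial.map_map, hs, Polynomial.map_multiset_prod, Multiset.map_map]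
    congr 1
    apply Multiset.map_congr rfl
    intro a _
    simp
  have h2 : eval (α P.x) (P.f.map (β.comp (algebraMap R S'))) = 0 := by
    rw [← hαβ, Polynomial.eval_map, ← hα_ev, P.hasMap.1, map_zero]
  rw [h1, Polynomial.eval_multiset_prod, Multiset.prod_eq_zero_iff, Multiset.map_map] at h2
  obtain ⟨xi, hxi, hxi0⟩ := Multiset.mem_map.1 h2
  simp only [Function.comp_apply, eval_sub, eval_X, eval_C] at hxi0
  have hαx : α P.x = β xi := sub_eq_zero.1 hxi0
  -- g'
  have hβg : β (aeval xi P.g) = α (aeval P.x P.g) := by
    rw [hα_ev, hβ_ev, hαβ, hαx]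
  have hg' : aeval xi P.g ∉ q' := by
    rw [← hβ, RingHom.mem_ker, hβg]
    exact (P.hasMap.2.map α).ne_zero
  refine ⟨aeval xi P.g, hg', ?_⟩
  -- the map
  have hroot : aeval xi P.f = 0 := by
    rw [aeval_def, ← Polynomial.eval_map, hs, Polynomial.eval_multiset_prod, Multiset.map_map]
    exact Multiset.prod_eq_zero (Multiset.mem_map.2 ⟨xi, hxi, by simp⟩)
  have hy : P.P.HasMap (algebraMap S' (Localization.Away (aeval xi P.g)) xi) := by
    refine ⟨?_, ?_⟩
    · rw [Polynomial.aeval_algebraMap_apply, hroot, map_zero]
    · rw [Polynomial.aeval_algebraMap_apply]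
      exact IsLocalization.Away.algebraMap_isUnit _
  let φ : S →ₐ[R] Localization.Away (aeval xi P.g) :=
    (P.P.lift _ hy).comp P.equivRing.toAlgHom
  have hφx : φ P.x = algebraMap S' (Localization.Away (aeval xi P.g)) xi := by
    show (P.P.lift _ hy) (P.equivRing P.x) = _
    rw [P.equivRing_x, StandardEtalePair.lift_X]
  refine ⟨φ, ?_⟩
  -- β extends to the localization
  have hβu : IsUnit (β (aeval xi P.g)) := by
    rw [hβg]; exact P.hasMap.2.map α
  let β' : Localization.Away (aeval xi P.g) →+* Ω := IsLocalization.Away.lift (aeval xi P.g) hβu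
  have hβ' : ∀ y : S', β' (algebraMap S' _ y) = β y := fun y =>
    IsLocalization.Away.lift_eq (aeval xi P.g) hβu y
  have hker : RingHom.ker β' = q'.map (algebraMap S' (Localization.Away (aeval xi P.g))) := by
    rw [← IsLocalization.map_under (Submonoid.powers (aeval xi P.g)) _ (RingHom.ker β')]
    congr 1
    rw [← hβ]
    ext y
    rw [Ideal.under, Ideal.mem_comap, RingHom.mem_ker, RingHom.mem_ker, hβ']
  rw [← hker]
  letI : Algebra R Ω := (α.comp (algebraMap R S)).toAlgebra
  let α' : S →ₐ[R] Ω := { α with commutes' := fun r => rfl }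
  let γ : S →ₐ[R] Ω :=
    { β'.comp φ.toRingHom with
      commutes' := fun r => by
        show β' (φ (algebraMap R S r)) = α (algebraMap R S r)
        rw [φ.commutes, IsScalarTower.algebraMap_apply R S' (Localization.Away (aeval xi P.g)),
          hβ']
        exact (RingHom.congr_fun hαβ r).symm }
  have hγα : γ = α' := by
    apply P.hom_ext
    show β' (φ P.x) = α P.x
    rw [hφx, hβ', hαx]
  ext y
  rw [Ideal.mem_comap, RingHom.mem_ker, ← hα, RingHom.mem_ker]
  have := AlgHom.congr_fun hγα y
  exact Iff.of_eq (congrArg (· = 0) this)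

theorem surjective_comap_of_free {R S' : Type u} [CommRing R] [CommRing S'] [Algebra R S']
    [Module.Free R S'] (hnt : Nontrivial R → Nontrivial S') :
    Function.Surjective (PrimeSpectrum.comap (algebraMap R S')) := by
  rcases subsingleton_or_nontrivial R with hR | hR
  · intro x
    exact absurd (Subsingleton.elim _ _) x.2.ne_top
  · haveI := hnt hR
    exact PrimeSpectrum.comap_surjective_of_faithfullyFlat

theorem main9453 (R : Type u) [CommRing R] (S : Type u)
    [CommRing S] [Algebra R S] [Algebra.IsStandardEtale R S] :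
    ∃ (S' : Type u) (_ : CommRing S') (_ : Algebra R S'),
      Module.Finite R S' ∧ Algebra.FinitePresentation R S' ∧ Module.Flat R S' ∧
        Function.Surjective (PrimeSpectrum.comap (algebraMap R S')) ∧
        ∀ (q : Ideal S) [q.IsPrime] (q' : Ideal S') [q'.IsPrime], q'.under R = q.under R →
          ∃ (g' : S') (_ : g' ∉ q') (φ : S →ₐ[R] Localization.Away g'),
            (q'.map (algebraMap S' (Localization.Away g'))).comap φ = q := by
  let P : StandardEtalePresentation R S := Nonempty.some inferInstance
  obtain ⟨S', _, _, hfin, hfree, hfp, hnt, s, hs⟩ := exists_splitting _ R P.f P.monic_f rfl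
  refine ⟨S', inferInstance, inferInstance, hfin, hfp, inferInstance,
    surjective_comap_of_free hnt, ?_⟩
  intro q _ q' _ h
  exact exists_map_away P s hs q q' h

theorem main9434 (R : Type u) [CommRing R] [IsLocalRing R] (T : Type u) [CommRing T]
    [Algebra R T] [Algebra.Etale R T] (q : Ideal T) [q.IsPrime] (S : Type u) [CommRing S]
    [IsLocalRing S] [Algebra T S] [IsLocalization.AtPrime S q] [Algebra R S]
    [IsScalarTower R T S] [IsLocalHom (algebraMap R S)] :
    ∃ (S' : Type u) (_ : CommRing S') (_ : Algebra R S'),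
      Module.Finite R S' ∧ Algebra.FinitePresentation R S' ∧ Module.FaithfullyFlat R S' ∧
        ∀ (m' : Ideal S') [m'.IsMaximal], Nonempty (S →ₐ[R] Localization.AtPrime m') := by
  haveI : Algebra.FormallyEtale T (Localization.AtPrime q) :=
    Algebra.FormallyEtale.of_isLocalization q.primeCompl
  haveI : Algebra.IsEtaleAt R q := Algebra.FormallyEtale.comp R T _
  obtain ⟨g, hg, hstd⟩ := Algebra.IsEtaleAt.exists_isStandardEtale (R := R) q
  let P : StandardEtalePresentation R (Localization.Away g) :=
    hstd.nonempty_standardEtalePresentation.some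
  have hgu : IsUnit ((IsScalarTower.toAlgHom R T S) g) :=
    IsLocalization.map_units S (⟨g, hg⟩ : q.primeCompl)
  let ψ : Localization.Away g →ₐ[R] S :=
    IsLocalization.Away.liftAlgHom g (f := IsScalarTower.toAlgHom R T S) hgu
  have hψ : ∀ y : T, ψ (algebraMap T (Localization.Away g) y) = algebraMap T S y := by
    intro y
    exact IsLocalization.Away.lift_eq g hgu y
  let qg : Ideal (Localization.Away g) := (IsLocalRing.maximalIdeal S).comap ψ.toRingHom
  haveI hqgp : qg.IsPrime := Ideal.comap_isPrime _ _
  have hqg : qg.under R = IsLocalRing.maximalIdeal R := by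
    ext r
    show ψ (algebraMap R _ r) ∈ IsLocalRing.maximalIdeal S ↔ _
    rw [ψ.commutes, IsLocalRing.mem_maximalIdeal, IsLocalRing.mem_maximalIdeal, mem_nonunits_iff,
      mem_nonunits_iff, isUnit_map_iff]
  obtain ⟨S', _, _, hfin, hfree, hfp, hnt, s, hs⟩ := exists_splitting _ R P.f P.monic_f rfl
  haveI : Nontrivial S' := hnt inferInstance
  refine ⟨S', inferInstance, inferInstance, hfin, hfp, inferInstance, ?_⟩
  intro m' hm'
  haveI : Algebra.IsIntegral R S' := Algebra.IsIntegral.of_finite R S'
  have hm'R : m'.under R = qg.under R := by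
    rw [hqg]
    exact IsLocalRing.eq_maximalIdeal (Ideal.isMaximal_comap_of_isIntegral_of_isMaximal m')
  obtain ⟨g', hg', φ, hφ⟩ := exists_map_away P s hs qg m' hm'R
  have hg'u : IsUnit ((IsScalarTower.toAlgHom R S' (Localization.AtPrime m')) g') :=
    IsLocalization.map_units (Localization.AtPrime m') (⟨g', hg'⟩ : m'.primeCompl)
  let lam : Localization.Away g' →ₐ[R] Localization.AtPrime m' :=
    IsLocalization.Away.liftAlgHom g'
      (f := IsScalarTower.toAlgHom R S' (Localization.AtPrime m')) hg'u
  have hlam : ∀ y : S', lam (algebraMap S' (Localization.Away g') y) =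
      algebraMap S' (Localization.AtPrime m') y := fun y =>
    IsLocalization.Away.lift_eq g' hg'u y
  -- units of Away g' outside the extended ideal map to units
  have hlam_unit : ∀ z : Localization.Away g',
      z ∉ m'.map (algebraMap S' (Localization.Away g')) → IsUnit (lam z) := by
    intro z hz
    obtain ⟨n, a, ha⟩ := IsLocalization.Away.surj g' z
    have ha' : a ∉ m' := by
      intro ham
      apply hz
      have h1 : IsUnit (algebraMap S' (Localization.Away g') g' ^ n) :=
        (IsLocalization.Away.algebraMap_isUnit g').pow n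
      obtain ⟨w, hw⟩ := h1.exists_right_inv
      have : z = algebraMap S' (Localization.Away g') a * w := by
        rw [← ha, mul_assoc, hw, mul_one]
      rw [this]
      exact Ideal.mul_mem_right _ _ (Ideal.mem_map_of_mem _ ham)
    have h2 : IsUnit (lam (z * algebraMap S' (Localization.Away g') g' ^ n)) := by
      rw [ha, hlam]
      exact IsLocalization.map_units (Localization.AtPrime m') (⟨a, ha'⟩ : m'.primeCompl)
    rw [map_mul] at h2
    exact isUnit_of_mul_isUnit_left h2
  let χ₀ : T →ₐ[R] Localization.AtPrime m' :=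
    lam.comp (φ.comp (IsScalarTower.toAlgHom R T (Localization.Away g)))
  have hχ₀ : ∀ y : q.primeCompl, IsUnit (χ₀ y) := by
    intro y
    apply hlam_unit
    intro hmem
    have h1 : algebraMap T (Localization.Away g) y.1 ∈ qg := by
      rw [← hφ]
      exact hmem
    have h2 : algebraMap T S y.1 ∈ IsLocalRing.maximalIdeal S := by
      rw [← hψ]
      exact h1
    exact h2 (IsLocalization.map_units S y)
  exact ⟨IsLocalization.liftAlgHom (M := q.primeCompl) (f := χ₀) hχ₀⟩

theorem main9454 (R : Type u) [CommRing R] (S : Type u) [CommRing S] [Algebra R S]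
    [Algebra.Etale R S] (hs : Function.Surjective (PrimeSpectrum.comap (algebraMap R S))) :
    ∃ (S' : Type u) (_ : CommRing S') (_ : Algebra R S'),
      Module.Finite R S' ∧ Algebra.FinitePresentation R S' ∧ Module.Flat R S' ∧
        Function.Surjective (PrimeSpectrum.comap (algebraMap R S')) ∧
        ∀ (q' : Ideal S') [q'.IsPrime], ∃ (g' : S') (_ : g' ∉ q'),
          Nonempty (S →ₐ[R] Localization.Away g') := by
  classical
  let G : Set S := {g | Algebra.IsStandardEtale R (Localization.Away g)}
  have hG : Ideal.span G = ⊤ := by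
    by_contra hne
    obtain ⟨m, hm, hle⟩ := Ideal.exists_le_maximal _ hne
    haveI := hm.isPrime
    haveI : Algebra.FormallyEtale S (Localization.AtPrime m) :=
      Algebra.FormallyEtale.of_isLocalization m.primeCompl
    haveI : Algebra.IsEtaleAt R m := Algebra.FormallyEtale.comp R S _
    obtain ⟨g, hg, hstd⟩ := Algebra.IsEtaleAt.exists_isStandardEtale (R := R) m
    exact hg (hle (Ideal.subset_span hstd))
  obtain ⟨t, htG, ht⟩ : ∃ t : Finset S, (t : Set S) ⊆ G ∧ Ideal.span (t : Set S) = ⊤ := by
    have h1 : (1 : S) ∈ Ideal.span G := by rw [hG]; trivial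
    obtain ⟨t, htG, h1t⟩ := Submodule.mem_span_finite_of_mem_span h1
    exact ⟨t, htG, (Ideal.eq_top_iff_one _).2 h1t⟩
  let F : S → R[X] := fun g =>
    if h : Nonempty (StandardEtalePresentation R (Localization.Away g)) then h.some.f else 1
  have hF : ∀ g, (F g).Monic := by
    intro g
    simp only [F]
    split_ifs with h
    · exact h.some.monic_f
    · exact monic_one
  obtain ⟨S', _, _, hfin, hfree, hfp, hnt, hsplit⟩ :=
    exists_splitting_list _ R (t.toList.map F) rfl (by
      intro f hf
      obtain ⟨g, _, rfl⟩ := List.mem_map.1 hf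
      exact hF g)
  refine ⟨S', inferInstance, inferInstance, hfin, hfp, inferInstance,
    surjective_comap_of_free hnt, ?_⟩
  intro q' _
  obtain ⟨⟨q, hqp⟩, hq⟩ := hs ⟨q'.under R, inferInstance⟩
  have hq' : q.under R = q'.under R := congrArg PrimeSpectrum.asIdeal hq
  obtain ⟨g, hgt, hgq⟩ : ∃ g ∈ t, g ∉ q := by
    by_contra hcon
    push Not at hcon
    have : Ideal.span (t : Set S) ≤ q := Ideal.span_le.2 (fun g hg => hcon g hg)
    rw [ht] at this
    exact hqp.ne_top (top_le_iff.1 this)
  have hstd : Algebra.IsStandardEtale R (Localization.Away g) := htG hgt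
  have hne : Nonempty (StandardEtalePresentation R (Localization.Away g)) :=
    hstd.nonempty_standardEtalePresentation
  have hFg : F g = hne.some.f := by
    simp only [F]
    rw [dif_pos hne]
  obtain ⟨s, hs'⟩ := hsplit (F g) (List.mem_map.2 ⟨g, Finset.mem_toList.2 hgt, rfl⟩)
  rw [hFg] at hs'
  have hdisj : Disjoint (Submonoid.powers g : Set S) q :=
    (Ideal.disjoint_powers_iff_notMem_of_isPrime g).2 hgq
  haveI : (q.map (algebraMap S (Localization.Away g))).IsPrime :=
    IsLocalization.isPrime_of_isPrime_disjoint (.powers g) _ _ hqp hdisj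
  have hqg : (q.map (algebraMap S (Localization.Away g))).under S = q :=
    IsLocalization.under_map_of_isPrime_disjoint (.powers g) _ hqp hdisj
  have hqgR : q'.under R = (q.map (algebraMap S (Localization.Away g))).under R := by
    rw [← hq']
    conv_lhs => rw [← hqg]
    rw [Ideal.under_under]
  obtain ⟨g', hg', φ, _⟩ := exists_map_away hne.some s hs'
    (q.map (algebraMap S (Localization.Away g))) q' hqgR
  exact ⟨g', hg', ⟨φ.comp (IsScalarTower.toAlgHom R S (Localization.Away g))⟩⟩

end Groth.Agent.Lib.Helper6.EtaleCover
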