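import Mathlib

set_option autoImplicit false
set_option linter.style.haveILetI false
set_option linter.unusedSectionVars false

open Polynomial

namespace Groth.Agent.Lib.Helper6.EtaleT

universe u

/-- Local structure: for a local-étale `R → S` with trivial residue extension there is `t ∈ m_R`
with `S = R + tS`. -/
theorem core (R : Type u) [CommRing R] [IsLocalRing R] (T : Type u) [CommRing T] [Algebra R T]
    [Algebra.Etale R T] (q : Ideal T) [q.IsPrime] (S : Type u) [CommRing S] [IsLocalRing S]
    [Algebra T S] [IsLocalization.AtPrime S q] [Algebra R S] [IsScalarTower R T S]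
    [IsLocalHom (algebraMap R S)]
    (hres : Function.Surjective (IsLocalRing.ResidueField.map (algebraMap R S))) :
    ∃ t ∈ IsLocalRing.maximalIdeal R, ∀ s : S, ∃ (r : R) (s' : S),
      s = algebraMap R S r + algebraMap R S t * s' := by
  haveI : Algebra.FormallyEtale T (Localization.AtPrime q) :=
    Algebra.FormallyEtale.of_isLocalization q.primeCompl
  haveI : Algebra.IsEtaleAt R q := Algebra.FormallyEtale.comp R T _
  obtain ⟨g, hg, hstd⟩ := Algebra.IsEtaleAt.exists_isStandardEtale (R := R) q
  let P : StandardEtalePresentation R (Localization.Away g) :=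
    hstd.nonempty_standardEtalePresentation.some
  have hgu : IsUnit ((IsScalarTower.toAlgHom R T S) g) :=
    IsLocalization.map_units S (⟨g, hg⟩ : q.primeCompl)
  let φ : Localization.Away g →ₐ[R] S :=
    IsLocalization.Away.liftAlgHom g (f := IsScalarTower.toAlgHom R T S) hgu
  have hφ : ∀ y : T, φ (algebraMap T (Localization.Away g) y) = algebraMap T S y := by
    intro y
    exact IsLocalization.Away.lift_eq g hgu y
  let z : S := φ P.x
  have hmap : P.P.HasMap z := P.hasMap.map φ
  -- local-hom facts
  have hloc : ∀ r : R, IsUnit (algebraMap R S r) → IsUnit r := fun r hr =>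
    IsUnit.of_map (algebraMap R S) r hr
  -- choose a₀
  obtain ⟨ā, hā⟩ := hres (IsLocalRing.residue S z)
  obtain ⟨a₀, rfl⟩ := IsLocalRing.residue_surjective ā
  have hza : z - algebraMap R S a₀ ∈ IsLocalRing.maximalIdeal S := by
    rw [← IsLocalRing.residue_eq_zero_iff, map_sub, ← hā, IsLocalRing.ResidueField.map_residue,
      sub_self]
  -- congruence of polynomial values
  have hcong : ∀ p : R[X], ∃ c : S, aeval z p = algebraMap R S (p.eval a₀) +
      (z - algebraMap R S a₀) * c := by
    intro p
    obtain ⟨c, hc⟩ := Polynomial.sub_dvd_eval_sub z (algebraMap R S a₀) (p.map (algebraMap R S))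
    refine ⟨c, ?_⟩
    rw [Polynomial.eval_map_algebraMap, Polynomial.eval_map_algebraMap,
      Polynomial.aeval_algebraMap_apply, Polynomial.coe_aeval_eq_eval] at hc
    linear_combination hc
  -- unit in S congruent to image of r mod m_S implies r unit
  have hunitR : ∀ (r : R) (u : S), IsUnit u → u - algebraMap R S r ∈ IsLocalRing.maximalIdeal S →
      IsUnit r := by
    intro r u hu hmem
    apply hloc
    by_contra hnu
    have h1 : algebraMap R S r ∈ IsLocalRing.maximalIdeal S := hnu
    have h2 : u ∈ IsLocalRing.maximalIdeal S := by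
      have := Ideal.add_mem _ hmem h1
      simpa using this
    exact h2 hu
  -- g₀(a₀) unit in R
  have hg0 : IsUnit (P.g.eval a₀) := by
    obtain ⟨c, hc⟩ := hcong P.g
    refine hunitR _ _ hmap.2 ?_
    rw [hc, add_sub_cancel_left]
    exact Ideal.mul_mem_right _ _ hza
  -- Taylor expansion
  let t : R := P.f.eval a₀
  have htS : ∃ v : S, IsUnit v ∧ algebraMap R S t = (algebraMap R S a₀ - z) * v := by
    obtain ⟨k, hk⟩ := Polynomial.binomExpansion (P.f.map (algebraMap R S)) z
      (algebraMap R S a₀ - z)
    have h1 : z + (algebraMap R S a₀ - z) = algebraMap R S a₀ := by ring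
    rw [h1, Polynomial.eval_map_algebraMap, Polynomial.eval_map_algebraMap,
      Polynomial.aeval_algebraMap_apply, hmap.1, zero_add, Polynomial.derivative_map,
      Polynomial.eval_map_algebraMap, Polynomial.coe_aeval_eq_eval] at hk
    refine ⟨aeval z (derivative P.f) + k * (algebraMap R S a₀ - z), ?_, ?_⟩
    · have hn : k * (algebraMap R S a₀ - z) ∈ IsLocalRing.maximalIdeal S := by
        apply Ideal.mul_mem_left
        have := Ideal.neg_mem_iff _ |>.2 hza
        simpa using this
      have hu := hmap.isUnit_derivative_f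
      by_contra hcon
      have h2 : aeval z (derivative P.f) + k * (algebraMap R S a₀ - z) ∈
          IsLocalRing.maximalIdeal S := hcon
      have h3 := Ideal.sub_mem _ h2 hn
      rw [add_sub_cancel_right] at h3
      exact h3 hu
    · show algebraMap R S (P.f.eval a₀) = _
      rw [hk]
      ring
  obtain ⟨v, hv, htv⟩ := htS
  have htm : t ∈ IsLocalRing.maximalIdeal R := by
    show ¬ IsUnit t
    intro htu
    have h1 : IsUnit (algebraMap R S t) := htu.map _
    rw [htv] at h1
    have h2 : algebraMap R S a₀ - z ∈ IsLocalRing.maximalIdeal S := by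
      have := Ideal.neg_mem_iff _ |>.2 hza
      simpa using this
    exact h2 (isUnit_of_mul_isUnit_left h1)
  -- (z - a₀) = t * w
  have hzt : ∃ w : S, z - algebraMap R S a₀ = algebraMap R S t * w := by
    obtain ⟨v', hv'⟩ := hv.exists_right_inv
    refine ⟨-v', ?_⟩
    rw [htv]
    have : (algebraMap R S a₀ - z) * v * -v' = -(algebraMap R S a₀ - z) * (v * v') := by ring
    rw [this, hv']
    ring
  obtain ⟨w, hw⟩ := hzt
  -- image of T lies in R + tS
  have hT : ∀ y : T, ∃ (r : R) (s' : S), algebraMap T S y = algebraMap R S r +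
      algebraMap R S t * s' := by
    intro y
    obtain ⟨p, n, hpn⟩ := P.exists_mul_aeval_x_g_pow_eq_aeval_x (algebraMap T _ y)
    have h1 : algebraMap T S y * aeval z P.g ^ n = aeval z p := by
      have := congrArg φ hpn
      rw [map_mul, map_pow, hφ, ← Polynomial.aeval_algHom_apply,
        ← Polynomial.aeval_algHom_apply] at this
      exact this
    obtain ⟨c₁, hc₁⟩ := hcong p
    obtain ⟨c₂, hc₂⟩ := hcong P.g
    obtain ⟨e, he⟩ := hg0.exists_right_inv
    -- y * (g₀(a₀) + (z-a₀)c₂)^n = p(a₀) + (z - a₀) c₁
    obtain ⟨c₃, hc₃⟩ : ∃ c₃ : S, aeval z P.g ^ n = algebraMap R S (P.g.eval a₀ ^ n) +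
        algebraMap R S t * c₃ := by
      rw [hc₂, hw]
      obtain ⟨c, hc⟩ := Polynomial.sub_dvd_eval_sub
        (algebraMap R S (P.g.eval a₀) + algebraMap R S t * w * c₂)
        (algebraMap R S (P.g.eval a₀)) (X ^ n : S[X])
      simp only [eval_pow, eval_X, add_sub_cancel_left] at hc
      refine ⟨w * c₂ * c, ?_⟩
      rw [map_pow]
      linear_combination hc
    refine ⟨p.eval a₀ * e ^ n, algebraMap T S y * (- c₃ * algebraMap R S (e ^ n)) +
      w * c₁ * algebraMap R S (e ^ n), ?_⟩
    have he' : algebraMap R S (P.g.eval a₀ ^ n) * algebraMap R S (e ^ n) = 1 := by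
      rw [← map_mul, ← mul_pow, he, one_pow, map_one]
    rw [hc₃, hc₁, hw] at h1
    rw [map_mul]
    linear_combination (algebraMap R S (e ^ n)) * h1 - (algebraMap T S y) * he'
  -- general element
  refine ⟨t, htm, fun s => ?_⟩
  obtain ⟨⟨a, b⟩, hab⟩ := IsLocalization.surj q.primeCompl s
  simp only at hab
  obtain ⟨ra, sa, hra⟩ := hT a
  obtain ⟨rb, sb, hrb⟩ := hT b
  have hbu : IsUnit (algebraMap T S b) := IsLocalization.map_units S b
  have hrbu : IsUnit rb := by
    refine hunitR rb _ hbu ?_
    rw [hrb, add_sub_cancel_left]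
    apply Ideal.mul_mem_right
    show ¬ IsUnit (algebraMap R S t)
    intro h
    exact htm (hloc t h)
  obtain ⟨e, he⟩ := hrbu.exists_right_inv
  refine ⟨ra * e, algebraMap R S e * (sa - s * sb), ?_⟩
  have he' : algebraMap R S rb * algebraMap R S e = 1 := by rw [← map_mul, he, map_one]
  rw [hra, hrb] at hab
  rw [map_mul]
  linear_combination (algebraMap R S e) * hab - s * he'

theorem main (R : Type u) [CommRing R] [IsLocalRing R] (T : Type u) [CommRing T] [Algebra R T]
    [Algebra.Etale R T] (q : Ideal T) [q.IsPrime] (S : Type u) [CommRing S] [IsLocalRing S]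
    [Algebra T S] [IsLocalization.AtPrime S q] [Algebra R S] [IsScalarTower R T S]
    [IsLocalHom (algebraMap R S)]
    (hres : Function.Bijective (IsLocalRing.ResidueField.map (algebraMap R S))) :
    ∃ t ∈ IsLocalRing.maximalIdeal R, ∀ n : ℕ, 1 ≤ n →
      Function.Bijective (Ideal.quotientMap ((Ideal.span {t ^ n}).map (algebraMap R S))
        (algebraMap R S) Ideal.le_comap_map) := by
  obtain ⟨t, htm, hts⟩ := core R T q S hres.2
  refine ⟨t, htm, fun n _ => ⟨?_, ?_⟩⟩
  · haveI : Module.Flat R T := inferInstance
    haveI : Module.Flat T S := IsLocalization.flat S q.primeCompl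
    haveI : Module.Flat R S := Module.Flat.trans R T S
    haveI : Module.FaithfullyFlat R S := Module.FaithfullyFlat.of_flat_of_isLocalHom
    apply Ideal.quotientMap_injective'
    rw [Ideal.comap_map_eq_self_of_faithfullyFlat]
  · have hn : ∀ n : ℕ, ∀ s : S, ∃ (r : R) (s' : S),
        s = algebraMap R S r + algebraMap R S t ^ n * s' := by
      intro n
      induction n with
      | zero => intro s; exact ⟨0, s, by simp⟩
      | succ n ih =>
        intro s
        obtain ⟨r₀, s₁, h₁⟩ := hts s
        obtain ⟨r₁, s₂, h₂⟩ := ih s₁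
        refine ⟨r₀ + t * r₁, s₂, ?_⟩
        rw [h₁, h₂]
        simp only [map_add, map_mul]
        ring
    intro x
    obtain ⟨s, rfl⟩ := Ideal.Quotient.mk_surjective x
    obtain ⟨r, s', h⟩ := hn n s
    refine ⟨Ideal.Quotient.mk _ r, ?_⟩
    rw [Ideal.quotientMap_mk, Ideal.Quotient.eq, h]
    have : algebraMap R S r - (algebraMap R S r + algebraMap R S t ^ n * s') =
        algebraMap R S (t ^ n) * (-s') := by
      rw [map_pow]; ring
    rw [this]
    exact Ideal.mul_mem_right _ _ (Ideal.mem_map_of_mem _ (Ideal.subset_span rfl))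

end Groth.Agent.Lib.Helper6.EtaleT
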