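import Groth.Agent.Lib.Helper6.DeRhamGen

/-! Base change of exterior algebras / exterior powers. -/

open TensorProduct

namespace Groth.Agent.Lib.Helper6.ExtBaseChange

universe u

variable (A B M : Type u) [CommRing A] [CommRing B] [Algebra A B] [AddCommGroup M] [Module A M]

/-- `M → E_B(B ⊗ M)`, `m ↦ ι (1 ⊗ m)`, `A`-linear. -/
noncomputable def toExt : M →ₗ[A] ExteriorAlgebra B (B ⊗[A] M) :=
  ((ExteriorAlgebra.ι B (M := B ⊗[A] M)).restrictScalars A) ∘ₗ (TensorProduct.mk A B M 1)

lemma toExt_apply (m : M) : toExt A B M m = ExteriorAlgebra.ι B ((1 : B) ⊗ₜ[A] m) := rfl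

/-- `E_A(M) → E_B(B ⊗ M)` -/
noncomputable def extToExt : ExteriorAlgebra A M →ₐ[A] ExteriorAlgebra B (B ⊗[A] M) :=
  ExteriorAlgebra.lift A ⟨toExt A B M, fun m => by
    rw [toExt_apply]
    exact ExteriorAlgebra.ι_sq_zero _⟩

@[simp]
lemma extToExt_ι (m : M) :
    extToExt A B M (ExteriorAlgebra.ι A m) = ExteriorAlgebra.ι B ((1 : B) ⊗ₜ[A] m) := by
  unfold extToExt
  rw [ExteriorAlgebra.lift_ι_apply]
  rfl

/-- the forward map `B ⊗ E_A(M) → E_B(B ⊗ M)` -/
noncomputable def F : B ⊗[A] ExteriorAlgebra A M →ₐ[B] ExteriorAlgebra B (B ⊗[A] M) :=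
  Algebra.TensorProduct.lift (Algebra.ofId B _) (extToExt A B M)
    (fun x y => show Commute (Algebra.ofId B _ x) (extToExt A B M y) from
      Algebra.commute_algebraMap_left x _)

@[simp]
lemma F_tmul (b : B) (e : ExteriorAlgebra A M) :
    F A B M (b ⊗ₜ e) = b • extToExt A B M e := by
  have : F A B M (b ⊗ₜ e) = Algebra.ofId B _ b * extToExt A B M e := rfl
  rw [this, Algebra.ofId_apply, Algebra.smul_def]

/-- anticommutation of the base-changed `ι` -/
lemma bc_anticomm (x y : B ⊗[A] M) :
    (ExteriorAlgebra.ι A (M := M)).baseChange B x * (ExteriorAlgebra.ι A (M := M)).baseChange B y +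
      (ExteriorAlgebra.ι A (M := M)).baseChange B y *
        (ExteriorAlgebra.ι A (M := M)).baseChange B x = 0 := by
  induction x using TensorProduct.induction_on with
  | zero => simp
  | add x₁ x₂ h₁ h₂ =>
    rw [map_add, add_mul, mul_add, add_add_add_comm, h₁, h₂, add_zero]
  | tmul b m =>
    induction y using TensorProduct.induction_on with
    | zero => simp
    | add y₁ y₂ h₁ h₂ =>
      rw [map_add, add_mul, mul_add, add_add_add_comm, h₁, h₂, add_zero]
    | tmul b' m' =>
      rw [LinearMap.baseChange_tmul, LinearMap.baseChange_tmul,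
        Algebra.TensorProduct.tmul_mul_tmul, Algebra.TensorProduct.tmul_mul_tmul, mul_comm b' b,
        ← tmul_add, ExteriorAlgebra.ι_add_mul_swap, tmul_zero]

lemma bc_sq_zero (x : B ⊗[A] M) :
    (ExteriorAlgebra.ι A (M := M)).baseChange B x *
      (ExteriorAlgebra.ι A (M := M)).baseChange B x = 0 := by
  induction x using TensorProduct.induction_on with
  | zero => simp
  | add x₁ x₂ h₁ h₂ =>
    rw [map_add, add_mul, mul_add, mul_add, h₁, h₂, zero_add, add_zero, bc_anticomm]
  | tmul b m =>
    rw [LinearMap.baseChange_tmul, Algebra.TensorProduct.tmul_mul_tmul,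
      ExteriorAlgebra.ι_sq_zero, tmul_zero]

/-- the backward map `E_B(B ⊗ M) → B ⊗ E_A(M)` -/
noncomputable def G : ExteriorAlgebra B (B ⊗[A] M) →ₐ[B] B ⊗[A] ExteriorAlgebra A M :=
  ExteriorAlgebra.lift B ⟨(ExteriorAlgebra.ι A (M := M)).baseChange B, bc_sq_zero A B M⟩

@[simp]
lemma G_ι (x : B ⊗[A] M) :
    G A B M (ExteriorAlgebra.ι B x) = (ExteriorAlgebra.ι A (M := M)).baseChange B x := by
  unfold G
  rw [ExteriorAlgebra.lift_ι_apply]

lemma G_comp_F : (G A B M).comp (F A B M) = AlgHom.id B _ := by
  apply Algebra.TensorProduct.ext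
  · ext
  · apply ExteriorAlgebra.hom_ext
    ext m
    simp

lemma G_F (x : B ⊗[A] ExteriorAlgebra A M) : G A B M (F A B M x) = x :=
  DFunLike.congr_fun (G_comp_F A B M) x

lemma F_injective : Function.Injective (F A B M) :=
  Function.LeftInverse.injective (G_F A B M)


open exteriorPower Groth.Agent.Lib.Helper6.DeRhamGen

/-- the retraction of `E_A(M)` onto `⋀^p M` -/
noncomputable def retr (p : ℕ) : ExteriorAlgebra A M →ₗ[A] ↥(⋀[A]^p M) :=
  (DirectSum.component A ℕ (fun i => ↥(⋀[A]^i M)) p) ∘ₗ
    (DirectSum.decomposeLinearEquiv (fun i : ℕ => ⋀[A]^i M)).toLinearMap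

lemma retr_coe (p : ℕ) (x : ↥(⋀[A]^p M)) : retr A M p (x : ExteriorAlgebra A M) = x := by
  unfold retr
  rw [LinearMap.comp_apply, LinearEquiv.coe_coe, DirectSum.decomposeLinearEquiv_apply_coe,
    DirectSum.component.lof_self]

lemma baseChange_subtype_injective (p : ℕ) :
    Function.Injective ((⋀[A]^p M).subtype.baseChange B) := by
  have h : ((retr A M p).baseChange B) ∘ₗ ((⋀[A]^p M).subtype.baseChange B) = LinearMap.id := by
    rw [← LinearMap.baseChange_comp]
    have : retr A M p ∘ₗ (⋀[A]^p M).subtype = LinearMap.id :=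
      LinearMap.ext fun x => retr_coe A M p x
    rw [this, LinearMap.baseChange_id]
  exact Function.LeftInverse.injective (g := (retr A M p).baseChange B)
    (fun x => LinearMap.congr_fun h x)

lemma algHom_ιMulti {R E' M₁ : Type*} [CommRing R] [AddCommGroup M₁] [Module R M₁]
    [Ring E'] (φ : ExteriorAlgebra R M₁ →+* E') (p : ℕ) (m : Fin p → M₁) :
    φ (ExteriorAlgebra.ιMulti R p m) = (List.ofFn fun i => φ (ExteriorAlgebra.ι R (m i))).prod := by
  rw [ExteriorAlgebra.ιMulti_apply, map_list_prod, List.map_ofFn]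
  rfl

variable {A B M}
variable {N : Type u} [AddCommGroup N] [Module B N] [Module A N] [IsScalarTower A B N]

/-- the degree `p` base change map -/
noncomputable def Fp (f : M →ₗ[A] N) (p : ℕ) : B ⊗[A] ↥(⋀[A]^p M) →ₗ[B] ↥(⋀[B]^p N) :=
  (extMap (B := B) f p).liftBaseChange B

@[simp]
lemma Fp_tmul (f : M →ₗ[A] N) (p : ℕ) (b : B) (x : ↥(⋀[A]^p M)) :
    Fp f p (b ⊗ₜ x) = b • extMap (B := B) f p x := by
  unfold Fp
  rw [LinearMap.liftBaseChange_tmul]

lemma Fp_coe (f : M →ₗ[A] N) (p : ℕ) (z : B ⊗[A] ↥(⋀[A]^p M)) :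
    ((Fp f p z : ↥(⋀[B]^p N)) : ExteriorAlgebra B N) =
      ExteriorAlgebra.map (f.liftBaseChange B) (F A B M ((⋀[A]^p M).subtype.baseChange B z)) := by
  induction z using TensorProduct.induction_on with
  | zero => simp
  | add x y hx hy => simp only [map_add, Submodule.coe_add, hx, hy]
  | tmul b x =>
    have hx : x ∈ Submodule.span A (Set.range (ιMulti A p (M := M))) := by
      rw [ιMulti_span]
      trivial
    induction hx using Submodule.span_induction generalizing b with
    | mem x hx =>
      obtain ⟨m, rfl⟩ := hx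
      rw [Fp_tmul, extMap_ιMulti, LinearMap.baseChange_tmul, F_tmul, map_smul,
        Submodule.coe_smul, ιMulti_apply_coe, Submodule.subtype_apply, ιMulti_apply_coe]
      congr 1
      set φ : ExteriorAlgebra A M →+* ExteriorAlgebra B N :=
        ((ExteriorAlgebra.map (f.liftBaseChange B)).toRingHom).comp
          ((extToExt A B M).toRingHom) with hφ
      show _ = φ _
      rw [algHom_ιMulti φ, ExteriorAlgebra.ιMulti_apply]
      congr 2
      funext i
      simp [hφ]
    | zero => simp
    | add x y _ _ hx hy =>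
      simp only [tmul_add, map_add, Submodule.coe_add, hx, hy]
    | smul a x _ hx =>
      rw [tmul_smul, smul_tmul']
      exact hx (a • b)


lemma extMap_map_injective {N' : Type u} [AddCommGroup N'] [Module B N'] (τ : N' ≃ₗ[B] N) :
    Function.Injective (ExteriorAlgebra.map τ.toLinearMap) := by
  have h : (ExteriorAlgebra.map τ.symm.toLinearMap).comp (ExteriorAlgebra.map τ.toLinearMap) =
      AlgHom.id B _ := by
    rw [ExteriorAlgebra.map_comp_map]
    have : τ.symm.toLinearMap ∘ₗ τ.toLinearMap = LinearMap.id := by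
      ext x
      simp
    rw [this, ExteriorAlgebra.map_id]
  exact Function.LeftInverse.injective (g := ExteriorAlgebra.map τ.symm.toLinearMap)
    (fun x => DFunLike.congr_fun h x)

theorem Fp_bijective (f : M →ₗ[A] N) (hf : Function.Bijective (f.liftBaseChange B)) (p : ℕ) :
    Function.Bijective (Fp (B := B) f p) := by
  constructor
  · rw [injective_iff_map_eq_zero]
    intro z hz
    have h1 := Fp_coe f p z
    rw [hz, Submodule.coe_zero] at h1
    have h2 : ExteriorAlgebra.map (f.liftBaseChange B) = ExteriorAlgebra.map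
        (LinearEquiv.ofBijective (f.liftBaseChange B) hf).toLinearMap := rfl
    rw [h2] at h1
    have h3 := extMap_map_injective (LinearEquiv.ofBijective (f.liftBaseChange B) hf)
      (h1.symm.trans (map_zero _).symm)
    have h4 := F_injective A B M (h3.trans (map_zero _).symm)
    exact baseChange_subtype_injective A B M p (h4.trans (map_zero _).symm)
  · rw [← LinearMap.range_eq_top]
    have hspan : Submodule.span B (Set.range f) = ⊤ := by
      rw [eq_top_iff]
      intro n _
      obtain ⟨z, rfl⟩ := hf.2 n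
      induction z using TensorProduct.induction_on with
      | zero => simp
      | add x y hx hy =>
        rw [map_add]
        exact add_mem (hx trivial) (hy trivial)
      | tmul b m =>
        rw [LinearMap.liftBaseChange_tmul]
        exact Submodule.smul_mem _ _ (Submodule.subset_span ⟨m, rfl⟩)
    rw [eq_top_iff, ← ιMulti_span_of_span B p N hspan, Submodule.span_le]
    rintro _ ⟨a, ha, rfl⟩
    have : ∀ i, ∃ m, f m = a i := fun i => ha ⟨i, rfl⟩
    choose m hm using this
    refine ⟨(1 : B) ⊗ₜ ιMulti A p m, ?_⟩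
    rw [Fp_tmul, one_smul, extMap_ιMulti]
    congr 1
    funext i
    exact hm i

end Groth.Agent.Lib.Helper6.ExtBaseChange
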