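import Groth.Prelude.Def_DerCA
import Mathlib

/-!
# Contractibility of the extended Čech complex when some element is a unit (helper6)
-/

set_option autoImplicit false
universe u
open CategoryTheory Limits Pretriangulated

namespace Groth.Agent.Lib.Helper6.ExtCechContr

section General
variable {C : Type*} [Category C] [Preadditive C] [HasBinaryBiproducts C] [HasZeroObject C]

/-- contractible -/
abbrev Contr (K : CochainComplex C ℤ) : Prop := Nonempty (Homotopy (𝟙 K) 0)

lemma contr_iff (K : CochainComplex C ℤ) :
    Contr K ↔ IsZero ((HomotopyCategory.quotient C (ComplexShape.up ℤ)).obj K) :=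
  (HomotopyCategory.isZero_quotient_obj_iff K).symm

lemma contr_cone_of_iso {K L : CochainComplex C ℤ} (φ : K ⟶ L) [IsIso φ] :
    Contr (CochainComplex.mappingCone φ) := by
  rw [contr_iff]
  exact Triangle.isZero₃_of_isIso₁ _ (HomotopyCategory.mappingCone_triangleh_distinguished φ)
    (inferInstanceAs (IsIso ((HomotopyCategory.quotient C (ComplexShape.up ℤ)).map φ)))

lemma contr_cone_of_contr {K L : CochainComplex C ℤ} (φ : K ⟶ L) (hK : Contr K) (hL : Contr L) :
    Contr (CochainComplex.mappingCone φ) := by
  rw [contr_iff] at hK hL ⊢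
  exact Triangle.isZero₃_of_isZero₁₂ _ (HomotopyCategory.mappingCone_triangleh_distinguished φ)
    hK hL

lemma contr_shift {K : CochainComplex C ℤ} (h : Contr K) (n : ℤ) :
    Contr (K⟦n⟧) := by
  obtain ⟨h⟩ := h
  refine ⟨(Homotopy.ofEq ?_).trans ((h.shift n).trans (Homotopy.ofEq ?_))⟩
  · simp
  · simp

lemma contr_cocone_of_iso {K L : CochainComplex C ℤ} (φ : K ⟶ L) [IsIso φ] :
    Contr (CochainComplex.mappingCocone φ) :=
  contr_shift (contr_cone_of_iso φ) (-1)

lemma contr_cocone_of_contr {K L : CochainComplex C ℤ} (φ : K ⟶ L) (hK : Contr K) (hL : Contr L) :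
    Contr (CochainComplex.mappingCocone φ) :=
  contr_shift (contr_cone_of_contr φ hK hL) (-1)

end General

section Loc
variable {R : Type u} [CommRing R]

lemma mk_bijective (S : Submonoid R) (hS : ∀ s ∈ S, IsUnit s) (M : Type*) [AddCommGroup M]
    [Module R M] : Function.Bijective (LocalizedModule.mkLinearMap S M) := by
  have : IsLocalization S R := IsLocalization.of_le_isUnit (fun s hs => hS s hs)
  have := isLocalizedModule_id S M R
  have h : ⇑(LocalizedModule.mkLinearMap S M) =
      ⇑(IsLocalizedModule.linearEquiv S (LinearMap.id : M →ₗ[R] M)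
        (LocalizedModule.mkLinearMap S M)) := by
    ext x
    exact (IsLocalizedModule.linearEquiv_apply S (LinearMap.id : M →ₗ[R] M)
        (LocalizedModule.mkLinearMap S M) x).symm
  rw [h]
  exact LinearEquiv.bijective _

lemma isIso_locCxUnit (S : Submonoid R) (hS : ∀ s ∈ S, IsUnit s) (K : DRing.Cx R) :
    IsIso (DerCA.locCxUnit S K) := by
  apply (config := { allowSynthFailures := true }) HomologicalComplex.Hom.isIso_of_components
  intro i
  rw [ConcreteCategory.isIso_iff_bijective]
  exact mk_bijective S hS (K.X i)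

lemma contr_locCx (S : Submonoid R) {K : DRing.Cx R} (h : Contr K) :
    Contr ((DerCA.locCx S).obj K) := by
  obtain ⟨h⟩ := h
  refine ⟨(Homotopy.ofEq ?_).trans (((DerCA.locFunctor S).mapHomotopy h).trans (Homotopy.ofEq ?_))⟩
  · simp
  · simp

theorem s9263 (fs : List R) (hf : ∃ f ∈ fs, IsUnit f) (M : ModuleCat.{u} R) :
    Nonempty (Homotopy (𝟙 (DerCA.extCech M fs)) 0) := by
  induction fs with
  | nil => obtain ⟨f, hf, -⟩ := hf; simp at hf
  | cons g fs ih =>
    by_cases hg : IsUnit g
    · have : IsIso (DerCA.locCxUnit (Submonoid.powers g) (DerCA.extCech M fs)) := by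
        apply isIso_locCxUnit
        rintro s ⟨n, rfl⟩
        exact hg.pow n
      exact contr_cocone_of_iso _
    · have h' : ∃ f ∈ fs, IsUnit f := by
        obtain ⟨f, hf, hu⟩ := hf
        rcases List.mem_cons.1 hf with rfl | hf
        · exact absurd hu hg
        · exact ⟨f, hf, hu⟩
      have hK := ih h'
      exact contr_cocone_of_contr _ hK (contr_locCx _ hK)

end Loc

end Groth.Agent.Lib.Helper6.ExtCechContr
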