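import Groth.Agent.Lib.Helper6.ExtCech
import Groth.Prelude.Def_DRing3

/-!
# `H^0` of the extended Čech complex is `Γ_I` (helper6)
-/

namespace Groth.Agent.Lib.Helper6.ExtCech

universe u

open CategoryTheory CategoryTheory.Limits CategoryTheory.Pretriangulated

attribute [local instance] HasDerivedCategory.standard

set_option linter.unusedSectionVars false
set_option linter.style.haveILetI false

variable {R : Type u} [CommRing R]

section LES2

variable {K L : CochainComplex (ModuleCat.{u} R) ℤ} (φ : K ⟶ L)

lemma Qfst_Qφ : DerivedCategory.Q.map (CochainComplex.mappingCocone.fst φ) ≫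
    DerivedCategory.Q.map φ = 0 :=
  comp_distTriang_mor_zero₁₂ _ (hT φ)

lemma exactQ₂ (n : ℤ) :
    (ShortComplex.mk
      ((DerivedCategory.homologyFunctor (ModuleCat.{u} R) n).map
        (DerivedCategory.Q.map (CochainComplex.mappingCocone.fst φ)))
      ((DerivedCategory.homologyFunctor (ModuleCat.{u} R) n).map (DerivedCategory.Q.map φ))
      (by rw [← Functor.map_comp, Qfst_Qφ, Functor.map_zero])).Exact :=
  DerivedCategory.HomologySequence.exact₂ (T φ) (hT φ) n

/-- (L2) exactness at `H^n(K)`. -/
lemma exists_fst_eq (n : ℤ) (y : K.homology n)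
    (hy : HomologicalComplex.homologyMap φ n y = 0) :
    ∃ x : (CochainComplex.mappingCocone φ).homology n,
      HomologicalComplex.homologyMap (CochainComplex.mappingCocone.fst φ) n x = y := by
  have hex := exactQ₂ φ n
  rw [ShortComplex.ShortExact.moduleCat_exact_iff_function_exact] at hex
  let y' := (eH K n).inv y
  have hy0 : (DerivedCategory.homologyFunctor (ModuleCat.{u} R) n).map
      (DerivedCategory.Q.map φ) y' = 0 := by
    have h1 := eH_naturality φ n
    have h2 := congrArg (fun f => f.hom y') h1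
    simp only [ModuleCat.hom_comp, LinearMap.coe_comp, Function.comp_apply] at h2
    have h3 : (eH K n).hom y' = y := iso_inv_hom_apply (eH K n) y
    have h2' : (eH L n).hom ((DerivedCategory.homologyFunctor (ModuleCat.{u} R) n).map
      (DerivedCategory.Q.map φ) y') =
        HomologicalComplex.homologyMap φ n ((eH K n).hom y') := h2
    rw [h3, hy] at h2'
    have h4 := congrArg (eH L n).inv h2'
    rw [map_zero, iso_hom_inv_apply] at h4
    exact h4
  obtain ⟨x', hx'⟩ := (hex y').1 hy0
  refine ⟨(eH (CochainComplex.mappingCocone φ) n).hom x', ?_⟩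
  have hx'' : (DerivedCategory.homologyFunctor (ModuleCat.{u} R) n).map
      (DerivedCategory.Q.map (CochainComplex.mappingCocone.fst φ)) x' = y' := hx'
  have h1 := eH_naturality (CochainComplex.mappingCocone.fst φ) n
  have h2 := congrArg (fun f => f.hom x') h1
  simp only [ModuleCat.hom_comp, LinearMap.coe_comp, Function.comp_apply] at h2
  have h2' : (eH K n).hom ((DerivedCategory.homologyFunctor (ModuleCat.{u} R) n).map
      (DerivedCategory.Q.map (CochainComplex.mappingCocone.fst φ)) x') =
        HomologicalComplex.homologyMap (CochainComplex.mappingCocone.fst φ) n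
          ((eH (CochainComplex.mappingCocone φ) n).hom x') := h2
  rw [← h2', hx'']
  exact iso_inv_hom_apply (eH K n) y

/-- If `H^{n₀}(L) = 0` then `H^{n₁}(fst)` is injective. -/
lemma fst_injective (n₀ n₁ : ℤ) (h : n₀ + 1 = n₁) (hL : IsZero (L.homology n₀)) :
    Function.Injective (HomologicalComplex.homologyMap (CochainComplex.mappingCocone.fst φ) n₁) := by
  rw [injective_iff_map_eq_zero]
  intro x hx
  obtain ⟨z, rfl⟩ := exists_delta_eq φ n₀ n₁ h x hx
  have : z = 0 := by
    have := (ModuleCat.isZero_iff_subsingleton.1 hL)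
    exact Subsingleton.elim _ _
  rw [this, map_zero]

end LES2

section H0

/-- converse of (M1). -/
lemma map_eq_zero_of_smul_eq_zero (S : Submonoid R) (K : CochainComplex (ModuleCat.{u} R) ℤ)
    (q : ℤ) (y : K.homology q) (s : S) (hs : (s : R) • y = 0) :
    HomologicalComplex.homologyMap (DerCA.locCxUnit S K) q y = 0 := by
  apply eq_zero_of_smul_eq_zero S K q _ s
  rw [← map_smul, hs, map_zero]

theorem h0_claim (M : ModuleCat.{u} R) : ∀ fs : List R,
    ∃ j : (DerCA.extCechH fs M 0) →ₗ[R] M, Function.Injective j ∧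
      ∀ m : M, m ∈ LinearMap.range j ↔ ∀ f ∈ fs, ∃ n : ℕ, f ^ n • m = 0 := by
  intro fs
  induction fs with
  | nil =>
    refine ⟨(HomologicalComplex.singleObjHomologySelfIso (ComplexShape.up ℤ) 0 M).hom.hom, ?_, ?_⟩
    · exact ((ConcreteCategory.isIso_iff_bijective
        (HomologicalComplex.singleObjHomologySelfIso (ComplexShape.up ℤ) 0 M).hom).1
          inferInstance).1
    · intro m
      constructor
      · intro _ f hf; simp at hf
      · intro _
        exact LinearMap.mem_range.2 (((ConcreteCategory.isIso_iff_bijective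
          (HomologicalComplex.singleObjHomologySelfIso (ComplexShape.up ℤ) 0 M).hom).1
            inferInstance).2 m)
  | cons f fs ih =>
    obtain ⟨j, hj, hr⟩ := ih
    let K := DerCA.extCech M fs
    let S := Submonoid.powers f
    let φ := DerCA.locCxUnit S K
    have hL : IsZero (((DerCA.locCx S).obj K).homology (-1)) := by
      apply ShortComplex.isZero_homology_of_isZero_X₂
      exact (DerCA.locFunctor S).map_isZero (isZero_terms M fs (-1) (Or.inl (by norm_num)))
    have hinj := fst_injective φ (-1) 0 (by norm_num) hL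
    refine ⟨j ∘ₗ (HomologicalComplex.homologyMap (CochainComplex.mappingCocone.fst φ) 0).hom,
      hj.comp hinj, ?_⟩
    intro m
    constructor
    · rintro ⟨x, rfl⟩ g hg
      rcases List.mem_cons.1 hg with rfl | hg
      · -- g = f
        have h0 := map_fst_map φ 0 x
        obtain ⟨s, hs⟩ := exists_smul_eq_zero S K 0 _ h0
        obtain ⟨n, hn⟩ := s.2
        refine ⟨n, ?_⟩
        change g ^ n • j (HomologicalComplex.homologyMap
          (CochainComplex.mappingCocone.fst φ) 0 x) = 0
        have hn' : g ^ n = (s : R) := hn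
        rw [← map_smul, hn', hs, map_zero]
      · exact (hr _).1 ⟨_, rfl⟩ g hg
    · intro hm
      obtain ⟨y, rfl⟩ := (hr m).2 (fun g hg => hm g (List.mem_cons_of_mem _ hg))
      obtain ⟨n, hn⟩ := hm f List.mem_cons_self
      have hy : f ^ n • y = 0 := by
        apply hj
        rw [map_smul, hn, map_zero]
      have h0 : HomologicalComplex.homologyMap φ 0 y = 0 :=
        map_eq_zero_of_smul_eq_zero S K 0 y ⟨f ^ n, n, rfl⟩ hy
      obtain ⟨x, hx⟩ := exists_fst_eq φ 0 y h0
      exact ⟨x, congrArg j hx⟩

lemma mem_torsionSub_iff (fs : List R) (M : Type u) [AddCommGroup M] [Module R M] (m : M) :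
    m ∈ DRing.torsionSub (Ideal.span {x | x ∈ fs}) M ↔ ∀ f ∈ fs, ∃ n : ℕ, f ^ n • m = 0 := by
  constructor
  · rintro ⟨n, hn⟩ f hf
    exact ⟨n, hn _ (Ideal.pow_mem_pow
      (Ideal.subset_span (show f ∈ {x | x ∈ fs} from hf)) n)⟩
  · intro h
    let J : Ideal R := LinearMap.ker (LinearMap.toSpanSingleton R M m)
    have hJ : ∀ a : R, a ∈ J ↔ a • m = 0 := fun a => by
      simp [J, LinearMap.mem_ker]
    have hle : Ideal.span {x | x ∈ fs} ≤ J.radical := by
      rw [Ideal.span_le]
      intro f hf
      obtain ⟨n, hn⟩ := h f hf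
      exact ⟨n, (hJ _).2 hn⟩
    have hfg : (Ideal.span {x | x ∈ fs}).FG := Submodule.fg_span (List.finite_toSet fs)
    obtain ⟨n, hn⟩ := Ideal.exists_pow_le_of_le_radical_of_fg hle hfg
    exact ⟨n, fun a ha => (hJ a).1 (hn ha)⟩

theorem s17776 (fs : List R) (M : Type u) [AddCommGroup M] [Module R M] :
    Nonempty (DerCA.extCechH fs (ModuleCat.of R M) 0 ≅
      (DRing.gammaI (Ideal.span {x | x ∈ fs})).obj (ModuleCat.of R M)) := by
  obtain ⟨j, hj, hr⟩ := h0_claim (ModuleCat.of R M) fs
  have hrange : LinearMap.range j = DRing.torsionSub (Ideal.span {x | x ∈ fs}) M := by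
    ext m
    rw [hr m, mem_torsionSub_iff]
  exact ⟨(LinearEquiv.ofInjective j hj ≪≫ₗ LinearEquiv.ofEq _ _ hrange).toModuleIso⟩

end H0

end Groth.Agent.Lib.Helper6.ExtCech
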