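import Mathlib

/-!
# `Ext¹(A, ∏ F_i) → ∏ Ext¹(A, F_i)` is injective (helper6)
-/

set_option linter.unusedSectionVars false
set_option linter.unusedVariables false
set_option linter.unusedSimpArgs false
set_option autoImplicit false
set_option linter.style.haveILetI false
set_option maxHeartbeats 400000

noncomputable section

namespace Groth.Agent.Helper6.ExtProd

open CategoryTheory CategoryTheory.Limits CategoryTheory.Abelian

universe w v u

variable {𝒜 : Type u} [Category.{v} 𝒜] [Abelian 𝒜] [HasExt.{w} 𝒜] [EnoughInjectives 𝒜]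

theorem ext_one_pi_eq_zero {I : Type v} (F : I → 𝒜) [HasProduct F]
    [HasProduct (fun i => Injective.under (F i))]
    (A : 𝒜) (x : Ext A (∏ᶜ F) 1)
    (hx : ∀ i, x.comp (Ext.mk₀ (Pi.π F i)) (add_zero 1) = 0) : x = 0 := by
  classical
  let J : I → 𝒜 := fun i => Injective.under (F i)
  let ι : ∀ i, F i ⟶ J i := fun i => Injective.ι (F i)
  let ιp : ∏ᶜ F ⟶ ∏ᶜ J := Limits.Pi.map ι
  haveI : Mono ιp := inferInstance
  let S : ShortComplex 𝒜 := ShortComplex.mk ιp (cokernel.π ιp) (cokernel.condition ιp)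
  have hS : S.ShortExact :=
    { exact := ShortComplex.exact_cokernel ιp
      mono_f := inferInstanceAs (Mono ιp)
      epi_g := inferInstanceAs (Epi (cokernel.π ιp)) }
  let Si : I → ShortComplex 𝒜 := fun i =>
    ShortComplex.mk (ι i) (cokernel.π (ι i)) (cokernel.condition (ι i))
  have hSi : ∀ i, (Si i).ShortExact := fun i =>
    { exact := ShortComplex.exact_cokernel (ι i)
      mono_f := inferInstanceAs (Mono (Injective.ι (F i)))
      epi_g := inferInstanceAs (Epi (cokernel.π (ι i))) }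
  have hcomm : ∀ i, ιp ≫ Pi.π J i = Pi.π F i ≫ ι i := fun i => Pi.map_π ι i
  let q : ∀ i, cokernel ιp ⟶ cokernel (ι i) := fun i =>
    cokernel.map ιp (ι i) (Pi.π F i) (Pi.π J i) (hcomm i)
  have hq : ∀ i, cokernel.π ιp ≫ q i = Pi.π J i ≫ cokernel.π (ι i) := fun i =>
    cokernel.π_desc _ _ _
  let fi : ∀ i, S ⟶ Si i := fun i =>
    { τ₁ := Pi.π F i
      τ₂ := Pi.π J i
      τ₃ := q i
      comm₁₂ := (hcomm i).symm
      comm₂₃ := (hq i).symm }
  -- key: a map to the product of injectives all of whose components die in the cokernels dies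
  -- in the cokernel of the product
  have key : ∀ {T : 𝒜} (t : T ⟶ ∏ᶜ J), (∀ i, (t ≫ Pi.π J i) ≫ cokernel.π (ι i) = 0) →
      t ≫ cokernel.π ιp = 0 := by
    intro T t ht
    haveI : ∀ i, Mono (Si i).f := fun i => (hSi i).mono_f
    let s : T ⟶ ∏ᶜ F := Limits.Pi.lift (fun i => (hSi i).exact.lift (t ≫ Pi.π J i) (ht i))
    have hs : s ≫ ιp = t := by
      apply Limits.Pi.hom_ext
      intro i
      rw [Category.assoc, hcomm i, ← Category.assoc, Pi.lift_π]
      exact (hSi i).exact.lift_f (t ≫ Pi.π J i) (ht i)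
    rw [← hs, Category.assoc, cokernel.condition, comp_zero]
  -- `x` comes from a map `φ : A ⟶ cokernel ιp`
  have hx0 : x.comp (Ext.mk₀ S.f) (add_zero 1) = 0 := Ext.eq_zero_of_injective _
  obtain ⟨x₃, hx₃⟩ := Ext.covariant_sequence_exact₁ A hS x hx0 (zero_add 1)
  obtain ⟨φ, rfl⟩ := (Ext.mk₀_bijective A S.X₃).2 x₃
  -- each `φ ≫ q i` lifts to `J i`
  have hlift : ∀ i, ∃ ψ : A ⟶ J i, ψ ≫ cokernel.π (ι i) = φ ≫ q i := by
    intro i
    have h1 := hx i
    rw [← hx₃, Ext.comp_assoc_of_third_deg_zero,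
      ShortComplex.ShortExact.extClass_naturality hS (hSi i) (fi i),
      ← Ext.comp_assoc_of_second_deg_zero, Ext.mk₀_comp_mk₀] at h1
    obtain ⟨x₂, hx₂⟩ := Ext.covariant_sequence_exact₃ A (hSi i) (Ext.mk₀ (φ ≫ q i)) (zero_add 1) h1
    obtain ⟨ψ, rfl⟩ := (Ext.mk₀_bijective A (Si i).X₂).2 x₂
    rw [Ext.mk₀_comp_mk₀] at hx₂
    exact ⟨ψ, (Ext.mk₀_bijective A (Si i).X₃).1 hx₂⟩
  choose ψ hψ using hlift
  let Ψ : A ⟶ ∏ᶜ J := Limits.Pi.lift ψ
  -- `Ψ ≫ π = φ`, via a pullback along the epimorphism `π`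
  have hΨ : Ψ ≫ cokernel.π ιp = φ := by
    let d : A ⟶ cokernel ιp := Ψ ≫ cokernel.π ιp - φ
    have hd : ∀ i, d ≫ q i = 0 := by
      intro i
      change (Ψ ≫ cokernel.π ιp - φ) ≫ q i = 0
      rw [Preadditive.sub_comp, Category.assoc, hq i, ← Category.assoc, Pi.lift_π, hψ i, sub_self]
    -- pull back `d` along `π`
    let e := pullback.fst d (cokernel.π ιp)
    let t := pullback.snd d (cokernel.π ιp)
    haveI : Epi e := Abelian.epi_pullback_of_epi_g d (cokernel.π ιp)
    have hsq : e ≫ d = t ≫ cokernel.π ιp := pullback.condition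
    have ht : t ≫ cokernel.π ιp = 0 := by
      apply key
      intro i
      rw [Category.assoc, ← hq i, ← Category.assoc, ← hsq, Category.assoc, hd i, comp_zero]
    have hd0 : d = 0 := by
      rw [← cancel_epi e, hsq, ht, comp_zero]
    exact sub_eq_zero.1 hd0
  rw [← hx₃, ← hΨ, ← Ext.mk₀_comp_mk₀, Ext.comp_assoc_of_second_deg_zero]
  have : (Ext.mk₀ S.g).comp hS.extClass (zero_add 1) = 0 := hS.comp_extClass
  rw [this, Ext.comp_zero]

theorem postcomp_pi_injective {I : Type v} (F : I → 𝒜) [HasProduct F]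
    [HasProduct (fun i => Injective.under (F i))] (A : 𝒜) :
    Function.Injective (fun (x : Ext A (∏ᶜ F) 1) (i : I) =>
      x.comp (Ext.mk₀ (Pi.π F i)) (add_zero 1)) := by
  intro a b hab
  have h0 : a - b = 0 := by
    apply ext_one_pi_eq_zero F A
    intro i
    have h1 : a.comp (Ext.mk₀ (Pi.π F i)) (add_zero 1) = b.comp (Ext.mk₀ (Pi.π F i)) (add_zero 1) :=
      congrFun hab i
    rw [sub_eq_add_neg, Ext.add_comp, Ext.neg_comp, h1, add_neg_cancel]
  exact sub_eq_zero.1 h0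

end Groth.Agent.Helper6.ExtProd
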