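import Mathlib

/-! For a formally étale `R → S` and an ideal `J` of `S` with `R → S/J` surjective with kernel
`I`, the maps `R/I^n → S/J^n` are bijective: elementwise form. -/

set_option linter.unusedSectionVars false
set_option autoImplicit false
noncomputable section

namespace Groth.Agent.Lib.Helper6.FEtaleGr

universe u v

variable {R : Type u} [CommRing R] {S : Type v} [CommRing S] [Algebra R S]
  [Algebra.FormallyEtale R S] (J : Ideal S) (hJ : Function.Surjective (algebraMap R (S ⧸ J)))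

lemma algebraMap_quot_eq_zero_iff (r : R) :
    algebraMap R (S ⧸ J) r = 0 ↔ r ∈ J.comap (algebraMap R S) := by
  rw [IsScalarTower.algebraMap_apply R S (S ⧸ J), Ideal.Quotient.algebraMap_eq,
    Ideal.Quotient.eq_zero_iff_mem, Ideal.mem_comap]

include hJ in
theorem main (n : ℕ) :
    (∀ a : R, algebraMap R S a ∈ J ^ n → a ∈ (J.comap (algebraMap R S)) ^ n) ∧
    (∀ s : S, ∃ r : R, s - algebraMap R S r ∈ J ^ n) := by
  rcases Nat.eq_zero_or_pos n with rfl | hn
  · simp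
  set I : Ideal R := J.comap (algebraMap R S) with hI
  have hIn : I ^ n ≤ I := Ideal.pow_le_self (by omega)
  let g : (R ⧸ I ^ n) →ₐ[R] (S ⧸ J) :=
    Ideal.Quotient.liftₐ (I ^ n) (Algebra.ofId R (S ⧸ J)) (fun a ha => by
      show algebraMap R (S ⧸ J) a = 0
      rw [algebraMap_quot_eq_zero_iff]
      exact hIn ha)
  have hg_mk : ∀ r : R, g (Ideal.Quotient.mk (I ^ n) r) = algebraMap R (S ⧸ J) r := fun r => rfl
  have hg : Function.Surjective g := by
    intro y
    obtain ⟨r, rfl⟩ := hJ y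
    exact ⟨Ideal.Quotient.mk _ r, hg_mk r⟩
  have hker : RingHom.ker (g : (R ⧸ I ^ n) →+* (S ⧸ J)) ≤ I.map (Ideal.Quotient.mk (I ^ n)) := by
    intro x hx
    obtain ⟨r, rfl⟩ := Ideal.Quotient.mk_surjective x
    rw [RingHom.mem_ker] at hx
    have : g (Ideal.Quotient.mk (I ^ n) r) = 0 := hx
    rw [hg_mk, algebraMap_quot_eq_zero_iff] at this
    exact Ideal.mem_map_of_mem _ this
  have hkern : (RingHom.ker (g : (R ⧸ I ^ n) →+* (S ⧸ J))) ^ n = ⊥ := by
    rw [eq_bot_iff]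
    calc (RingHom.ker (g : (R ⧸ I ^ n) →+* (S ⧸ J))) ^ n
        ≤ (I.map (Ideal.Quotient.mk (I ^ n))) ^ n := Ideal.pow_right_mono hker n
      _ = ⊥ := by rw [← Ideal.map_pow, Ideal.map_quotient_self]
  have hg' : IsNilpotent (RingHom.ker (g : (R ⧸ I ^ n) →+* (S ⧸ J))) := ⟨n, hkern⟩
  let ψ : S →ₐ[R] (R ⧸ I ^ n) :=
    Algebra.FormallySmooth.liftOfSurjective (Ideal.Quotient.mkₐ R J) g hg hg'
  have hψ : ∀ s : S, g (ψ s) = Ideal.Quotient.mk J s := fun s =>
    Algebra.FormallySmooth.liftOfSurjective_apply (Ideal.Quotient.mkₐ R J) g hg hg' s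
  have hψJ : J ≤ (RingHom.ker (g : (R ⧸ I ^ n) →+* (S ⧸ J))).comap (ψ : S →+* (R ⧸ I ^ n)) := by
    intro s hs
    rw [Ideal.mem_comap, RingHom.mem_ker]
    show g (ψ s) = 0
    rw [hψ, Ideal.Quotient.eq_zero_iff_mem]
    exact hs
  have hψJn : ∀ t ∈ J ^ n, ψ t = 0 := by
    intro t ht
    have h1 : J ^ n ≤ ((RingHom.ker (g : (R ⧸ I ^ n) →+* (S ⧸ J))) ^ n).comap
        (ψ : S →+* (R ⧸ I ^ n)) :=
      (Ideal.pow_right_mono hψJ n).trans (Ideal.le_comap_pow _ n)
    have h2 := h1 ht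
    rw [hkern, Ideal.mem_comap, Ideal.mem_bot] at h2
    exact h2
  refine ⟨fun a ha => ?_, fun s => ?_⟩
  · have h1 := hψJn _ ha
    rw [AlgHom.commutes, Ideal.Quotient.algebraMap_eq, Ideal.Quotient.eq_zero_iff_mem] at h1
    exact h1
  · -- the comparison map R/I^n → S/J^n
    have hIJ : ∀ a ∈ I ^ n, algebraMap R S a ∈ J ^ n := by
      intro a ha
      have h1 : algebraMap R S a ∈ (I ^ n).map (algebraMap R S) := Ideal.mem_map_of_mem _ ha
      rw [Ideal.map_pow] at h1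
      exact Ideal.pow_right_mono Ideal.map_comap_le n h1
    let c : (R ⧸ I ^ n) →ₐ[R] (S ⧸ J ^ n) :=
      Ideal.Quotient.liftₐ (I ^ n) (Algebra.ofId R (S ⧸ J ^ n)) (fun a ha => by
        show algebraMap R (S ⧸ J ^ n) a = 0
        rw [IsScalarTower.algebraMap_apply R S (S ⧸ J ^ n), Ideal.Quotient.algebraMap_eq,
          Ideal.Quotient.eq_zero_iff_mem]
        exact hIJ a ha)
    have hc_mk : ∀ r : R, c (Ideal.Quotient.mk (I ^ n) r) =
        Ideal.Quotient.mk (J ^ n) (algebraMap R S r) := fun r => by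
      show algebraMap R (S ⧸ J ^ n) r = _
      rw [IsScalarTower.algebraMap_apply R S (S ⧸ J ^ n), Ideal.Quotient.algebraMap_eq]
    have hnil : IsNilpotent (J.map (Ideal.Quotient.mk (J ^ n))) :=
      ⟨n, by rw [← Ideal.map_pow, Ideal.map_quotient_self]; rfl⟩
    have key : ∀ x : S, ∀ r : R, ψ x = Ideal.Quotient.mk (I ^ n) r → x - algebraMap R S r ∈ J := by
      intro x r hr
      have h1 := hψ x
      rw [hr, hg_mk, IsScalarTower.algebraMap_apply R S (S ⧸ J), Ideal.Quotient.algebraMap_eq] at h1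
      rw [← Ideal.Quotient.eq_zero_iff_mem, map_sub, h1, sub_self]
    have heq : Ideal.Quotient.mkₐ R (J ^ n) = c.comp ψ := by
      refine Algebra.FormallyUnramified.ext (J.map (Ideal.Quotient.mk (J ^ n))) hnil fun x => ?_
      obtain ⟨r, hr⟩ := Ideal.Quotient.mk_surjective (ψ x)
      rw [← sub_eq_zero, ← map_sub, Ideal.Quotient.eq_zero_iff_mem, AlgHom.comp_apply, ← hr, hc_mk,
        Ideal.Quotient.mkₐ_eq_mk, ← map_sub]
      exact Ideal.mem_map_of_mem _ (key x r hr.symm)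
    obtain ⟨r, hr⟩ := Ideal.Quotient.mk_surjective (ψ s)
    refine ⟨r, ?_⟩
    have h2 := AlgHom.congr_fun heq s
    rw [AlgHom.comp_apply, ← hr, hc_mk, Ideal.Quotient.mkₐ_eq_mk] at h2
    rw [← Ideal.Quotient.eq_zero_iff_mem, map_sub, h2, sub_self]

end Groth.Agent.Lib.Helper6.FEtaleGr
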