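import Mathlib

set_option linter.unusedSectionVars false
set_option autoImplicit false
set_option maxHeartbeats 400000

noncomputable section

namespace Groth.Agent.Lib.Helper6.PSLogDeriv

open PowerSeries

/-- `L` is a logarithmic derivative of `F`: `F' = F * L`. -/
def IsLD (F L : ℚ⟦X⟧) : Prop := d⁄dX ℚ F = F * L

theorem IsLD.one : IsLD 1 0 := by
  unfold IsLD
  rw [derivative_one, mul_zero]

theorem IsLD.mul {F G L M : ℚ⟦X⟧} (hF : IsLD F L) (hG : IsLD G M) : IsLD (F * G) (L + M) := by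
  unfold IsLD at *
  rw [Derivation.leibniz, hF, hG, smul_eq_mul, smul_eq_mul]
  ring

theorem IsLD.pow {F L : ℚ⟦X⟧} (hF : IsLD F L) (a : ℕ) : IsLD (F ^ a) (a • L) := by
  induction a with
  | zero => simpa using IsLD.one
  | succ a ih =>
    rw [pow_succ, succ_nsmul]
    exact ih.mul hF

theorem IsLD.prod {ι : Type*} (s : Finset ι) (F L : ι → ℚ⟦X⟧) (h : ∀ i ∈ s, IsLD (F i) (L i)) :
    IsLD (∏ i ∈ s, F i) (∑ i ∈ s, L i) := by
  classical
  induction s using Finset.induction_on with
  | empty => simpa using IsLD.one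
  | insert i s hi ih =>
    rw [Finset.prod_insert hi, Finset.sum_insert hi]
    exact (h i (Finset.mem_insert_self i s)).mul
      (ih fun j hj => h j (Finset.mem_insert_of_mem hj))

theorem constantCoeff_exp_subst (g : ℚ⟦X⟧) (hg : constantCoeff g = 0) :
    constantCoeff ((exp ℚ).subst g) = 1 := by
  have hs : HasSubst g := HasSubst.of_constantCoeff_zero' hg
  have h1 : exp ℚ = 1 + (exp ℚ - 1) := by ring
  rw [h1, subst_add hs, map_add]
  have h2 : constantCoeff ((exp ℚ - 1).subst g) = 0 :=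
    constantCoeff_subst_eq_zero hg _ (by simp)
  rw [h2, add_zero]
  have h3 : (1 : ℚ⟦X⟧).subst g = 1 := by
    rw [← coe_substAlgHom hs, map_one]
  rw [h3]
  simp

theorem IsLD.exp_subst (g : ℚ⟦X⟧) (hg : constantCoeff g = 0) :
    IsLD ((exp ℚ).subst g) (d⁄dX ℚ g) := by
  have hs : HasSubst g := HasSubst.of_constantCoeff_zero' hg
  unfold IsLD
  rw [derivative_subst hs, derivative_exp]

/-- The logarithmic derivative of `1 - c X ^ r`. -/
def geomLD (c : ℚ) (r : ℕ) : ℚ⟦X⟧ :=
  mk fun m => if r ∣ m + 1 then -(r : ℚ) * c ^ ((m + 1) / r) else 0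

theorem coeff_geomLD (c : ℚ) (r m : ℕ) :
    coeff m (geomLD c r) = if r ∣ m + 1 then -(r : ℚ) * c ^ ((m + 1) / r) else 0 := by
  rw [geomLD, coeff_mk]

theorem IsLD.one_sub (c : ℚ) (r : ℕ) (hr : 1 ≤ r) :
    IsLD (1 - C c * X ^ r) (geomLD c r) := by
  unfold IsLD
  have hd : d⁄dX ℚ (1 - C c * X ^ r : ℚ⟦X⟧) = - (C (c * r) * X ^ (r - 1)) := by
    rw [map_sub, derivative_one, zero_sub, Derivation.leibniz, derivative_C, smul_zero, add_zero,
      derivative_pow, derivative_X, smul_eq_mul, mul_one, map_mul]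
    simp only [map_natCast]
    ring
  rw [hd]
  ext m
  rw [sub_mul, one_mul, map_sub, map_neg, mul_assoc, coeff_C_mul, coeff_C_mul, coeff_X_pow,
    coeff_X_pow_mul', coeff_geomLD]
  by_cases hm : r ≤ m
  · rw [if_pos hm, coeff_geomLD, if_neg (by omega)]
    have hdvd : r ∣ m + 1 ↔ r ∣ m - r + 1 := by
      have h1 : m + 1 = (m - r + 1) + r := by omega
      rw [h1]
      exact Nat.dvd_add_self_right
    by_cases hd : r ∣ m + 1
    · rw [if_pos hd, if_pos (hdvd.1 hd)]
      have h2 : (m + 1) / r = (m - r + 1) / r + 1 := by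
        have h1 : m + 1 = (m - r + 1) + r := by omega
        rw [h1, Nat.add_div_right _ (by omega)]
      rw [h2, pow_succ]
      ring
    · rw [if_neg hd, if_neg (fun h => hd (hdvd.2 h))]
      ring
  · rw [if_neg hm]
    by_cases hd : m = r - 1
    · have h1 : m + 1 = r := by omega
      rw [if_pos hd, if_pos (by rw [h1]), h1, Nat.div_self (by omega)]
      ring
    · rw [if_neg hd, if_neg]
      · ring
      · intro h
        have := Nat.le_of_dvd (by omega) h
        omega

theorem IsLD.coeff_succ {G L : ℚ⟦X⟧} (h : IsLD G L) (m : ℕ) :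
    coeff (m + 1) G * (m + 1) =
      ∑ x ∈ Finset.HasAntidiagonal.antidiagonal m, coeff x.1 G * coeff x.2 L := by
  have h1 := congrArg (coeff m) h
  rw [coeff_derivative, coeff_mul] at h1
  exact h1

theorem IsLD.ext {G H L : ℚ⟦X⟧} (hG : IsLD G L) (hH : IsLD H L)
    (h0 : constantCoeff G = constantCoeff H) : G = H := by
  ext n
  induction n using Nat.strong_induction_on with
  | _ n ih =>
    cases n with
    | zero => simpa using h0
    | succ m =>
      have h1 := hG.coeff_succ m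
      have h2 := hH.coeff_succ m
      have h3 : ∑ x ∈ Finset.HasAntidiagonal.antidiagonal m, coeff x.1 G * coeff x.2 L =
          ∑ x ∈ Finset.HasAntidiagonal.antidiagonal m, coeff x.1 H * coeff x.2 L := by
        refine Finset.sum_congr rfl fun x hx => ?_
        rw [ih x.1 (by have := Finset.HasAntidiagonal.mem_antidiagonal.1 hx; omega)]
      rw [h3, ← h2] at h1
      have h4 : ((m : ℚ) + 1) ≠ 0 := by positivity
      exact mul_right_cancel₀ h4 h1

theorem IsLD.coeff_eq_zero {G L : ℚ⟦X⟧} (hG : IsLD G L) (n : ℕ)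
    (hL : ∀ m < n, coeff m L = 0) (m : ℕ) (hm1 : 1 ≤ m) (hmn : m ≤ n) : coeff m G = 0 := by
  obtain ⟨m, rfl⟩ : ∃ k, m = k + 1 := ⟨m - 1, by omega⟩
  have h1 := hG.coeff_succ m
  have h3 : ∑ x ∈ Finset.HasAntidiagonal.antidiagonal m, coeff x.1 G * coeff x.2 L = 0 := by
    refine Finset.sum_eq_zero fun x hx => ?_
    rw [hL x.2 (by have := Finset.HasAntidiagonal.mem_antidiagonal.1 hx; omega), mul_zero]
  rw [h3] at h1
  have h4 : ((m : ℚ) + 1) ≠ 0 := by positivity
  exact (mul_eq_zero.1 h1).resolve_right h4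

theorem IsLD.trunc_eq_one {G L : ℚ⟦X⟧} (hG : IsLD G L) (h0 : constantCoeff G = 1) (n : ℕ)
    (hL : ∀ m < n, coeff m L = 0) : trunc (n + 1) G = 1 := by
  ext m
  rw [coeff_trunc, Polynomial.coeff_one]
  by_cases hm : m < n + 1
  · rw [if_pos hm]
    rcases Nat.eq_zero_or_pos m with rfl | hpos
    · simpa using h0
    · rw [hG.coeff_eq_zero n hL m hpos (by omega), if_neg (by omega)]
  · rw [if_neg hm, if_neg (by omega)]

end Groth.Agent.Lib.Helper6.PSLogDeriv
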