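import Groth.Prelude.Def_W4c1zetahwZeta
import Groth.Agent.Lib.Helper6.PSLogDeriv

set_option linter.unusedSectionVars false
set_option autoImplicit false
set_option maxHeartbeats 400000

noncomputable section

universe u

namespace Groth.Agent.Lib.Helper6.ZetaFormal

open PowerSeries CategoryTheory AlgebraicGeometry Groth.Agent.Lib.Helper6.PSLogDeriv

variable {k : Type u} [Field k] {Y : Scheme.{u}} (f : Y ⟶ Spec (CommRingCat.of k))

theorem constantCoeff_logZeta : constantCoeff (Zeta.logZeta f) = 0 := by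
  rw [Zeta.logZeta, ← coeff_zero_eq_constantCoeff_apply, coeff_mk]
  simp

theorem coeff_deriv_logZeta (m : ℕ) :
    coeff m (d⁄dX ℚ (Zeta.logZeta f)) = (Zeta.nPts f (m + 1) : ℚ) := by
  rw [coeff_derivative, Zeta.logZeta, coeff_mk]
  have h : ((m + 1 : ℕ) : ℚ) ≠ 0 := by positivity
  push_cast at h ⊢
  field_simp

theorem isLD_zetaFun : IsLD (Zeta.zetaFun f) (d⁄dX ℚ (Zeta.logZeta f)) :=
  IsLD.exp_subst _ (constantCoeff_logZeta f)

theorem constantCoeff_zetaFun : constantCoeff (Zeta.zetaFun f) = 1 :=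
  constantCoeff_exp_subst _ (constantCoeff_logZeta f)

/-- The product `∏_{r=1}^n (1 - X^r)^{a_r}`. -/
def PP (a : ℕ → ℕ) (n : ℕ) : ℚ⟦X⟧ := ∏ r ∈ Finset.Icc 1 n, (1 - X ^ r) ^ a r

/-- The same product over `ℤ`. -/
def PPZ (a : ℕ → ℕ) (n : ℕ) : ℤ⟦X⟧ := ∏ r ∈ Finset.Icc 1 n, (1 - X ^ r) ^ a r

theorem map_PPZ (a : ℕ → ℕ) (n : ℕ) : map (Int.castRingHom ℚ) (PPZ a n) = PP a n := by
  simp [PPZ, PP, map_prod]

theorem constantCoeff_PP (a : ℕ → ℕ) (n : ℕ) : constantCoeff (PP a n) = 1 := by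
  rw [PP, map_prod]
  refine Finset.prod_eq_one fun r hr => ?_
  have hr1 : r ≠ 0 := by have := (Finset.mem_Icc.1 hr).1; omega
  rw [map_pow, map_sub, map_pow, constantCoeff_X, zero_pow hr1, map_one, sub_zero, one_pow]

theorem isLD_PP (a : ℕ → ℕ) (n : ℕ) :
    IsLD (PP a n) (∑ r ∈ Finset.Icc 1 n, a r • geomLD 1 r) := by
  unfold PP
  refine IsLD.prod _ _ _ fun r hr => ?_
  have h := (IsLD.one_sub 1 r (Finset.mem_Icc.1 hr).1).pow (a r)
  rwa [map_one, one_mul] at h

theorem trunc_main (n : ℕ) :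
    trunc (n + 1) (Zeta.zetaFun f * PP (Zeta.degCount f) n) = 1 := by
  refine ((isLD_zetaFun f).mul (isLD_PP (Zeta.degCount f) n)).trunc_eq_one ?_ n ?_
  · rw [map_mul, constantCoeff_zetaFun, constantCoeff_PP, one_mul]
  · intro m hm
    rw [map_add, coeff_deriv_logZeta, map_sum]
    have h1 : ∀ r ∈ Finset.Icc 1 n, coeff m (Zeta.degCount f r • geomLD 1 r) =
        if r ∣ m + 1 then -((r * Zeta.degCount f r : ℕ) : ℚ) else 0 := by
      intro r _
      rw [map_nsmul, coeff_geomLD]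
      split_ifs
      · rw [one_pow, nsmul_eq_mul]
        push_cast
        ring
      · rw [smul_zero]
    rw [Finset.sum_congr rfl h1, ← Finset.sum_filter, Finset.sum_neg_distrib]
    have h2 : (Finset.Icc 1 n).filter (fun r => r ∣ m + 1) = (m + 1).divisors := by
      ext e
      rw [Finset.mem_filter, Finset.mem_Icc, Nat.mem_divisors]
      constructor
      · rintro ⟨_, h⟩
        exact ⟨h, by omega⟩
      · rintro ⟨h, _⟩
        have h3 := Nat.le_of_dvd (by omega) h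
        have h4 := Nat.pos_of_dvd_of_pos h (by omega)
        exact ⟨⟨h4, by omega⟩, h⟩
    rw [h2, Zeta.nPts]
    push_cast
    ring

theorem coeff_int (n : ℕ) : coeff n (Zeta.zetaFun f) ∈ (Int.castRingHom ℚ).range := by
  induction n using Nat.strong_induction_on with
  | _ n ih =>
    have h1 := congrArg (fun q : Polynomial ℚ => q.coeff n) (trunc_main f n)
    simp only [coeff_trunc, if_pos (Nat.lt_succ_self n)] at h1
    rw [coeff_mul, Finset.Nat.sum_antidiagonal_eq_sum_range_succ_mk, Finset.sum_range_succ,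
      Nat.sub_self, coeff_zero_eq_constantCoeff_apply, constantCoeff_PP, mul_one] at h1
    have h2 : coeff n (Zeta.zetaFun f) = (1 : Polynomial ℚ).coeff n -
        ∑ x ∈ Finset.range n, coeff x (Zeta.zetaFun f) *
          coeff (n - x) (PP (Zeta.degCount f) n) := by
      rw [← h1]
      ring
    rw [h2]
    refine Subring.sub_mem _ ?_ (Subring.sum_mem _ fun x hx => Subring.mul_mem _
      (ih x (Finset.mem_range.1 hx)) ?_)
    · rw [Polynomial.coeff_one]
      split_ifs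
      · exact ⟨1, by simp⟩
      · exact ⟨0, by simp⟩
    · rw [← map_PPZ, coeff_map]
      exact ⟨_, rfl⟩

theorem S13051_main :
    (∀ n : ℕ, PowerSeries.trunc (n + 1)
        (Zeta.zetaFun f * ∏ r ∈ Finset.Icc 1 n, (1 - PowerSeries.X ^ r) ^ Zeta.degCount f r) = 1) ∧
      ∀ n : ℕ, ∃ z : ℤ, PowerSeries.coeff n (Zeta.zetaFun f) = (z : ℚ) := by
  refine ⟨fun n => trunc_main f n, fun n => ?_⟩
  obtain ⟨z, hz⟩ := coeff_int f n
  exact ⟨z, by rw [← hz]; simp⟩

/-- `∏_i (1 - q^i X)^{b_i}`. -/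
def QQ (q : ℚ) (b : ℕ → ℕ) (d : ℕ) : ℚ⟦X⟧ :=
  ∏ i ∈ Finset.range d, (1 - C (q ^ i) * X) ^ b i

theorem constantCoeff_QQ (q : ℚ) (b : ℕ → ℕ) (d : ℕ) : constantCoeff (QQ q b d) = 1 := by
  rw [QQ, map_prod]
  refine Finset.prod_eq_one fun r _ => ?_
  rw [map_pow, map_sub, map_mul, constantCoeff_X, mul_zero, map_one, sub_zero, one_pow]

theorem isLD_QQ (q : ℚ) (b : ℕ → ℕ) (d : ℕ) :
    IsLD (QQ q b d) (∑ i ∈ Finset.range d, b i • geomLD (q ^ i) 1) := by
  unfold QQ
  refine IsLD.prod _ _ _ fun r _ => ?_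
  have h := (IsLD.one_sub (q ^ r) 1 le_rfl).pow (b r)
  rwa [pow_one] at h

theorem coeff_LD_QQ (q : ℚ) (b : ℕ → ℕ) (d m : ℕ) :
    coeff m (∑ i ∈ Finset.range d, b i • geomLD (q ^ i) 1) =
      - ∑ i ∈ Finset.range d, (b i : ℚ) * (q ^ i) ^ (m + 1) := by
  rw [map_sum, ← Finset.sum_neg_distrib]
  refine Finset.sum_congr rfl fun i _ => ?_
  rw [map_nsmul, coeff_geomLD, if_pos (one_dvd _), Nat.div_one, nsmul_eq_mul]
  push_cast
  ring

theorem S13055_main (q : ℚ) (P : Polynomial ℤ)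
    (hP : ∀ m : ℕ, 1 ≤ m → (Zeta.nPts f m : ℚ) =
      ∑ i ∈ Finset.range (P.natDegree + 1), (P.coeff i : ℚ) * (q ^ i) ^ m) :
    Zeta.zetaFun f * QQ q (fun i => (P.coeff i).toNat) (P.natDegree + 1) =
      QQ q (fun i => (-P.coeff i).toNat) (P.natDegree + 1) := by
  refine ((isLD_zetaFun f).mul (isLD_QQ q _ _)).ext ?_ ?_
  · have h := isLD_QQ q (fun i => (-P.coeff i).toNat) (P.natDegree + 1)
    have hL : (d⁄dX ℚ (Zeta.logZeta f) +
        ∑ i ∈ Finset.range (P.natDegree + 1), (P.coeff i).toNat • geomLD (q ^ i) 1) =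
        ∑ i ∈ Finset.range (P.natDegree + 1), (-P.coeff i).toNat • geomLD (q ^ i) 1 := by
      ext m
      rw [map_add, coeff_deriv_logZeta, coeff_LD_QQ, coeff_LD_QQ, hP (m + 1) (by omega),
        ← sub_eq_zero, ← sub_eq_add_neg, sub_neg_eq_add, ← Finset.sum_sub_distrib,
        ← Finset.sum_add_distrib]
      refine Finset.sum_eq_zero fun i _ => ?_
      have h1 : ((P.coeff i).toNat : ℤ) - ((-P.coeff i).toNat : ℤ) = P.coeff i :=
        Int.toNat_sub_toNat_neg _
      have h2 : (((P.coeff i).toNat : ℕ) : ℚ) - (((-P.coeff i).toNat : ℕ) : ℚ) =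
          (P.coeff i : ℚ) := by
        have h3 := congrArg (Int.cast : ℤ → ℚ) h1
        push_cast at h3
        exact h3
      rw [← h2]
      ring
    rw [hL]
    exact h
  · rw [map_mul, constantCoeff_zetaFun, constantCoeff_QQ, constantCoeff_QQ, one_mul]

end Groth.Agent.Lib.Helper6.ZetaFormal
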