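import Mathlib
import Groth.Agent.Lib.Helper6.PSLogDeriv

set_option linter.unusedSectionVars false
set_option linter.unusedVariables false
set_option linter.unusedSimpArgs false
set_option autoImplicit false
set_option maxHeartbeats 400000

/-!
# Logarithmic derivatives of power series over a field of characteristic zero
-/

noncomputable section

namespace Groth.Agent.Lib.Helper6.PSLogDerivK

open PowerSeries

variable {K : Type*} [Field K] [CharZero K]

/-- `L` is a logarithmic derivative of `F`: `F' = F * L`. -/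
def IsLDK (F L : K⟦X⟧) : Prop := d⁄dX K F = F * L

theorem IsLDK.one : IsLDK (1 : K⟦X⟧) 0 := by
  unfold IsLDK
  rw [derivative_one, mul_zero]

theorem IsLDK.mul {F G L M : K⟦X⟧} (hF : IsLDK F L) (hG : IsLDK G M) :
    IsLDK (F * G) (L + M) := by
  unfold IsLDK at *
  rw [Derivation.leibniz, hF, hG, smul_eq_mul, smul_eq_mul]
  ring

theorem IsLDK.prod {ι : Type*} (s : Finset ι) (F L : ι → K⟦X⟧)
    (h : ∀ i ∈ s, IsLDK (F i) (L i)) : IsLDK (∏ i ∈ s, F i) (∑ i ∈ s, L i) := by
  classical
  induction s using Finset.induction_on with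
  | empty => simpa using IsLDK.one
  | insert i s hi ih =>
    rw [Finset.prod_insert hi, Finset.sum_insert hi]
    exact (h i (Finset.mem_insert_self i s)).mul
      (ih fun j hj => h j (Finset.mem_insert_of_mem hj))

theorem IsLDK.coeff_succ {G L : K⟦X⟧} (h : IsLDK G L) (m : ℕ) :
    coeff (m + 1) G * (m + 1) =
      ∑ x ∈ Finset.HasAntidiagonal.antidiagonal m, coeff x.1 G * coeff x.2 L := by
  have h1 := congrArg (coeff m) h
  rw [coeff_derivative, coeff_mul] at h1
  exact h1

theorem IsLDK.ext {G H L : K⟦X⟧} (hG : IsLDK G L) (hH : IsLDK H L)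
    (h0 : constantCoeff G = constantCoeff H) : G = H := by
  ext n
  induction n using Nat.strong_induction_on with
  | _ n ih =>
    cases n with
    | zero => simpa using h0
    | succ m =>
      have h1 := hG.coeff_succ m
      have h2 := hH.coeff_succ m
      have h3 : ∑ x ∈ Finset.HasAntidiagonal.antidiagonal m, coeff x.1 G * coeff x.2 L =
          ∑ x ∈ Finset.HasAntidiagonal.antidiagonal m, coeff x.1 H * coeff x.2 L := by
        refine Finset.sum_congr rfl fun x hx => ?_
        rw [ih x.1 (by have := Finset.HasAntidiagonal.mem_antidiagonal.1 hx; omega)]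
      rw [h3, ← h2] at h1
      have h4 : ((m : K) + 1) ≠ 0 := by
        have : ((m + 1 : ℕ) : K) ≠ 0 := Nat.cast_ne_zero.mpr (Nat.succ_ne_zero m)
        simpa using this
      exact mul_right_cancel₀ h4 h1

/-- Transport along the inclusion `ℚ → K`. -/
theorem IsLDK.of_isLD {F L : ℚ⟦X⟧} (h : Groth.Agent.Lib.Helper6.PSLogDeriv.IsLD F L) :
    IsLDK (PowerSeries.map (algebraMap ℚ K) F) (PowerSeries.map (algebraMap ℚ K) L) := by
  unfold IsLDK
  unfold Groth.Agent.Lib.Helper6.PSLogDeriv.IsLD at h
  rw [← map_mul, ← h]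
  ext n
  rw [coeff_derivative, coeff_map, coeff_map, coeff_derivative]
  simp

theorem IsLDK.rescale {F L : K⟦X⟧} (h : IsLDK F L) (a : K) :
    IsLDK (PowerSeries.rescale a F) (a • PowerSeries.rescale a L) := by
  unfold IsLDK at h ⊢
  have h1 : d⁄dX K (PowerSeries.rescale a F) = a • PowerSeries.rescale a (d⁄dX K F) := by
    ext n
    rw [coeff_derivative, coeff_rescale, map_smul, coeff_rescale, coeff_derivative, smul_eq_mul]
    ring
  rw [h1, h, map_mul]
  rw [mul_smul_comm]

theorem IsLDK.subst_X_pow {F L : K⟦X⟧} (h : IsLDK F L) (r : ℕ) (hr : r ≠ 0) :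
    IsLDK (F.subst ((X : K⟦X⟧) ^ r)) (L.subst ((X : K⟦X⟧) ^ r) * d⁄dX K ((X : K⟦X⟧) ^ r)) := by
  unfold IsLDK at h ⊢
  have hs : HasSubst ((X : K⟦X⟧) ^ r) := HasSubst.X_pow hr
  rw [derivative_subst hs, h, subst_mul hs, mul_assoc]

end Groth.Agent.Lib.Helper6.PSLogDerivK
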