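import Mathlib
import Groth.Agent.Lib.Helper6.IndEtDiag

open CategoryTheory CategoryTheory.Limits

namespace Groth.Agent.Lib.Helper6.FPColim

universe u

open Groth.Agent.Lib.Helper6.IndEtDiag (isColimit_of_elementwise)

section Quot

variable (R : Type u) [CommRing R] (P : Type u) [CommRing P] [Algebra R P] (K : Ideal P)

/-- Finite subsets of the ideal `K`. -/
def Idx : Type u := {t : Finset P // (t : Set P) ⊆ (K : Set P)}

instance : Preorder (Idx P K) := Subtype.preorder _

instance : Nonempty (Idx P K) := ⟨⟨∅, by simp⟩⟩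

instance : IsDirected (Idx P K) (· ≤ ·) := by
  classical
  exact ⟨fun a b => ⟨⟨a.1 ∪ b.1, by
      intro x hx
      rcases Finset.mem_union.mp (Finset.mem_coe.mp hx) with h | h
      · exact a.2 (Finset.mem_coe.mpr h)
      · exact b.2 (Finset.mem_coe.mpr h)⟩,
    (Finset.subset_union_left : a.1 ⊆ a.1 ∪ b.1), (Finset.subset_union_right : b.1 ⊆ a.1 ∪ b.1)⟩⟩

variable {P K}

/-- The ideal generated by a finite subset of `K`. -/
def idl (t : Idx P K) : Ideal P := Ideal.span (t.1 : Set P)

theorem idl_mono {a b : Idx P K} (h : a ≤ b) : idl a ≤ idl b :=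
  Ideal.span_mono (Finset.coe_subset.mpr h)

theorem idl_le (a : Idx P K) : idl a ≤ K := Ideal.span_le.mpr a.2

variable (P K)

/-- The diagram of quotients `P ⧸ (t)`. -/
noncomputable def diag : Idx P K ⥤ Under (CommRingCat.of R) where
  obj t := Under.mk (CommRingCat.ofHom (algebraMap R (P ⧸ idl t)))
  map {a b} f := Under.homMk (CommRingCat.ofHom (Ideal.Quotient.factor (idl_mono (leOfHom f))))
    (by ext x; rfl)
  map_id a := by
    ext x
    obtain ⟨x, rfl⟩ := Ideal.Quotient.mk_surjective x
    rfl
  map_comp {a b c} f g := by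
    ext x
    obtain ⟨x, rfl⟩ := Ideal.Quotient.mk_surjective x
    rfl

/-- The cocone with vertex `P ⧸ K`. -/
noncomputable def cocone : Cocone (diag R P K) where
  pt := Under.mk (CommRingCat.ofHom (algebraMap R (P ⧸ K)))
  ι :=
    { app := fun t => Under.homMk (CommRingCat.ofHom (Ideal.Quotient.factor (idl_le t)))
        (by ext x; rfl)
      naturality := fun a b f => by
        ext x
        obtain ⟨x, rfl⟩ := Ideal.Quotient.mk_surjective x
        rfl }

theorem isColimit_cocone : Nonempty (IsColimit (cocone R P K)) := by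
  classical
  apply isColimit_of_elementwise
  · intro x
    obtain ⟨p, rfl⟩ := Ideal.Quotient.mk_surjective (I := K) x
    exact ⟨⟨∅, by simp⟩, Ideal.Quotient.mk _ p, rfl⟩
  · intro a y y' h
    obtain ⟨p, rfl⟩ := Ideal.Quotient.mk_surjective y
    obtain ⟨q, rfl⟩ := Ideal.Quotient.mk_surjective y'
    have h0 : Ideal.Quotient.mk K p = Ideal.Quotient.mk K q := h
    rw [Ideal.Quotient.eq] at h0
    let b : Idx P K := ⟨insert (p - q) a.1, by
      intro x hx
      rcases Finset.mem_insert.mp (Finset.mem_coe.mp hx) with h | h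
      · rw [h]; exact h0
      · exact a.2 (Finset.mem_coe.mpr h)⟩
    have hab : a ≤ b := (Finset.subset_insert _ _ : a.1 ⊆ insert (p - q) a.1)
    refine ⟨b, homOfLE hab, ?_⟩
    show Ideal.Quotient.mk (idl b) p = Ideal.Quotient.mk (idl b) q
    rw [Ideal.Quotient.eq]
    exact Ideal.subset_span (Finset.mem_coe.mpr (Finset.mem_insert_self _ _))

end Quot

/-- A finite type algebra is a filtered colimit of finitely presented algebras with surjective
transition maps. -/
theorem finiteType_colimit (R A : Type u) [CommRing R] [CommRing A]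
    [Algebra R A] [Algebra.FiniteType R A] :
    ∃ (I : Type u) (_ : SmallCategory I) (_ : IsFiltered I) (D : I ⥤ Under (CommRingCat.of R))
      (c : Cocone D) (_ : IsColimit c),
      (∀ i, (D.obj i).hom.hom.FinitePresentation) ∧
      (∀ (i j : I) (φ : i ⟶ j), Function.Surjective (D.map φ).right.hom) ∧
      Nonempty (c.pt ≅ Under.mk (CommRingCat.ofHom (algebraMap R A))) := by
  classical
  obtain ⟨n, π, hπ⟩ := Algebra.FiniteType.iff_quotient_mvPolynomial''.mp
    (inferInstance : Algebra.FiniteType R A)
  let P := MvPolynomial (Fin n) R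
  let K : Ideal P := RingHom.ker π.toRingHom
  obtain ⟨hc⟩ := isColimit_cocone R P K
  let e : (P ⧸ K) ≃ₐ[R] A := Ideal.quotientKerAlgEquivOfSurjective hπ
  refine ⟨Idx P K, inferInstance, inferInstance, diag R P K, cocone R P K, hc, ?_, ?_, ?_⟩
  · intro t
    show (algebraMap R (P ⧸ idl t)).FinitePresentation
    rw [RingHom.finitePresentation_algebraMap]
    exact Algebra.FinitePresentation.quotient ⟨t.1, rfl⟩
  · intro a b φ
    exact Ideal.Quotient.factor_surjective (idl_mono (leOfHom φ))
  · exact ⟨Under.isoMk e.toRingEquiv.toCommRingCatIso (by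
      ext x
      exact e.commutes x)⟩

/-- Finitely presented objects of `Under R`. -/
def fpProp (R : Type u) [CommRing R] : ObjectProperty (Under (CommRingCat.of R)) :=
  fun X => X.hom.hom.FinitePresentation

theorem fpProp_le_fp (R : Type u) [CommRing R] :
    fpProp R ≤ ObjectProperty.isFinitelyPresentable.{u} (Under (CommRingCat.of R)) :=
  fun X hX => CommRingCat.isFinitelyPresentable_under _ X hX

theorem ind_of_finiteType (R A : Type u) [CommRing R] [CommRing A]
    [Algebra R A] [Algebra.FiniteType R A] :
    ObjectProperty.ind.{u} (fpProp R) (Under.mk (CommRingCat.ofHom (algebraMap R A))) := by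
  obtain ⟨I, _, _, D, c, hc, hfp, -, ⟨iso⟩⟩ := finiteType_colimit R A
  exact ⟨I, inferInstance, inferInstance, (ColimitPresentation.mk D c.ι hc).ofIso iso, hfp⟩

section Union

variable (R A : Type u) [CommRing R] [CommRing A] [Algebra R A]

/-- The diagram of finitely generated subalgebras. -/
noncomputable def sdiag : Finset A ⥤ Under (CommRingCat.of R) where
  obj s := Under.mk (CommRingCat.ofHom (algebraMap R (Algebra.adjoin R (s : Set A))))
  map {a b} f := Under.homMk (CommRingCat.ofHom (Subalgebra.inclusion
    (Algebra.adjoin_mono (Finset.coe_subset.mpr (leOfHom f)))).toRingHom) (by ext x; rfl)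
  map_id a := by
    ext x
    rfl
  map_comp {a b c} f g := by
    ext x
    rfl

/-- The cocone with vertex `A`. -/
noncomputable def scocone : Cocone (sdiag R A) where
  pt := Under.mk (CommRingCat.ofHom (algebraMap R A))
  ι :=
    { app := fun s => Under.homMk (CommRingCat.ofHom
        (Algebra.adjoin R (s : Set A)).val.toRingHom) (by ext x; rfl)
      naturality := fun a b f => by
        ext x
        rfl }

theorem isColimit_scocone : Nonempty (IsColimit (scocone R A)) := by
  classical
  apply isColimit_of_elementwise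
  · intro x
    let x' : A := x
    exact ⟨({x'} : Finset A), (⟨x', Algebra.subset_adjoin
      (Finset.mem_coe.mpr (Finset.mem_singleton_self x'))⟩ :
        Algebra.adjoin R (({x'} : Finset A) : Set A)), rfl⟩
  · intro a y y' h
    let z : Algebra.adjoin R ((a : Finset A) : Set A) := y
    let z' : Algebra.adjoin R ((a : Finset A) : Set A) := y'
    have h0 : (z : A) = (z' : A) := h
    have h1 : z = z' := Subtype.ext h0
    have h2 : y = y' := h1
    exact ⟨a, 𝟙 a, by rw [h2]⟩

theorem ind_fp : ObjectProperty.ind.{u} (fpProp R)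
    (Under.mk (CommRingCat.ofHom (algebraMap R A))) := by
  classical
  rw [← ObjectProperty.ind_ind (fpProp_le_fp R)]
  obtain ⟨hc⟩ := isColimit_scocone R A
  refine ⟨Finset A, inferInstance, inferInstance,
    ColimitPresentation.mk (sdiag R A) (scocone R A).ι hc, fun s => ?_⟩
  haveI : Algebra.FiniteType R (Algebra.adjoin R (s : Set A)) :=
    (Subalgebra.fg_iff_finiteType _).mp ⟨s, rfl⟩
  exact ind_of_finiteType R (Algebra.adjoin R (s : Set A))

/-- Every algebra is a filtered colimit of finitely presented algebras. -/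
theorem colimit_fp :
    ∃ (I : Type u) (_ : SmallCategory I) (_ : IsFiltered I) (D : I ⥤ Under (CommRingCat.of R))
      (c : Cocone D) (_ : IsColimit c),
      (∀ i, (D.obj i).hom.hom.FinitePresentation) ∧
      Nonempty (c.pt ≅ Under.mk (CommRingCat.ofHom (algebraMap R A))) := by
  obtain ⟨I, _, _, pres, h⟩ := ind_fp R A
  exact ⟨I, inferInstance, inferInstance, pres.diag, Cocone.mk _ pres.ι, pres.isColimit,
    h, ⟨Iso.refl _⟩⟩

end Union

end Groth.Agent.Lib.Helper6.FPColim
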