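import Mathlib

set_option autoImplicit false

namespace Groth.Agent.Lib.Helper6.FTInt

open AlgebraicGeometry CategoryTheory

universe u

theorem isJacobsonRing_int : IsJacobsonRing ℤ := by
  rw [isJacobsonRing_iff_prime_eq]
  intro P hP
  by_cases h : P = ⊥
  · subst h
    refine le_antisymm ?_ Ideal.le_jacobson
    intro x hx
    rw [Ideal.mem_jacobson_bot] at hx
    have h1 := hx x
    rw [Int.isUnit_iff] at h1
    have : x = 0 := by
      rcases h1 with h1 | h1
      · nlinarith
      · nlinarith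
    simp [this]
  · have : P.IsMaximal := hP.isMaximal h
    exact Ideal.jacobson_eq_self_of_isMaximal

/-- A field of finite type over `ℤ` is finite. -/
theorem finite_of_field_of_finiteType_int (S : Type*) [Field S] [Algebra.FiniteType ℤ S] :
    Finite S := by
  have := isJacobsonRing_int
  have hmf : Module.Finite ℤ S := finite_of_finite_type_of_isJacobsonRing ℤ S
  obtain ⟨p, hp⟩ := CharP.exists S
  rcases CharP.char_is_prime_or_zero S p with hprime | rfl
  · have : Fact p.Prime := ⟨hprime⟩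
    let _ : Algebra (ZMod p) S := ZMod.algebra S p
    have : Module.Finite (ZMod p) S := Module.Finite.of_restrictScalars_finite ℤ (ZMod p) S
    exact Module.finite_of_finite (ZMod p)
  · exfalso
    have : CharZero S := CharP.charP_to_charZero S
    have hinj : Function.Injective (algebraMap ℤ S) := (algebraMap ℤ S).injective_int
    have : Algebra.IsIntegral ℤ S := inferInstance
    exact Int.not_isField (isField_of_isIntegral_of_isField hinj (Field.toIsField S))

/-- Ring homs from a finite type `ℤ`-algebra to a finite ring form a finite set. -/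
theorem finite_ringHom (A F : Type*) [CommRing A] [Algebra.FiniteType ℤ A] [CommRing F]
    [Finite F] : Finite (A →+* F) := by
  obtain ⟨s, hs⟩ := (Algebra.FiniteType.out : (⊤ : Subalgebra ℤ A).FG)
  refine Finite.of_injective (fun φ : A →+* F => fun x : s => φ x) ?_
  intro φ ψ h
  have h1 : φ.toIntAlgHom = ψ.toIntAlgHom := by
    apply AlgHom.ext_of_adjoin_eq_top hs
    intro x hx
    exact congrFun h ⟨x, hx⟩
  ext a
  exact congrArg (fun g : A →ₐ[ℤ] F => g a) h1

/-- Sections over affine opens of a scheme locally of finite type over `ℤ` are of finite type. -/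
theorem finiteType_int_of_isAffineOpen (Y : Scheme.{u})
    [LocallyOfFiniteType (Limits.IsTerminal.from specULiftZIsTerminal Y)] (U : Y.Opens)
    (hU : IsAffineOpen U) : Algebra.FiniteType ℤ Γ(Y, U) := by
  have h1 := (Limits.IsTerminal.from specULiftZIsTerminal Y).finiteType_appLE
    (isAffineOpen_top (Spec (CommRingCat.of (ULift.{u} ℤ)))) hU le_top
  have h2 : Function.Surjective ((Scheme.ΓSpecIso (CommRingCat.of (ULift.{u} ℤ))).inv.hom.comp
      (ULift.ringEquiv.symm : ℤ ≃+* ULift.{u} ℤ).toRingHom) := by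
    intro z
    obtain ⟨w, hw⟩ := (ConcreteCategory.bijective_of_isIso
      (Scheme.ΓSpecIso (CommRingCat.of (ULift.{u} ℤ))).inv).2 z
    refine ⟨ULift.ringEquiv w, ?_⟩
    rw [RingHom.comp_apply]
    have h5 : (ULift.ringEquiv.symm : ℤ ≃+* ULift.{u} ℤ).toRingHom (ULift.ringEquiv w) = w :=
      RingEquiv.symm_apply_apply _ w
    rw [h5]
    exact hw
  have h3 := RingHom.FiniteType.comp h1 (RingHom.FiniteType.of_surjective _ h2)
  rw [← RingHom.finiteType_algebraMap]
  convert h3 using 1
  exact RingHom.ext_int _ _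

theorem mem_primeIdealOf_iff {Y : Scheme.{u}} {U : Y.Opens} (hU : IsAffineOpen U) (y : Y)
    (hy : y ∈ U) (a : Γ(Y, U)) :
    a ∈ (hU.primeIdealOf ⟨y, hy⟩).asIdeal ↔ (Y.evaluation U y hy).hom a = 0 := by
  rw [hU.primeIdealOf_eq_map_closedPoint]
  change (Y.presheaf.germ U y hy).hom a ∈ IsLocalRing.maximalIdeal _ ↔ _
  rw [← IsLocalRing.residue_eq_zero_iff]
  rfl

theorem isClosed_preimage_singleton {Y : Scheme.{u}} (y : Y) (U : Y.Opens) (hU : IsAffineOpen U)
    (h : ∀ (hy : y ∈ U), (hU.primeIdealOf ⟨y, hy⟩).asIdeal.IsMaximal) :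
    IsClosed (Subtype.val ⁻¹' ({y} : Set Y) : Set U) := by
  by_cases hy : y ∈ U
  · have h0 : (Subtype.val ⁻¹' ({y} : Set Y) : Set U) = {⟨y, hy⟩} := by
      ext z
      exact ⟨fun hz => Subtype.ext hz, fun hz => congrArg Subtype.val hz⟩
    have h1 := (hU.primeIdealOf ⟨y, hy⟩).isClosed_singleton_iff_isMaximal.mpr (h hy)
    have h2 : (hU.isoSpec.hom ⁻¹' {hU.primeIdealOf ⟨y, hy⟩} : Set U) = {⟨y, hy⟩} := by
      ext z
      simp only [Set.mem_preimage]
      constructor
      · intro hz
        have h3 : hU.primeIdealOf z = hU.primeIdealOf ⟨y, hy⟩ := hz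
        have h4 := hU.fromSpec_primeIdealOf z
        rw [h3, hU.fromSpec_primeIdealOf] at h4
        exact Subtype.ext h4.symm
      · rintro rfl
        rfl
    rw [h0, ← h2]
    exact h1.preimage hU.isoSpec.hom.continuous
  · have h0 : (Subtype.val ⁻¹' ({y} : Set Y) : Set U) = ∅ := by
      ext z
      simp only [Set.mem_empty_iff_false, iff_false]
      intro hz
      have hz' : z.1 = y := hz
      exact hy (hz' ▸ z.2)
    rw [h0]
    exact isClosed_empty

theorem isClosed_singleton_of_forall_isMaximal {Y : Scheme.{u}} (y : Y)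
    (h : ∀ (U : Y.Opens) (hU : IsAffineOpen U) (hy : y ∈ U),
      (hU.primeIdealOf ⟨y, hy⟩).asIdeal.IsMaximal) :
    IsClosed ({y} : Set Y) := by
  rw [TopologicalSpace.IsOpenCover.isClosed_iff_coe_preimage (iSup_affineOpens_eq_top Y)]
  rintro ⟨U, hU⟩
  exact isClosed_preimage_singleton y U hU (h U hU)

theorem closed_iff_finite (Y : Scheme.{u})
    [LocallyOfFiniteType (Limits.IsTerminal.from specULiftZIsTerminal Y)] (y : Y) :
    IsClosed ({y} : Set Y) ↔ Finite ↑(Y.residueField y) := by
  constructor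
  · intro hcl
    obtain ⟨_, ⟨U, hU, rfl⟩, hy, -⟩ := Y.isBasis_affineOpens.exists_subset_of_mem_open
      (Set.mem_univ y) isOpen_univ
    have hmax := hU.primeIdealOf_isMaximal_of_isClosed ⟨y, hy⟩ hcl
    have hft := finiteType_int_of_isAffineOpen Y U hU
    have hft2 : Algebra.FiniteType ℤ (Γ(Y, U) ⧸ (hU.primeIdealOf ⟨y, hy⟩).asIdeal) :=
      Algebra.FiniteType.of_surjective (Ideal.Quotient.mkₐ ℤ _) (Ideal.Quotient.mkₐ_surjective ℤ _)
    let _ : Field (Γ(Y, U) ⧸ (hU.primeIdealOf ⟨y, hy⟩).asIdeal) := Ideal.Quotient.field _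
    have hfin : Finite (Γ(Y, U) ⧸ (hU.primeIdealOf ⟨y, hy⟩).asIdeal) :=
      @finite_of_field_of_finiteType_int _ _ hft2
    have hloc := hU.isLocalization_stalk ⟨y, hy⟩
    let e := @IsLocalization.AtPrime.equivQuotMaximalIdeal _ _
      (hU.primeIdealOf ⟨y, hy⟩).asIdeal hmax (Y.presheaf.stalk y) _
      (TopCat.Presheaf.algebra_section_stalk Y.presheaf ⟨y, hy⟩) hloc _
    exact Finite.of_equiv _ e.toEquiv
  · intro hfin
    apply isClosed_singleton_of_forall_isMaximal
    intro U hU hy
    have hinj : Function.Injective (Ideal.Quotient.lift (hU.primeIdealOf ⟨y, hy⟩).asIdeal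
        (Y.evaluation U y hy).hom (fun a ha => (mem_primeIdealOf_iff hU y hy a).mp ha)) := by
      rw [injective_iff_map_eq_zero]
      intro x hx
      obtain ⟨a, rfl⟩ := Ideal.Quotient.mk_surjective x
      rw [Ideal.Quotient.lift_mk] at hx
      exact Ideal.Quotient.eq_zero_iff_mem.mpr ((mem_primeIdealOf_iff hU y hy a).mpr hx)
    have hf : Finite (Γ(Y, U) ⧸ (hU.primeIdealOf ⟨y, hy⟩).asIdeal) := Finite.of_injective _ hinj
    have hd : IsDomain (Γ(Y, U) ⧸ (hU.primeIdealOf ⟨y, hy⟩).asIdeal) := Ideal.Quotient.isDomain _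
    exact Ideal.Quotient.maximal_of_isField _ (Finite.isField_of_domain _)

theorem finite_points (Y : Scheme.{u}) [CompactSpace Y]
    [LocallyOfFiniteType (Limits.IsTerminal.from specULiftZIsTerminal Y)]
    (F : Type) [Field F] [Finite F] :
    {y : Y | Nonempty (↑(Y.residueField y) →+* F)}.Finite := by
  classical
  have hcov : (Set.univ : Set Y) ⊆ ⋃ U : Y.affineOpens, (U.1 : Set Y) := by
    intro y _
    obtain ⟨_, ⟨U, hU, rfl⟩, hyU, -⟩ := Y.isBasis_affineOpens.exists_subset_of_mem_open
      (Set.mem_univ y) isOpen_univ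
    exact Set.mem_iUnion.mpr ⟨⟨U, hU⟩, hyU⟩
  obtain ⟨t, ht⟩ := isCompact_univ.elim_finite_subcover (fun U : Y.affineOpens => (U.1 : Set Y))
    (fun U => U.1.2) hcov
  have hfinU : ∀ U : Y.affineOpens,
      {y : Y | y ∈ U.1 ∧ Nonempty (↑(Y.residueField y) →+* F)}.Finite := by
    rintro ⟨U, hU0⟩
    have hU : IsAffineOpen U := hU0
    have hft := finiteType_int_of_isAffineOpen Y U hU
    have hfinHom : Finite (Γ(Y, U) →+* F) := finite_ringHom _ _
    rw [← Set.finite_coe_iff]
    let Φ : {y : Y | y ∈ U ∧ Nonempty (↑(Y.residueField y) →+* F)} → (Γ(Y, U) →+* F) :=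
      fun y => (y.2.2.some).comp (Y.evaluation U y.1 y.2.1).hom
    refine Finite.of_injective Φ ?_
    rintro ⟨y, hy, hne⟩ ⟨y', hy', hne'⟩ h
    have hker : ∀ a : Γ(Y, U), (Y.evaluation U y hy).hom a = 0 ↔
        (Y.evaluation U y' hy').hom a = 0 := by
      intro a
      have h1 : hne.some ((Y.evaluation U y hy).hom a) = hne'.some ((Y.evaluation U y' hy').hom a) :=
        congrArg (fun g : Γ(Y, U) →+* F => g a) h
      constructor
      · intro h0
        rw [h0, map_zero] at h1
        exact (map_eq_zero_iff _ (RingHom.injective _)).mp h1.symm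
      · intro h0
        rw [h0, map_zero] at h1
        exact (map_eq_zero_iff _ (RingHom.injective _)).mp h1
    have hp : hU.primeIdealOf ⟨y, hy⟩ = hU.primeIdealOf ⟨y', hy'⟩ := by
      apply PrimeSpectrum.ext
      ext a
      rw [mem_primeIdealOf_iff, mem_primeIdealOf_iff]
      exact hker a
    have h4 := hU.fromSpec_primeIdealOf ⟨y, hy⟩
    rw [hp, hU.fromSpec_primeIdealOf] at h4
    exact Subtype.ext h4.symm
  refine Set.Finite.subset (Set.Finite.biUnion t.finite_toSet (fun U _ => hfinU U)) ?_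
  intro y hy
  obtain ⟨U, hU, hyU⟩ := Set.mem_iUnion₂.mp (ht (Set.mem_univ y))
  exact Set.mem_iUnion₂.mpr ⟨U, hU, hyU, hy⟩

end Groth.Agent.Lib.Helper6.FTInt
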