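import Mathlib
import Groth.Prelude.Def_W4c6instabfans3FanCvx
set_option autoImplicit false
open CategoryTheory Opposite Instab
universe u
namespace Groth.Agent.Lib.Helper6.FanBasic

lemma realMap_id (n : ICone) (v : Fin n.dim → ℝ) : (𝟙 n : n ⟶ n).realMap v = v := by
  funext j
  show ∑ i, ((LinearMap.id (Pi.single i (1:ℤ)) : Fin n.dim → ℤ) j : ℝ) * v i = v j
  simp only [LinearMap.id_apply]
  rw [Finset.sum_eq_single j]
  · simp
  · intro i _ hij
    rw [Pi.single_apply, if_neg (Ne.symm hij)]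
    simp
  · intro h; exact absurd (Finset.mem_univ j) h

lemma mk_smul {F : Fan.{u}} {n : ICone} (ξ : F.obj (op n)) (v w : Fan.Orth n) (c : ℝ) (hc : 0 < c)
    (h : w.1 = c • v.1) : Fan.P.mk ξ v = Fan.P.mk ξ w := by
  have hrel := Fan.Rel.glue (F := F) (𝟙 n) ξ v w c hc (by rw [realMap_id]; exact h)
  have e : F.map (𝟙 n).op ξ = ξ := by
    rw [op_id, F.map_id]; rfl
  rw [e] at hrel
  exact Quot.sound hrel

end Groth.Agent.Lib.Helper6.FanBasic
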