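import Mathlib
set_option autoImplicit false

namespace Groth.Agent.Lib.Helper6.RatCone

open Finset

/-- Rational decomposition of a real vector: `x = ∑ r_l q_l` with `r` ℚ-linearly independent reals
and `q_l` rational vectors. -/
theorem exists_rat_decomp {N : Type*} [Fintype N] (x : N → ℝ) :
    ∃ (d : ℕ) (r : Fin d → ℝ) (q : Fin d → N → ℚ),
      LinearIndependent ℚ r ∧ ∀ n, x n = ∑ l, (q l n : ℝ) * r l := by
  classical
  let V : Submodule ℚ ℝ := Submodule.span ℚ (Set.range x)
  have : Module.Finite ℚ V := Module.Finite.span_of_finite ℚ (Set.finite_range x)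
  let b := Module.finBasis ℚ V
  refine ⟨Module.finrank ℚ V, fun l => (b l : ℝ),
    fun l n => b.repr ⟨x n, Submodule.subset_span ⟨n, rfl⟩⟩ l, ?_, ?_⟩
  · have := b.linearIndependent
    exact this.map' V.subtype (Submodule.ker_subtype V)
  · intro n
    have h := b.sum_repr ⟨x n, Submodule.subset_span ⟨n, rfl⟩⟩
    have h2 := congrArg (fun v : V => (v : ℝ)) h
    simp only [Submodule.coe_sum, Submodule.coe_smul] at h2
    rw [← h2]
    refine Finset.sum_congr rfl fun l _ => ?_
    simp [Rat.smul_def]

theorem rat_decomp_functional {N : Type*} [Fintype N] {d : ℕ} (r : Fin d → ℝ) (q : Fin d → N → ℚ)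
    (hr : LinearIndependent ℚ r) (x : N → ℝ) (hx : ∀ n, x n = ∑ l, (q l n : ℝ) * r l)
    (a : N → ℚ) (ha : ∑ n, (a n : ℝ) * x n = 0) : ∀ l, ∑ n, a n * q l n = 0 := by
  have h : ∑ l, (∑ n, a n * q l n) • r l = 0 := by
    rw [← ha]
    simp only [hx, Finset.mul_sum, Finset.sum_smul, Rat.smul_def]
    rw [Finset.sum_comm]
    refine Finset.sum_congr rfl fun n _ => Finset.sum_congr rfl fun l _ => ?_
    push_cast
    ring
  exact Fintype.linearIndependent_iff.1 hr _ h

theorem exists_rat_point {N : Type*} [Fintype N] {d : ℕ} (r : Fin d → ℝ) (q : Fin d → N → ℚ)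
    (x : N → ℝ) (hx : ∀ n, x n = ∑ l, (q l n : ℝ) * r l) :
    ∃ ρ : Fin d → ℚ, ∀ n, 0 < x n → 0 < ∑ l, q l n * ρ l := by
  classical
  let O : Set (Fin d → ℝ) := ⋂ n : N, {ρ | 0 < x n → 0 < ∑ l, (q l n : ℝ) * ρ l}
  have hO : IsOpen O := by
    refine isOpen_iInter_of_finite fun n => ?_
    by_cases hn : 0 < x n
    · have : {ρ : Fin d → ℝ | 0 < x n → 0 < ∑ l, (q l n : ℝ) * ρ l}
          = (fun ρ : Fin d → ℝ => ∑ l, (q l n : ℝ) * ρ l) ⁻¹' Set.Ioi 0 := by
        ext ρ
        simp [hn]
      rw [this]
      refine isOpen_Ioi.preimage ?_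
      fun_prop
    · have : {ρ : Fin d → ℝ | 0 < x n → 0 < ∑ l, (q l n : ℝ) * ρ l} = Set.univ := by
        ext ρ
        simp [hn]
      rw [this]
      exact isOpen_univ
  have hr : r ∈ O := by
    simp only [O, Set.mem_iInter, Set.mem_ofPred_eq]
    intro n hn
    rw [← hx]
    exact hn
  have hdense : DenseRange (fun (ρ : Fin d → ℚ) (l : Fin d) => ((ρ l : ℚ) : ℝ)) :=
    DenseRange.piMap (fun _ => Rat.denseRange_cast)
  obtain ⟨ρ, hρO⟩ := hdense.exists_mem_open hO ⟨r, hr⟩
  refine ⟨ρ, fun n hn => ?_⟩
  simp only [O, Set.mem_iInter, Set.mem_ofPred_eq] at hρO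
  have := hρO n hn
  exact_mod_cast this

theorem exists_int_scale {N : Type*} [Fintype N] (y : N → ℚ) :
    ∃ (D : ℕ) (u : N → ℤ), 0 < D ∧ ∀ n, (u n : ℚ) = D * y n := by
  classical
  refine ⟨∏ n, (y n).den, fun n => (y n).num * ∏ n' ∈ univ.erase n, ((y n').den : ℤ), ?_, ?_⟩
  · exact Finset.prod_pos fun n _ => (y n).den_pos
  · intro n
    have h1 : ((∏ n, (y n).den : ℕ) : ℚ) = ((y n).den : ℚ) * ∏ n' ∈ univ.erase n, ((y n').den : ℚ) := by
      push_cast
      exact (Finset.mul_prod_erase univ (fun n' => ((y n').den : ℚ)) (Finset.mem_univ n)).symm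
    rw [h1]
    push_cast
    have h2 : ((y n).den : ℚ) * y n = (y n).num := by
      rw [mul_comm]
      exact Rat.mul_den_eq_num (y n)
    rw [mul_right_comm, h2]

/-- A nonzero nonnegative real solution of an integer homogeneous system has an integer solution
with the same support and nonnegative entries. -/
theorem exists_int_point {N M : Type*} [Fintype N] (A : M → N → ℤ) (x : N → ℝ)
    (hA : ∀ m, ∑ n, (A m n : ℝ) * x n = 0) :
    ∃ u : N → ℤ, (∀ n, 0 < x n → 0 < u n) ∧ (∀ n, x n = 0 → u n = 0) ∧
      ∀ m, ∑ n, A m n * u n = 0 := by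
  classical
  obtain ⟨d, r, q, hr, hx⟩ := exists_rat_decomp x
  obtain ⟨ρ, hρ⟩ := exists_rat_point r q x hx
  set y : N → ℚ := fun n => ∑ l, q l n * ρ l with hy
  obtain ⟨D, u, hD, hu⟩ := exists_int_scale y
  have hDq : (0 : ℚ) < D := by exact_mod_cast hD
  refine ⟨u, fun n hn => ?_, fun n hn => ?_, fun m => ?_⟩
  · have : (0 : ℚ) < u n := by
      rw [hu]
      exact mul_pos hDq (hρ n hn)
    exact_mod_cast this
  · have hq : ∀ l, q l n = 0 := by
      have := rat_decomp_functional r q hr x hx (fun n' => if n' = n then 1 else 0) (by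
        rw [Finset.sum_eq_single n]
        · simp [hn]
        · intro b _ hb
          simp [hb]
        · intro h
          exact absurd (Finset.mem_univ n) h)
      intro l
      have h2 := this l
      rw [Finset.sum_eq_single n] at h2
      · simpa using h2
      · intro b _ hb
        simp [hb]
      · intro h
        exact absurd (Finset.mem_univ n) h
    have : (u n : ℚ) = 0 := by
      rw [hu]
      simp [hy, hq]
    exact_mod_cast this
  · have hq : ∀ l, ∑ n, (A m n : ℚ) * q l n = 0 :=
      rat_decomp_functional r q hr x hx (fun n => (A m n : ℚ)) (by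
        simpa using hA m)
    have : ((∑ n, A m n * u n : ℤ) : ℚ) = 0 := by
      push_cast
      simp only [hu, hy, Finset.mul_sum]
      rw [Finset.sum_comm]
      have : ∀ l, ∑ n, (A m n : ℚ) * ((D : ℚ) * (q l n * ρ l))
          = (D : ℚ) * ρ l * ∑ n, (A m n : ℚ) * q l n := by
        intro l
        rw [Finset.mul_sum]
        refine Finset.sum_congr rfl fun n _ => ?_
        ring
      simp only [this, hq, mul_zero, Finset.sum_const_zero]
    exact_mod_cast this

/-- Every point of the rational cone `{x ≥ 0, A x = 0}` is a positive combination of linearly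
independent nonnegative integer points of the cone whose supports lie in the support of `x`. -/
theorem exists_decomp {N M : Type*} [Fintype N] (A : M → N → ℤ) :
    ∀ (s : ℕ) (x : N → ℝ), (Finset.univ.filter fun n => x n ≠ 0).card = s →
    (∀ n, 0 ≤ x n) → (∀ m, ∑ n, (A m n : ℝ) * x n = 0) →
    ∃ (d : ℕ) (u : Fin d → N → ℤ) (t : Fin d → ℝ),
      (∀ i, 0 < t i) ∧ (∀ i n, 0 ≤ u i n) ∧ (∀ i m, ∑ n, A m n * u i n = 0) ∧
      (∀ i n, x n = 0 → u i n = 0) ∧
      (∀ c : Fin d → ℤ, (∀ n, ∑ i, c i * u i n = 0) → ∀ i, c i = 0) ∧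
      (∀ n, x n = ∑ i, t i * (u i n : ℝ)) := by
  classical
  intro s
  induction s using Nat.strong_induction_on with
  | _ s ih =>
  intro x hs hx0 hA
  by_cases hzero : ∀ n, x n = 0
  · refine ⟨0, Fin.elim0, Fin.elim0, fun i => i.elim0, fun i => i.elim0, fun i => i.elim0,
      fun i => i.elim0, fun _ _ i => i.elim0, fun n => ?_⟩
    simp [hzero n]
  · push Not at hzero
    obtain ⟨n₁, hn₁⟩ := hzero
    obtain ⟨u, hupos, huzero, huA⟩ := exists_int_point A x hA
    have hu0 : ∀ n, 0 ≤ u n := fun n => by
      rcases (hx0 n).lt_or_eq with h | h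
      · exact (hupos n h).le
      · exact (huzero n h.symm).ge
    set S : Finset N := Finset.univ.filter fun n => 0 < x n with hS
    have hSne : S.Nonempty := ⟨n₁, by
      simp only [hS, Finset.mem_filter, Finset.mem_univ, true_and]
      exact lt_of_le_of_ne (hx0 n₁) (Ne.symm hn₁)⟩
    obtain ⟨n₀, hn₀S, hn₀min⟩ := Finset.exists_min_image S (fun n => x n / (u n : ℝ)) hSne
    have hxn₀ : 0 < x n₀ := by
      simpa [hS] using hn₀S
    have hun₀ : 0 < u n₀ := hupos n₀ hxn₀
    have hun₀' : (0 : ℝ) < u n₀ := by exact_mod_cast hun₀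
    set t₀ : ℝ := x n₀ / (u n₀ : ℝ) with ht₀
    have ht₀pos : 0 < t₀ := div_pos hxn₀ hun₀'
    set x' : N → ℝ := fun n => x n - t₀ * (u n : ℝ) with hx'
    have hx'0 : ∀ n, 0 ≤ x' n := by
      intro n
      rcases (hx0 n).lt_or_eq with h | h
      · have hnS : n ∈ S := by simp [hS, h]
        have hmin := hn₀min n hnS
        have hun : (0 : ℝ) < u n := by exact_mod_cast hupos n h
        have : t₀ * (u n : ℝ) ≤ x n := by
          rw [← le_div_iff₀ hun]
          exact hmin
        simp only [hx']
        linarith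
      · have : u n = 0 := huzero n h.symm
        simp [hx', ← h, this]
    have hx'n₀ : x' n₀ = 0 := by
      simp only [hx', ht₀]
      field_simp
      ring
    have hx'zero : ∀ n, x n = 0 → x' n = 0 := by
      intro n hn
      simp [hx', hn, huzero n hn]
    have hA' : ∀ m, ∑ n, (A m n : ℝ) * x' n = 0 := by
      intro m
      simp only [hx', mul_sub, Finset.sum_sub_distrib, hA m, zero_sub, neg_eq_zero]
      have h1 : ((∑ n, A m n * u n : ℤ) : ℝ) = 0 := by rw [huA m]; simp
      push_cast at h1
      have : ∑ n, (A m n : ℝ) * (t₀ * (u n : ℝ)) = t₀ * ∑ n, (A m n : ℝ) * (u n : ℝ) := by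
        rw [Finset.mul_sum]
        refine Finset.sum_congr rfl fun n _ => ?_
        ring
      rw [this, h1, mul_zero]
    have hcard : (Finset.univ.filter fun n => x' n ≠ 0).card < s := by
      rw [← hs]
      refine Finset.card_lt_card ?_
      rw [Finset.ssubset_iff_of_subset]
      · refine ⟨n₀, ?_, ?_⟩
        · simp only [Finset.mem_filter, Finset.mem_univ, true_and]
          exact hxn₀.ne'
        · simp [hx'n₀]
      · intro n
        simp only [Finset.mem_filter, Finset.mem_univ, true_and]
        intro h h2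
        exact h (hx'zero n h2)
    obtain ⟨d, u', t', ht', hu', hA'', hz', hind', hsum'⟩ := ih _ hcard x' rfl hx'0 hA'
    refine ⟨d + 1, Fin.cons u u', Fin.cons t₀ t', ?_, ?_, ?_, ?_, ?_, ?_⟩
    · intro i
      refine Fin.cases ?_ (fun j => ?_) i
      · simpa using ht₀pos
      · simpa using ht' j
    · intro i
      refine Fin.cases ?_ (fun j => ?_) i
      · simpa using hu0
      · simpa using hu' j
    · intro i
      refine Fin.cases ?_ (fun j => ?_) i
      · simpa using huA
      · simpa using hA'' j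
    · intro i
      refine Fin.cases ?_ (fun j => ?_) i
      · simpa using huzero
      · intro n hn
        simpa using hz' j n (hx'zero n hn)
    · intro c hc
      have h0 : c 0 = 0 := by
        have := hc n₀
        rw [Fin.sum_univ_succ] at this
        simp only [Fin.cons_zero, Fin.cons_succ] at this
        have hz : ∀ j : Fin d, u' j n₀ = 0 := fun j => hz' j n₀ hx'n₀
        simp only [hz, mul_zero, Finset.sum_const_zero, add_zero] at this
        rcases mul_eq_zero.1 this with h | h
        · exact h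
        · exact absurd h hun₀.ne'
      have hrest : ∀ j : Fin d, c j.succ = 0 := by
        refine hind' (fun j => c j.succ) fun n => ?_
        have := hc n
        rw [Fin.sum_univ_succ] at this
        simpa [h0] using this
      intro i
      refine Fin.cases h0 hrest i
    · intro n
      rw [Fin.sum_univ_succ]
      simp only [Fin.cons_zero, Fin.cons_succ]
      rw [← hsum' n]
      simp only [hx']
      ring

end Groth.Agent.Lib.Helper6.RatCone
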