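import Mathlib
import Groth.Prelude.Def_W4c6instabfans3Fan
import Groth.Agent.Lib.Helper6.FanBasic
import Groth.Agent.Lib.Helper6.RatCone

/-!
# Normal form for equality of points in the projective realization of a formal fan (helper6)
-/

set_option autoImplicit false
open CategoryTheory Opposite Instab
universe u

namespace Groth.Agent.Lib.Helper6.FanEq

open Finset

theorem toLin_apply {k n : ICone} (g : k ⟶ n) (w : Fin k.dim → ℤ) (j : Fin n.dim) :
    g.toLin w j = ∑ l, w l * g.toLin (Pi.single l 1) j := by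
  have hw : w = ∑ l, w l • (Pi.single l (1 : ℤ) : Fin k.dim → ℤ) := by
    funext i
    simp [Finset.sum_apply, Pi.single_apply]
  conv_lhs => rw [hw]
  rw [map_sum]
  simp only [map_smul, Finset.sum_apply, Pi.smul_apply, smul_eq_mul]

theorem comp_toLin {k m n : ICone} (f : k ⟶ m) (g : m ⟶ n) (w : Fin k.dim → ℤ) :
    (f ≫ g).toLin w = g.toLin (f.toLin w) := rfl

theorem realMap_comp {k m n : ICone} (f : k ⟶ m) (g : m ⟶ n) (v : Fin k.dim → ℝ) :
    (f ≫ g).realMap v = g.realMap (f.realMap v) := by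
  funext j
  simp only [ICone.Hom.realMap, comp_toLin]
  have : ∀ i, ((g.toLin (f.toLin (Pi.single i 1)) j : ℤ) : ℝ)
      = ∑ l, ((f.toLin (Pi.single i 1) l : ℤ) : ℝ) * ((g.toLin (Pi.single l 1) j : ℤ) : ℝ) := by
    intro i
    rw [toLin_apply g]
    push_cast
    rfl
  simp only [this, Finset.sum_mul, Finset.mul_sum]
  rw [Finset.sum_comm]
  refine Finset.sum_congr rfl fun l _ => Finset.sum_congr rfl fun i _ => ?_
  ring

theorem realMap_smul {k n : ICone} (f : k ⟶ n) (c : ℝ) (v : Fin k.dim → ℝ) :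
    f.realMap (c • v) = c • f.realMap v := by
  funext j
  simp only [ICone.Hom.realMap, Pi.smul_apply, smul_eq_mul, Finset.mul_sum]
  refine Finset.sum_congr rfl fun i _ => ?_
  ring

/-- The cone morphism with prescribed columns (images of the basis vectors). -/
def homOfFamily {m k : ICone} (a : Fin m.dim → Fin k.dim → ℤ) (h0 : ∀ i j, 0 ≤ a i j)
    (hind : ∀ c : Fin m.dim → ℤ, (∀ j, ∑ i, c i * a i j = 0) → ∀ i, c i = 0) : m ⟶ k where
  toLin := Fintype.linearCombination ℤ a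
  injective := by
    intro c c' h
    have h2 : Fintype.linearCombination ℤ a (c - c') = 0 := by
      rw [map_sub, h, sub_self]
    have h3 : ∀ i, (c - c') i = 0 := by
      refine hind (c - c') fun j => ?_
      have := congrFun h2 j
      simpa [Fintype.linearCombination_apply, Finset.sum_apply] using this
    funext i
    have := h3 i
    simpa [sub_eq_zero] using this
  nonneg := by
    intro v hv j
    simp only [Fintype.linearCombination_apply, Finset.sum_apply, Pi.smul_apply, smul_eq_mul]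
    exact Finset.sum_nonneg fun i _ => mul_nonneg (hv i) (h0 i j)

theorem homOfFamily_single {m k : ICone} (a : Fin m.dim → Fin k.dim → ℤ) (h0 : ∀ i j, 0 ≤ a i j)
    (hind : ∀ c : Fin m.dim → ℤ, (∀ j, ∑ i, c i * a i j = 0) → ∀ i, c i = 0) (i : Fin m.dim) :
    (homOfFamily a h0 hind).toLin (Pi.single i 1) = a i := by
  show Fintype.linearCombination ℤ a (Pi.single i 1) = a i
  simp [Fintype.linearCombination_apply_single]

theorem homOfFamily_realMap {m k : ICone} (a : Fin m.dim → Fin k.dim → ℤ) (h0 : ∀ i j, 0 ≤ a i j)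
    (hind : ∀ c : Fin m.dim → ℤ, (∀ j, ∑ i, c i * a i j = 0) → ∀ i, c i = 0)
    (z : Fin m.dim → ℝ) (j : Fin k.dim) :
    (homOfFamily a h0 hind).realMap z j = ∑ i, (a i j : ℝ) * z i := by
  simp only [ICone.Hom.realMap, homOfFamily_single]

/-- The integer matrix whose kernel cone is the fibre product of two cone morphisms. -/
def fibMat {k k' n : ICone} (φ : k ⟶ n) (ψ : k' ⟶ n) :
    Fin n.dim → (Fin k.dim ⊕ Fin k'.dim) → ℤ :=
  fun j s => Sum.elim (fun i => φ.toLin (Pi.single i 1) j) (fun i => - ψ.toLin (Pi.single i 1) j) s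

theorem fibMat_sum {k k' n : ICone} (φ : k ⟶ n) (ψ : k' ⟶ n) (w : Fin k.dim ⊕ Fin k'.dim → ℤ)
    (j : Fin n.dim) :
    ∑ s, fibMat φ ψ j s * w s
      = φ.toLin (fun i => w (Sum.inl i)) j - ψ.toLin (fun i => w (Sum.inr i)) j := by
  rw [Fintype.sum_sum_type, toLin_apply φ, toLin_apply ψ]
  simp only [fibMat, Sum.elim_inl, Sum.elim_inr, neg_mul, Finset.sum_neg_distrib]
  rw [sub_eq_add_neg]
  congr 1
  · exact Finset.sum_congr rfl fun i _ => mul_comm _ _
  · congr 1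
    exact Finset.sum_congr rfl fun i _ => mul_comm _ _

theorem fibMat_sum_real {k k' n : ICone} (φ : k ⟶ n) (ψ : k' ⟶ n) (y : Fin k.dim → ℝ)
    (y' : Fin k'.dim → ℝ) (j : Fin n.dim) :
    ∑ s, (fibMat φ ψ j s : ℝ) * Sum.elim y y' s = φ.realMap y j - ψ.realMap y' j := by
  rw [Fintype.sum_sum_type]
  simp only [fibMat, Sum.elim_inl, Sum.elim_inr, ICone.Hom.realMap, Int.cast_neg, neg_mul,
    Finset.sum_neg_distrib]
  ring

theorem exists_common_refinement {k k' n : ICone} (φ : k ⟶ n) (ψ : k' ⟶ n)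
    (y : Fin k.dim → ℝ) (y' : Fin k'.dim → ℝ) (hy : ∀ i, 0 ≤ y i) (hy' : ∀ i, 0 ≤ y' i)
    (hne : y ≠ 0) (h : φ.realMap y = ψ.realMap y') :
    ∃ (m : ICone) (α : m ⟶ k) (β : m ⟶ k') (z : Fin m.dim → ℝ),
      α ≫ φ = β ≫ ψ ∧ (∀ i, 0 < z i) ∧ α.realMap z = y ∧ β.realMap z = y' := by
  classical
  have hx0 : ∀ s, 0 ≤ Sum.elim y y' s := by
    rintro (i | i)
    · exact hy i
    · exact hy' i
  have hA : ∀ j, ∑ s, (fibMat φ ψ j s : ℝ) * Sum.elim y y' s = 0 := by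
    intro j
    rw [fibMat_sum_real, h, sub_self]
  obtain ⟨d, u, t, ht, hu0, huA, -, hind, hsum⟩ :=
    RatCone.exists_decomp (fibMat φ ψ) _ (Sum.elim y y') rfl hx0 hA
  have hd : 0 < d := by
    rcases Nat.eq_zero_or_pos d with h0 | h0
    · subst h0
      exfalso
      apply hne
      funext i
      have := hsum (Sum.inl i)
      simpa using this
    · exact h0
  obtain ⟨m, rfl⟩ : ∃ m : ICone, (m.dim : ℕ) = d := ⟨⟨⟨d, hd⟩⟩, rfl⟩
  -- key relation for each generator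
  have hrel : ∀ i, φ.toLin (fun l => u i (Sum.inl l)) = ψ.toLin (fun l => u i (Sum.inr l)) := by
    intro i
    funext j
    have := huA i j
    rw [fibMat_sum] at this
    exact sub_eq_zero.1 this
  have hrel' : ∀ c : Fin m.dim → ℤ,
      φ.toLin (fun l => ∑ i, c i * u i (Sum.inl l))
        = ψ.toLin (fun l => ∑ i, c i * u i (Sum.inr l)) := by
    intro c
    have e1 : (fun l => ∑ i, c i * u i (Sum.inl l))
        = ∑ i, c i • (fun l => u i (Sum.inl l)) := by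
      funext l
      simp [Finset.sum_apply]
    have e2 : (fun l => ∑ i, c i * u i (Sum.inr l))
        = ∑ i, c i • (fun l => u i (Sum.inr l)) := by
      funext l
      simp [Finset.sum_apply]
    rw [e1, e2, map_sum, map_sum]
    refine Finset.sum_congr rfl fun i _ => ?_
    rw [map_smul, map_smul, hrel i]
  have hzero_of : ∀ c : Fin m.dim → ℤ, (∀ s, ∑ i, c i * u i s = 0) → ∀ i, c i = 0 := hind
  let a : Fin m.dim → Fin k.dim → ℤ := fun i l => u i (Sum.inl l)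
  let b : Fin m.dim → Fin k'.dim → ℤ := fun i l => u i (Sum.inr l)
  have ha_ind : ∀ c : Fin m.dim → ℤ, (∀ j, ∑ i, c i * a i j = 0) → ∀ i, c i = 0 := by
    intro c hc
    refine hzero_of c ?_
    have h1 := hrel' c
    have h2 : (fun l => ∑ i, c i * u i (Sum.inl l)) = 0 := by
      funext l
      exact hc l
    rw [h2, map_zero] at h1
    have h3 : (fun l => ∑ i, c i * u i (Sum.inr l)) = 0 :=
      ψ.injective (by rw [← h1, map_zero])
    rintro (l | l)
    · exact hc l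
    · exact congrFun h3 l
  have hb_ind : ∀ c : Fin m.dim → ℤ, (∀ j, ∑ i, c i * b i j = 0) → ∀ i, c i = 0 := by
    intro c hc
    refine hzero_of c ?_
    have h1 := hrel' c
    have h2 : (fun l => ∑ i, c i * u i (Sum.inr l)) = 0 := by
      funext l
      exact hc l
    rw [h2, map_zero] at h1
    have h3 : (fun l => ∑ i, c i * u i (Sum.inl l)) = 0 :=
      φ.injective (by rw [h1, map_zero])
    rintro (l | l)
    · exact congrFun h3 l
    · exact hc l
  refine ⟨m, homOfFamily a (fun i j => hu0 i _) ha_ind, homOfFamily b (fun i j => hu0 i _) hb_ind,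
    t, ?_, ht, ?_, ?_⟩
  · apply ICone.Hom.ext
    apply LinearMap.ext
    intro c
    show φ.toLin (Fintype.linearCombination ℤ a c) = ψ.toLin (Fintype.linearCombination ℤ b c)
    have e1 : Fintype.linearCombination ℤ a c = fun l => ∑ i, c i * u i (Sum.inl l) := by
      funext l
      simp [Fintype.linearCombination_apply, Finset.sum_apply, a]
    have e2 : Fintype.linearCombination ℤ b c = fun l => ∑ i, c i * u i (Sum.inr l) := by
      funext l
      simp [Fintype.linearCombination_apply, Finset.sum_apply, b]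
    rw [e1, e2]
    exact hrel' c
  · funext j
    rw [homOfFamily_realMap]
    have := hsum (Sum.inl j)
    simp only [Sum.elim_inl] at this
    rw [this]
    exact Finset.sum_congr rfl fun i _ => mul_comm _ _
  · funext j
    rw [homOfFamily_realMap]
    have := hsum (Sum.inr j)
    simp only [Sum.elim_inr] at this
    rw [this]
    exact Finset.sum_congr rfl fun i _ => mul_comm _ _

/-- The normal-form relation on points of the disjoint union of orthants. -/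
def R (F : Fan.{u}) (p q : Fan.Pt F) : Prop :=
  ∃ (k : ICone) (φ₁ : k ⟶ p.1.1) (φ₂ : k ⟶ q.1.1) (y : Fan.Orth k) (c₁ c₂ : ℝ),
    F.map φ₁.op p.1.2 = F.map φ₂.op q.1.2 ∧ 0 < c₁ ∧ 0 < c₂ ∧
      p.2.1 = c₁ • φ₁.realMap y.1 ∧ q.2.1 = c₂ • φ₂.realMap y.1

variable {F : Fan.{u}}

theorem R_refl (p : Fan.Pt F) : R F p p := by
  refine ⟨p.1.1, 𝟙 _, 𝟙 _, p.2, 1, 1, rfl, one_pos, one_pos, ?_, ?_⟩ <;>
  · rw [FanBasic.realMap_id, one_smul]

theorem R_symm {p q : Fan.Pt F} (h : R F p q) : R F q p := by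
  obtain ⟨k, φ₁, φ₂, y, c₁, c₂, h1, h2, h3, h4, h5⟩ := h
  exact ⟨k, φ₂, φ₁, y, c₂, c₁, h1.symm, h3, h2, h5, h4⟩

theorem R_of_rel {p q : Fan.Pt F} (h : Fan.Rel F p q) : R F p q := by
  obtain ⟨φ, ξ, v, w, c, hc, h⟩ := h
  refine ⟨_, 𝟙 _, φ, v, 1, c, ?_, one_pos, hc, ?_, h⟩
  · show F.map (𝟙 _).op (F.map φ.op ξ) = F.map φ.op ξ
    rw [op_id, F.map_id]
    rfl
  · show v.1 = (1 : ℝ) • ICone.Hom.realMap (𝟙 _) v.1
    rw [FanBasic.realMap_id, one_smul]

theorem map_comp_apply {k m n : ICone} (α : k ⟶ m) (φ : m ⟶ n) (σ : F.obj (op n)) :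
    F.map (α ≫ φ).op σ = F.map α.op (F.map φ.op σ) := by
  rw [op_comp, Functor.map_comp_apply]

theorem R_trans {p q r : Fan.Pt F} (h₁ : R F p q) (h₂ : R F q r) : R F p r := by
  obtain ⟨k, φ₁, φ₂, y, c₁, c₂, e1, hc₁, hc₂, hp, hq⟩ := h₁
  obtain ⟨k', ψ₁, ψ₂, y', d₁, d₂, e2, hd₁, hd₂, hq', hr⟩ := h₂
  have hy0 : ∀ i, 0 ≤ (c₂ • y.1) i := fun i => mul_nonneg hc₂.le (y.2.1 i)
  have hy'0 : ∀ i, 0 ≤ (d₁ • y'.1) i := fun i => mul_nonneg hd₁.le (y'.2.1 i)
  have hne : c₂ • y.1 ≠ 0 := by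
    intro h
    rcases smul_eq_zero.1 h with h | h
    · exact hc₂.ne' h
    · exact y.2.2 h
  have heq : φ₂.realMap (c₂ • y.1) = ψ₁.realMap (d₁ • y'.1) := by
    rw [realMap_smul, realMap_smul, ← hq, ← hq']
  obtain ⟨m, α, β, z, hcomp, hz, hαz, hβz⟩ :=
    exists_common_refinement φ₂ ψ₁ _ _ hy0 hy'0 hne heq
  have hzne : z ≠ 0 := by
    intro h
    have := hz ⟨0, m.dim.pos⟩
    rw [h] at this
    exact lt_irrefl _ this
  refine ⟨m, α ≫ φ₁, β ≫ ψ₂, ⟨z, fun i => (hz i).le, hzne⟩, c₁ / c₂, d₂ / d₁, ?_,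
    div_pos hc₁ hc₂, div_pos hd₂ hd₁, ?_, ?_⟩
  · rw [map_comp_apply, e1, ← map_comp_apply, hcomp, map_comp_apply, e2, ← map_comp_apply]
  · show p.2.1 = (c₁ / c₂) • (α ≫ φ₁).realMap z
    rw [realMap_comp, hαz, realMap_smul, smul_smul, div_mul_cancel₀ _ hc₂.ne']
    exact hp
  · show r.2.1 = (d₂ / d₁) • (β ≫ ψ₂).realMap z
    rw [realMap_comp, hβz, realMap_smul, smul_smul, div_mul_cancel₀ _ hd₁.ne']
    exact hr

theorem R_of_eq {p q : Fan.Pt F} (h : (Quot.mk _ p : Fan.P F) = Quot.mk _ q) : R F p q := by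
  have := Quot.eqvGen_exact h
  clear h
  induction this with
  | rel _ _ h => exact R_of_rel h
  | refl _ => exact R_refl _
  | symm _ _ _ ih => exact R_symm ih
  | trans _ _ _ _ _ ih₁ ih₂ => exact R_trans ih₁ ih₂

/-- Normal form of equality in `P F`. -/
theorem mk_eq_mk {n₁ n₂ : ICone} (σ₁ : F.obj (op n₁)) (σ₂ : F.obj (op n₂)) (v₁ : Fan.Orth n₁)
    (v₂ : Fan.Orth n₂) (h : Fan.P.mk σ₁ v₁ = Fan.P.mk σ₂ v₂) :
    ∃ (k : ICone) (φ₁ : k ⟶ n₁) (φ₂ : k ⟶ n₂) (y : Fan.Orth k) (c₁ c₂ : ℝ),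
      F.map φ₁.op σ₁ = F.map φ₂.op σ₂ ∧ 0 < c₁ ∧ 0 < c₂ ∧
        v₁.1 = c₁ • φ₁.realMap y.1 ∧ v₂.1 = c₂ • φ₂.realMap y.1 :=
  R_of_eq (p := ⟨⟨n₁, σ₁⟩, v₁⟩) (q := ⟨⟨n₂, σ₂⟩, v₂⟩) h

/-- Conversely, points in normal-form relation are equal. -/
theorem mk_eq_mk_of {n₁ n₂ k : ICone} (σ₁ : F.obj (op n₁)) (σ₂ : F.obj (op n₂)) (v₁ : Fan.Orth n₁)
    (v₂ : Fan.Orth n₂) (φ₁ : k ⟶ n₁) (φ₂ : k ⟶ n₂) (y : Fan.Orth k) (c₁ c₂ : ℝ)
    (e : F.map φ₁.op σ₁ = F.map φ₂.op σ₂) (hc₁ : 0 < c₁) (hc₂ : 0 < c₂)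
    (h₁ : v₁.1 = c₁ • φ₁.realMap y.1) (h₂ : v₂.1 = c₂ • φ₂.realMap y.1) :
    Fan.P.mk σ₁ v₁ = Fan.P.mk σ₂ v₂ := by
  have e1 : Fan.P.mk (F.map φ₁.op σ₁) y = Fan.P.mk σ₁ v₁ :=
    Quot.sound (Fan.Rel.glue φ₁ σ₁ y v₁ c₁ hc₁ h₁)
  have e2 : Fan.P.mk (F.map φ₂.op σ₂) y = Fan.P.mk σ₂ v₂ :=
    Quot.sound (Fan.Rel.glue φ₂ σ₂ y v₂ c₂ hc₂ h₂)
  rw [← e1, ← e2, e]

theorem map_mk {G : Fan.{u}} (f : F ⟶ G) {n : ICone} (σ : F.obj (op n)) (v : Fan.Orth n) :
    Fan.P.map f (Fan.P.mk σ v) = Fan.P.mk (f.app _ σ) v := rfl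

theorem exists_mk (x : Fan.P F) :
    ∃ (n : ICone) (σ : F.obj (op n)) (v : Fan.Orth n), x = Fan.P.mk σ v := by
  induction x using Quot.ind with | _ p => ?_
  obtain ⟨⟨n, σ⟩, v⟩ := p
  exact ⟨n, σ, v, rfl⟩

theorem mem_range_ι {S : Subfunctor F} {x : Fan.P F} :
    x ∈ Set.range (Fan.P.map S.ι) ↔
      ∃ (n : ICone) (σ : F.obj (op n)) (v : Fan.Orth n), σ ∈ S.obj (op n) ∧ x = Fan.P.mk σ v := by
  constructor
  · rintro ⟨y, rfl⟩
    obtain ⟨n, σ, v, rfl⟩ := exists_mk y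
    exact ⟨n, σ.1, v, σ.2, rfl⟩
  · rintro ⟨n, σ, v, hσ, rfl⟩
    exact ⟨Fan.P.mk (F := S.toFunctor) ⟨σ, hσ⟩ v, rfl⟩

section Pullback

open Limits

variable {F' G : Fan.{u}} (f : F ⟶ G) (g : F' ⟶ G)

theorem coneMap_comp {n : ICone} (σ : F.obj (op n)) :
    Fan.coneMap σ ≫ f = Fan.coneMap (f.app _ σ) :=
  uliftYonedaEquiv_symm_comp σ f

/-- The element of the fibre product given by a compatible pair of cones. -/
noncomputable def pbMk {k : ICone} (a : F.obj (op k)) (b : F'.obj (op k))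
    (h : f.app _ a = g.app _ b) : (pullback f g).obj (op k) :=
  uliftYonedaEquiv.{u} (pullback.lift (Fan.coneMap a) (Fan.coneMap b)
    (by rw [coneMap_comp, coneMap_comp, h]))

theorem pbMk_fst {k : ICone} (a : F.obj (op k)) (b : F'.obj (op k))
    (h : f.app _ a = g.app _ b) : (pullback.fst f g).app _ (pbMk f g a b h) = a := by
  rw [pbMk, ← uliftYonedaEquiv_comp, pullback.lift_fst]
  exact Equiv.apply_symm_apply _ a

theorem pbMk_snd {k : ICone} (a : F.obj (op k)) (b : F'.obj (op k))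
    (h : f.app _ a = g.app _ b) : (pullback.snd f g).app _ (pbMk f g a b h) = b := by
  rw [pbMk, ← uliftYonedaEquiv_comp, pullback.lift_snd]
  exact Equiv.apply_symm_apply _ b

theorem pb_condition {k : ICone} (z : (pullback f g).obj (op k)) :
    f.app _ ((pullback.fst f g).app _ z) = g.app _ ((pullback.snd f g).app _ z) := by
  have := congrArg (fun t => t.app (op k) z) (pullback.condition (f := f) (g := g))
  exact this

theorem pb_ext {k : ICone} (z z' : (pullback f g).obj (op k))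
    (h₁ : (pullback.fst f g).app _ z = (pullback.fst f g).app _ z')
    (h₂ : (pullback.snd f g).app _ z = (pullback.snd f g).app _ z') : z = z' := by
  apply uliftYonedaEquiv.{u}.symm.injective
  apply pullback.hom_ext
  · rw [uliftYonedaEquiv_symm_comp, uliftYonedaEquiv_symm_comp, h₁]
  · rw [uliftYonedaEquiv_symm_comp, uliftYonedaEquiv_symm_comp, h₂]

theorem P_map_comp {H : Fan.{u}} (a : F ⟶ G) (b : G ⟶ H) (x : Fan.P F) :
    Fan.P.map (a ≫ b) x = Fan.P.map b (Fan.P.map a x) := by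
  obtain ⟨n, σ, v, rfl⟩ := exists_mk x
  rfl

/-- Surjectivity of `P (F ×_G F') → P F ×_{P G} P F'`. -/
theorem exists_pullback_point (x : Fan.P F) (x' : Fan.P F')
    (h : Fan.P.map f x = Fan.P.map g x') :
    ∃ y : Fan.P (pullback f g),
      Fan.P.map (pullback.fst f g) y = x ∧ Fan.P.map (pullback.snd f g) y = x' := by
  obtain ⟨n, σ, v, rfl⟩ := exists_mk x
  obtain ⟨n', σ', v', rfl⟩ := exists_mk x'
  rw [map_mk, map_mk] at h
  obtain ⟨k, φ₁, φ₂, y, c₁, c₂, e, hc₁, hc₂, h₁, h₂⟩ := mk_eq_mk _ _ _ _ h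
  have e1 : f.app _ (F.map φ₁.op σ) = G.map φ₁.op (f.app _ σ) :=
    NatTrans.naturality_apply f φ₁.op σ
  have e2 : g.app _ (F'.map φ₂.op σ') = G.map φ₂.op (g.app _ σ') :=
    NatTrans.naturality_apply g φ₂.op σ'
  have hab : f.app _ (F.map φ₁.op σ) = g.app _ (F'.map φ₂.op σ') := by rw [e1, e2, e]
  refine ⟨Fan.P.mk (pbMk f g _ _ hab) y, ?_, ?_⟩
  · rw [map_mk, pbMk_fst]
    exact Quot.sound (Fan.Rel.glue φ₁ σ y v c₁ hc₁ h₁)
  · rw [map_mk, pbMk_snd]
    exact Quot.sound (Fan.Rel.glue φ₂ σ' y v' c₂ hc₂ h₂)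

end Pullback

end Groth.Agent.Lib.Helper6.FanEq
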