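import Mathlib
import Groth.Prelude.Def_W4c6instabfans3Fan
import Groth.Agent.Lib.Helper6.FanEq

/-!
# Bounded fans, representable fans (helper6)
-/

set_option autoImplicit false
open CategoryTheory Opposite Instab
universe u

namespace Groth.Agent.Lib.Helper6.FanBdd

open Finset Limits FanEq

/-- A cone morphism maps the punctured orthant to the punctured orthant. -/
theorem realMap_nonneg {k n : ICone} (φ : k ⟶ n) (v : Fin k.dim → ℝ) (hv : ∀ i, 0 ≤ v i)
    (j : Fin n.dim) : 0 ≤ φ.realMap v j := by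
  refine Finset.sum_nonneg fun i _ => mul_nonneg ?_ (hv i)
  have := φ.nonneg (Pi.single i 1) (fun l => by
    rw [Pi.single_apply]
    split_ifs <;> simp) j
  exact_mod_cast this

theorem realMap_ne_zero {k n : ICone} (φ : k ⟶ n) (v : Fin k.dim → ℝ) (hv : ∀ i, 0 ≤ v i)
    (hne : v ≠ 0) : φ.realMap v ≠ 0 := by
  classical
  obtain ⟨i₀, hi₀⟩ : ∃ i, v i ≠ 0 := by
    by_contra h
    push Not at h
    exact hne (funext h)
  have hvpos : 0 < v i₀ := lt_of_le_of_ne (hv i₀) (Ne.symm hi₀)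
  have hcol : φ.toLin (Pi.single i₀ 1) ≠ 0 := by
    intro h
    have : (Pi.single i₀ 1 : Fin k.dim → ℤ) = 0 := φ.injective (by rw [h, map_zero])
    have := congrFun this i₀
    simp at this
  obtain ⟨j, hj⟩ : ∃ j, φ.toLin (Pi.single i₀ 1) j ≠ 0 := by
    by_contra h
    push Not at h
    exact hcol (funext h)
  have hnn : ∀ i j, 0 ≤ φ.toLin (Pi.single i 1) j := fun i j =>
    φ.nonneg (Pi.single i 1) (fun l => by
      rw [Pi.single_apply]
      split_ifs <;> simp) j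
  have hjpos : (0 : ℝ) < φ.toLin (Pi.single i₀ 1) j := by
    exact_mod_cast lt_of_le_of_ne (hnn i₀ j) (Ne.symm hj)
  intro h0
  have hz : φ.realMap v j = 0 := by rw [h0]; rfl
  have hge : (φ.toLin (Pi.single i₀ 1) j : ℝ) * v i₀ ≤ φ.realMap v j := by
    refine Finset.single_le_sum (f := fun i => (φ.toLin (Pi.single i 1) j : ℝ) * v i)
      (fun i _ => mul_nonneg ?_ (hv i)) (Finset.mem_univ i₀)
    exact_mod_cast hnn i j
  have : 0 < (φ.toLin (Pi.single i₀ 1) j : ℝ) * v i₀ := mul_pos hjpos hvpos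
  linarith

/-- The image of a point of the orthant under a cone morphism. -/
def orthMap {k n : ICone} (φ : k ⟶ n) (v : Fan.Orth k) : Fan.Orth n :=
  ⟨φ.realMap v.1, realMap_nonneg φ v.1 v.2.1, realMap_ne_zero φ v.1 v.2.1 v.2.2⟩

variable {F : Fan.{u}}

theorem mk_map {k n : ICone} (φ : k ⟶ n) (ξ : F.obj (op n)) (v : Fan.Orth k) :
    Fan.P.mk (F.map φ.op ξ) v = Fan.P.mk ξ (orthMap φ v) :=
  Quot.sound (Fan.Rel.glue φ ξ v (orthMap φ v) 1 one_pos (by simp [orthMap]))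

/-- The tautological cone of the representable fan. -/
def idCone (n : ICone) : (uliftYoneda.{u}.obj n).obj (op n) := ULift.up (𝟙 n)

theorem coneMap_app {n k : ICone} (ξ : F.obj (op n)) (ψ : k ⟶ n) :
    (Fan.coneMap ξ).app (op k) (ULift.up ψ) = F.map ψ.op ξ := rfl

theorem coneMap_idCone {n : ICone} (ξ : F.obj (op n)) :
    (Fan.coneMap ξ).app (op n) (idCone n) = ξ := by
  rw [idCone, coneMap_app, op_id, F.map_id]
  rfl

theorem yoneda_map {n k k' : ICone} (φ : k' ⟶ k) (ψ : k ⟶ n) :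
    (uliftYoneda.{u}.obj n).map φ.op (ULift.up ψ) = ULift.up (φ ≫ ψ) := rfl

theorem yoneda_mk {n k : ICone} (ψ : k ⟶ n) (y : Fan.Orth k) :
    Fan.P.mk (F := uliftYoneda.{u}.obj n) (ULift.up ψ) y = Fan.P.mk (idCone n) (orthMap ψ y) := by
  have := mk_map (F := uliftYoneda.{u}.obj n) ψ (idCone n) y
  rw [idCone, yoneda_map, Category.comp_id] at this
  exact this

/-- In the realization of a representable fan, points are rays of the orthant. -/
theorem yoneda_mk_eq {n : ICone} (v w : Fan.Orth n)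
    (h : Fan.P.mk (F := uliftYoneda.{u}.obj n) (idCone n) v = Fan.P.mk (idCone n) w) :
    ∃ c : ℝ, 0 < c ∧ w.1 = c • v.1 := by
  obtain ⟨k, φ₁, φ₂, y, c₁, c₂, e, hc₁, hc₂, h₁, h₂⟩ := mk_eq_mk _ _ _ _ h
  have e' : φ₁ = φ₂ := by
    have := congrArg ULift.down e
    simpa [idCone, yoneda_map] using this
  subst e'
  refine ⟨c₂ / c₁, div_pos hc₂ hc₁, ?_⟩
  rw [h₁, h₂, smul_smul, div_mul_cancel₀ _ hc₁.ne']

theorem isBounded_yoneda (n : ICone) : Fan.IsBounded (uliftYoneda.{u}.obj n) := by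
  classical
  refine ⟨{⟨n, idCone n⟩}, fun x => ?_⟩
  obtain ⟨k, ⟨ψ⟩, y, rfl⟩ := exists_mk x
  refine ⟨⟨n, idCone n⟩, Finset.mem_singleton_self _, ?_⟩
  exact ⟨orthMap ψ y, (yoneda_mk ψ y).symm⟩

/-- A fan covered by the images of finitely many bounded fans is bounded. -/
theorem isBounded_of_cover {Q : Fan.{u}} {ι : Type*} (s : Finset ι) (Q' : ι → Fan.{u})
    (θ : ∀ i, Q' i ⟶ Q) (hb : ∀ i ∈ s, (Q' i).IsBounded)
    (hcov : ∀ x : Fan.P Q, ∃ i ∈ s, x ∈ Set.range (Fan.P.map (θ i))) : Q.IsBounded := by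
  classical
  have hb' : ∀ i, ∃ t : Finset (Σ n : ICone, (Q' i).obj (op n)),
      i ∈ s → ∀ x : Fan.P (Q' i), ∃ e ∈ t, x ∈ Fan.P.cell e.2 := by
    intro i
    by_cases hi : i ∈ s
    · obtain ⟨t, ht⟩ := hb i hi
      exact ⟨t, fun _ => ht⟩
    · exact ⟨∅, fun h => absurd h hi⟩
  choose t ht using hb'
  refine ⟨s.biUnion fun i => (t i).image fun c => ⟨c.1, (θ i).app _ c.2⟩, fun x => ?_⟩
  obtain ⟨i, hi, x', rfl⟩ := hcov x
  obtain ⟨c, hc, v, rfl⟩ := ht i hi x'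
  refine ⟨⟨c.1, (θ i).app _ c.2⟩, ?_, ⟨v, rfl⟩⟩
  rw [Finset.mem_biUnion]
  exact ⟨i, hi, Finset.mem_image_of_mem _ hc⟩

theorem isBounded_of_surjective {Q Q' : Fan.{u}} (θ : Q' ⟶ Q)
    (hθ : Function.Surjective (Fan.P.map θ)) (hb : Q'.IsBounded) : Q.IsBounded := by
  classical
  refine isBounded_of_cover ({()} : Finset Unit) (fun _ => Q') (fun _ => θ) (fun _ _ => hb)
    fun x => ⟨(), Finset.mem_singleton_self _, hθ x⟩

theorem isBounded_of_iso {Q Q' : Fan.{u}} (e : Q' ≅ Q) (hb : Q'.IsBounded) : Q.IsBounded := by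
  refine isBounded_of_surjective e.hom (fun x => ⟨Fan.P.map e.inv x, ?_⟩) hb
  rw [← P_map_comp, e.inv_hom_id]
  obtain ⟨n, σ, v, rfl⟩ := exists_mk x
  rfl

theorem mk_mem_range_coneMap {n : ICone} (ξ : F.obj (op n)) (v : Fan.Orth n) :
    Fan.P.mk ξ v = Fan.P.map (Fan.coneMap ξ) (Fan.P.mk (idCone n) v) := by
  rw [map_mk, coneMap_idCone]

theorem quasiSeparated_iff (G : Fan.{u}) :
    G.IsQuasiSeparated ↔
      ∀ (F : Fan.{u}) (f : F ⟶ G), F.IsBounded → Fan.IsBoundedMap f := by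
  constructor
  · intro hG F f ⟨s, hs⟩ n σ
    refine isBounded_of_cover s
      (fun e => pullback (Fan.coneMap e.2) (pullback.fst f (Fan.coneMap σ)))
      (fun e => pullback.snd _ _) (fun e _ => ?_) fun x => ?_
    · refine isBounded_of_iso (pullbackRightPullbackFstIso f (Fan.coneMap σ) (Fan.coneMap e.2)).symm
        ?_
      have : ∀ a : uliftYoneda.{u}.obj e.1 ⟶ G, a = Fan.coneMap (f.app _ e.2) →
          Fan.IsBounded (pullback a (Fan.coneMap σ)) := by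
        rintro _ rfl
        exact hG _ _ _ _
      exact this _ (coneMap_comp f e.2)
    · obtain ⟨e, he, w, hw⟩ := hs (Fan.P.map (pullback.fst f (Fan.coneMap σ)) x)
      refine ⟨e, he, ?_⟩
      have h2 : Fan.P.map (Fan.coneMap e.2) (Fan.P.mk (idCone e.1) w)
          = Fan.P.map (pullback.fst f (Fan.coneMap σ)) x := by
        rw [← mk_mem_range_coneMap]
        exact hw
      obtain ⟨z, -, hz⟩ := exists_pullback_point _ _ _ _ h2
      exact ⟨z, hz⟩
  · intro h n₀ n₁ σ₀ σ₁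
    exact h _ (Fan.coneMap σ₀) (isBounded_yoneda n₀) n₁ σ₁

theorem finite_common (G : Fan.{u}) (hG : G.IsQuasiSeparated) {n n' : ICone}
    (ξ : G.obj (op n)) (ξ' : G.obj (op n')) :
    ∃ s : Finset (Σ k : ICone, (k ⟶ n) × (k ⟶ n')),
      (∀ e ∈ s, G.map e.2.1.op ξ = G.map e.2.2.op ξ') ∧
      ∀ (v : Fan.Orth n) (w : Fan.Orth n'), Fan.P.mk ξ v = Fan.P.mk ξ' w ↔
        ∃ e ∈ s, ∃ (y : Fan.Orth e.1) (c c' : ℝ), 0 < c ∧ 0 < c' ∧
          v.1 = c • e.2.1.realMap y.1 ∧ w.1 = c' • e.2.2.realMap y.1 := by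
  classical
  obtain ⟨s₀, hs₀⟩ := hG n n' ξ ξ'
  let proj : (Σ k : ICone, (pullback (Fan.coneMap ξ) (Fan.coneMap ξ')).obj (op k)) →
      (Σ k : ICone, (k ⟶ n) × (k ⟶ n')) := fun c =>
    ⟨c.1, (((pullback.fst (Fan.coneMap ξ) (Fan.coneMap ξ')).app _ c.2).down,
      ((pullback.snd (Fan.coneMap ξ) (Fan.coneMap ξ')).app _ c.2).down)⟩
  have hproj : ∀ c, G.map (proj c).2.1.op ξ = G.map (proj c).2.2.op ξ' := by
    intro c
    have := pb_condition (Fan.coneMap ξ) (Fan.coneMap ξ') c.2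
    exact this
  refine ⟨s₀.image proj, ?_, ?_⟩
  · intro e he
    obtain ⟨c, -, rfl⟩ := Finset.mem_image.1 he
    exact hproj c
  · intro v w
    constructor
    · intro h
      have h2 : Fan.P.map (Fan.coneMap ξ) (Fan.P.mk (idCone n) v)
          = Fan.P.map (Fan.coneMap ξ') (Fan.P.mk (idCone n') w) := by
        rw [← mk_mem_range_coneMap, ← mk_mem_range_coneMap]
        exact h
      obtain ⟨z, hz1, hz2⟩ := exists_pullback_point _ _ _ _ h2
      obtain ⟨c, hc, y, rfl⟩ := hs₀ z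
      refine ⟨proj c, Finset.mem_image_of_mem _ hc, y, ?_⟩
      rw [map_mk] at hz1 hz2
      have e1 : Fan.P.mk (F := uliftYoneda.{u}.obj n)
          ((pullback.fst (Fan.coneMap ξ) (Fan.coneMap ξ')).app _ c.2) y
          = Fan.P.mk (idCone n) (orthMap (proj c).2.1 y) := yoneda_mk _ y
      have e2 : Fan.P.mk (F := uliftYoneda.{u}.obj n')
          ((pullback.snd (Fan.coneMap ξ) (Fan.coneMap ξ')).app _ c.2) y
          = Fan.P.mk (idCone n') (orthMap (proj c).2.2 y) := yoneda_mk _ y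
      obtain ⟨a, ha, hav⟩ := yoneda_mk_eq _ _ (e1.symm.trans hz1)
      obtain ⟨b, hb, hbw⟩ := yoneda_mk_eq _ _ (e2.symm.trans hz2)
      exact ⟨a, b, ha, hb, hav, hbw⟩
    · rintro ⟨e, he, y, c, c', hc, hc', hv, hw⟩
      obtain ⟨c₀, -, rfl⟩ := Finset.mem_image.1 he
      exact mk_eq_mk_of ξ ξ' v w _ _ y c c' (hproj c₀) hc hc' hv hw

end Groth.Agent.Lib.Helper6.FanBdd
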