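import Mathlib
import Groth.Prelude.Def_W4c6instabfans3Fan
import Groth.Agent.Lib.Helper6.FanBdd

/-!
# Topology of the projective realization of a formal fan (helper6)
-/

set_option autoImplicit false
open CategoryTheory Opposite Instab
universe u

namespace Groth.Agent.Lib.Helper6.FanTop

open Finset Limits FanEq FanBdd

variable {F : Fan.{u}}

theorem continuous_mk {n : ICone} (ξ : F.obj (op n)) : Continuous (Fan.P.mk ξ) := by
  have h1 : Continuous (Quot.mk (Fan.Rel F)) := continuous_quot_mk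
  have h2 : Continuous (fun v : Fan.Orth n => (⟨⟨n, ξ⟩, v⟩ : Fan.Pt F)) :=
    continuous_sigmaMk (σ := fun e : (Σ n : ICone, F.obj (op n)) => Fan.Orth e.1) (i := ⟨n, ξ⟩)
  exact h1.comp h2

theorem isClosed_iff (C : Set (Fan.P F)) :
    IsClosed C ↔ ∀ (n : ICone) (ξ : F.obj (op n)), IsClosed (Fan.P.mk ξ ⁻¹' C) := by
  have hq : Topology.IsQuotientMap (Quot.mk (Fan.Rel F)) := isQuotientMap_quot_mk
  refine Iff.trans (hq.isClosed_preimage (s := C)).symm ?_
  have : IsClosed (Quot.mk (Fan.Rel F) ⁻¹' C) ↔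
      ∀ e : (Σ n : ICone, F.obj (op n)),
        IsClosed (Sigma.mk (β := fun e : (Σ n : ICone, F.obj (op n)) => Fan.Orth e.1) e ⁻¹'
          (Quot.mk (Fan.Rel F) ⁻¹' C)) := isClosed_sigma_iff
  rw [this]
  constructor
  · intro h n ξ
    exact h ⟨n, ξ⟩
  · rintro h ⟨n, ξ⟩
    exact h n ξ

theorem continuous_map {G : Fan.{u}} (f : F ⟶ G) : Continuous (Fan.P.map f) := by
  refine continuous_quot_lift _ ?_
  refine continuous_quot_mk.comp ?_
  refine continuous_sigma fun e => ?_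
  exact continuous_sigmaMk (σ := fun e : (Σ n : ICone, G.obj (op n)) => Fan.Orth e.1)
    (i := ⟨e.1, f.app _ e.2⟩)

/-- The real matrix action as a linear map. -/
def realLin {k n : ICone} (φ : k ⟶ n) : (Fin k.dim → ℝ) →ₗ[ℝ] (Fin n.dim → ℝ) where
  toFun := φ.realMap
  map_add' v w := by
    funext j
    simp only [ICone.Hom.realMap, Pi.add_apply, mul_add, Finset.sum_add_distrib]
  map_smul' c v := by
    simpa using realMap_smul φ c v

theorem realMap_eq_zero {k n : ICone} (φ : k ⟶ n) (x : Fin k.dim → ℝ) (hx : φ.realMap x = 0) :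
    x = 0 := by
  classical
  obtain ⟨d, r, q, hr, hq⟩ := RatCone.exists_rat_decomp x
  have hker : ∀ l, q l = 0 := by
    intro l
    have hrow : ∀ j : Fin n.dim, ∑ i, ((φ.toLin (Pi.single i 1) j : ℤ) : ℚ) * q l i = 0 := by
      intro j
      refine RatCone.rat_decomp_functional r q hr x hq
        (fun i => ((φ.toLin (Pi.single i 1) j : ℤ) : ℚ)) ?_ l
      have := congrFun hx j
      simpa [ICone.Hom.realMap] using this
    obtain ⟨D, u, hD, hu⟩ := RatCone.exists_int_scale (q l)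
    have hDq : (D : ℚ) ≠ 0 := by exact_mod_cast hD.ne'
    have hu0 : φ.toLin u = 0 := by
      funext j
      rw [toLin_apply]
      have : ((∑ i, u i * φ.toLin (Pi.single i 1) j : ℤ) : ℚ) = 0 := by
        push_cast
        simp only [hu]
        have := hrow j
        calc ∑ i, (D : ℚ) * q l i * ((φ.toLin (Pi.single i 1) j : ℤ) : ℚ)
            = (D : ℚ) * ∑ i, ((φ.toLin (Pi.single i 1) j : ℤ) : ℚ) * q l i := by
              rw [Finset.mul_sum]
              exact Finset.sum_congr rfl fun i _ => by ring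
          _ = 0 := by rw [this, mul_zero]
      exact_mod_cast this
    have hu1 : u = 0 := φ.injective (by rw [hu0, map_zero])
    funext i
    have := hu i
    rw [hu1] at this
    simp only [Pi.zero_apply, Int.cast_zero] at this
    rcases mul_eq_zero.1 this.symm with h | h
    · exact absurd h hDq
    · exact h
  funext i
  rw [hq i]
  simp [hker]

theorem realMap_injective {k n : ICone} (φ : k ⟶ n) : Function.Injective φ.realMap := by
  intro x y hxy
  have : (realLin φ) (x - y) = 0 := by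
    rw [map_sub]
    exact sub_eq_zero.2 hxy
  exact sub_eq_zero.1 (realMap_eq_zero φ _ this)

theorem isClosedEmbedding_realMap {k n : ICone} (φ : k ⟶ n) :
    Topology.IsClosedEmbedding φ.realMap := by
  have hker : LinearMap.ker (realLin φ) = ⊥ :=
    LinearMap.ker_eq_bot.2 (realMap_injective φ)
  exact LinearMap.isClosedEmbedding_of_injective hker

theorem continuous_orthMap {k n : ICone} (φ : k ⟶ n) : Continuous (orthMap φ) := by
  refine Continuous.subtype_mk ?_ _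
  exact (isClosedEmbedding_realMap φ).continuous.comp continuous_subtype_val

/-- The image of a closed subset of the punctured orthant under a cone morphism is closed. -/
theorem isClosed_orthMap_image {k n : ICone} (φ : k ⟶ n) (S : Set (Fan.Orth k))
    (hS : IsClosed S) : IsClosed (orthMap φ '' S) := by
  obtain ⟨B, hB, rfl⟩ := isClosed_induced_iff.1 hS
  have hB' : IsClosed (B ∩ {x : Fin k.dim → ℝ | ∀ i, 0 ≤ x i}) := by
    refine hB.inter ?_
    have : {x : Fin k.dim → ℝ | ∀ i, 0 ≤ x i} = ⋂ i, {x | 0 ≤ x i} := by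
      ext x
      simp
    rw [this]
    exact isClosed_iInter fun i => isClosed_le continuous_const (continuous_apply i)
  have hC := (isClosedEmbedding_realMap φ).isClosedMap _ hB'
  have : orthMap φ '' (Subtype.val ⁻¹' B)
      = Subtype.val ⁻¹' (φ.realMap '' (B ∩ {x : Fin k.dim → ℝ | ∀ i, 0 ≤ x i})) := by
    ext w
    constructor
    · rintro ⟨v, hv, rfl⟩
      exact ⟨v.1, ⟨hv, v.2.1⟩, rfl⟩
    · rintro ⟨x, ⟨hxB, hx0⟩, hxw⟩
      have hxne : x ≠ 0 := by
        rintro rfl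
        apply w.2.2
        rw [← hxw]
        exact (realLin φ).map_zero
      exact ⟨⟨x, hx0, hxne⟩, hxB, Subtype.ext hxw⟩
  rw [this]
  exact hC.preimage continuous_subtype_val

section BoundedMap

variable {G : Fan.{u}} (ψ : F ⟶ G) {n : ICone} (ξ : G.obj (op n))

/-- The cone morphism underlying a cone of the fibre product `F ×_G h_n`. -/
noncomputable def sndHom {k : ICone} (z : (pullback ψ (Fan.coneMap ξ)).obj (op k)) : k ⟶ n :=
  ((pullback.snd ψ (Fan.coneMap ξ)).app _ z).down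

/-- The cone of `F` underlying a cone of the fibre product `F ×_G h_n`. -/
noncomputable def fstCone {k : ICone} (z : (pullback ψ (Fan.coneMap ξ)).obj (op k)) :
    F.obj (op k) :=
  (pullback.fst ψ (Fan.coneMap ξ)).app _ z

theorem app_fstCone {k : ICone} (z : (pullback ψ (Fan.coneMap ξ)).obj (op k)) :
    ψ.app _ (fstCone ψ ξ z) = G.map (sndHom ψ ξ z).op ξ :=
  pb_condition ψ (Fan.coneMap ξ) z

/-- Structure of the fibres of a map over a cell, in terms of a covering of the fibre product by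
cells. -/
theorem map_eq_mk_iff
    (s₀ : Finset (Σ k : ICone, (pullback ψ (Fan.coneMap ξ)).obj (op k)))
    (hs₀ : ∀ z : Fan.P (pullback ψ (Fan.coneMap ξ)), ∃ e ∈ s₀, z ∈ Fan.P.cell e.2)
    (x : Fan.P F) (v : Fan.Orth n) :
    Fan.P.map ψ x = Fan.P.mk ξ v ↔
      ∃ c ∈ s₀, ∃ (y : Fan.Orth c.1) (a : ℝ), 0 < a ∧
        x = Fan.P.mk (fstCone ψ ξ c.2) y ∧ v.1 = a • (sndHom ψ ξ c.2).realMap y.1 := by
  constructor
  · intro h
    have h2 : Fan.P.map ψ x = Fan.P.map (Fan.coneMap ξ) (Fan.P.mk (idCone n) v) := by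
      rw [← mk_mem_range_coneMap]
      exact h
    obtain ⟨z, hz1, hz2⟩ := exists_pullback_point _ _ _ _ h2
    obtain ⟨c, hc, y, rfl⟩ := hs₀ z
    rw [map_mk] at hz1 hz2
    have e1 : Fan.P.mk (F := uliftYoneda.{u}.obj n)
        ((pullback.snd ψ (Fan.coneMap ξ)).app _ c.2) y
        = Fan.P.mk (idCone n) (orthMap (sndHom ψ ξ c.2) y) := yoneda_mk _ y
    obtain ⟨a, ha, hav⟩ := yoneda_mk_eq _ _ (e1.symm.trans hz2)
    exact ⟨c, hc, y, a, ha, hz1.symm, hav⟩
  · rintro ⟨c, -, y, a, ha, rfl, hv⟩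
    rw [map_mk, app_fstCone]
    exact Quot.sound (Fan.Rel.glue (sndHom ψ ξ c.2) ξ y v a ha hv)

end BoundedMap

/-- Positive rescaling of a point of the punctured orthant. -/
def smulOrth {k : ICone} (a : ℝ) (ha : 0 < a) (y : Fan.Orth k) : Fan.Orth k :=
  ⟨a • y.1, fun i => mul_nonneg ha.le (y.2.1 i), fun h => by
    rcases smul_eq_zero.1 h with h | h
    · exact ha.ne' h
    · exact y.2.2 h⟩

theorem mk_smulOrth {k : ICone} (ξ : F.obj (op k)) (a : ℝ) (ha : 0 < a) (y : Fan.Orth k) :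
    Fan.P.mk ξ (smulOrth a ha y) = Fan.P.mk ξ y :=
  (FanBasic.mk_smul ξ y (smulOrth a ha y) a ha rfl).symm

theorem bounded_map_props {G : Fan.{u}} (ψ : F ⟶ G) (hψ : Fan.IsBoundedMap ψ) :
    IsClosedMap (Fan.P.map ψ) ∧ (∀ y : Fan.P G, (Fan.P.map ψ ⁻¹' {y}).Finite) ∧
    ∀ (n : ICone) (ξ : G.obj (op n)), ∃ s : Finset (Σ k : ICone, k ⟶ n),
      {v : Fan.Orth n | Fan.P.mk ξ v ∈ Set.range (Fan.P.map ψ)} =
        ⋃ e ∈ s, {v : Fan.Orth n | ∃ (y : Fan.Orth e.1) (c : ℝ),
          0 < c ∧ v.1 = c • e.2.realMap y.1} := by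
  classical
  refine ⟨?_, ?_, ?_⟩
  · intro A hA
    rw [isClosed_iff]
    intro n ξ
    obtain ⟨s₀, hs₀⟩ := hψ n ξ
    have : Fan.P.mk ξ ⁻¹' (Fan.P.map ψ '' A)
        = ⋃ c ∈ s₀, orthMap (sndHom ψ ξ c.2) '' (Fan.P.mk (fstCone ψ ξ c.2) ⁻¹' A) := by
      ext v
      simp only [Set.mem_preimage, Set.mem_image, Set.mem_iUnion, exists_prop]
      constructor
      · rintro ⟨x, hxA, hx⟩
        obtain ⟨c, hc, y, a, ha, rfl, hv⟩ := (map_eq_mk_iff ψ ξ s₀ hs₀ x v).1 hx
        refine ⟨c, hc, smulOrth a ha y, ?_, ?_⟩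
        · rw [mk_smulOrth]
          exact hxA
        · apply Subtype.ext
          show (sndHom ψ ξ c.2).realMap (a • y.1) = v.1
          rw [realMap_smul, hv]
      · rintro ⟨c, hc, y, hyA, rfl⟩
        refine ⟨_, hyA, ?_⟩
        exact (map_eq_mk_iff ψ ξ s₀ hs₀ _ _).2 ⟨c, hc, y, 1, one_pos, rfl, (one_smul _ _).symm⟩
    rw [this]
    refine Set.Finite.isClosed_biUnion s₀.finite_toSet fun c _ => ?_
    exact isClosed_orthMap_image _ _ (hA.preimage (continuous_mk _))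
  · intro y₀
    obtain ⟨n, ξ, v, rfl⟩ := exists_mk y₀
    obtain ⟨s₀, hs₀⟩ := hψ n ξ
    have hsub : Fan.P.map ψ ⁻¹' {Fan.P.mk ξ v} ⊆
        ⋃ c ∈ s₀, {x | ∃ (y : Fan.Orth c.1) (a : ℝ), 0 < a ∧
          x = Fan.P.mk (fstCone ψ ξ c.2) y ∧ v.1 = a • (sndHom ψ ξ c.2).realMap y.1} := by
      intro x hx
      obtain ⟨c, hc, h⟩ := (map_eq_mk_iff ψ ξ s₀ hs₀ x v).1 hx
      simp only [Set.mem_iUnion, exists_prop]
      exact ⟨c, hc, h⟩
    refine Set.Finite.subset (Set.Finite.biUnion s₀.finite_toSet fun c _ => ?_) hsub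
    refine Set.Subsingleton.finite ?_
    rintro x ⟨y, a, ha, rfl, hv⟩ x' ⟨y', a', ha', rfl, hv'⟩
    have h1 : (sndHom ψ ξ c.2).realMap (a • y.1) = (sndHom ψ ξ c.2).realMap (a' • y'.1) := by
      rw [realMap_smul, realMap_smul, ← hv, ← hv']
    have h2 := realMap_injective _ h1
    have h3 : y'.1 = (a / a') • y.1 := by
      rw [div_eq_inv_mul, ← smul_smul, h2, smul_smul, inv_mul_cancel₀ ha'.ne', one_smul]
    exact FanBasic.mk_smul _ y y' (a / a') (div_pos ha ha') h3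
  · intro n ξ
    obtain ⟨s₀, hs₀⟩ := hψ n ξ
    refine ⟨s₀.image fun c => ⟨c.1, sndHom ψ ξ c.2⟩, ?_⟩
    ext v
    simp only [Set.mem_ofPred_eq, Set.mem_range, Set.mem_iUnion, exists_prop, Finset.mem_image]
    constructor
    · rintro ⟨x, hx⟩
      obtain ⟨c, hc, y, a, ha, -, hv⟩ := (map_eq_mk_iff ψ ξ s₀ hs₀ x v).1 hx
      exact ⟨_, ⟨c, hc, rfl⟩, y, a, ha, hv⟩
    · rintro ⟨_, ⟨c, hc, rfl⟩, y, a, ha, hv⟩
      exact ⟨_, (map_eq_mk_iff ψ ξ s₀ hs₀ _ v).2 ⟨c, hc, y, a, ha, rfl, hv⟩⟩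

theorem isBoundedMap_coneMap (hF : F.IsQuasiSeparated) {n : ICone} (ξ : F.obj (op n)) :
    Fan.IsBoundedMap (Fan.coneMap ξ) := fun n' σ => hF n n' ξ σ

/-- Closed scale-invariant subsets of the orthant have closed image in the realization of the
representable fan. -/
theorem isClosed_mk_idCone_image {n : ICone} (S : Set (Fan.Orth n)) (hS : IsClosed S)
    (hinv : ∀ v w : Fan.Orth n, v ∈ S → ∀ c : ℝ, 0 < c → w.1 = c • v.1 → w ∈ S) :
    IsClosed (Fan.P.mk (F := uliftYoneda.{u}.obj n) (idCone n) '' S) := by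
  rw [isClosed_iff]
  rintro k ⟨ψ⟩
  have : Fan.P.mk (F := uliftYoneda.{u}.obj n) (ULift.up ψ) ⁻¹'
      (Fan.P.mk (F := uliftYoneda.{u}.obj n) (idCone n) '' S) = orthMap ψ ⁻¹' S := by
    ext y
    simp only [Set.mem_preimage, Set.mem_image]
    rw [yoneda_mk]
    constructor
    · rintro ⟨v, hv, h⟩
      obtain ⟨c, hc, hcv⟩ := yoneda_mk_eq _ _ h
      exact hinv v _ hv c hc hcv
    · intro h
      exact ⟨_, h, rfl⟩
  rw [this]
  exact hS.preimage (continuous_orthMap ψ)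

theorem quasiSeparated_props (hF : F.IsQuasiSeparated) :
    (∀ (n : ICone) (ξ : F.obj (op n)) (S : Set (Fan.Orth n)), IsClosed S →
      (∀ v w : Fan.Orth n, v ∈ S → ∀ c : ℝ, 0 < c → w.1 = c • v.1 → w ∈ S) →
        IsClosed (Fan.P.mk ξ '' S)) ∧
    ∀ S : Set (Fan.P F), IsClosed S ↔
      ∀ (n : ICone) (ξ : F.obj (op n)), IsClosed (S ∩ Fan.P.cell ξ) := by
  have h1 : ∀ (n : ICone) (ξ : F.obj (op n)) (S : Set (Fan.Orth n)), IsClosed S →
      (∀ v w : Fan.Orth n, v ∈ S → ∀ c : ℝ, 0 < c → w.1 = c • v.1 → w ∈ S) →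
        IsClosed (Fan.P.mk ξ '' S) := by
    intro n ξ S hS hinv
    have hcl := (bounded_map_props (Fan.coneMap ξ) (isBoundedMap_coneMap hF ξ)).1 _
      (isClosed_mk_idCone_image S hS hinv)
    have : Fan.P.mk ξ '' S = Fan.P.map (Fan.coneMap ξ) ''
        (Fan.P.mk (F := uliftYoneda.{u}.obj n) (idCone n) '' S) := by
      rw [Set.image_image]
      refine Set.image_congr fun v _ => ?_
      exact mk_mem_range_coneMap ξ v
    rw [this]
    exact hcl
  refine ⟨h1, fun S => ⟨fun hS n ξ => ?_, fun h => ?_⟩⟩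
  · refine hS.inter ?_
    have : Fan.P.cell ξ = Fan.P.mk ξ '' Set.univ := by
      rw [Set.image_univ]
      rfl
    rw [this]
    exact h1 n ξ Set.univ isClosed_univ fun _ _ _ _ _ _ => Set.mem_univ _
  · rw [isClosed_iff]
    intro n ξ
    have : Fan.P.mk ξ ⁻¹' S = Fan.P.mk ξ ⁻¹' (S ∩ Fan.P.cell ξ) := by
      ext v
      simp only [Set.mem_preimage, Set.mem_inter_iff, iff_self_and]
      intro _
      exact ⟨v, rfl⟩
    rw [this]
    exact (h n ξ).preimage (continuous_mk ξ)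

theorem fin_one_eq (i : Fin Fan.one.dim) : i = ⟨0, Fan.one.dim.pos⟩ := by
  apply Fin.ext
  have := i.2
  have h1 : ((Fan.one.dim : ℕ+) : ℕ) = 1 := rfl
  show (i : ℕ) = 0
  omega

theorem sum_fin_one {M : Type*} [AddCommMonoid M] (f : Fin Fan.one.dim → M) :
    ∑ i, f i = f ⟨0, Fan.one.dim.pos⟩ := by
  rw [Finset.sum_eq_single ⟨0, Fan.one.dim.pos⟩]
  · intro b _ hb
    exact absurd (fin_one_eq b) hb
  · intro h
    exact absurd (Finset.mem_univ _) h

/-- The cone morphism `[1] ⟶ [n]` given by a nonzero nonnegative integer vector. -/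
def rayHom {n : ICone} (u : Fin n.dim → ℤ) (h0 : ∀ j, 0 ≤ u j) (hne : u ≠ 0) : Fan.one ⟶ n :=
  homOfFamily (fun _ => u) (fun _ j => h0 j) (by
    intro c hc i
    obtain ⟨j, hj⟩ : ∃ j, u j ≠ 0 := by
      by_contra h
      push Not at h
      exact hne (funext h)
    have := hc j
    rw [sum_fin_one] at this
    rcases mul_eq_zero.1 this with h | h
    · rw [fin_one_eq i]
      exact h
    · exact absurd h hj)

theorem rayHom_realMap {n : ICone} (u : Fin n.dim → ℤ) (h0 : ∀ j, 0 ≤ u j) (hne : u ≠ 0) :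
    (rayHom u h0 hne).realMap (Fan.Orth.ones Fan.one).1 = fun j => (u j : ℝ) := by
  funext j
  rw [rayHom, homOfFamily_realMap, sum_fin_one]
  simp [Fan.Orth.ones]

theorem isRational_mk_int {n : ICone} (ξ : F.obj (op n)) (w : Fan.Orth n) (u : Fin n.dim → ℤ)
    (hw : ∀ j, w.1 j = u j) : (Fan.P.mk ξ w).IsRational := by
  have h0 : ∀ j, 0 ≤ u j := fun j => by
    have := w.2.1 j
    rw [hw j] at this
    exact_mod_cast this
  have hne : u ≠ 0 := by
    rintro rfl
    apply w.2.2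
    funext j
    rw [hw j]
    simp
  refine ⟨F.map (rayHom u h0 hne).op ξ, ?_⟩
  refine (Quot.sound (Fan.Rel.glue (rayHom u h0 hne) ξ (Fan.Orth.ones Fan.one) w 1 one_pos ?_)).symm
  rw [rayHom_realMap, one_smul]
  funext j
  exact hw j

/-- A closed scale-invariant subset of the punctured orthant containing all integer points is
everything. -/
theorem eq_univ_of_int {n : ICone} (T : Set (Fan.Orth n)) (hT : IsClosed T)
    (hinv : ∀ v w : Fan.Orth n, v ∈ T → ∀ c : ℝ, 0 < c → w.1 = c • v.1 → w ∈ T)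
    (hint : ∀ (w : Fan.Orth n) (u : Fin n.dim → ℤ), (∀ j, w.1 j = u j) → w ∈ T) :
    T = Set.univ := by
  rw [Set.eq_univ_iff_forall]
  intro v
  obtain ⟨j₀, hj₀⟩ : ∃ j, v.1 j ≠ 0 := by
    by_contra h
    push Not at h
    exact v.2.2 (funext h)
  have hj₀pos : 0 < v.1 j₀ := lt_of_le_of_ne (v.2.1 j₀) (Ne.symm hj₀)
  -- integer approximations
  let U : ℕ → Fan.Orth n := fun m =>
    ⟨fun j => ((⌈v.1 j * ((m : ℝ) + 1)⌉₊ : ℕ) : ℝ), fun j => Nat.cast_nonneg _, fun h => by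
      have := congrFun h j₀
      simp only [Pi.zero_apply, Nat.cast_eq_zero, Nat.ceil_eq_zero] at this
      have hpos : 0 < v.1 j₀ * ((m : ℝ) + 1) := mul_pos hj₀pos (by positivity)
      linarith⟩
  have hU : ∀ m, U m ∈ T := fun m =>
    hint (U m) (fun j => ((⌈v.1 j * ((m : ℝ) + 1)⌉₊ : ℕ) : ℤ)) fun j => by
      simp [U]
  let Wm : ℕ → Fan.Orth n := fun m => smulOrth (1 / ((m : ℝ) + 1)) (by positivity) (U m)
  have hW : ∀ m, Wm m ∈ T := fun m => hinv (U m) (Wm m) (hU m) _ (by positivity) rfl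
  have hlim : Filter.Tendsto Wm Filter.atTop (nhds v) := by
    refine (tendsto_subtype_rng (p := fun v : Fin n.dim → ℝ => (∀ i, 0 ≤ v i) ∧ v ≠ 0)
      (f := Wm) (x := v)).2 ?_
    rw [tendsto_pi_nhds]
    intro j
    have h1 := (tendsto_nat_ceil_mul_div_atTop (R := ℝ) (v.2.1 j)).comp
      ((tendsto_natCast_atTop_atTop (R := ℝ)).comp (Filter.tendsto_add_atTop_nat 1))
    refine h1.congr fun m => ?_
    simp only [Function.comp_apply, Wm, smulOrth, U, Pi.smul_apply, smul_eq_mul, Nat.cast_add,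
      Nat.cast_one]
    rw [one_div, div_eq_mul_inv]
    ring_nf
  exact hT.mem_of_tendsto hlim (Filter.Eventually.of_forall hW)

theorem sum_pos_of_orth {n : ICone} (w : Fan.Orth n) : 0 < ∑ j, w.1 j := by
  obtain ⟨j₀, hj₀⟩ : ∃ j, w.1 j ≠ 0 := by
    by_contra h
    push Not at h
    exact w.2.2 (funext h)
  have hj₀pos : 0 < w.1 j₀ := lt_of_le_of_ne (w.2.1 j₀) (Ne.symm hj₀)
  exact lt_of_lt_of_le hj₀pos
    (Finset.single_le_sum (f := fun j => w.1 j) (fun j _ => w.2.1 j) (Finset.mem_univ j₀))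

/-- The set of vectors on which two cone morphisms are positively proportional is closed. -/
theorem isClosed_proportional {m k : ICone} (φ φ' : m ⟶ k) :
    IsClosed {y : Fan.Orth m | ∃ t : ℝ, 0 < t ∧ φ.realMap y.1 = t • φ'.realMap y.1} := by
  have : {y : Fan.Orth m | ∃ t : ℝ, 0 < t ∧ φ.realMap y.1 = t • φ'.realMap y.1}
      = {y : Fan.Orth m | (∑ j, φ'.realMap y.1 j) • φ.realMap y.1
          = (∑ j, φ.realMap y.1 j) • φ'.realMap y.1} := by
    ext y
    simp only [Set.mem_ofPred_eq]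
    have h1 : 0 < ∑ j, φ.realMap y.1 j := sum_pos_of_orth (orthMap φ y)
    have h2 : 0 < ∑ j, φ'.realMap y.1 j := sum_pos_of_orth (orthMap φ' y)
    constructor
    · rintro ⟨t, ht, h⟩
      have hs : ∑ j, φ.realMap y.1 j = t * ∑ j, φ'.realMap y.1 j := by
        rw [h, Finset.mul_sum]
        rfl
      rw [hs, h, smul_smul]
      congr 1
      ring
    · intro h
      refine ⟨(∑ j, φ.realMap y.1 j) / (∑ j, φ'.realMap y.1 j), div_pos h1 h2, ?_⟩
      rw [div_eq_inv_mul, ← smul_smul, ← h, smul_smul, inv_mul_cancel₀ h2.ne', one_smul]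
  rw [this]
  have hc1 : Continuous fun y : Fan.Orth m => φ.realMap y.1 :=
    (isClosedEmbedding_realMap φ).continuous.comp continuous_subtype_val
  have hc2 : Continuous fun y : Fan.Orth m => φ'.realMap y.1 :=
    (isClosedEmbedding_realMap φ').continuous.comp continuous_subtype_val
  have hs1 : Continuous fun y : Fan.Orth m => ∑ j, φ.realMap y.1 j :=
    continuous_finsetSum _ fun j _ => (continuous_apply j).comp hc1
  have hs2 : Continuous fun y : Fan.Orth m => ∑ j, φ'.realMap y.1 j :=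
    continuous_finsetSum _ fun j _ => (continuous_apply j).comp hc2
  exact isClosed_eq (hs2.smul hc1) (hs1.smul hc2)

/-- For a quasi-separated fan, the locus where two cones of the same dimension give the same point
is closed. -/
theorem isClosed_agree (hF : F.IsQuasiSeparated) {k : ICone} (τ τ' : F.obj (op k)) :
    IsClosed {a : Fan.Orth k | Fan.P.mk τ a = Fan.P.mk τ' a} := by
  classical
  obtain ⟨s, -, hs⟩ := finite_common F hF τ τ'
  have : {a : Fan.Orth k | Fan.P.mk τ a = Fan.P.mk τ' a}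
      = ⋃ e ∈ s, orthMap e.2.1 ''
        {y : Fan.Orth e.1 | ∃ t : ℝ, 0 < t ∧ e.2.1.realMap y.1 = t • e.2.2.realMap y.1} := by
    ext a
    simp only [Set.mem_ofPred_eq, Set.mem_iUnion, Set.mem_image, exists_prop]
    rw [hs a a]
    constructor
    · rintro ⟨e, he, y, c, c', hc, hc', h1, h2⟩
      refine ⟨e, he, smulOrth c hc y, ⟨c' / c, div_pos hc' hc, ?_⟩, ?_⟩
      · show e.2.1.realMap (c • y.1) = (c' / c) • e.2.2.realMap (c • y.1)
        rw [realMap_smul, realMap_smul, smul_smul, div_mul_cancel₀ _ hc.ne', ← h1, ← h2]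
      · apply Subtype.ext
        show e.2.1.realMap (c • y.1) = a.1
        rw [realMap_smul, h1]
    · rintro ⟨e, he, y, ⟨t, ht, hty⟩, rfl⟩
      refine ⟨e, he, y, 1, t, one_pos, ht, (one_smul _ _).symm, ?_⟩
      exact hty
  rw [this]
  exact Set.Finite.isClosed_biUnion s.finite_toSet fun e _ =>
    isClosed_orthMap_image _ _ (isClosed_proportional _ _)

theorem injective_iff_rational {G : Fan.{u}} (ψ : F ⟶ G) (hF : F.IsQuasiSeparated) :
    Function.Injective (Fan.P.map ψ) ↔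
      ∀ x y : Fan.P F, x.IsRational → y.IsRational → Fan.P.map ψ x = Fan.P.map ψ y → x = y := by
  constructor
  · intro h x y _ _ hxy
    exact h hxy
  · intro h x x' hxx'
    obtain ⟨n, σ, v, rfl⟩ := exists_mk x
    obtain ⟨n', σ', v', rfl⟩ := exists_mk x'
    rw [map_mk, map_mk] at hxx'
    obtain ⟨k, φ₁, φ₂, y, c₁, c₂, e, hc₁, hc₂, h₁, h₂⟩ := mk_eq_mk _ _ _ _ hxx'
    have e1 : ψ.app _ (F.map φ₁.op σ) = G.map φ₁.op (ψ.app _ σ) :=
      NatTrans.naturality_apply ψ φ₁.op σ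
    have e2 : ψ.app _ (F.map φ₂.op σ') = G.map φ₂.op (ψ.app _ σ') :=
      NatTrans.naturality_apply ψ φ₂.op σ'
    have hττ' : ψ.app _ (F.map φ₁.op σ) = ψ.app _ (F.map φ₂.op σ') := by rw [e1, e2, e]
    have hx : Fan.P.mk (F.map φ₁.op σ) y = Fan.P.mk σ v :=
      Quot.sound (Fan.Rel.glue φ₁ σ y v c₁ hc₁ h₁)
    have hx' : Fan.P.mk (F.map φ₂.op σ') y = Fan.P.mk σ' v' :=
      Quot.sound (Fan.Rel.glue φ₂ σ' y v' c₂ hc₂ h₂)
    rw [← hx, ← hx']
    have hD := eq_univ_of_int {a : Fan.Orth k | Fan.P.mk (F.map φ₁.op σ) a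
        = Fan.P.mk (F.map φ₂.op σ') a} (isClosed_agree hF _ _)
      (fun a b ha c hc hb => by
        simp only [Set.mem_ofPred_eq] at ha ⊢
        rw [← FanBasic.mk_smul _ a b c hc hb, ← FanBasic.mk_smul _ a b c hc hb]
        exact ha)
      (fun w u hw => by
        simp only [Set.mem_ofPred_eq]
        refine h _ _ (isRational_mk_int _ w u hw) (isRational_mk_int _ w u hw) ?_
        rw [map_mk, map_mk, hττ'])
    have : y ∈ {a : Fan.Orth k | Fan.P.mk (F.map φ₁.op σ) a = Fan.P.mk (F.map φ₂.op σ') a} := by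
      rw [hD]
      exact Set.mem_univ y
    exact this

/-- The set of vectors mapped by a cone morphism to a positive multiple of a fixed vector is
closed. -/
theorem isClosed_proportional_const {m k : ICone} (φ' : m ⟶ k) (w : Fan.Orth k) :
    IsClosed {y : Fan.Orth m | ∃ t : ℝ, 0 < t ∧ w.1 = t • φ'.realMap y.1} := by
  have : {y : Fan.Orth m | ∃ t : ℝ, 0 < t ∧ w.1 = t • φ'.realMap y.1}
      = {y : Fan.Orth m | (∑ j, φ'.realMap y.1 j) • w.1 = (∑ j, w.1 j) • φ'.realMap y.1} := by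
    ext y
    simp only [Set.mem_ofPred_eq]
    have h1 : 0 < ∑ j, w.1 j := sum_pos_of_orth w
    have h2 : 0 < ∑ j, φ'.realMap y.1 j := sum_pos_of_orth (orthMap φ' y)
    constructor
    · rintro ⟨t, ht, h⟩
      have hs : ∑ j, w.1 j = t * ∑ j, φ'.realMap y.1 j := by
        rw [h, Finset.mul_sum]
        rfl
      rw [hs, h, smul_smul]
      congr 1
      ring
    · intro h
      refine ⟨(∑ j, w.1 j) / (∑ j, φ'.realMap y.1 j), div_pos h1 h2, ?_⟩
      rw [div_eq_inv_mul, ← smul_smul, ← h, smul_smul, inv_mul_cancel₀ h2.ne', one_smul]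
  rw [this]
  have hc2 : Continuous fun y : Fan.Orth m => φ'.realMap y.1 :=
    (isClosedEmbedding_realMap φ').continuous.comp continuous_subtype_val
  have hs2 : Continuous fun y : Fan.Orth m => ∑ j, φ'.realMap y.1 j :=
    continuous_finsetSum _ fun j _ => (continuous_apply j).comp hc2
  have hcw : Continuous fun _ : Fan.Orth m => w.1 := continuous_const
  have hcs : Continuous fun _ : Fan.Orth m => ∑ j, w.1 j := continuous_const
  exact isClosed_eq (hs2.smul hcw) (hcs.smul hc2)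

/-- Points of the realization of a quasi-separated fan are closed. -/
theorem isClosed_singleton (hF : F.IsQuasiSeparated) (x : Fan.P F) : IsClosed ({x} : Set (Fan.P F)) := by
  classical
  obtain ⟨k, τ, w, rfl⟩ := exists_mk x
  rw [isClosed_iff]
  intro n ξ
  obtain ⟨s, -, hs⟩ := finite_common F hF ξ τ
  have : Fan.P.mk ξ ⁻¹' {Fan.P.mk τ w}
      = ⋃ e ∈ s, orthMap e.2.1 ''
        {y : Fan.Orth e.1 | ∃ t : ℝ, 0 < t ∧ w.1 = t • e.2.2.realMap y.1} := by
    ext v
    simp only [Set.mem_preimage, Set.mem_singleton_iff, Set.mem_iUnion, Set.mem_image,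
      Set.mem_ofPred_eq, exists_prop]
    rw [hs v w]
    constructor
    · rintro ⟨e, he, y, c, c', hc, hc', h1, h2⟩
      refine ⟨e, he, smulOrth c hc y, ⟨c' / c, div_pos hc' hc, ?_⟩, ?_⟩
      · show w.1 = (c' / c) • e.2.2.realMap (c • y.1)
        rw [realMap_smul, smul_smul, div_mul_cancel₀ _ hc.ne', ← h2]
      · apply Subtype.ext
        show e.2.1.realMap (c • y.1) = v.1
        rw [realMap_smul, h1]
    · rintro ⟨e, he, y, ⟨t, ht, hty⟩, rfl⟩
      exact ⟨e, he, y, 1, t, one_pos, ht, (one_smul _ _).symm, hty⟩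
  rw [this]
  exact Set.Finite.isClosed_biUnion s.finite_toSet fun e _ =>
    isClosed_orthMap_image _ _ (isClosed_proportional_const _ _)

theorem isClosed_of_finite (hF : F.IsQuasiSeparated) (S : Set (Fan.P F)) (hS : S.Finite) :
    IsClosed S := by
  have : S = ⋃ x ∈ S, {x} := by
    ext y
    simp
  rw [this]
  exact Set.Finite.isClosed_biUnion hS fun x _ => isClosed_singleton hF x

/-- A convergent sequence in the realization of a quasi-separated fan has infinitely many terms in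
one cell. -/
theorem exists_cell_infinite (hF : F.IsQuasiSeparated) (x : ℕ → Fan.P F) (x₀ : Fan.P F)
    (hx : Filter.Tendsto x Filter.atTop (nhds x₀)) :
    ∃ (n : ICone) (σ : F.obj (op n)), {j | x j ∈ Fan.P.cell σ}.Infinite := by
  by_contra hcon
  push Not at hcon
  have hfin : ∀ (n : ICone) (σ : F.obj (op n)), {j | x j ∈ Fan.P.cell σ}.Finite := by
    intro n σ
    exact hcon n σ
  obtain ⟨n₀, σ₀, v₀, rfl⟩ := exists_mk x₀
  obtain ⟨J₀, hJ₀⟩ := (hfin n₀ σ₀).bddAbove
  let S : Set (Fan.P F) := x '' {j | J₀ < j}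
  have hx₀S : Fan.P.mk σ₀ v₀ ∉ S := by
    rintro ⟨j, hj, hxj⟩
    have : j ∈ {j | x j ∈ Fan.P.cell σ₀} := by
      show x j ∈ Fan.P.cell σ₀
      rw [hxj]
      exact ⟨v₀, rfl⟩
    exact absurd (hJ₀ this) (not_le.2 hj)
  have hSclosed : IsClosed S := by
    rw [(quasiSeparated_props hF).2]
    intro n ξ
    refine isClosed_of_finite hF _ (Set.Finite.subset ((hfin n ξ).image x) ?_)
    rintro _ ⟨⟨j, -, rfl⟩, hj⟩
    exact ⟨j, hj, rfl⟩
  have h1 : ∀ᶠ j in Filter.atTop, x j ∈ Sᶜ := hx.eventually (hSclosed.isOpen_compl.mem_nhds hx₀S)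
  have h2 : ∀ᶠ j in Filter.atTop, J₀ < j := Filter.eventually_gt_atTop J₀
  obtain ⟨j, hj1, hj2⟩ := (h1.and h2).exists
  exact hj1 ⟨j, hj2, rfl⟩

/-- Normalization to the standard simplex. -/
noncomputable def nu {n : ICone} (w : Fan.Orth n) : Fan.Orth n :=
  smulOrth (∑ j, w.1 j)⁻¹ (inv_pos.2 (sum_pos_of_orth w)) w

theorem nu_val {n : ICone} (w : Fan.Orth n) : (nu w).1 = (∑ j, w.1 j)⁻¹ • w.1 := rfl

theorem mk_nu {n : ICone} (ξ : F.obj (op n)) (w : Fan.Orth n) :
    Fan.P.mk ξ (nu w) = Fan.P.mk ξ w := mk_smulOrth ξ _ _ w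

theorem nu_mem_stdSimplex {n : ICone} (w : Fan.Orth n) : (nu w).1 ∈ stdSimplex ℝ (Fin n.dim) := by
  refine ⟨(nu w).2.1, ?_⟩
  rw [nu_val]
  simp only [Pi.smul_apply, smul_eq_mul]
  rw [← Finset.mul_sum, inv_mul_cancel₀ (sum_pos_of_orth w).ne']

theorem nu_smul {n : ICone} (v w : Fan.Orth n) (c : ℝ) (hc : 0 < c) (h : w.1 = c • v.1) :
    nu w = nu v := by
  apply Subtype.ext
  rw [nu_val, nu_val, h]
  have : ∑ j, (c • v.1) j = c * ∑ j, v.1 j := by
    rw [Finset.mul_sum]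
    rfl
  rw [this, smul_smul]
  congr 1
  have hs : (∑ j, v.1 j) ≠ 0 := (sum_pos_of_orth v).ne'
  field_simp

theorem continuous_nu_val {n : ICone} : Continuous fun w : Fan.Orth n => (nu w).1 := by
  have h1 : Continuous fun w : Fan.Orth n => ∑ j, w.1 j :=
    continuous_finsetSum _ fun j _ => (continuous_apply j).comp continuous_subtype_val
  have h2 : Continuous fun w : Fan.Orth n => (∑ j, w.1 j)⁻¹ :=
    h1.inv₀ fun w => (sum_pos_of_orth w).ne'
  exact h2.smul continuous_subtype_val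

theorem tendsto_orth {n : ICone} {α : Type*} {l : Filter α} (f : α → Fan.Orth n)
    (v : Fan.Orth n) : Filter.Tendsto f l (nhds v) ↔
      Filter.Tendsto (fun a => (f a).1) l (nhds v.1) :=
  tendsto_subtype_rng (p := fun v : Fin n.dim → ℝ => (∀ i, 0 ≤ v i) ∧ v ≠ 0) (f := f) (x := v)

/-- Lifting a subsequence of a convergent sequence to a single rational simplex. -/
theorem exists_lift_subseq (hF : F.IsQuasiSeparated) (x : ℕ → Fan.P F) (x₀ : Fan.P F)
    (hx : Filter.Tendsto x Filter.atTop (nhds x₀)) :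
    ∃ (n : ICone) (σ : F.obj (op n)) (r : ℕ → ℕ) (v : ℕ → Fan.Orth n) (v₀ : Fan.Orth n),
      StrictMono r ∧ (∀ j, Fan.P.mk σ (v j) = x (r j)) ∧ Fan.P.mk σ v₀ = x₀ ∧
        Filter.Tendsto v Filter.atTop (nhds v₀) := by
  classical
  obtain ⟨n, σ, hI⟩ := exists_cell_infinite hF x x₀ hx
  have : Infinite {j | x j ∈ Fan.P.cell σ} := hI.to_subtype
  let r₀ : ℕ ↪o ℕ := Nat.orderEmbeddingOfSet {j | x j ∈ Fan.P.cell σ}
  have hr₀ : ∀ j, x (r₀ j) ∈ Fan.P.cell σ := fun j => by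
    have : r₀ j ∈ Set.range r₀ := Set.mem_range_self j
    rw [Nat.orderEmbeddingOfSet_range] at this
    exact this
  choose w hw using hr₀
  obtain ⟨a, ha, φ, hφ, hlim⟩ := (isCompact_stdSimplex (𝕜 := ℝ) (Fin n.dim)).tendsto_subseq
    (fun j => nu_mem_stdSimplex (w j))
  have hane : a ≠ 0 := by
    rintro rfl
    have := ha.2
    simp at this
  let v₀ : Fan.Orth n := ⟨a, ha.1, hane⟩
  have hr : StrictMono (fun j => r₀ (φ j)) := r₀.strictMono.comp hφ
  have hvlim : Filter.Tendsto (fun j => nu (w (φ j))) Filter.atTop (nhds v₀) :=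
    (tendsto_orth _ v₀).2 hlim
  refine ⟨n, σ, fun j => r₀ (φ j), fun j => nu (w (φ j)), v₀, hr,
    fun j => by rw [mk_nu]; exact hw (φ j), ?_, hvlim⟩
  -- the limit maps to `x₀`
  by_contra hne
  have hΦ : IsClosed (Fan.P.mk σ ⁻¹' {x₀}) :=
    (isClosed_singleton hF x₀).preimage (continuous_mk σ)
  have hv₀ : v₀ ∈ (Fan.P.mk σ ⁻¹' {x₀})ᶜ := hne
  obtain ⟨O, hO, hOeq⟩ := isOpen_induced_iff.1 hΦ.isOpen_compl
  have haO : a ∈ O := by
    exact (Set.ext_iff.1 hOeq v₀).2 hv₀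
  obtain ⟨ε, hε, hball⟩ := Metric.isOpen_iff.1 hO a haO
  let N : Set (Fan.Orth n) := {u | dist (nu u).1 a ≤ ε / 2}
  have hNclosed : IsClosed N :=
    isClosed_le (continuous_nu_val.dist continuous_const) continuous_const
  have hNinv : ∀ u u' : Fan.Orth n, u ∈ N → ∀ c : ℝ, 0 < c → u'.1 = c • u.1 → u' ∈ N := by
    intro u u' hu c hc hcu
    show dist (nu u').1 a ≤ ε / 2
    rw [nu_smul u u' c hc hcu]
    exact hu
  have hNimg : IsClosed (Fan.P.mk σ '' N) := (quasiSeparated_props hF).1 n σ N hNclosed hNinv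
  have hx₀N : x₀ ∉ Fan.P.mk σ '' N := by
    rintro ⟨u, hu, hux⟩
    have h1 : Fan.P.mk σ (nu u) = x₀ := by rw [mk_nu]; exact hux
    have h2 : (nu u).1 ∈ O := hball (by
      rw [Metric.mem_ball]
      exact lt_of_le_of_lt hu (by linarith))
    have h3 : nu u ∈ (Fan.P.mk σ ⁻¹' {x₀})ᶜ := (Set.ext_iff.1 hOeq (nu u)).1 h2
    exact h3 h1
  have hsub : Filter.Tendsto (fun j => x (r₀ (φ j))) Filter.atTop (nhds x₀) :=
    hx.comp hr.tendsto_atTop
  have h1 : ∀ᶠ j in Filter.atTop, x (r₀ (φ j)) ∈ (Fan.P.mk σ '' N)ᶜ :=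
    hsub.eventually (hNimg.isOpen_compl.mem_nhds hx₀N)
  have h2 : ∀ᶠ j in Filter.atTop, dist (nu (w (φ j))).1 a < ε / 2 := by
    have := (Metric.tendsto_nhds.1 hlim) (ε / 2) (by linarith)
    exact this
  obtain ⟨j, hj1, hj2⟩ := (h1.and h2).exists
  exact hj1 ⟨w (φ j), hj2.le, hw (φ j)⟩

/-- Rational simplices are compact. -/
theorem isCompact_cell {n : ICone} (ξ : F.obj (op n)) : IsCompact (Fan.P.cell ξ) := by
  let Δ : Set (Fan.Orth n) := {v | v.1 ∈ stdSimplex ℝ (Fin n.dim)}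
  have hΔ : IsCompact Δ := by
    have hemb : Topology.IsEmbedding (Subtype.val : Fan.Orth n → (Fin n.dim → ℝ)) :=
      Topology.IsEmbedding.subtypeVal
    refine (hemb.isCompact_iff (s := Δ)).2 ?_
    have : Subtype.val '' Δ = stdSimplex ℝ (Fin n.dim) := by
      ext a
      constructor
      · rintro ⟨v, hv, rfl⟩
        exact hv
      · intro ha
        have hane : a ≠ 0 := by
          rintro rfl
          have := ha.2
          simp at this
        exact ⟨⟨a, ha.1, hane⟩, ha, rfl⟩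
    exact this ▸ isCompact_stdSimplex (𝕜 := ℝ) (Fin n.dim)
  have : Fan.P.cell ξ = Fan.P.mk ξ '' Δ := by
    ext x
    constructor
    · rintro ⟨v, rfl⟩
      exact ⟨nu v, nu_mem_stdSimplex v, mk_nu ξ v⟩
    · rintro ⟨v, -, rfl⟩
      exact ⟨v, rfl⟩
  rw [this]
  exact hΔ.image (continuous_mk ξ)

end Groth.Agent.Lib.Helper6.FanTop
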