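import Mathlib
import Groth.Prelude.Def_W4c6instabfans3FanCvx
import Groth.Agent.Lib.Helper6.FanTop

/-!
# Convexity on the projective realization of a formal fan (helper6)
-/

set_option autoImplicit false
open CategoryTheory Opposite Instab
universe u v

namespace Groth.Agent.Lib.Helper6.FanCvx

open Finset Limits FanEq FanBdd FanTop

variable {F : Fan.{u}}

/-- A nonempty open scale-invariant subset of the punctured orthant contains an integer point. -/
theorem exists_int_mem {n : ICone} (O : Set (Fan.Orth n)) (hO : IsOpen O) (hne : O.Nonempty)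
    (hinv : ∀ v w : Fan.Orth n, w ∈ O → ∀ c : ℝ, 0 < c → w.1 = c • v.1 → v ∈ O) :
    ∃ (w : Fan.Orth n) (u : Fin n.dim → ℤ), (∀ j, w.1 j = u j) ∧ w ∈ O := by
  by_contra hcon
  push Not at hcon
  have hT := eq_univ_of_int Oᶜ hO.isClosed_compl
    (fun v w hv c hc hw hwO => hv (hinv v w hwO c hc hw))
    (fun w u hw hwO => hcon w u hw hwO)
  obtain ⟨v, hv⟩ := hne
  have : v ∈ Oᶜ := by rw [hT]; exact Set.mem_univ v
  exact this hv

/-- Rational points are dense in a realizable subset. -/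
theorem exists_rational_mem (U : Set (Fan.P F)) (hU : Fan.IsRealizable U) (O : Set U)
    (hO : IsOpen O) (hne : O.Nonempty) : ∃ z : U, z ∈ O ∧ (z : Fan.P F).IsRational := by
  obtain ⟨S, rfl⟩ := hU
  obtain ⟨z, hz⟩ := hne
  obtain ⟨n, σ, v, hσ, hzv⟩ := mem_range_ι.1 z.2
  have hcell : ∀ w : Fan.Orth n, Fan.P.mk σ w ∈ Set.range (Fan.P.map S.ι) := fun w =>
    mem_range_ι.2 ⟨n, σ, w, hσ, rfl⟩
  let q : Fan.Orth n → Set.range (Fan.P.map S.ι) := fun w => ⟨Fan.P.mk σ w, hcell w⟩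
  have hq : Continuous q := (continuous_mk σ).subtype_mk _
  obtain ⟨w, u, hwu, hw⟩ := exists_int_mem (q ⁻¹' O) (hO.preimage hq)
    ⟨v, by
      show q v ∈ O
      have : q v = z := Subtype.ext hzv.symm
      rw [this]
      exact hz⟩
    (fun a b hb c hc hab => by
      show q a ∈ O
      have : q a = q b := Subtype.ext (FanBasic.mk_smul σ a b c hc hab)
      rw [this]
      exact hb)
  exact ⟨q w, hw, isRational_mk_int σ w u hwu⟩

theorem fin_two_cases (j : Fin Fan.two.dim) : j = 0 ∨ j = 1 := by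
  have : ((Fan.two.dim : ℕ+) : ℕ) = 2 := rfl
  rcases j with ⟨j, hj⟩
  have hj' : j < 2 := by omega
  interval_cases j
  · left; rfl
  · right; rfl

theorem one_ne_zero_fin : (1 : Fin Fan.two.dim) ≠ 0 := by decide

/-- The path `s ↦ (1, |s|)` in the punctured orthant of `ℝ^2`. -/
def path (s : ℝ) : Fan.Orth Fan.two :=
  ⟨fun j => if j = 0 then 1 else |s|, fun j => by
    show 0 ≤ if j = 0 then (1 : ℝ) else |s|
    split_ifs
    · exact zero_le_one
    · exact abs_nonneg s, fun h => by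
    have := congrFun h 0
    change (if (0 : Fin Fan.two.dim) = 0 then (1 : ℝ) else |s|) = 0 at this
    rw [if_pos rfl] at this
    exact one_ne_zero this⟩

theorem continuous_path : Continuous path := by
  refine Continuous.subtype_mk ?_ _
  refine continuous_pi fun j => ?_
  rcases fin_two_cases j with rfl | rfl
  · simp only [if_pos]
    exact continuous_const
  · simp only [if_neg one_ne_zero_fin]
    exact continuous_abs

theorem basis_apply (i j : Fin Fan.two.dim) :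
    (Fan.Orth.basis Fan.two i).1 j = if j = i then (1 : ℝ) else 0 := rfl

theorem path_apply (s : ℝ) (j : Fin Fan.two.dim) :
    (path s).1 j = if j = 0 then 1 else |s| := rfl

theorem path_zero : path 0 = Fan.Orth.basis Fan.two 0 := by
  apply Subtype.ext
  funext j
  rw [path_apply, basis_apply]
  rcases fin_two_cases j with rfl | rfl
  · rw [if_pos rfl, if_pos rfl]
  · rw [if_neg one_ne_zero_fin, if_neg one_ne_zero_fin, abs_zero]

theorem path_pos (s : ℝ) (hs : 0 < s) :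
    (path s).1 = (1 : ℝ) • (Fan.Orth.basis Fan.two 0).1 + s • (Fan.Orth.basis Fan.two 1).1 := by
  funext j
  rw [Pi.add_apply, Pi.smul_apply, Pi.smul_apply, path_apply, basis_apply, basis_apply]
  rcases fin_two_cases j with rfl | rfl
  · rw [if_pos rfl, if_pos rfl, if_neg (Ne.symm one_ne_zero_fin)]
    simp
  · rw [if_neg one_ne_zero_fin, if_neg one_ne_zero_fin, if_pos rfl, abs_of_pos hs]
    simp

theorem basis_not_prop :
    ¬ ∃ c : ℝ, (Fan.Orth.basis Fan.two 1).1 = c • (Fan.Orth.basis Fan.two 0).1 := by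
  rintro ⟨c, hc⟩
  have := congrFun hc 1
  rw [Pi.smul_apply, basis_apply, basis_apply, if_pos rfl, if_neg one_ne_zero_fin] at this
  simp at this

/-- If along the segment from `x` the function exceeds `Φ x`, then `x` is not a local maximum. -/
theorem not_isLocalMax_of_path (U : Set (Fan.P F)) {Γ : Type v} [LinearOrder Γ] (Φ : U → Γ)
    (τ : F.obj (op Fan.two)) (hτ : Fan.P.cell τ ⊆ U) (x : U)
    (hx : Fan.P.mk τ (Fan.Orth.basis Fan.two 0) = x)
    (h : ∀ s : ℝ, 0 < s → Φ x < Φ ⟨Fan.P.mk τ (path s), hτ ⟨_, rfl⟩⟩) : ¬ IsLocalMax Φ x := by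
  intro hmax
  let p : ℝ → U := fun s => ⟨Fan.P.mk τ (path s), hτ ⟨_, rfl⟩⟩
  have hp : Continuous p := ((continuous_mk τ).comp continuous_path).subtype_mk _
  have hp0 : p 0 = x := Subtype.ext (by
    show Fan.P.mk τ (path 0) = x
    rw [path_zero, hx])
  have h1 : ∀ᶠ s in nhds (0 : ℝ), Φ (p s) ≤ Φ x := by
    have ht : Filter.Tendsto p (nhds 0) (nhds x) := by
      rw [← hp0]
      exact hp.tendsto 0
    exact ht.eventually hmax
  have h2 : ∀ᶠ s in nhdsWithin (0 : ℝ) (Set.Ioi 0), Φ (p s) ≤ Φ x :=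
    h1.filter_mono nhdsWithin_le_nhds
  have h3 : ∀ᶠ s in nhdsWithin (0 : ℝ) (Set.Ioi 0), s ∈ Set.Ioi (0 : ℝ) := self_mem_nhdsWithin
  obtain ⟨s, hs1, hs2⟩ := (h2.and h3).exists
  exact absurd (h s hs2) (not_lt.2 hs1)

theorem local_max_props (U : Set (Fan.P F)) (hU : Fan.IsConvex U) {Γ : Type v} [LinearOrder Γ]
    (Φ : U → Γ) (hΦ : Fan.IsQuasiConcaveOn U Φ) (hlsc : ∀ c : Γ, IsClosed {x : U | Φ x ≤ c}) :
    (∀ x : U, (x : Fan.P F).IsRational → IsLocalMax Φ x → ∀ y : U, Φ y ≤ Φ x) ∧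
    (Fan.IsStrictQuasiConcaveOn U Φ → ∀ x y : U, (x : Fan.P F).IsRational →
      (y : Fan.P F).IsRational → IsLocalMax Φ x → IsLocalMax Φ y → x = y) := by
  obtain ⟨-, hreal, hseg⟩ := hU
  constructor
  · intro x hxr hmax y
    by_contra hlt
    push Not at hlt
    have hO : IsOpen {z : U | Φ x < Φ z} := by
      have : {z : U | Φ x < Φ z} = {z : U | Φ z ≤ Φ x}ᶜ := by
        ext z
        simp
      rw [this]
      exact (hlsc (Φ x)).isOpen_compl
    obtain ⟨y', hy', hy'r⟩ := exists_rational_mem U hreal _ hO ⟨y, hlt⟩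
    have hy'lt : Φ x < Φ y' := hy'
    have hne : (x : Fan.P F) ≠ y' := by
      intro h
      have : x = y' := Subtype.ext h
      rw [this] at hy'lt
      exact lt_irrefl _ hy'lt
    obtain ⟨τ, hτ, hτ0, hτ1⟩ := hseg x y' x.2 y'.2 hxr hy'r hne
    refine not_isLocalMax_of_path U Φ τ hτ x hτ0 (fun s hs => ?_) hmax
    have hq := hΦ Fan.two τ (Fan.Orth.basis Fan.two 0) (path s) (Fan.Orth.basis Fan.two 1)
      (hτ ⟨_, rfl⟩) (hτ ⟨_, rfl⟩) (hτ ⟨_, rfl⟩) basis_not_prop
      ⟨1, s, one_pos, hs, path_pos s hs⟩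
    have e0 : (⟨Fan.P.mk τ (Fan.Orth.basis Fan.two 0), hτ ⟨_, rfl⟩⟩ : U) = x := Subtype.ext hτ0
    have e1 : (⟨Fan.P.mk τ (Fan.Orth.basis Fan.two 1), hτ ⟨_, rfl⟩⟩ : U) = y' := Subtype.ext hτ1
    rw [e0, e1, min_eq_left hy'lt.le] at hq
    rcases hq.1.lt_or_eq with h | h
    · exact h
    · exact absurd (hq.2 h.symm) hy'lt.ne
  · intro hstrict x y hxr hyr hmaxx hmaxy
    by_contra hne
    have hne' : (x : Fan.P F) ≠ y := fun h => hne (Subtype.ext h)
    -- key: for a pair (a, b) with Φ a ≤ Φ b, `a` is not a local max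
    have key : ∀ a b : U, (a : Fan.P F).IsRational → (b : Fan.P F).IsRational →
        (a : Fan.P F) ≠ b → Φ a ≤ Φ b → ¬ IsLocalMax Φ a := by
      intro a b har hbr hab hle
      obtain ⟨τ, hτ, hτ0, hτ1⟩ := hseg a b a.2 b.2 har hbr hab
      refine not_isLocalMax_of_path U Φ τ hτ a hτ0 fun s hs => ?_
      have hq := hstrict Fan.two τ (Fan.Orth.basis Fan.two 0) (path s) (Fan.Orth.basis Fan.two 1)
        (hτ ⟨_, rfl⟩) (hτ ⟨_, rfl⟩) (hτ ⟨_, rfl⟩) basis_not_prop
        ⟨1, s, one_pos, hs, path_pos s hs⟩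
      have e0 : (⟨Fan.P.mk τ (Fan.Orth.basis Fan.two 0), hτ ⟨_, rfl⟩⟩ : U) = a := Subtype.ext hτ0
      have e1 : (⟨Fan.P.mk τ (Fan.Orth.basis Fan.two 1), hτ ⟨_, rfl⟩⟩ : U) = b := Subtype.ext hτ1
      rw [e0, e1, min_eq_left hle] at hq
      exact hq
    rcases le_total (Φ x) (Φ y) with h | h
    · exact key x y hxr hyr hne' h hmaxx
    · exact key y x hyr hxr (Ne.symm hne') h hmaxy

end Groth.Agent.Lib.Helper6.FanCvx
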