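import Mathlib
import Groth.Prelude.Def_W4c6instabfans3FanCvx
import Groth.Agent.Lib.Helper6.FanCvx

/-!
# Uniqueness of local maxima of strictly quasi-concave functions on compact convex subsets of
the projective realization of a quasi-separated formal fan (helper6)

Strategy: a local maximum `x` with `Φ x ≤ Φ y`, `y ≠ x`, is an accumulation point of points `z`
with `Φ z = Φ x` lying in a neighbourhood on which `Φ ≤ Φ x` (boundary argument with rational
segments).  By coherence of the topology the accumulation happens inside one rational simplex,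
where the segment from `x` to a nearby such `z` contradicts strict quasi-concavity.
-/

set_option autoImplicit false
open CategoryTheory Opposite Instab
universe u v

namespace Groth.Agent.Lib.Helper6.FanMax

open Finset Limits FanEq FanBdd FanTop FanCvx

variable {F : Fan.{u}}

/-- The segment `t ↦ (|1 - t|, |t|)` in the punctured orthant of `ℝ^2`. -/
def seg (t : ℝ) : Fan.Orth Fan.two :=
  ⟨fun j => if j = 0 then |1 - t| else |t|, fun j => by
    show 0 ≤ if j = 0 then |1 - t| else |t|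
    split_ifs
    · exact abs_nonneg _
    · exact abs_nonneg t, fun h => by
    have h0 := congrFun h 0
    have h1 := congrFun h 1
    change (if (0 : Fin Fan.two.dim) = 0 then |1 - t| else |t|) = 0 at h0
    change (if (1 : Fin Fan.two.dim) = 0 then |1 - t| else |t|) = 0 at h1
    rw [if_pos rfl] at h0
    rw [if_neg one_ne_zero_fin] at h1
    rw [abs_eq_zero] at h0 h1
    linarith⟩

theorem seg_apply (t : ℝ) (j : Fin Fan.two.dim) :
    (seg t).1 j = if j = 0 then |1 - t| else |t| := rfl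

theorem continuous_seg : Continuous seg := by
  refine Continuous.subtype_mk ?_ _
  refine continuous_pi fun j => ?_
  rcases fin_two_cases j with rfl | rfl
  · simp only [if_pos]
    exact (continuous_const.sub continuous_id').abs
  · simp only [if_neg one_ne_zero_fin]
    exact continuous_abs

theorem seg_zero : seg 0 = Fan.Orth.basis Fan.two 0 := by
  apply Subtype.ext
  funext j
  rw [seg_apply, basis_apply]
  rcases fin_two_cases j with rfl | rfl
  · rw [if_pos rfl, if_pos rfl, sub_zero, abs_one]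
  · rw [if_neg one_ne_zero_fin, if_neg one_ne_zero_fin, abs_zero]

theorem seg_one : seg 1 = Fan.Orth.basis Fan.two 1 := by
  apply Subtype.ext
  funext j
  rw [seg_apply, basis_apply]
  rcases fin_two_cases j with rfl | rfl
  · rw [if_pos rfl, if_neg (Ne.symm one_ne_zero_fin), sub_self, abs_zero]
  · rw [if_neg one_ne_zero_fin, if_pos rfl, abs_one]

theorem seg_mid (t : ℝ) (h0 : 0 < t) (h1 : t < 1) :
    (seg t).1 = (1 - t) • (Fan.Orth.basis Fan.two 0).1 + t • (Fan.Orth.basis Fan.two 1).1 := by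
  funext j
  rw [Pi.add_apply, Pi.smul_apply, Pi.smul_apply, seg_apply, basis_apply, basis_apply]
  rcases fin_two_cases j with rfl | rfl
  · rw [if_pos rfl, if_pos rfl, if_neg (Ne.symm one_ne_zero_fin), abs_of_pos (by linarith)]
    simp
  · rw [if_neg one_ne_zero_fin, if_neg one_ne_zero_fin, if_pos rfl, abs_of_pos h0]
    simp

/-- Boundary lemma: an open set containing `x` whose closure misses `y` (with `Φ x ≤ Φ y`) has a
boundary point where `Φ ≥ Φ x`. -/
theorem exists_boundary_ge (U : Set (Fan.P F)) (hUc : IsCompact U) (hU : Fan.IsConvex U)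
    {Γ : Type v} [LinearOrder Γ] [TopologicalSpace Γ] [OrderTopology Γ]
    (Φ : U → Γ) (hΦc : Continuous Φ) (hΦ : Fan.IsStrictQuasiConcaveOn U Φ) (x y : U)
    (hxy : Φ x ≤ Φ y) (W : Set U) (hW : IsOpen W) (hxW : x ∈ W) (hyW : y ∉ closure W) :
    ∃ b : U, b ∈ closure W ∧ b ∉ W ∧ Φ x ≤ Φ b := by
  have : CompactSpace U := isCompact_iff_compactSpace.mp hUc
  by_contra hcon
  push Not at hcon
  obtain ⟨-, hreal, hseg⟩ := hU
  obtain ⟨B, hB⟩ : ∃ B : Set U, B = closure W ∩ Wᶜ := ⟨_, rfl⟩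
  have hBclosed : IsClosed B := by
    rw [hB]
    exact isClosed_closure.inter hW.isClosed_compl
  have hBcompact : IsCompact B := hBclosed.isCompact
  have hBlt : ∀ b ∈ B, Φ b < Φ x := by
    intro b hb
    rw [hB] at hb
    exact hcon b hb.1 hb.2
  obtain ⟨G, hGo, hxG, hyG, hG⟩ : ∃ G : Set U, IsOpen G ∧ x ∈ G ∧ y ∈ G ∧
      ∀ z ∈ G, ∀ b ∈ B, Φ b < Φ z := by
    by_cases hne : B.Nonempty
    · obtain ⟨b₀, hb₀, hmax⟩ := hBcompact.exists_isMaxOn hne hΦc.continuousOn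
      refine ⟨{z | Φ b₀ < Φ z}, isOpen_lt continuous_const hΦc, hBlt b₀ hb₀,
        lt_of_lt_of_le (hBlt b₀ hb₀) hxy, ?_⟩
      intro z hz b hb
      exact lt_of_le_of_lt (isMaxOn_iff.mp hmax b hb) hz
    · refine ⟨Set.univ, isOpen_univ, Set.mem_univ _, Set.mem_univ _, ?_⟩
      intro z _ b hb
      exact absurd ⟨b, hb⟩ hne
  obtain ⟨x', hx'mem, hx'r⟩ := exists_rational_mem U hreal (W ∩ G) (hW.inter hGo) ⟨x, hxW, hxG⟩
  obtain ⟨y', hy'mem, hy'r⟩ := exists_rational_mem U hreal ((closure W)ᶜ ∩ G)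
    (isClosed_closure.isOpen_compl.inter hGo) ⟨y, hyW, hyG⟩
  have hne : (x' : Fan.P F) ≠ y' := by
    intro h
    have h1 : x' = y' := Subtype.ext h
    have h2 : x' ∈ closure W := subset_closure hx'mem.1
    rw [h1] at h2
    exact hy'mem.1 h2
  obtain ⟨τ, hτ, hτ0, hτ1⟩ := hseg x' y' x'.2 y'.2 hx'r hy'r hne
  obtain ⟨p, hp⟩ : ∃ p : ℝ → U, p = fun t => ⟨Fan.P.mk τ (seg t), hτ ⟨_, rfl⟩⟩ := ⟨_, rfl⟩
  have hpc : Continuous p := by
    rw [hp]
    exact ((continuous_mk τ).comp continuous_seg).subtype_mk _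
  have hp0 : p 0 = x' := by
    rw [hp]
    apply Subtype.ext
    show Fan.P.mk τ (seg 0) = x'
    rw [seg_zero, hτ0]
  have hp1 : p 1 = y' := by
    rw [hp]
    apply Subtype.ext
    show Fan.P.mk τ (seg 1) = y'
    rw [seg_one, hτ1]
  obtain ⟨t, ht, htc, htW⟩ : ∃ t ∈ Set.Icc (0 : ℝ) 1, p t ∈ closure W ∧ p t ∉ W := by
    by_contra hno
    push Not at hno
    have hsub : Set.Icc (0 : ℝ) 1 ⊆ p ⁻¹' W ∪ p ⁻¹' (closure W)ᶜ := by
      intro t ht
      by_cases h : p t ∈ closure W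
      · left
        exact hno t ht h
      · right
        exact h
    have hdisj : Disjoint (p ⁻¹' W) (p ⁻¹' (closure W)ᶜ) := by
      rw [Set.disjoint_left]
      intro t h1 h2
      exact h2 (subset_closure h1)
    have h0mem : (Set.Icc (0 : ℝ) 1 ∩ p ⁻¹' W).Nonempty := by
      refine ⟨0, ⟨le_refl 0, zero_le_one⟩, ?_⟩
      show p 0 ∈ W
      rw [hp0]
      exact hx'mem.1
    have hall := isPreconnected_Icc.subset_left_of_subset_union (hW.preimage hpc)
      (isClosed_closure.isOpen_compl.preimage hpc) hdisj hsub h0mem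
    have h1W : p 1 ∈ W := hall ⟨zero_le_one, le_refl 1⟩
    rw [hp1] at h1W
    exact hy'mem.1 (subset_closure h1W)
  have ht0 : t ≠ 0 := by
    intro h
    rw [h, hp0] at htW
    exact htW hx'mem.1
  have ht1 : t ≠ 1 := by
    intro h
    rw [h, hp1] at htc
    exact hy'mem.1 htc
  have ht0' : 0 < t := lt_of_le_of_ne ht.1 (Ne.symm ht0)
  have ht1' : t < 1 := lt_of_le_of_ne ht.2 ht1
  have hq := hΦ Fan.two τ (Fan.Orth.basis Fan.two 0) (seg t) (Fan.Orth.basis Fan.two 1)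
    (hτ ⟨_, rfl⟩) (hτ ⟨_, rfl⟩) (hτ ⟨_, rfl⟩) basis_not_prop
    ⟨1 - t, t, by linarith, ht0', seg_mid t ht0' ht1'⟩
  have e0 : (⟨Fan.P.mk τ (Fan.Orth.basis Fan.two 0), hτ ⟨_, rfl⟩⟩ : U) = x' := Subtype.ext hτ0
  have e1 : (⟨Fan.P.mk τ (Fan.Orth.basis Fan.two 1), hτ ⟨_, rfl⟩⟩ : U) = y' := Subtype.ext hτ1
  have e2 : (⟨Fan.P.mk τ (seg t), hτ ⟨_, rfl⟩⟩ : U) = p t := by
    rw [hp]
  rw [e0, e1, e2] at hq
  have hbB : p t ∈ B := by
    rw [hB]
    exact ⟨htc, htW⟩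
  have h1 : Φ (p t) < Φ x' := hG x' hx'mem.2 (p t) hbB
  have h2 : Φ (p t) < Φ y' := hG y' hy'mem.2 (p t) hbB
  exact lt_irrefl _ (lt_trans (lt_min h1 h2) hq)

/-- A local maximum of a continuous strictly quasi-concave function on a compact convex subset is
a strict global maximum. -/
theorem not_le_of_isLocalMax (hF : F.IsQuasiSeparated) [T2Space (Fan.P F)]
    (U : Set (Fan.P F)) (hUc : IsCompact U)
    (hU : Fan.IsConvex U) {Γ : Type v} [LinearOrder Γ] [TopologicalSpace Γ] [OrderTopology Γ]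
    (Φ : U → Γ) (hΦc : Continuous Φ) (hΦ : Fan.IsStrictQuasiConcaveOn U Φ) (x y : U)
    (hx : IsLocalMax Φ x) (hne : x ≠ y) (hxy : Φ x ≤ Φ y) : False := by
  have : CompactSpace U := isCompact_iff_compactSpace.mp hUc
  have hx' : {z | Φ z ≤ Φ x} ∈ nhds x := hx
  obtain ⟨N, hNsub, hNo, hxN⟩ := mem_nhds_iff.mp hx'
  have hNle : ∀ z ∈ N, Φ z ≤ Φ x := fun z hz => hNsub hz
  have hN1 : N ∩ {y}ᶜ ∈ nhds x := (hNo.inter isOpen_compl_singleton).mem_nhds ⟨hxN, hne⟩
  obtain ⟨C, hCn, hCc, hCsub⟩ := exists_mem_nhds_isClosed_subset hN1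
  obtain ⟨M', hM'⟩ : ∃ M' : Set U, M' = C ∩ {z | Φ x ≤ Φ z} := ⟨_, rfl⟩
  have hM'closed : IsClosed M' := by
    rw [hM']
    exact hCc.inter (isClosed_le continuous_const hΦc)
  have hM'eq : ∀ z ∈ M', Φ z = Φ x := by
    intro z hz
    rw [hM'] at hz
    exact le_antisymm (hNle z (hCsub hz.1).1) hz.2
  -- `x` is an accumulation point of `M'`
  have hacc : ∀ O : Set U, IsOpen O → x ∈ O → ∃ z ∈ M', z ≠ x ∧ z ∈ O := by
    intro O hO hxO
    have h1 : O ∩ interior C ∈ nhds x :=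
      (hO.inter isOpen_interior).mem_nhds ⟨hxO, mem_interior_iff_mem_nhds.mpr hCn⟩
    obtain ⟨C₂, hC₂n, hC₂c, hC₂sub⟩ := exists_mem_nhds_isClosed_subset h1
    have hxW : x ∈ interior C₂ := mem_interior_iff_mem_nhds.mpr hC₂n
    have hclW : closure (interior C₂) ⊆ C₂ := closure_minimal interior_subset hC₂c
    have hyW : y ∉ closure (interior C₂) := by
      intro hy
      have h2 := hCsub (interior_subset (hC₂sub (hclW hy)).2)
      exact h2.2 (Set.mem_singleton y)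
    obtain ⟨b, hbc, hbW, hbΦ⟩ := exists_boundary_ge U hUc hU Φ hΦc hΦ x y hxy (interior C₂)
      isOpen_interior hxW hyW
    have hbC₂ : b ∈ C₂ := hclW hbc
    refine ⟨b, ?_, ?_, (hC₂sub hbC₂).1⟩
    · rw [hM']
      exact ⟨interior_subset (hC₂sub hbC₂).2, hbΦ⟩
    · intro h
      rw [h] at hbW
      exact hbW hxW
  -- coherence
  obtain ⟨T₀, hT₀⟩ : ∃ T₀ : Set (Fan.P F), T₀ = Subtype.val '' (M' \ {x}) := ⟨_, rfl⟩
  have hT₀nc : ¬ IsClosed T₀ := by
    intro hcl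
    have hxT : (x : Fan.P F) ∉ T₀ := by
      rw [hT₀]
      rintro ⟨z, hz, hzx⟩
      exact hz.2 (Set.mem_singleton_iff.mpr (Subtype.ext hzx))
    have hO : IsOpen ((Subtype.val : U → Fan.P F) ⁻¹' T₀ᶜ) :=
      hcl.isOpen_compl.preimage continuous_subtype_val
    obtain ⟨z, hzM, hzx, hzO⟩ := hacc _ hO hxT
    apply hzO
    rw [hT₀]
    exact ⟨z, ⟨hzM, hzx⟩, rfl⟩
  have hcoh := (quasiSeparated_props hF).2 T₀
  have hex : ∃ (n : ICone) (ξ : F.obj (op n)), ¬ IsClosed (T₀ ∩ Fan.P.cell ξ) := by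
    by_contra hno
    push Not at hno
    exact hT₀nc (hcoh.mpr hno)
  obtain ⟨n, ξ, hTnc⟩ := hex
  obtain ⟨T, hT⟩ : ∃ T : Set (Fan.P F), T = T₀ ∩ Fan.P.cell ξ := ⟨_, rfl⟩
  rw [← hT] at hTnc
  have hKclosed : IsClosed (Subtype.val '' M' : Set (Fan.P F)) :=
    (hM'closed.isCompact.image continuous_subtype_val).isClosed
  have hcellclosed : IsClosed (Fan.P.cell ξ) := (isCompact_cell ξ).isClosed
  have hTsub : T ⊆ Subtype.val '' M' ∩ Fan.P.cell ξ := by
    rw [hT, hT₀]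
    rintro z ⟨⟨z', hz', rfl⟩, hzc⟩
    exact ⟨⟨z', hz'.1, rfl⟩, hzc⟩
  have hclT : closure T ⊆ Subtype.val '' M' ∩ Fan.P.cell ξ :=
    closure_minimal hTsub (hKclosed.inter hcellclosed)
  have hxclT : (x : Fan.P F) ∈ closure T := by
    by_contra hxn
    apply hTnc
    rw [← closure_subset_iff_isClosed]
    intro z hz
    obtain ⟨⟨z', hz'M, rfl⟩, hzc⟩ := hclT hz
    rw [hT, hT₀]
    refine ⟨⟨z', ⟨hz'M, ?_⟩, rfl⟩, hzc⟩
    intro hzx
    rw [Set.mem_singleton_iff] at hzx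
    rw [hzx] at hz
    exact hxn hz
  -- lift to the simplex of `ξ`
  obtain ⟨Tξ, hTξ⟩ : ∃ Tξ : Set (Fan.Orth n), Tξ = Fan.P.mk ξ ⁻¹' T := ⟨_, rfl⟩
  have hscale : ∀ v w : Fan.Orth n, v ∈ closure Tξ → ∀ c : ℝ, 0 < c → w.1 = c • v.1 →
      w ∈ closure Tξ := by
    intro v w hv c hc hw
    have hweq : w = smulOrth c hc v := Subtype.ext hw
    have hcont : Continuous (fun y : Fan.Orth n => smulOrth c hc y) := by
      have h0 : Continuous (fun y : Fan.Orth n => c • y.1) :=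
        (continuous_const_smul c).comp continuous_subtype_val
      exact Continuous.subtype_mk h0 (fun y => (smulOrth c hc y).2)
    have h1 : smulOrth c hc v ∈ closure ((fun y : Fan.Orth n => smulOrth c hc y) '' Tξ) :=
      image_closure_subset_closure_image hcont ⟨v, hv, rfl⟩
    have h2 : (fun y : Fan.Orth n => smulOrth c hc y) '' Tξ ⊆ Tξ := by
      rintro _ ⟨a, ha, rfl⟩
      rw [hTξ] at ha ⊢
      show Fan.P.mk ξ (smulOrth c hc a) ∈ T
      rw [mk_smulOrth]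
      exact ha
    rw [hweq]
    exact closure_mono h2 h1
  have himg : IsClosed (Fan.P.mk ξ '' closure Tξ) :=
    (quasiSeparated_props hF).1 n ξ _ isClosed_closure hscale
  have hTimg : T ⊆ Fan.P.mk ξ '' closure Tξ := by
    intro z hz
    have hzc : z ∈ Fan.P.cell ξ := by
      rw [hT] at hz
      exact hz.2
    obtain ⟨w, rfl⟩ := hzc
    refine ⟨w, subset_closure ?_, rfl⟩
    rw [hTξ]
    exact hz
  obtain ⟨v, hvcl, hvx⟩ := closure_minimal hTimg himg hxclT
  -- the neighbourhood `N` pulled back to the simplex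
  obtain ⟨O', hO'o, hO'eq⟩ := isOpen_induced_iff.mp hNo
  have hxO' : (x : Fan.P F) ∈ O' := by
    have h1 : x ∈ (Subtype.val : U → Fan.P F) ⁻¹' O' := by
      rw [hO'eq]
      exact hxN
    exact h1
  have hVo : IsOpen (Fan.P.mk ξ ⁻¹' O') := hO'o.preimage (continuous_mk ξ)
  obtain ⟨O2, hO2o, hO2eq⟩ := isOpen_induced_iff.mp hVo
  have hvO2 : v.1 ∈ O2 := by
    have h2 : v ∈ Fan.P.mk ξ ⁻¹' O' := by
      show Fan.P.mk ξ v ∈ O'
      rw [hvx]
      exact hxO'
    have h1 : v ∈ (Subtype.val : Fan.Orth n → (Fin n.dim → ℝ)) ⁻¹' O2 :=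
      (Set.ext_iff.mp hO2eq v).mpr h2
    exact h1
  obtain ⟨ε, hε, hball⟩ := Metric.isOpen_iff.mp hO2o v.1 hvO2
  have hballo : IsOpen ((Subtype.val : Fan.Orth n → (Fin n.dim → ℝ)) ⁻¹' Metric.ball v.1 ε) :=
    Metric.isOpen_ball.preimage continuous_subtype_val
  obtain ⟨w, hwball, hwT⟩ := mem_closure_iff.mp hvcl _ hballo (Metric.mem_ball_self hε)
  have hwT' : Fan.P.mk ξ w ∈ T := by
    rw [hTξ] at hwT
    exact hwT
  have hwT₀ : Fan.P.mk ξ w ∈ T₀ := by
    rw [hT] at hwT'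
    exact hwT'.1
  rw [hT₀] at hwT₀
  obtain ⟨z', ⟨hz'M, hz'x⟩, hz'eq⟩ := hwT₀
  have hz'ne : z' ≠ x := hz'x
  have hnp : ¬ ∃ c : ℝ, w.1 = c • v.1 := by
    rintro ⟨c, hc⟩
    obtain ⟨i, hi⟩ := Function.ne_iff.mp w.2.2
    have hwi : 0 < w.1 i := lt_of_le_of_ne (w.2.1 i) (fun h => hi h.symm)
    have hcpos : 0 < c := by
      by_contra hcn
      push Not at hcn
      have h1 : w.1 i = c * v.1 i := by
        rw [hc]
        rfl
      have h2 : c * v.1 i ≤ 0 := mul_nonpos_of_nonpos_of_nonneg hcn (v.2.1 i)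
      linarith
    have h3 := FanBasic.mk_smul ξ v w c hcpos hc
    apply hz'ne
    apply Subtype.ext
    rw [hz'eq, ← h3, hvx]
  obtain ⟨uu, huu⟩ : ∃ uu : Fan.Orth n, uu.1 = (1 / 2 : ℝ) • v.1 + (1 / 2 : ℝ) • w.1 := by
    refine ⟨⟨(1 / 2 : ℝ) • v.1 + (1 / 2 : ℝ) • w.1, ?_, ?_⟩, rfl⟩
    · intro i
      show 0 ≤ (1 / 2 : ℝ) * v.1 i + (1 / 2 : ℝ) * w.1 i
      have hv0 := v.2.1 i
      have hw0 := w.2.1 i
      linarith
    · intro h
      obtain ⟨i, hi⟩ := Function.ne_iff.mp v.2.2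
      have h1 : (1 / 2 : ℝ) * v.1 i + (1 / 2 : ℝ) * w.1 i = 0 := congrFun h i
      have hv0 := v.2.1 i
      have hw0 := w.2.1 i
      have h2 : v.1 i = 0 := by linarith
      exact hi h2
  have huball : uu.1 ∈ Metric.ball v.1 ε := by
    rw [huu]
    exact (convex_ball v.1 ε) (Metric.mem_ball_self hε) hwball (by norm_num) (by norm_num)
      (by norm_num)
  have huO' : Fan.P.mk ξ uu ∈ O' := by
    have h1 : uu ∈ (Subtype.val : Fan.Orth n → (Fin n.dim → ℝ)) ⁻¹' O2 := hball huball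
    exact (Set.ext_iff.mp hO2eq uu).mp h1
  have hvU : Fan.P.mk ξ v ∈ U := by
    rw [hvx]
    exact x.2
  have hwU : Fan.P.mk ξ w ∈ U := by
    rw [← hz'eq]
    exact z'.2
  have huU : Fan.P.mk ξ uu ∈ U :=
    hU.1 n ξ v uu w hvU hwU ⟨1 / 2, 1 / 2, by norm_num, by norm_num, huu⟩
  have huN : (⟨Fan.P.mk ξ uu, huU⟩ : U) ∈ N := by
    rw [← hO'eq]
    exact huO'
  have hle : Φ ⟨Fan.P.mk ξ uu, huU⟩ ≤ Φ x := hNle _ huN
  have hq := hΦ n ξ v uu w hvU huU hwU hnp ⟨1 / 2, 1 / 2, by norm_num, by norm_num, huu⟩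
  have e0 : (⟨Fan.P.mk ξ v, hvU⟩ : U) = x := Subtype.ext hvx
  have e2 : (⟨Fan.P.mk ξ w, hwU⟩ : U) = z' := Subtype.ext hz'eq.symm
  rw [e0, e2, hM'eq z' hz'M, min_self] at hq
  exact lt_irrefl _ (lt_of_lt_of_le hq hle)

end Groth.Agent.Lib.Helper6.FanMax
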