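import Mathlib
import Groth.Prelude.Def_W4c6instabfans3Fan
import Groth.Agent.Lib.Helper6.FanEq

/-!
# Real extensions of integer linear maps, common refinements, conic Carathéodory (helper6)
-/

set_option autoImplicit false
open CategoryTheory Opposite Instab

namespace Groth.Agent.Lib.Helper6.IntLin

open Finset FanEq

variable {n m N : ℕ}

/-- The real extension of an integer linear map (matrix action). -/
def realExt (L : (Fin n → ℤ) →ₗ[ℤ] (Fin N → ℤ)) (v : Fin n → ℝ) : Fin N → ℝ :=
  fun j => ∑ i, (L (Pi.single i 1) j : ℝ) * v i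

theorem lin_apply (L : (Fin n → ℤ) →ₗ[ℤ] (Fin N → ℤ)) (w : Fin n → ℤ) (j : Fin N) :
    L w j = ∑ l, w l * L (Pi.single l 1) j := by
  have hw : w = ∑ l, w l • (Pi.single l (1 : ℤ) : Fin n → ℤ) := by
    funext i
    simp [Finset.sum_apply, Pi.single_apply]
  conv_lhs => rw [hw]
  rw [map_sum]
  simp only [map_smul, Finset.sum_apply, Pi.smul_apply, smul_eq_mul]

theorem realExt_comp (L : (Fin m → ℤ) →ₗ[ℤ] (Fin N → ℤ)) (M : (Fin n → ℤ) →ₗ[ℤ] (Fin m → ℤ))
    (v : Fin n → ℝ) : realExt (L.comp M) v = realExt L (realExt M v) := by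
  funext j
  simp only [realExt, LinearMap.comp_apply]
  have : ∀ i, ((L (M (Pi.single i 1)) j : ℤ) : ℝ)
      = ∑ l, ((M (Pi.single i 1) l : ℤ) : ℝ) * ((L (Pi.single l 1) j : ℤ) : ℝ) := by
    intro i
    rw [lin_apply L]
    push_cast
    rfl
  simp only [this, Finset.sum_mul, Finset.mul_sum]
  rw [Finset.sum_comm]
  refine Finset.sum_congr rfl fun l _ => Finset.sum_congr rfl fun i _ => ?_
  ring

/-- The real extension as a linear map. -/
def realExtLin (L : (Fin n → ℤ) →ₗ[ℤ] (Fin N → ℤ)) : (Fin n → ℝ) →ₗ[ℝ] (Fin N → ℝ) where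
  toFun := realExt L
  map_add' v w := by
    funext j
    simp only [realExt, Pi.add_apply, mul_add, Finset.sum_add_distrib]
  map_smul' c v := by
    funext j
    simp only [realExt, Pi.smul_apply, smul_eq_mul, Finset.mul_sum, RingHom.id_apply]
    refine Finset.sum_congr rfl fun i _ => ?_
    ring

theorem realExt_smul (L : (Fin n → ℤ) →ₗ[ℤ] (Fin N → ℤ)) (c : ℝ) (v : Fin n → ℝ) :
    realExt L (c • v) = c • realExt L v := (realExtLin L).map_smul c v

theorem realExt_int (L : (Fin n → ℤ) →ₗ[ℤ] (Fin N → ℤ)) (u : Fin n → ℤ) :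
    realExt L (fun i => (u i : ℝ)) = fun j => (L u j : ℝ) := by
  funext j
  rw [lin_apply L u j]
  simp only [realExt]
  push_cast
  exact Finset.sum_congr rfl fun i _ => mul_comm _ _

theorem realExt_eq_zero (L : (Fin n → ℤ) →ₗ[ℤ] (Fin N → ℤ)) (hL : Function.Injective L)
    (x : Fin n → ℝ) (hx : realExt L x = 0) : x = 0 := by
  classical
  obtain ⟨d, r, q, hr, hq⟩ := RatCone.exists_rat_decomp x
  have hker : ∀ l, q l = 0 := by
    intro l
    have hrow : ∀ j : Fin N, ∑ i, ((L (Pi.single i 1) j : ℤ) : ℚ) * q l i = 0 := by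
      intro j
      refine RatCone.rat_decomp_functional r q hr x hq
        (fun i => ((L (Pi.single i 1) j : ℤ) : ℚ)) ?_ l
      have := congrFun hx j
      simpa [realExt] using this
    obtain ⟨D, u, hD, hu⟩ := RatCone.exists_int_scale (q l)
    have hDq : (D : ℚ) ≠ 0 := by exact_mod_cast hD.ne'
    have hu0 : L u = 0 := by
      funext j
      rw [lin_apply]
      have : ((∑ i, u i * L (Pi.single i 1) j : ℤ) : ℚ) = 0 := by
        push_cast
        simp only [hu]
        have := hrow j
        calc ∑ i, (D : ℚ) * q l i * ((L (Pi.single i 1) j : ℤ) : ℚ)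
            = (D : ℚ) * ∑ i, ((L (Pi.single i 1) j : ℤ) : ℚ) * q l i := by
              rw [Finset.mul_sum]
              exact Finset.sum_congr rfl fun i _ => by ring
          _ = 0 := by rw [this, mul_zero]
      exact_mod_cast this
    have hu1 : u = 0 := hL (by rw [hu0, map_zero])
    funext i
    have := hu i
    rw [hu1] at this
    simp only [Pi.zero_apply, Int.cast_zero] at this
    rcases mul_eq_zero.1 this.symm with h | h
    · exact absurd h hDq
    · exact h
  funext i
  rw [hq i]
  simp [hker]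

theorem realExt_injective (L : (Fin n → ℤ) →ₗ[ℤ] (Fin N → ℤ)) (hL : Function.Injective L) :
    Function.Injective (realExt L) := by
  intro x y hxy
  have : (realExtLin L) (x - y) = 0 := by
    rw [map_sub]
    exact sub_eq_zero.2 hxy
  exact sub_eq_zero.1 (realExt_eq_zero L hL _ this)

theorem continuous_realExt (L : (Fin n → ℤ) →ₗ[ℤ] (Fin N → ℤ)) : Continuous (realExt L) :=
  (realExtLin L).continuous_of_finiteDimensional

/-- The integer matrix whose kernel cone is the fibre product of two integer linear maps. -/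
def fibMat {k k' : ℕ} (L : (Fin k → ℤ) →ₗ[ℤ] (Fin N → ℤ)) (L' : (Fin k' → ℤ) →ₗ[ℤ] (Fin N → ℤ)) :
    Fin N → (Fin k ⊕ Fin k') → ℤ :=
  fun j s => Sum.elim (fun i => L (Pi.single i 1) j) (fun i => - L' (Pi.single i 1) j) s

theorem fibMat_sum {k k' : ℕ} (L : (Fin k → ℤ) →ₗ[ℤ] (Fin N → ℤ))
    (L' : (Fin k' → ℤ) →ₗ[ℤ] (Fin N → ℤ)) (w : Fin k ⊕ Fin k' → ℤ) (j : Fin N) :
    ∑ s, fibMat L L' j s * w s
      = L (fun i => w (Sum.inl i)) j - L' (fun i => w (Sum.inr i)) j := by
  rw [Fintype.sum_sum_type, lin_apply L, lin_apply L']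
  simp only [fibMat, Sum.elim_inl, Sum.elim_inr, neg_mul, Finset.sum_neg_distrib]
  rw [sub_eq_add_neg]
  congr 1
  · exact Finset.sum_congr rfl fun i _ => mul_comm _ _
  · congr 1
    exact Finset.sum_congr rfl fun i _ => mul_comm _ _

theorem fibMat_sum_real {k k' : ℕ} (L : (Fin k → ℤ) →ₗ[ℤ] (Fin N → ℤ))
    (L' : (Fin k' → ℤ) →ₗ[ℤ] (Fin N → ℤ)) (y : Fin k → ℝ) (y' : Fin k' → ℝ) (j : Fin N) :
    ∑ s, (fibMat L L' j s : ℝ) * Sum.elim y y' s = realExt L y j - realExt L' y' j := by
  rw [Fintype.sum_sum_type]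
  simp only [fibMat, Sum.elim_inl, Sum.elim_inr, realExt, Int.cast_neg, neg_mul,
    Finset.sum_neg_distrib]
  ring

/-- Common refinement of two integer simplicial cones in `ℤ^N` at a common real point. -/
theorem exists_common_refinement {k k' : ICone} (L : (Fin k.dim → ℤ) →ₗ[ℤ] (Fin N → ℤ))
    (L' : (Fin k'.dim → ℤ) →ₗ[ℤ] (Fin N → ℤ)) (hL : Function.Injective L)
    (hL' : Function.Injective L')
    (y : Fin k.dim → ℝ) (y' : Fin k'.dim → ℝ) (hy : ∀ i, 0 ≤ y i) (hy' : ∀ i, 0 ≤ y' i)
    (hne : y ≠ 0) (h : realExt L y = realExt L' y') :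
    ∃ (m : ICone) (α : m ⟶ k) (β : m ⟶ k') (z : Fin m.dim → ℝ),
      L.comp α.toLin = L'.comp β.toLin ∧ (∀ i, 0 < z i) ∧ α.realMap z = y ∧ β.realMap z = y' := by
  classical
  have hx0 : ∀ s, 0 ≤ Sum.elim y y' s := by
    rintro (i | i)
    · exact hy i
    · exact hy' i
  have hA : ∀ j, ∑ s, (fibMat L L' j s : ℝ) * Sum.elim y y' s = 0 := by
    intro j
    rw [fibMat_sum_real, h, sub_self]
  obtain ⟨d, u, t, ht, hu0, huA, -, hind, hsum⟩ :=
    RatCone.exists_decomp (fibMat L L') _ (Sum.elim y y') rfl hx0 hA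
  have hd : 0 < d := by
    rcases Nat.eq_zero_or_pos d with h0 | h0
    · subst h0
      exfalso
      apply hne
      funext i
      have := hsum (Sum.inl i)
      simpa using this
    · exact h0
  obtain ⟨m, rfl⟩ : ∃ m : ICone, (m.dim : ℕ) = d := ⟨⟨⟨d, hd⟩⟩, rfl⟩
  have hrel : ∀ i, L (fun l => u i (Sum.inl l)) = L' (fun l => u i (Sum.inr l)) := by
    intro i
    funext j
    have := huA i j
    rw [fibMat_sum] at this
    exact sub_eq_zero.1 this
  have hrel' : ∀ c : Fin m.dim → ℤ,
      L (fun l => ∑ i, c i * u i (Sum.inl l)) = L' (fun l => ∑ i, c i * u i (Sum.inr l)) := by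
    intro c
    have e1 : (fun l => ∑ i, c i * u i (Sum.inl l))
        = ∑ i, c i • (fun l => u i (Sum.inl l)) := by
      funext l
      simp [Finset.sum_apply]
    have e2 : (fun l => ∑ i, c i * u i (Sum.inr l))
        = ∑ i, c i • (fun l => u i (Sum.inr l)) := by
      funext l
      simp [Finset.sum_apply]
    rw [e1, e2, map_sum, map_sum]
    refine Finset.sum_congr rfl fun i _ => ?_
    rw [map_smul, map_smul, hrel i]
  let a : Fin m.dim → Fin k.dim → ℤ := fun i l => u i (Sum.inl l)
  let b : Fin m.dim → Fin k'.dim → ℤ := fun i l => u i (Sum.inr l)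
  have ha_ind : ∀ c : Fin m.dim → ℤ, (∀ j, ∑ i, c i * a i j = 0) → ∀ i, c i = 0 := by
    intro c hc
    refine hind c ?_
    have h1 := hrel' c
    have h2 : (fun l => ∑ i, c i * u i (Sum.inl l)) = 0 := by
      funext l
      exact hc l
    rw [h2, map_zero] at h1
    have h3 : (fun l => ∑ i, c i * u i (Sum.inr l)) = 0 :=
      hL' (by rw [← h1, map_zero])
    rintro (l | l)
    · exact hc l
    · exact congrFun h3 l
  have hb_ind : ∀ c : Fin m.dim → ℤ, (∀ j, ∑ i, c i * b i j = 0) → ∀ i, c i = 0 := by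
    intro c hc
    refine hind c ?_
    have h1 := hrel' c
    have h2 : (fun l => ∑ i, c i * u i (Sum.inr l)) = 0 := by
      funext l
      exact hc l
    rw [h2, map_zero] at h1
    have h3 : (fun l => ∑ i, c i * u i (Sum.inl l)) = 0 :=
      hL (by rw [h1, map_zero])
    rintro (l | l)
    · exact congrFun h3 l
    · exact hc l
  refine ⟨m, homOfFamily a (fun i j => hu0 i _) ha_ind, homOfFamily b (fun i j => hu0 i _) hb_ind,
    t, ?_, ht, ?_, ?_⟩
  · apply LinearMap.ext
    intro c
    show L (Fintype.linearCombination ℤ a c) = L' (Fintype.linearCombination ℤ b c)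
    have e1 : Fintype.linearCombination ℤ a c = fun l => ∑ i, c i * u i (Sum.inl l) := by
      funext l
      simp [Fintype.linearCombination_apply, Finset.sum_apply, a]
    have e2 : Fintype.linearCombination ℤ b c = fun l => ∑ i, c i * u i (Sum.inr l) := by
      funext l
      simp [Fintype.linearCombination_apply, Finset.sum_apply, b]
    rw [e1, e2]
    exact hrel' c
  · funext j
    rw [homOfFamily_realMap]
    have := hsum (Sum.inl j)
    simp only [Sum.elim_inl] at this
    rw [this]
    exact Finset.sum_congr rfl fun i _ => mul_comm _ _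
  · funext j
    rw [homOfFamily_realMap]
    have := hsum (Sum.inr j)
    simp only [Sum.elim_inr] at this
    rw [this]
    exact Finset.sum_congr rfl fun i _ => mul_comm _ _

/-- Conic Carathéodory: a positive combination can be rewritten as a positive combination of a
linearly independent subfamily. -/
theorem conic_caratheodory {E : Type*} [AddCommGroup E] [Module ℝ E] {ι : Type*} [DecidableEq ι]
    (g : ι → E) :
    ∀ (k : ℕ) (s : Finset ι) (c : ι → ℝ), s.card = k → (∀ i ∈ s, 0 < c i) →
      ∃ (t : Finset ι) (d : ι → ℝ), t ⊆ s ∧ (∀ i ∈ t, 0 < d i) ∧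
        LinearIndependent ℝ (fun i : t => g i) ∧ ∑ i ∈ t, d i • g i = ∑ i ∈ s, c i • g i := by
  intro k
  induction k using Nat.strong_induction_on with
  | _ k ih =>
  intro s c hk hc
  by_cases hli : LinearIndependent ℝ (fun i : s => g i)
  · exact ⟨s, c, Finset.Subset.refl s, hc, hli, rfl⟩
  · rw [Fintype.linearIndependent_iff] at hli
    push Not at hli
    obtain ⟨lam0, hlam0, i₁, hi₁⟩ := hli
    -- extend to a function on ι
    let lam1 : ι → ℝ := fun i => if h : i ∈ s then lam0 ⟨i, h⟩ else 0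
    have hsum1 : ∑ i ∈ s, lam1 i • g i = 0 := by
      rw [← hlam0, ← Finset.sum_coe_sort s (fun i => lam1 i • g i)]
      refine Finset.sum_congr rfl fun i _ => ?_
      simp [lam1, i.2]
    have hne1 : lam1 i₁ ≠ 0 := by
      simpa [lam1, i₁.2] using hi₁
    -- arrange a positive coefficient
    obtain ⟨lam, hsum, i₂, hi₂s, hi₂⟩ : ∃ lam : ι → ℝ, ∑ i ∈ s, lam i • g i = 0 ∧
        ∃ i ∈ s, 0 < lam i := by
      rcases lt_or_gt_of_ne hne1 with h | h
      · refine ⟨fun i => - lam1 i, ?_, i₁, i₁.2, by simpa using h⟩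
        simp only [neg_smul, Finset.sum_neg_distrib, hsum1, neg_zero]
      · exact ⟨lam1, hsum1, i₁, i₁.2, h⟩
    set P : Finset ι := s.filter fun i => 0 < lam i with hP
    have hPne : P.Nonempty := ⟨i₂, by simp [hP, hi₂s, hi₂]⟩
    obtain ⟨i₀, hi₀P, hmin⟩ := Finset.exists_min_image P (fun i => c i / lam i) hPne
    have hi₀s : i₀ ∈ s := (Finset.mem_filter.1 hi₀P).1
    have hlam₀ : 0 < lam i₀ := (Finset.mem_filter.1 hi₀P).2
    set θ : ℝ := c i₀ / lam i₀ with hθ
    have hθpos : 0 < θ := div_pos (hc i₀ hi₀s) hlam₀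
    set c' : ι → ℝ := fun i => c i - θ * lam i with hc'
    have hc'0 : ∀ i ∈ s, 0 ≤ c' i := by
      intro i hi
      by_cases hl : 0 < lam i
      · have hiP : i ∈ P := by simp [hP, hi, hl]
        have := hmin i hiP
        have h2 : θ * lam i ≤ c i := by
          rw [← le_div_iff₀ hl]
          exact this
        simp only [hc']
        linarith
      · push Not at hl
        have : θ * lam i ≤ 0 := mul_nonpos_of_nonneg_of_nonpos hθpos.le hl
        have := hc i hi
        simp only [hc']
        linarith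
    have hc'i₀ : c' i₀ = 0 := by
      simp only [hc', hθ]
      field_simp
      ring
    set s' : Finset ι := s.filter fun i => 0 < c' i with hs'
    have hs's : s' ⊆ s := Finset.filter_subset _ _
    have hcard : s'.card < k := by
      rw [← hk]
      refine Finset.card_lt_card ?_
      rw [Finset.ssubset_iff_of_subset hs's]
      exact ⟨i₀, hi₀s, by simp [hs', hc'i₀]⟩
    have hsum' : ∑ i ∈ s', c' i • g i = ∑ i ∈ s, c i • g i := by
      have h1 : ∑ i ∈ s', c' i • g i = ∑ i ∈ s, c' i • g i := by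
        refine Finset.sum_subset hs's fun i hi hni => ?_
        have h0 : c' i = 0 := by
          have hge := hc'0 i hi
          have hnot : ¬ 0 < c' i := fun h => hni (by simp [hs', hi, h])
          linarith
        rw [h0, zero_smul]
      rw [h1]
      simp only [hc', sub_smul, Finset.sum_sub_distrib, mul_smul]
      rw [← Finset.smul_sum, hsum, smul_zero, sub_zero]
    obtain ⟨t, d, hts', hd, hli', hsumt⟩ := ih _ hcard s' c' rfl
      (fun i hi => (Finset.mem_filter.1 hi).2)
    exact ⟨t, d, hts'.trans hs's, hd, hli', hsumt.trans hsum'⟩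

/-- The real vector of an integer vector. -/
def castV (g : Fin N → ℤ) : Fin N → ℝ := fun j => (g j : ℝ)

/-- The cone generated by a finite set of integer vectors. -/
def coneOf (G : Finset (Fin N → ℤ)) : Set (Fin N → ℝ) :=
  {x | ∃ c : (Fin N → ℤ) → ℝ, (∀ g, 0 ≤ c g) ∧ x = Finset.sum G fun g => c g • fun j => (g j : ℝ)}

theorem coneOf_mono {G G' : Finset (Fin N → ℤ)} (h : G ⊆ G') : coneOf G ⊆ coneOf G' := by
  classical
  rintro x ⟨c, hc, rfl⟩
  refine ⟨fun g => if g ∈ G then c g else 0, fun g => by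
    dsimp only
    split_ifs <;> simp [hc g], ?_⟩
  rw [← Finset.sum_subset h]
  · refine Finset.sum_congr rfl fun g hg => ?_
    simp [hg]
  · intro g _ hg
    simp [hg]

theorem coneOf_smul {G : Finset (Fin N → ℤ)} {x : Fin N → ℝ} (hx : x ∈ coneOf G) (a : ℝ)
    (ha : 0 ≤ a) : a • x ∈ coneOf G := by
  obtain ⟨c, hc, rfl⟩ := hx
  refine ⟨fun g => a * c g, fun g => mul_nonneg ha (hc g), ?_⟩
  rw [Finset.smul_sum]
  refine Finset.sum_congr rfl fun g _ => ?_
  rw [smul_smul]

/-- Carathéodory for `coneOf`. -/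
theorem coneOf_caratheodory {G : Finset (Fin N → ℤ)} {x : Fin N → ℝ} (hx : x ∈ coneOf G) :
    ∃ (t : Finset (Fin N → ℤ)) (d : (Fin N → ℤ) → ℝ), t ⊆ G ∧ (∀ g ∈ t, 0 < d g) ∧
      LinearIndependent ℝ (fun g : t => castV (g : Fin N → ℤ)) ∧
      x = ∑ g ∈ t, d g • castV g := by
  classical
  obtain ⟨c, hc, rfl⟩ := hx
  set s := G.filter fun g => 0 < c g with hs
  have h1 : (Finset.sum G fun g => c g • fun j => (g j : ℝ)) = ∑ g ∈ s, c g • castV g := by
    symm
    refine Finset.sum_subset (Finset.filter_subset _ _) fun g hg hgs => ?_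
    have : c g = 0 := by
      have hnot : ¬ 0 < c g := fun h => hgs (by simp [hs, hg, h])
      have := hc g
      linarith
    rw [this, zero_smul]
  obtain ⟨t, d, hts, hd, hli, hsum⟩ := conic_caratheodory (fun g : Fin N → ℤ => castV g) _ s c rfl
    (fun g hg => (Finset.mem_filter.1 hg).2)
  exact ⟨t, d, hts.trans (Finset.filter_subset _ _), hd, hli, by rw [h1, hsum]⟩

theorem isClosed_coneOf_of_li (t : Finset (Fin N → ℤ))
    (hli : LinearIndependent ℝ (fun g : t => castV (g : Fin N → ℤ))) : IsClosed (coneOf t) := by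
  classical
  let Λ : (t → ℝ) →ₗ[ℝ] (Fin N → ℝ) := Fintype.linearCombination ℝ (fun g : t => castV g)
  have hinj : LinearMap.ker Λ = ⊥ := by
    rw [LinearMap.ker_eq_bot']
    intro d hd
    funext g
    exact Fintype.linearIndependent_iff.1 hli d (by
      simpa [Λ, Fintype.linearCombination_apply] using hd) g
  have hemb := LinearMap.isClosedEmbedding_of_injective hinj
  have hO : IsClosed {d : t → ℝ | ∀ g, 0 ≤ d g} := by
    have : {d : t → ℝ | ∀ g, 0 ≤ d g} = ⋂ g, {d | 0 ≤ d g} := by
      ext d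
      simp
    rw [this]
    exact isClosed_iInter fun g => isClosed_le continuous_const (continuous_apply g)
  have himg : coneOf t = Λ '' {d : t → ℝ | ∀ g, 0 ≤ d g} := by
    ext x
    constructor
    · rintro ⟨c, hc, rfl⟩
      refine ⟨fun g => c g, fun g => hc g, ?_⟩
      simp only [Λ, Fintype.linearCombination_apply]
      rw [← Finset.sum_coe_sort t (fun g => c g • fun j => (g j : ℝ))]
      rfl
    · rintro ⟨d, hd, rfl⟩
      refine ⟨fun g => if h : g ∈ t then d ⟨g, h⟩ else 0, fun g => by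
        dsimp only
        split_ifs
        · exact hd _
        · exact le_rfl, ?_⟩
      simp only [Λ, Fintype.linearCombination_apply]
      rw [← Finset.sum_coe_sort t]
      refine Finset.sum_congr rfl fun g _ => ?_
      simp [g.2]
      rfl
  rw [himg]
  exact hemb.isClosedMap _ hO

theorem isClosed_coneOf (G : Finset (Fin N → ℤ)) : IsClosed (coneOf G) := by
  classical
  have : coneOf G = ⋃ t ∈ G.powerset.filter (fun t : Finset (Fin N → ℤ) =>
      LinearIndependent ℝ (fun g : t => castV (g : Fin N → ℤ))), coneOf t := by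
    ext x
    simp only [Set.mem_iUnion, Finset.mem_filter, Finset.mem_powerset, exists_prop]
    constructor
    · intro hx
      obtain ⟨t, d, htG, hd, hli, rfl⟩ := coneOf_caratheodory hx
      refine ⟨t, ⟨htG, hli⟩, fun g => if g ∈ t then d g else 0, fun g => by
        dsimp only
        split_ifs with h
        · exact (hd g h).le
        · exact le_rfl, ?_⟩
      refine Finset.sum_congr rfl fun g hg => ?_
      simp [hg]
      rfl
    · rintro ⟨t, ⟨htG, -⟩, hx⟩
      exact coneOf_mono htG hx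
  rw [this]
  refine Set.Finite.isClosed_biUnion (Finset.finite_toSet _) fun t ht => ?_
  exact isClosed_coneOf_of_li t (Finset.mem_filter.1 ht).2

end Groth.Agent.Lib.Helper6.IntLin
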