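import Mathlib
import Groth.Prelude.Def_W4c6instabfans3FanCvx
import Groth.Agent.Lib.Helper6.FanTop
import Groth.Agent.Lib.Helper6.IntLin

/-!
# The realization of the fan of a family of rational cones embeds in the sphere of rays (helper6)
-/

set_option autoImplicit false
open CategoryTheory Opposite Instab

namespace Groth.Agent.Lib.Helper6.FanRays

open Finset FanEq FanBdd FanTop IntLin

variable {N : ℕ}

/-- The relation defining rays. -/
def rayRel (v w : {v : Fin N → ℝ // v ≠ 0}) : Prop := ∃ c : ℝ, 0 < c ∧ w.1 = c • v.1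

theorem rayRel_of_eq {v w : {v : Fin N → ℝ // v ≠ 0}}
    (h : (Quot.mk _ v : Fan.Rays N) = Quot.mk _ w) : rayRel v w := by
  have := Quot.eqvGen_exact h
  clear h
  induction this with
  | rel _ _ h => exact h
  | refl _ => exact ⟨1, one_pos, (one_smul _ _).symm⟩
  | symm _ _ _ ih =>
    obtain ⟨c, hc, h⟩ := ih
    refine ⟨c⁻¹, inv_pos.2 hc, ?_⟩
    rw [h, smul_smul, inv_mul_cancel₀ hc.ne', one_smul]
  | trans _ _ _ _ _ ih₁ ih₂ =>
    obtain ⟨c, hc, h⟩ := ih₁
    obtain ⟨c', hc', h'⟩ := ih₂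
    exact ⟨c' * c, mul_pos hc' hc, by rw [h', h, smul_smul]⟩

/-- Normalization of rays. -/
noncomputable def rayNorm : Fan.Rays N → (Fin N → ℝ) :=
  Quot.lift (fun v : {v : Fin N → ℝ // v ≠ 0} => ‖v.1‖⁻¹ • v.1) (by
    rintro v w ⟨c, hc, h⟩
    show ‖v.1‖⁻¹ • v.1 = ‖w.1‖⁻¹ • w.1
    rw [h, norm_smul, Real.norm_of_nonneg hc.le, smul_smul]
    congr 1
    have hv : ‖v.1‖ ≠ 0 := norm_ne_zero_iff.2 v.2
    field_simp)

theorem continuous_rayNorm : Continuous (rayNorm (N := N)) := by
  refine continuous_quot_lift _ ?_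
  have h1 : Continuous fun v : {v : Fin N → ℝ // v ≠ 0} => ‖v.1‖ :=
    continuous_norm.comp continuous_subtype_val
  exact (h1.inv₀ fun v => norm_ne_zero_iff.2 v.2).smul continuous_subtype_val

theorem rayNorm_injective : Function.Injective (rayNorm (N := N)) := by
  intro r r' h
  induction r using Quot.ind with | _ v => ?_
  induction r' using Quot.ind with | _ w => ?_
  have h' : ‖v.1‖⁻¹ • v.1 = ‖w.1‖⁻¹ • w.1 := h
  have hv : 0 < ‖v.1‖ := norm_pos_iff.2 v.2
  have hw : 0 < ‖w.1‖ := norm_pos_iff.2 w.2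
  refine Quot.sound ⟨‖w.1‖ * ‖v.1‖⁻¹, mul_pos hw (inv_pos.2 hv), ?_⟩
  rw [← smul_smul, h', smul_smul, mul_inv_cancel₀ hw.ne', one_smul]

instance : T2Space (Fan.Rays N) :=
  T2Space.of_injective_continuous rayNorm_injective continuous_rayNorm

variable {ι : Type} (K : ι → Set (Fin N → ℝ))

theorem toVec_eq {n : ICone} (φ : RFan.Cone K n) (v : Fin n.dim → ℝ) :
    RFan.toVec K n φ v = realExt φ.1 v := rfl

theorem toVec_ne_zero {n : ICone} (φ : RFan.Cone K n) (v : Fan.Orth n) :
    realExt φ.1 v.1 ≠ 0 :=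
  fun h => v.2.2 (realExt_eq_zero φ.1 φ.2.1 v.1 h)

theorem map_val {n k : ICone} (ψ : k ⟶ n) (ξ : (RFan K).obj (op n)) :
    ((RFan K).map ψ.op ξ).1 = ξ.1.comp ψ.toLin := rfl

theorem realMap_eq_realExt {k n : ICone} (ψ : k ⟶ n) (v : Fin k.dim → ℝ) :
    ψ.realMap v = realExt ψ.toLin v := rfl

/-- The canonical map to the space of rays. -/
noncomputable def gMap : Fan.P (RFan K) → Fan.Rays N :=
  Quot.lift (fun p : Fan.Pt (RFan K) =>
    (Quot.mk _ ⟨realExt p.1.2.1 p.2.1, toVec_ne_zero K p.1.2 p.2⟩ : Fan.Rays N)) (by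
    rintro _ _ ⟨ψ, ξ, v, w, c, hc, h⟩
    refine Quot.sound ⟨c, hc, ?_⟩
    show realExt ξ.1 w.1 = c • realExt ((RFan K).map ψ.op ξ).1 v.1
    rw [map_val, realExt_comp, h, realExt_smul, realMap_eq_realExt])

theorem gMap_mk {n : ICone} (φ : (RFan K).obj (op n)) (v : Fan.Orth n) :
    gMap K (Fan.P.mk φ v) = Quot.mk _ ⟨realExt φ.1 v.1, toVec_ne_zero K φ v⟩ := rfl

theorem continuous_gMap : Continuous (gMap K) := by
  refine continuous_quot_lift _ ?_
  refine continuous_sigma fun e => ?_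
  refine continuous_quot_mk.comp ?_
  refine Continuous.subtype_mk ?_ _
  exact (continuous_realExt e.2.1).comp continuous_subtype_val

theorem gMap_injective : Function.Injective (gMap K) := by
  intro x x' h
  obtain ⟨n, φ, v, rfl⟩ := exists_mk x
  obtain ⟨n', φ', v', rfl⟩ := exists_mk x'
  rw [gMap_mk, gMap_mk] at h
  obtain ⟨c, hc, hcv⟩ := rayRel_of_eq h
  have hcv' : realExt φ.1 (c • v.1) = realExt φ'.1 v'.1 := by
    rw [realExt_smul]
    exact hcv.symm
  have hy0 : ∀ i, 0 ≤ (c • v.1) i := fun i => mul_nonneg hc.le (v.2.1 i)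
  have hne : c • v.1 ≠ 0 := by
    intro h0
    rcases smul_eq_zero.1 h0 with h1 | h1
    · exact hc.ne' h1
    · exact v.2.2 h1
  obtain ⟨m, α, β, z, hcomp, hz, hαz, hβz⟩ :=
    exists_common_refinement φ.1 φ'.1 φ.2.1 φ'.2.1 _ _ hy0 v'.2.1 hne hcv'
  have hzne : z ≠ 0 := by
    intro h0
    have := hz ⟨0, m.dim.pos⟩
    rw [h0] at this
    exact lt_irrefl _ this
  refine mk_eq_mk_of φ φ' v v' α β ⟨z, fun i => (hz i).le, hzne⟩ c⁻¹ 1 ?_ (inv_pos.2 hc) one_pos
    ?_ ?_
  · apply Subtype.ext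
    rw [map_val, map_val]
    exact hcomp
  · show v.1 = c⁻¹ • α.realMap z
    rw [hαz, smul_smul, inv_mul_cancel₀ hc.ne', one_smul]
  · show v'.1 = (1 : ℝ) • β.realMap z
    rw [hβz, one_smul]

section SimpCone

variable (t : Finset (Fin N → ℤ)) (ht : t.Nonempty)

/-- The dimension object of the simplicial cone on `t`. -/
def simpDim : ICone := ⟨⟨t.card, Finset.card_pos.2 ht⟩⟩

/-- Enumeration of the generators. -/
noncomputable def enum : Fin (simpDim t ht).dim → (Fin N → ℤ) :=
  fun i : Fin t.card => ((t.equivFin.symm i : t) : Fin N → ℤ)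

theorem sum_enum {E : Type*} [AddCommMonoid E] (f : (Fin N → ℤ) → E) :
    ∑ i, f (enum t ht i) = ∑ g ∈ t, f g := by
  rw [← Finset.sum_coe_sort t f]
  exact Equiv.sum_comp t.equivFin.symm (fun g : t => f g)

theorem enum_mem (i : Fin (simpDim t ht).dim) : enum t ht i ∈ t :=
  (t.equivFin.symm (show Fin t.card from i)).2

/-- The integer linear map of the simplicial cone on `t`. -/
noncomputable def simpLin : (Fin (simpDim t ht).dim → ℤ) →ₗ[ℤ] (Fin N → ℤ) :=
  Fintype.linearCombination ℤ (enum t ht)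

theorem simpLin_single (i : Fin (simpDim t ht).dim) :
    simpLin t ht (Pi.single i 1) = enum t ht i := by
  classical
  simp [simpLin, Fintype.linearCombination_apply_single]

theorem realExt_simpLin (v : Fin (simpDim t ht).dim → ℝ) :
    realExt (simpLin t ht) v = ∑ i, v i • castV (enum t ht i) := by
  funext j
  simp only [realExt, simpLin_single, Finset.sum_apply, Pi.smul_apply, smul_eq_mul, castV]
  exact Finset.sum_congr rfl fun i _ => mul_comm _ _

variable (hli : LinearIndependent ℝ (fun g : t => castV (g : Fin N → ℤ)))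

include hli in
theorem li_enum : LinearIndependent ℝ (fun i => castV (enum t ht i)) := by
  have := hli.comp (fun i : Fin t.card => t.equivFin.symm i) (Equiv.injective _)
  exact this

include hli in
theorem simpLin_injective : Function.Injective (simpLin t ht) := by
  intro u u' huu'
  have h0 : simpLin t ht (u - u') = 0 := by rw [map_sub, huu', sub_self]
  have h1 : realExt (simpLin t ht) (fun i => ((u - u') i : ℝ)) = 0 := by
    rw [realExt_int, h0]
    funext j
    simp
  rw [realExt_simpLin] at h1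
  have h2 := Fintype.linearIndependent_iff.1 (li_enum t ht hli) _ h1
  funext i
  have := h2 i
  have h3 : (u - u') i = 0 := by exact_mod_cast this
  simpa [sub_eq_zero] using h3

theorem simpLin_mem_coneOf (u : Fin (simpDim t ht).dim → ℤ) (hu : ∀ i, 0 ≤ u i) :
    (fun j => (simpLin t ht u j : ℝ)) ∈ coneOf t := by
  classical
  rw [← realExt_int, realExt_simpLin]
  refine ⟨fun g => if h : g ∈ t then ((u (t.equivFin ⟨g, h⟩) : ℤ) : ℝ) else 0, fun g => by
    dsimp only
    split_ifs
    · exact_mod_cast hu _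
    · exact le_rfl, ?_⟩
  rw [← sum_enum t ht (fun g => (if h : g ∈ t then ((u (t.equivFin ⟨g, h⟩) : ℤ) : ℝ) else 0) •
    fun j => (g j : ℝ))]
  refine Finset.sum_congr rfl fun i _ => ?_
  rw [dif_pos (enum_mem t ht i)]
  have : t.equivFin ⟨enum t ht i, enum_mem t ht i⟩ = i := by
    show t.equivFin (t.equivFin.symm i) = i
    exact Equiv.apply_symm_apply _ _
  rw [this]
  rfl

end SimpCone

/-- The simplicial cone on a linearly independent set of integer vectors as a cone of `R(K)`. -/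
noncomputable def simpCone (t : Finset (Fin N → ℤ)) (ht : t.Nonempty)
    (hli : LinearIndependent ℝ (fun g : t => castV (g : Fin N → ℤ))) (a : ι)
    (hta : coneOf t ⊆ K a) : (RFan K).obj (op (simpDim t ht)) :=
  ⟨simpLin t ht, simpLin_injective t ht hli, a, fun v hv => hta (simpLin_mem_coneOf t ht v hv)⟩

section Main

variable (m : ι → ℕ) (gen : ∀ a, Fin (m a) → Finset (Fin N → ℤ))
  (hK : ∀ a, K a = ⋃ l, coneOf (gen a l))

include hK in
theorem isClosed_K (a : ι) : IsClosed (K a) := by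
  rw [hK a]
  exact isClosed_iUnion_of_finite fun l => isClosed_coneOf _

include hK in
theorem K_smul (a : ι) {x : Fin N → ℝ} (hx : x ∈ K a) (c : ℝ) (hc : 0 ≤ c) : c • x ∈ K a := by
  rw [hK a] at hx ⊢
  obtain ⟨l, hl⟩ := Set.mem_iUnion.1 hx
  exact Set.mem_iUnion.2 ⟨l, coneOf_smul hl c hc⟩

include hK in
/-- The real orthant of a cone of `R(K)` maps into a single `K a`. -/
theorem orth_mem_K {n : ICone} (φ : (RFan K).obj (op n)) (v : Fan.Orth n) :
    ∃ a, realExt φ.1 v.1 ∈ K a := by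
  obtain ⟨a, ha⟩ := φ.2.2
  refine ⟨a, ?_⟩
  have hT := eq_univ_of_int {v : Fan.Orth n | realExt φ.1 v.1 ∈ K a}
    ((isClosed_K K m gen hK a).preimage
      ((continuous_realExt φ.1).comp continuous_subtype_val))
    (fun v w hv c hc hw => by
      simp only [Set.mem_ofPred_eq] at hv ⊢
      rw [hw, realExt_smul]
      exact K_smul K m gen hK a hv c hc.le)
    (fun w u hw => by
      simp only [Set.mem_ofPred_eq]
      have hwu : w.1 = fun i => (u i : ℝ) := funext hw
      rw [hwu, realExt_int]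
      refine ha u fun i => ?_
      have := w.2.1 i
      rw [hw i] at this
      exact_mod_cast this)
  have : v ∈ {v : Fan.Orth n | realExt φ.1 v.1 ∈ K a} := by
    rw [hT]
    exact Set.mem_univ v
  exact this

include hK in
/-- Every nonzero vector of `K a` is a positive combination of the generators of a simplicial
cone of `R(K)` taken from one of the generating sets. -/
theorem exists_simp_point (a : ι) (w : Fin N → ℝ) (hw : w ∈ K a) (hw0 : w ≠ 0) :
    ∃ (l : Fin (m a)) (t : Finset (Fin N → ℤ)) (_ : t ⊆ gen a l) (ht : t.Nonempty)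
      (hli : LinearIndependent ℝ (fun g : t => castV (g : Fin N → ℤ)))
      (hta : coneOf t ⊆ K a) (v : Fan.Orth (simpDim t ht)),
      realExt (simpCone K t ht hli a hta).1 v.1 = w := by
  rw [hK a] at hw
  obtain ⟨l, hl⟩ := Set.mem_iUnion.1 hw
  obtain ⟨t, d, htG, hd, hli, hwt⟩ := coneOf_caratheodory hl
  have ht : t.Nonempty := by
    rw [Finset.nonempty_iff_ne_empty]
    rintro rfl
    apply hw0
    rw [hwt]
    simp
  have hta : coneOf t ⊆ K a := by
    rw [hK a]
    exact fun x hx => Set.mem_iUnion.2 ⟨l, coneOf_mono htG hx⟩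
  have hvne : (fun i => d (enum t ht i)) ≠ (0 : Fin (simpDim t ht).dim → ℝ) := by
    intro h0
    have := congrFun h0 ⟨0, (simpDim t ht).dim.pos⟩
    have hpos := hd _ (enum_mem t ht ⟨0, (simpDim t ht).dim.pos⟩)
    simp only [Pi.zero_apply] at this
    linarith
  refine ⟨l, t, htG, ht, hli, hta,
    ⟨fun i => d (enum t ht i), fun i => (hd _ (enum_mem t ht i)).le, hvne⟩, ?_⟩
  show realExt (simpLin t ht) (fun i => d (enum t ht i)) = w
  rw [realExt_simpLin, hwt]
  exact sum_enum t ht (fun g => d g • castV g)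

include hK in
theorem range_gMap :
    Set.range (gMap K) =
      {r | ∃ w : {w : Fin N → ℝ // w ≠ 0}, r = Quot.mk _ w ∧ w.1 ∈ Set.iUnion K} := by
  ext r
  constructor
  · rintro ⟨p, rfl⟩
    obtain ⟨n, φ, v, rfl⟩ := exists_mk p
    obtain ⟨a, ha⟩ := orth_mem_K K m gen hK φ v
    exact ⟨⟨realExt φ.1 v.1, toVec_ne_zero K φ v⟩, rfl, Set.mem_iUnion.2 ⟨a, ha⟩⟩
  · rintro ⟨w, rfl, hw⟩
    obtain ⟨a, ha⟩ := Set.mem_iUnion.1 hw
    obtain ⟨l, t, -, ht, hli, hta, v, hv⟩ := exists_simp_point K m gen hK a w.1 ha w.2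
    refine ⟨Fan.P.mk (simpCone K t ht hli a hta) v, ?_⟩
    rw [gMap_mk]
    congr 1
    exact Subtype.ext hv

include hK in
theorem compactSpace_P [Finite ι] : CompactSpace (Fan.P (RFan K)) := by
  classical
  let W := Σ a : ι, Σ l : Fin (m a), {t : Finset (Fin N → ℤ) // t ∈ (gen a l).powerset}
  let C : W → Set (Fan.P (RFan K)) := fun i =>
    {p | ∃ (ht : i.2.2.1.Nonempty)
      (hli : LinearIndependent ℝ (fun g : i.2.2.1 => castV (g : Fin N → ℤ)))
      (hta : coneOf i.2.2.1 ⊆ K i.1), p ∈ Fan.P.cell (simpCone K i.2.2.1 ht hli i.1 hta)}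
  have hC : ∀ i, IsCompact (C i) := by
    intro i
    by_cases h : ∃ (ht : i.2.2.1.Nonempty)
      (hli : LinearIndependent ℝ (fun g : i.2.2.1 => castV (g : Fin N → ℤ))),
      coneOf i.2.2.1 ⊆ K i.1
    · obtain ⟨ht, hli, hta⟩ := h
      have : C i = Fan.P.cell (simpCone K i.2.2.1 ht hli i.1 hta) := by
        ext p
        constructor
        · rintro ⟨_, _, _, hp⟩
          exact hp
        · intro hp
          exact ⟨ht, hli, hta, hp⟩
      rw [this]
      exact isCompact_cell _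
    · have : C i = ∅ := by
        ext p
        simp only [Set.mem_empty_iff_false, iff_false]
        rintro ⟨ht, hli, hta, -⟩
        exact h ⟨ht, hli, hta⟩
      rw [this]
      exact isCompact_empty
  have hcover : ⋃ i, C i = Set.univ := by
    rw [Set.eq_univ_iff_forall]
    intro p
    obtain ⟨n, φ, v, rfl⟩ := exists_mk p
    obtain ⟨a, ha⟩ := orth_mem_K K m gen hK φ v
    obtain ⟨l, t, htG, ht, hli, hta, v', hv'⟩ :=
      exists_simp_point K m gen hK a _ ha (toVec_ne_zero K φ v)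
    refine Set.mem_iUnion.2 ⟨⟨a, l, ⟨t, Finset.mem_powerset.2 htG⟩⟩, ht, hli, hta, v', ?_⟩
    apply gMap_injective K
    rw [gMap_mk, gMap_mk]
    congr 1
    exact Subtype.ext hv'
  refine ⟨?_⟩
  rw [← hcover]
  exact isCompact_iUnion hC

include hK in
theorem main [Finite ι] :
    ∃ g : Fan.P (RFan K) → Fan.Rays N,
      (∀ (n : ICone) (φ : (RFan K).obj (op n)) (v : Fan.Orth n) (h : RFan.toVec K n φ v.1 ≠ 0),
        g (Fan.P.mk φ v) = Quot.mk _ ⟨RFan.toVec K n φ v.1, h⟩) ∧
      Topology.IsEmbedding g ∧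
      Set.range g = {r | ∃ w : {w : Fin N → ℝ // w ≠ 0}, r = Quot.mk _ w ∧ w.1 ∈ Set.iUnion K} := by
  have := compactSpace_P K m gen hK
  refine ⟨gMap K, fun n φ v h => rfl, ?_, range_gMap K m gen hK⟩
  exact ((continuous_gMap K).isClosedEmbedding (gMap_injective K)).isEmbedding

end Main

end Groth.Agent.Lib.Helper6.FanRays
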