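import Mathlib

universe u

open TensorProduct

namespace Groth.Agent.Helper6.FibTensor

variable (R B' B C S : Type u) [CommRing R] [CommRing B'] [CommRing B] [CommRing C]
    [CommRing S] [Algebra R B'] [Algebra R B] [Algebra R C] [Algebra R S]

lemma map_eq_lTensor {X Y : Type u} [CommRing X] [CommRing Y] [Algebra R X] [Algebra R Y]
    (h : X →ₐ[R] Y) (z : S ⊗[R] X) :
    Algebra.TensorProduct.map (AlgHom.id R S) h z = LinearMap.lTensor S h.toLinearMap z := by
  induction z using TensorProduct.induction_on with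
  | zero => simp
  | tmul a b => simp
  | add x y hx hy => rw [map_add, map_add, hx, hy]

theorem main (f : B' →ₐ[R] B) (hf : Function.Surjective f) (g : C →ₐ[R] B)
    (hJ : Function.Injective (LinearMap.lTensor S (LinearMap.ker f.toLinearMap).subtype)) :
    letI P := AlgHom.equalizer (f.comp (AlgHom.fst R B' C)) (g.comp (AlgHom.snd R B' C))
    letI φ₁ := Algebra.TensorProduct.map (AlgHom.id R S) ((AlgHom.fst R B' C).comp P.val)
    letI φ₂ := Algebra.TensorProduct.map (AlgHom.id R S) ((AlgHom.snd R B' C).comp P.val)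
    Function.Injective (fun z : S ⊗[R] ↥P => (φ₁ z, φ₂ z)) ∧
    ∀ (x : S ⊗[R] B') (y : S ⊗[R] C),
      Algebra.TensorProduct.map (AlgHom.id R S) f x = Algebra.TensorProduct.map (AlgHom.id R S) g y →
        ∃ z : S ⊗[R] ↥P, φ₁ z = x ∧ φ₂ z = y := by
  let P := AlgHom.equalizer (f.comp (AlgHom.fst R B' C)) (g.comp (AlgHom.snd R B' C))
  let φ₁ := Algebra.TensorProduct.map (AlgHom.id R S) ((AlgHom.fst R B' C).comp P.val)
  let φ₂ := Algebra.TensorProduct.map (AlgHom.id R S) ((AlgHom.snd R B' C).comp P.val)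
  change Function.Injective (fun z : S ⊗[R] ↥P => (φ₁ z, φ₂ z)) ∧
    ∀ (x : S ⊗[R] B') (y : S ⊗[R] C),
      Algebra.TensorProduct.map (AlgHom.id R S) f x = Algebra.TensorProduct.map (AlgHom.id R S) g y →
        ∃ z : S ⊗[R] ↥P, φ₁ z = x ∧ φ₂ z = y
  set J := LinearMap.ker f.toLinearMap with hJdef
  let p₁ : P →ₗ[R] B' := ((AlgHom.fst R B' C).comp P.val).toLinearMap
  let p₂ : P →ₗ[R] C := ((AlgHom.snd R B' C).comp P.val).toLinearMap
  have hmem : ∀ z : P, f (z.1.1) = g (z.1.2) := fun z => z.2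
  let i : J →ₗ[R] P :=
    { toFun := fun j => ⟨((j : B'), 0), by
        show f (j : B') = g 0
        rw [map_zero]; exact j.2⟩
      map_add' := fun a b => by
        apply Subtype.ext
        simp
      map_smul' := fun r a => by
        apply Subtype.ext
        simp }
  have hp₁i : p₁ ∘ₗ i = J.subtype := rfl
  have hp₂i : p₂ ∘ₗ i = 0 := rfl
  have hfp : f.toLinearMap ∘ₗ p₁ = g.toLinearMap ∘ₗ p₂ := by
    ext z; exact hmem z
  have hp₂surj : Function.Surjective p₂ := by
    intro c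
    obtain ⟨b', hb'⟩ := hf (g c)
    exact ⟨⟨(b', c), hb'⟩, rfl⟩
  have hex1 : Function.Exact i p₂ := by
    intro z
    constructor
    · intro hz
      have hz2 : z.1.2 = 0 := hz
      have hz1 : z.1.1 ∈ J := by
        show f z.1.1 = 0
        rw [hmem z, hz2, map_zero]
      refine ⟨⟨z.1.1, hz1⟩, ?_⟩
      apply Subtype.ext
      exact Prod.ext rfl hz2.symm
    · rintro ⟨j, rfl⟩
      rfl
  have hex2 : Function.Exact J.subtype f.toLinearMap := by
    intro b
    constructor
    · intro hb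
      exact ⟨⟨b, hb⟩, rfl⟩
    · rintro ⟨j, rfl⟩
      exact j.2
  have hE1 := lTensor_exact S hex1 hp₂surj
  have hE2 := lTensor_exact S hex2 hf
  have hφ₁ : ∀ z, φ₁ z = LinearMap.lTensor S p₁ z := fun z => map_eq_lTensor R S _ z
  have hφ₂ : ∀ z, φ₂ z = LinearMap.lTensor S p₂ z := fun z => map_eq_lTensor R S _ z
  constructor
  · intro z z' hzz'
    simp only [Prod.mk.injEq, hφ₁, hφ₂] at hzz'
    obtain ⟨h1, h2⟩ := hzz'
    have hd2 : LinearMap.lTensor S p₂ (z - z') = 0 := by rw [map_sub, h2, sub_self]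
    obtain ⟨w, hw⟩ := (hE1 _).mp hd2
    have hd1 : LinearMap.lTensor S p₁ (z - z') = 0 := by rw [map_sub, h1, sub_self]
    rw [← hw, ← LinearMap.comp_apply, ← LinearMap.lTensor_comp, hp₁i] at hd1
    have hw0 : w = 0 := hJ (by rw [hd1, map_zero])
    rw [hw0, map_zero] at hw
    exact sub_eq_zero.mp hw.symm
  · intro x y hxy
    rw [map_eq_lTensor, map_eq_lTensor] at hxy
    obtain ⟨z₀, hz₀⟩ := LinearMap.lTensor_surjective S hp₂surj y
    have h0 : LinearMap.lTensor S f.toLinearMap (x - LinearMap.lTensor S p₁ z₀) = 0 := by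
      rw [map_sub, hxy, ← LinearMap.comp_apply, ← LinearMap.lTensor_comp, hfp,
        LinearMap.lTensor_comp, LinearMap.comp_apply, hz₀, sub_self]
    obtain ⟨w, hw⟩ := (hE2 _).mp h0
    refine ⟨z₀ + LinearMap.lTensor S i w, ?_, ?_⟩
    · rw [hφ₁, map_add, ← LinearMap.comp_apply, ← LinearMap.lTensor_comp, hp₁i, hw]
      abel
    · rw [hφ₂, map_add, ← LinearMap.comp_apply, ← LinearMap.lTensor_comp, hp₂i, hz₀]
      simp

end Groth.Agent.Helper6.FibTensor
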