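import Mathlib

/-!
# Filtered colimits of faithfully flat ring maps are faithfully flat
-/

namespace Groth.Agent.Lib.Helper6.FiltColimFF

open CategoryTheory CategoryTheory.Limits

universe u

set_option linter.style.haveILetI false
set_option linter.unusedSectionVars false

variable {J : Type u} [SmallCategory J] [IsFiltered J]

section Reps

variable (F : J ⥤ CommRingCat.{u})

lemma exists_rep (x : (colimit F : CommRingCat.{u})) :
    ∃ (j : J) (y : F.obj j), (colimit.ι F j).hom y = x :=
  Concrete.colimit_exists_rep F x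

lemma ι_map {i j : J} (f : i ⟶ j) (y : F.obj i) :
    (colimit.ι F j).hom ((F.map f).hom y) = (colimit.ι F i).hom y := by
  have := colimit.w F f
  rw [← this]
  rfl

lemma exists_rep_fin {l : ℕ} (x : Fin l → (colimit F : CommRingCat.{u})) :
    ∃ (j : J) (y : Fin l → F.obj j), ∀ i, (colimit.ι F j).hom (y i) = x i := by
  classical
  choose jj yy hy using fun i => exists_rep F (x i)
  obtain ⟨S, hS⟩ := IsFiltered.sup_objs_exists (Finset.univ.image jj)
  have hm : ∀ i, Nonempty (jj i ⟶ S) := fun i => hS (Finset.mem_image_of_mem jj (Finset.mem_univ i))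
  refine ⟨S, fun i => (F.map (hm i).some).hom (yy i), fun i => ?_⟩
  rw [ι_map, hy]

lemma exists_rep_fin_ge {l : ℕ} (j₀ : J) (x : Fin l → (colimit F : CommRingCat.{u})) :
    ∃ (j : J) (_ : j₀ ⟶ j) (y : Fin l → F.obj j), ∀ i, (colimit.ι F j).hom (y i) = x i := by
  obtain ⟨j, y, hy⟩ := exists_rep_fin F x
  refine ⟨IsFiltered.max j₀ j, IsFiltered.leftToMax j₀ j,
    fun i => (F.map (IsFiltered.rightToMax j₀ j)).hom (y i), fun i => ?_⟩
  rw [ι_map, hy]

lemma eq_at_stage {j : J} (x y : F.obj j)
    (h : (colimit.ι F j).hom x = (colimit.ι F j).hom y) :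
    ∃ (k : J) (f : j ⟶ k), (F.map f).hom x = (F.map f).hom y := by
  obtain ⟨k, f, g, hfg⟩ := Concrete.colimit_exists_of_rep_eq F x y h
  refine ⟨IsFiltered.coeq f g, f ≫ IsFiltered.coeqHom f g, ?_⟩
  have h1 : (F.map (f ≫ IsFiltered.coeqHom f g)).hom x
      = (F.map (IsFiltered.coeqHom f g)).hom ((F.map f).hom x) := by
    rw [F.map_comp]; rfl
  have h2 : (F.map (f ≫ IsFiltered.coeqHom f g)).hom y
      = (F.map (IsFiltered.coeqHom f g)).hom ((F.map g).hom y) := by
    rw [IsFiltered.coeq_condition f g, F.map_comp]; rfl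
  rw [h1, h2]
  exact congrArg _ hfg

end Reps

variable (C A : J ⥤ CommRingCat.{u}) (φ : C ⟶ A)

lemma colimMap_ι (j : J) (c : C.obj j) :
    (colimMap φ).hom ((colimit.ι C j).hom c) = (colimit.ι A j).hom ((φ.app j).hom c) := by
  have := ι_colimMap φ j
  have h2 := congrArg (fun g => g.hom c) this
  exact h2

lemma naturality_apply {j k : J} (f : j ⟶ k) (c : C.obj j) :
    (φ.app k).hom ((C.map f).hom c) = (A.map f).hom ((φ.app j).hom c) := by
  have := φ.naturality f
  have h2 := congrArg (fun g => g.hom c) this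
  exact h2

set_option maxHeartbeats 1600000 in
theorem flat (h : ∀ j : J, (φ.app j).hom.Flat) : (colimMap φ).hom.Flat := by
  letI algc : Algebra (colimit C : CommRingCat.{u}) (colimit A : CommRingCat.{u}) :=
    (colimMap φ).hom.toAlgebra
  change Module.Flat (colimit C : CommRingCat.{u}) (colimit A : CommRingCat.{u})
  apply Module.Flat.of_forall_isTrivialRelation
  intro l f x hfx
  have hsmul : ∀ (r : (colimit C : CommRingCat.{u})) (a : (colimit A : CommRingCat.{u})),
      r • a = (colimMap φ).hom r * a := fun r a => rfl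
  -- choose a common stage
  obtain ⟨j₁, f', hf'⟩ := exists_rep_fin C f
  obtain ⟨j₂, u, x', hx'⟩ := exists_rep_fin_ge A j₁ x
  let f'' : Fin l → C.obj j₂ := fun i => (C.map u).hom (f' i)
  have hf'' : ∀ i, (colimit.ι C j₂).hom (f'' i) = f i := fun i => by
    rw [ι_map, hf']
  -- the relation at stage j₂, up to colimit
  have hrel : (colimit.ι A j₂).hom (∑ i, (φ.app j₂).hom (f'' i) * x' i)
      = (colimit.ι A j₂).hom 0 := by
    rw [map_sum, map_zero, ← hfx]
    apply Finset.sum_congr rfl
    intro i _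
    rw [map_mul, hsmul, ← hf'' i, colimMap_ι, hx' i]
  obtain ⟨k, v, hk⟩ := eq_at_stage A _ _ hrel
  let f3 : Fin l → C.obj k := fun i => (C.map v).hom (f'' i)
  let x3 : Fin l → A.obj k := fun i => (A.map v).hom (x' i)
  have hf3 : ∀ i, (colimit.ι C k).hom (f3 i) = f i := fun i => by
    rw [ι_map, hf'']
  have hx3 : ∀ i, (colimit.ι A k).hom (x3 i) = x i := fun i => by
    rw [ι_map, hx']
  letI algk : Algebra (C.obj k) (A.obj k) := (φ.app k).hom.toAlgebra
  haveI : Module.Flat (C.obj k) (A.obj k) := h k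
  have hrel3 : ∑ i, f3 i • x3 i = 0 := by
    rw [map_sum, map_zero] at hk
    rw [← hk]
    apply Finset.sum_congr rfl
    intro i _
    change (φ.app k).hom (f3 i) * x3 i = _
    rw [map_mul, naturality_apply]
  obtain ⟨κ, a, y, hxy, hfa⟩ := Module.Flat.isTrivialRelation_of_sum_smul_eq_zero
    (R := C.obj k) (M := A.obj k) (f := f3) (x := x3) hrel3
  refine ⟨κ, fun i t => (colimit.ι C k).hom (a i t), fun t => (colimit.ι A k).hom (y t), ?_, ?_⟩
  · intro i
    rw [← hx3 i, hxy i, map_sum]
    apply Finset.sum_congr rfl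
    intro t _
    rw [hsmul, colimMap_ι, ← map_mul]
    rfl
  · intro t
    have := congrArg (colimit.ι C k).hom (hfa t)
    rw [map_sum, map_zero] at this
    rw [← this]
    apply Finset.sum_congr rfl
    intro i _
    rw [map_mul, hf3]

theorem faithfullyFlat (h : ∀ j : J, (φ.app j).hom.FaithfullyFlat) :
    (colimMap φ).hom.FaithfullyFlat := by
  have hflat : (colimMap φ).hom.Flat := flat C A φ (fun j => by
    have hj := h j
    letI : Algebra (C.obj j) (A.obj j) := (φ.app j).hom.toAlgebra
    have h2 : Module.FaithfullyFlat (C.obj j) (A.obj j) := hj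
    exact (inferInstance : Module.Flat (C.obj j) (A.obj j)))
  letI algc : Algebra (colimit C : CommRingCat.{u}) (colimit A : CommRingCat.{u}) :=
    (colimMap φ).hom.toAlgebra
  change Module.FaithfullyFlat (colimit C : CommRingCat.{u}) (colimit A : CommRingCat.{u})
  haveI : Module.Flat (colimit C : CommRingCat.{u}) (colimit A : CommRingCat.{u}) := hflat
  refine ⟨?_⟩
  intro m hm htop
  -- 1 ∈ m • ⊤ = map
  have h1 : (1 : (colimit A : CommRingCat.{u})) ∈ m.map (algebraMap _ (colimit A : CommRingCat.{u})) := by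
    have : (1 : (colimit A : CommRingCat.{u})) ∈ (m • ⊤ : Submodule (colimit C : CommRingCat.{u}) _) := by
      rw [htop]; trivial
    rw [Ideal.smul_top_eq_map] at this
    exact this
  rw [Ideal.map, Submodule.mem_span_set'] at h1
  obtain ⟨l, c, g, hcg⟩ := h1
  choose mm hmm hmg using fun i => (g i).2
  obtain ⟨j₁, m', hm'⟩ := exists_rep_fin C mm
  obtain ⟨j₂, u, c', hc'⟩ := exists_rep_fin_ge A j₁ c
  let m'' : Fin l → C.obj j₂ := fun i => (C.map u).hom (m' i)
  have hm'' : ∀ i, (colimit.ι C j₂).hom (m'' i) = mm i := fun i => by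
    rw [ι_map, hm']
  have hrel : (colimit.ι A j₂).hom (∑ i, c' i * (φ.app j₂).hom (m'' i))
      = (colimit.ι A j₂).hom 1 := by
    rw [map_sum, map_one, ← hcg]
    apply Finset.sum_congr rfl
    intro i _
    rw [map_mul, hc' i, ← colimMap_ι, hm'' i, smul_eq_mul, ← hmg i]
    rfl
  obtain ⟨k, v, hk⟩ := eq_at_stage A _ _ hrel
  rw [map_sum, map_one] at hk
  letI algk : Algebra (C.obj k) (A.obj k) := (φ.app k).hom.toAlgebra
  haveI : Module.FaithfullyFlat (C.obj k) (A.obj k) := h k
  let mk : Ideal (C.obj k) := m.comap (colimit.ι C k).hom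
  have hmk : mk ≠ ⊤ := by
    intro htop'
    have : (1 : C.obj k) ∈ mk := by rw [htop']; trivial
    rw [Ideal.mem_comap, map_one] at this
    exact hm.ne_top ((Ideal.eq_top_iff_one m).mpr this)
  have hone : (1 : A.obj k) ∈ mk.map (algebraMap (C.obj k) (A.obj k)) := by
    rw [← hk]
    apply Ideal.sum_mem
    intro i _
    rw [map_mul]
    apply Ideal.mul_mem_left
    rw [← naturality_apply]
    apply Ideal.mem_map_of_mem
    rw [Ideal.mem_comap, ι_map, hm'']
    exact hmm i
  have h3 := Ideal.comap_map_eq_self_of_faithfullyFlat (B := A.obj k) mk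
  rw [(Ideal.eq_top_iff_one _).mpr hone, Ideal.comap_top] at h3
  exact hmk h3.symm

end Groth.Agent.Lib.Helper6.FiltColimFF
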