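import Mathlib.FieldTheory.IsAlgClosed.Basic
import Mathlib.RingTheory.Artinian.Module
import Mathlib.RingTheory.Artinian.Ring
import Mathlib.RingTheory.Nilpotent.Lemmas
import Mathlib.RingTheory.Idempotents
import Mathlib.Algebra.Algebra.Pi
import Mathlib.RingTheory.Ideal.Quotient.Operations
import Mathlib.RingTheory.Spectrum.Maximal.Basic
import Mathlib.Tactic

set_option autoImplicit false
set_option linter.unusedSectionVars false
universe u v

namespace Groth.Agent.Helper6.FinAlg

theorem isArtinian (k : Type u) [Field k] (A : Type v) [CommRing A] [Algebra k A]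
    [Module.Finite k A] : IsArtinianRing A := IsArtinianRing.of_finite k A

variable (k : Type u) [Field k] (A : Type v) [CommRing A] [Algebra k A]

section Basic

variable {k A}

theorem ker_isMaximal (χ : A →ₐ[k] k) : (RingHom.ker (χ : A →+* k)).IsMaximal :=
  RingHom.ker_isMaximal_of_surjective (χ : A →+* k) (fun c => ⟨algebraMap k A c, by simp⟩)

theorem sub_algebraMap_mem_ker (χ : A →ₐ[k] k) (a : A) :
    a - algebraMap k A (χ a) ∈ RingHom.ker (χ : A →+* k) := by
  rw [RingHom.mem_ker]
  simp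

theorem eq_of_ker_le (χ χ' : A →ₐ[k] k)
    (h : RingHom.ker (χ : A →+* k) ≤ RingHom.ker (χ' : A →+* k)) : χ = χ' := by
  ext a
  have := h (sub_algebraMap_mem_ker χ a)
  rw [RingHom.mem_ker] at this
  simp only [AlgHom.coe_toRingHom, map_sub, AlgHom.commutes, Algebra.algebraMap_self_apply] at this
  exact (sub_eq_zero.1 this).symm

theorem ker_injective :
    Function.Injective (fun χ : A →ₐ[k] k => RingHom.ker (χ : A →+* k)) :=
  fun χ χ' h => eq_of_ker_le χ χ' (le_of_eq h)

theorem isCoprime_ker {χ χ' : A →ₐ[k] k} (h : χ ≠ χ') :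
    IsCoprime (RingHom.ker (χ : A →+* k)) (RingHom.ker (χ' : A →+* k)) := by
  rw [Ideal.isCoprime_iff_sup_eq]
  have := ker_isMaximal χ
  apply Ideal.IsMaximal.coprime_of_ne (ker_isMaximal χ) (ker_isMaximal χ')
  exact fun hk => h (ker_injective hk)

end Basic

section AlgClosed

variable [IsAlgClosed k] [Module.Finite k A]

theorem exists_algHom_ker_eq (m : Ideal A) [hm : m.IsMaximal] :
    ∃ χ : A →ₐ[k] k, RingHom.ker (χ : A →+* k) = m := by
  let _ : Field (A ⧸ m) := Ideal.Quotient.field m
  have : Algebra.IsIntegral k (A ⧸ m) := Algebra.IsIntegral.of_finite k (A ⧸ m)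
  have hbij : Function.Bijective (algebraMap k (A ⧸ m)) :=
    IsAlgClosed.algebraMap_bijective_of_isIntegral
  let e : k ≃ₐ[k] (A ⧸ m) := AlgEquiv.ofBijective (Algebra.ofId k (A ⧸ m)) hbij
  refine ⟨(e.symm : (A ⧸ m) →ₐ[k] k).comp (Ideal.Quotient.mkₐ k m), ?_⟩
  ext a
  rw [RingHom.mem_ker]
  show e.symm (Ideal.Quotient.mk m a) = 0 ↔ _
  rw [EmbeddingLike.map_eq_zero_iff, Ideal.Quotient.eq_zero_iff_mem]


instance finite_algHom : Finite (A →ₐ[k] k) := by
  have := isArtinian k A
  have : Function.Injective (fun χ : A →ₐ[k] k =>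
      (⟨RingHom.ker (χ : A →+* k), ker_isMaximal χ⟩ : MaximalSpectrum A)) := by
    intro χ χ' h
    exact ker_injective (congrArg MaximalSpectrum.asIdeal h)
  exact Finite.of_injective _ this

/-- the evaluation map -/
noncomputable def ev : A →ₐ[k] ((A →ₐ[k] k) → k) := AlgHom.pi (R := k) (fun f : A →ₐ[k] k => f)

theorem ev_apply (a : A) (χ : A →ₐ[k] k) : ev k A a χ = χ a := rfl

theorem ev_surjective : Function.Surjective (ev k A) := by
  intro g
  have hcop : Pairwise (Function.onFun IsCoprime fun χ : A →ₐ[k] k => RingHom.ker (χ : A →+* k)) :=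
    fun χ χ' h => isCoprime_ker h
  obtain ⟨r, hr⟩ := Ideal.exists_forall_sub_mem_ideal hcop (fun χ => algebraMap k A (g χ))
  refine ⟨r, funext fun χ => ?_⟩
  have := hr χ
  rw [RingHom.mem_ker] at this
  simp only [AlgHom.coe_toRingHom, map_sub, AlgHom.commutes, Algebra.algebraMap_self_apply] at this
  rw [ev_apply]
  exact sub_eq_zero.1 this

theorem ker_ev : RingHom.ker (ev k A : A →+* ((A →ₐ[k] k) → k)) = nilradical A := by
  ext a
  rw [RingHom.mem_ker]
  constructor
  · intro h
    have := isArtinian k A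
    rw [IsArtinianRing.nilradical_eq_iInf, Ideal.mem_iInf]
    intro m
    obtain ⟨χ, hχ⟩ := exists_algHom_ker_eq k A m.asIdeal
    rw [← hχ, RingHom.mem_ker]
    exact congrFun h χ
  · intro h
    funext χ
    have h1 : IsNilpotent (χ a) := (mem_nilradical.1 h).map χ
    exact h1.eq_zero

end AlgClosed

end Groth.Agent.Helper6.FinAlg
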