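import Groth.Agent.Lib.Helper6.FinAlg
import Mathlib.RingTheory.Ideal.Quotient.Operations

set_option autoImplicit false
set_option linter.unusedSectionVars false
universe u v

namespace Groth.Agent.Helper6.FinAlg

open scoped Classical

section Idem

variable {R : Type*} [CommRing R]

/-- two idempotents differing by a nilpotent are equal -/
theorem idem_eq_of_sub_nilpotent {e e' : R} (he : IsIdempotentElem e) (he' : IsIdempotentElem e')
    (h : IsNilpotent (e - e')) : e = e' := by
  have h3 : (e - e') ^ 3 = e - e' := by
    have h1 : e * e = e := he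
    have h2 : e' * e' = e' := he'
    have : (e - e') ^ 3 = e * e * e - 3 * (e * e) * e' + 3 * e * (e' * e') - e' * e' * e' := by ring
    rw [this, h1, h1, h2, h2]
    ring
  obtain ⟨n, hn⟩ := h
  have hpow : ∀ j : ℕ, (e - e') ^ (3 ^ j) = e - e' := by
    intro j
    induction j with
    | zero => simp
    | succ j ih => rw [pow_succ, pow_mul, ih, h3]
  have : (e - e') ^ (3 ^ n) = 0 := by
    have hle : n ≤ 3 ^ n := (Nat.lt_pow_self (by norm_num : 1 < 3)).le
    exact pow_eq_zero_of_le hle hn
  rw [hpow n] at this
  exact sub_eq_zero.1 this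

end Idem

variable (k : Type u) [Field k] [IsAlgClosed k] (A : Type v) [CommRing A] [Algebra k A]
  [Module.Finite k A]

noncomputable instance fintypeAlgHom : Fintype (A →ₐ[k] k) := Fintype.ofFinite _

theorem exists_idem : ∃ e : (A →ₐ[k] k) → A, CompleteOrthogonalIdempotents e ∧
    ∀ χ, ev k A (e χ) = Pi.single χ 1 := by
  have h := CompleteOrthogonalIdempotents.lift_of_isNilpotent_ker
    (ev k A : A →+* ((A →ₐ[k] k) → k))
    (fun x hx => by
      rw [ker_ev] at hx
      exact mem_nilradical.1 hx)
    (CompleteOrthogonalIdempotents.single (fun _ : A →ₐ[k] k => k))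
    (fun χ => ev_surjective k A _)
  obtain ⟨e, he, hfe⟩ := h
  exact ⟨e, he, fun χ => congrFun hfe χ⟩

/-- chosen idempotents -/
noncomputable def idem : (A →ₐ[k] k) → A := (exists_idem k A).choose

theorem idem_complete : CompleteOrthogonalIdempotents (idem k A) := (exists_idem k A).choose_spec.1

theorem ev_idem (χ : A →ₐ[k] k) : ev k A (idem k A χ) = Pi.single χ 1 :=
  (exists_idem k A).choose_spec.2 χ

/-- the section of the evaluation map, as a linear map -/
noncomputable def secLin : ((A →ₐ[k] k) → k) →ₗ[k] A :=
  ∑ χ : A →ₐ[k] k, (LinearMap.proj χ : ((A →ₐ[k] k) → k) →ₗ[k] k).smulRight (idem k A χ)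

theorem secLin_apply (g : (A →ₐ[k] k) → k) : secLin k A g = ∑ χ, g χ • idem k A χ := by
  simp [secLin, LinearMap.sum_apply]

/-- the section of the evaluation map -/
noncomputable def sec : ((A →ₐ[k] k) → k) →ₐ[k] A :=
  AlgHom.ofLinearMap (secLin k A)
    (by
      rw [secLin_apply]
      simp only [Pi.one_apply, one_smul]
      exact (idem_complete k A).complete)
    (by
      intro g h
      rw [secLin_apply, secLin_apply, secLin_apply, Finset.sum_mul]
      refine Finset.sum_congr rfl fun χ _ => ?_
      rw [Finset.mul_sum, Finset.sum_eq_single χ]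
      · rw [smul_mul_smul_comm, (idem_complete k A).idem χ, Pi.mul_apply]
      · intro ψ _ hne
        rw [smul_mul_smul_comm, (idem_complete k A).ortho hne.symm, smul_zero]
      · intro h; exact absurd (Finset.mem_univ χ) h)

theorem sec_apply (g : (A →ₐ[k] k) → k) : sec k A g = ∑ χ, g χ • idem k A χ :=
  secLin_apply k A g

theorem ev_sec (g : (A →ₐ[k] k) → k) : ev k A (sec k A g) = g := by
  rw [sec_apply, map_sum]
  funext ψ
  rw [Finset.sum_apply]
  simp only [map_smul, ev_idem, Pi.smul_apply, smul_eq_mul]
  rw [Finset.sum_eq_single ψ]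
  · simp
  · intro χ _ hne
    simp [hne.symm]
  · intro h; exact absurd (Finset.mem_univ ψ) h

theorem sec_injective : Function.Injective (sec k A) :=
  Function.LeftInverse.injective (ev_sec k A)

theorem sub_sec_ev_mem (a : A) : a - sec k A (ev k A a) ∈ nilradical A := by
  rw [← ker_ev k A, RingHom.mem_ker]
  show ev k A (a - sec k A (ev k A a)) = 0
  rw [map_sub, ev_sec, sub_self]

/-- every idempotent of `A` is in the range of the section -/
theorem idem_mem_range (e : A) (he : IsIdempotentElem e) : sec k A (ev k A e) = e := by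
  apply idem_eq_of_sub_nilpotent _ he
  · have := sub_sec_ev_mem k A e
    rw [mem_nilradical] at this
    rw [← neg_sub]
    exact this.neg
  · exact (he.map (ev k A)).map (sec k A)

end Groth.Agent.Helper6.FinAlg
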