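import Groth.Agent.Lib.Helper6.FinAlg2
import Mathlib.RingTheory.Ideal.Quotient.Nilpotent

set_option autoImplicit false
set_option linter.unusedSectionVars false
universe u v

namespace Groth.Agent.Helper6.FinAlg

variable (k : Type u) [Field k] [IsAlgClosed k] (A : Type v) [CommRing A] [Algebra k A]
  [Module.Finite k A]

/-- the largest reduced subalgebra -/
noncomputable def redSub : Subalgebra k A := (sec k A).range

theorem isReduced_redSub : IsReduced ↥(redSub k A) := by
  let f : ↥(redSub k A) →+* ((A →ₐ[k] k) → k) :=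
    ((ev k A).comp (redSub k A).val : ↥(redSub k A) →+* ((A →ₐ[k] k) → k))
  have hf : Function.Injective f := by
    rw [injective_iff_map_eq_zero]
    rintro ⟨b, g, rfl⟩ hb
    have : ev k A (sec k A g) = 0 := hb
    rw [ev_sec] at this
    apply Subtype.ext
    show sec k A g = 0
    rw [this, map_zero]
  exact isReduced_of_injective f hf

theorem reduced_eq_sec_ev [IsReduced A] (a : A) : sec k A (ev k A a) = a := by
  have := sub_sec_ev_mem k A a
  rw [nilradical_eq_zero, Ideal.zero_eq_bot, Ideal.mem_bot] at this
  exact (sub_eq_zero.1 this).symm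

theorem le_redSub (C : Subalgebra k A) (hC : IsReduced ↥C) : C ≤ redSub k A := by
  intro c hc
  have : IsNoetherian k A := isNoetherian_of_isNoetherianRing_of_finite k A
  have : Module.Finite k ↥C := Module.Finite.of_injective C.val.toLinearMap Subtype.val_injective
  have h1 := reduced_eq_sec_ev k ↥C ⟨c, hc⟩
  have h2 : c = ∑ ψ : ↥C →ₐ[k] k, (ev k ↥C ⟨c, hc⟩ ψ) • ((idem k ↥C ψ : ↥C) : A) := by
    have := congrArg (fun x : ↥C => (x : A)) h1
    simp only at this
    refine this.symm.trans ?_
    rw [sec_apply]
    simp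
  rw [h2]
  refine Subalgebra.sum_mem _ fun ψ _ => Subalgebra.smul_mem _ ?_ _
  have hid : IsIdempotentElem ((idem k ↥C ψ : ↥C) : A) := by
    have := (idem_complete k ↥C).idem ψ
    exact congrArg (fun x : ↥C => (x : A)) this
  exact ⟨_, idem_mem_range k A _ hid⟩

theorem bijective_redSub :
    Function.Bijective ((Ideal.Quotient.mkₐ k (nilradical A)).comp (redSub k A).val) := by
  constructor
  · rw [injective_iff_map_eq_zero]
    rintro ⟨b, g, rfl⟩ hb
    have hb' : Ideal.Quotient.mk (nilradical A) (sec k A g) = 0 := hb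
    rw [Ideal.Quotient.eq_zero_iff_mem, ← ker_ev k A, RingHom.mem_ker] at hb'
    have : ev k A (sec k A g) = 0 := hb'
    rw [ev_sec] at this
    apply Subtype.ext
    show sec k A g = 0
    rw [this, map_zero]
  · intro x
    obtain ⟨a, rfl⟩ := Ideal.Quotient.mk_surjective x
    refine ⟨⟨sec k A (ev k A a), _, rfl⟩, ?_⟩
    show Ideal.Quotient.mk (nilradical A) (sec k A (ev k A a)) = Ideal.Quotient.mk (nilradical A) a
    rw [eq_comm, Ideal.Quotient.eq]
    exact sub_sec_ev_mem k A a

theorem s17323 : ∃ B : Subalgebra k A, IsReduced ↥B ∧ (∀ C : Subalgebra k A, IsReduced ↥C → C ≤ B) ∧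
      Function.Bijective ((Ideal.Quotient.mkₐ k (nilradical A)).comp B.val) :=
  ⟨redSub k A, isReduced_redSub k A, le_redSub k A, bijective_redSub k A⟩

/-- evaluation factored through the reduction -/
noncomputable def evbar : (A ⧸ nilradical A) →ₐ[k] ((A →ₐ[k] k) → k) :=
  Ideal.Quotient.liftₐ (nilradical A) (ev k A) (fun a ha => by
    rw [← ker_ev k A, RingHom.mem_ker] at ha
    exact ha)

theorem evbar_mk (a : A) : evbar k A (Ideal.Quotient.mk (nilradical A) a) = ev k A a := rfl

theorem s17336 : ∃! s : (A ⧸ nilradical A) →ₐ[k] A,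
      (Ideal.Quotient.mkₐ k (nilradical A)).comp s = AlgHom.id k (A ⧸ nilradical A) := by
  refine ⟨(sec k A).comp (evbar k A), ?_, ?_⟩
  · ext x
    obtain ⟨a, rfl⟩ := Ideal.Quotient.mk_surjective x
    show Ideal.Quotient.mk (nilradical A) (sec k A (ev k A a)) = Ideal.Quotient.mk (nilradical A) a
    rw [eq_comm, Ideal.Quotient.eq]
    exact sub_sec_ev_mem k A a
  · intro s hs
    have hs' : ∀ x, Ideal.Quotient.mk (nilradical A) (s x) = x := fun x => by
      have := congrArg (fun f : (A ⧸ nilradical A) →ₐ[k] (A ⧸ nilradical A) => f x) hs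
      exact this
    have hredq : IsReduced (A ⧸ nilradical A) :=
      (Ideal.isRadical_iff_quotient_reduced _).1 (Ideal.radical_isRadical _)
    have hred : IsReduced ↥s.range := by
      let f : ↥s.range →+* (A ⧸ nilradical A) :=
        ((Ideal.Quotient.mkₐ k (nilradical A)).comp s.range.val : ↥s.range →+* (A ⧸ nilradical A))
      have hf : Function.Injective f := by
        rw [injective_iff_map_eq_zero]
        rintro ⟨b, y, rfl⟩ hb
        have : Ideal.Quotient.mk (nilradical A) (s y) = 0 := hb
        rw [hs'] at this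
        apply Subtype.ext
        show s y = 0
        rw [this, map_zero]
      exact isReduced_of_injective f hf
    have hle := le_redSub k A s.range hred
    ext x
    obtain ⟨g, hg⟩ := hle ⟨x, rfl⟩
    have hg' : sec k A g = s x := hg
    have h1 : ev k A (s x) = evbar k A x := by
      rw [← evbar_mk, hs']
    show s x = sec k A (evbar k A x)
    rw [← h1, ← hg', ev_sec]

end Groth.Agent.Helper6.FinAlg
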