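import Groth.Agent.Lib.Helper6.FinAlg3
import Mathlib.Algebra.CharP.Lemmas
import Mathlib.Algebra.CharP.Algebra

set_option autoImplicit false
set_option linter.unusedSectionVars false
universe u v

namespace Groth.Agent.Helper6.FinAlg

variable (k : Type u) [Field k] [IsAlgClosed k] (A : Type v) [CommRing A] [Algebra k A]
  [Module.Finite k A]

theorem ev_injective [IsReduced A] : Function.Injective (ev k A) := by
  rw [injective_iff_map_eq_zero]
  intro a ha
  have : a ∈ RingHom.ker (ev k A : A →+* ((A →ₐ[k] k) → k)) := ha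
  rw [ker_ev, nilradical_eq_zero, Ideal.zero_eq_bot, Ideal.mem_bot] at this
  exact this

theorem s17326 (p : ℕ) [Fact p.Prime] [CharP k p] (n : ℕ) (hn : 1 ≤ n) :
    Function.Bijective (fun a : A => a ^ p ^ n) ↔ IsReduced A := by
  rcases subsingleton_or_nontrivial A with hs | hnt
  · constructor
    · intro _
      exact ⟨fun x _ => Subsingleton.elim _ _⟩
    · intro _
      exact ⟨fun a b _ => Subsingleton.elim _ _, fun a => ⟨a, Subsingleton.elim _ _⟩⟩
  have hchar : CharP A p := charP_of_injective_algebraMap (algebraMap k A).injective p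
  have hp : p.Prime := Fact.out
  constructor
  · rintro ⟨hinj, -⟩
    refine ⟨fun x hx => ?_⟩
    obtain ⟨N, hN⟩ := hx
    have hiter : ∀ j : ℕ, (fun a : A => a ^ p ^ n)^[j] x = x ^ (p ^ n) ^ j := by
      intro j
      induction j with
      | zero => simp
      | succ j ih =>
        rw [Function.iterate_succ_apply', ih, ← pow_mul, ← pow_succ]
    have hiter0 : ∀ j : ℕ, (fun a : A => a ^ p ^ n)^[j] 0 = 0 := by
      intro j
      induction j with
      | zero => simp
      | succ j ih =>
        rw [Function.iterate_succ_apply', ih]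
        exact zero_pow (pow_ne_zero _ hp.ne_zero)
    have hbig : N ≤ (p ^ n) ^ N := by
      have h2 : 2 ≤ p ^ n := by
        calc 2 ≤ p := hp.two_le
          _ = p ^ 1 := (pow_one p).symm
          _ ≤ p ^ n := Nat.pow_le_pow_right hp.pos hn
      calc N ≤ 2 ^ N := (Nat.lt_pow_self (by norm_num : 1 < 2)).le
        _ ≤ (p ^ n) ^ N := Nat.pow_le_pow_left h2 N
    have h0 : x ^ (p ^ n) ^ N = 0 := pow_eq_zero_of_le hbig hN
    apply (hinj.iterate N)
    rw [hiter, hiter0, h0]
  · intro hred
    constructor
    · intro a b hab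
      have hab' : a ^ p ^ n = b ^ p ^ n := hab
      have : (a - b) ^ p ^ n = 0 := by
        rw [sub_pow_char_pow, hab', sub_self]
      exact sub_eq_zero.1 (pow_eq_zero_iff (pow_ne_zero _ hp.ne_zero) |>.1 this)
    · intro a
      have hroot : ∀ χ : A →ₐ[k] k, ∃ z : k, z ^ (p ^ n) = ev k A a χ :=
        fun χ => IsAlgClosed.exists_pow_nat_eq _ (pow_pos hp.pos n)
      choose h hh using hroot
      refine ⟨sec k A h, ?_⟩
      apply ev_injective k A
      show ev k A ((sec k A h) ^ p ^ n) = ev k A a
      rw [map_pow, ev_sec]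
      funext χ
      rw [Pi.pow_apply, hh]

end Groth.Agent.Helper6.FinAlg
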