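import Groth.Agent.Lib.Helper6.FinAlg
import Mathlib.RingTheory.LocalRing.Basic
import Mathlib.RingTheory.Idempotents

set_option autoImplicit false
set_option linter.unusedSectionVars false
universe u v

namespace Groth.Agent.Helper6.FinAlg

theorem s17334 (k : Type u) [Field k]
    (A : Type v) [CommRing A] [Algebra k A] [Module.Finite k A] [Nontrivial A] :
    (∀ e : A, IsIdempotentElem e → e = 0 ∨ e = 1) ↔ IsLocalRing A := by
  have hart := isArtinian k A
  constructor
  · intro h
    apply IsLocalRing.of_unique_max_ideal
    obtain ⟨m, hm⟩ := Ideal.exists_maximal A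
    refine ⟨m, hm, fun m' hm' => ?_⟩
    by_contra hne
    classical
    let M : MaximalSpectrum A := ⟨m, hm⟩
    let M' : MaximalSpectrum A := ⟨m', hm'⟩
    have hMM' : M' ≠ M := fun h => hne (congrArg MaximalSpectrum.asIdeal h)
    let φ := IsArtinianRing.quotNilradicalEquivPi A
    let ε : ∀ I : MaximalSpectrum A, A ⧸ I.asIdeal := Pi.single M 1
    have hε : IsIdempotentElem ε := by
      show ε * ε = ε
      rw [← Pi.single_mul, one_mul]
    obtain ⟨e, he, hee⟩ := exists_isIdempotentElem_eq_of_ker_isNilpotent
      (Ideal.Quotient.mk (nilradical A))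
      (fun x hx => by rw [Ideal.mk_ker] at hx; exact mem_nilradical.1 hx) (φ.symm ε)
      (Ideal.Quotient.mk_surjective _) (hε.map φ.symm)
    have hφ : φ (Ideal.Quotient.mk (nilradical A) e) = ε := by
      rw [hee, φ.apply_symm_apply]
    rcases h e he with rfl | rfl
    · rw [map_zero, map_zero] at hφ
      have h1 := congrFun hφ M
      simp only [Pi.zero_apply, ε, Pi.single_eq_same] at h1
      have : Nontrivial (A ⧸ M.asIdeal) := Ideal.Quotient.nontrivial_iff.2 hm.ne_top
      exact zero_ne_one h1
    · rw [map_one, map_one] at hφ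
      have h1 := congrFun hφ M'
      simp only [Pi.one_apply, ε, Pi.single_eq_of_ne hMM'] at h1
      have : Nontrivial (A ⧸ M'.asIdeal) := Ideal.Quotient.nontrivial_iff.2 hm'.ne_top
      exact one_ne_zero h1
  · intro hloc e he
    rcases IsLocalRing.isUnit_or_isUnit_one_sub_self e with hu | hu
    · right
      have : e * e = e * 1 := by rw [mul_one]; exact he
      exact hu.mul_left_cancel this
    · left
      have h1 : (1 - e) * e = (1 - e) * 0 := by rw [mul_zero, sub_mul, one_mul, he.eq, sub_self]
      exact hu.mul_left_cancel h1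

end Groth.Agent.Helper6.FinAlg
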