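import Mathlib.Algebra.Algebra.Pi
import Mathlib.Data.Fintype.Basic
import Mathlib.RingTheory.Derivation.Basic
import Mathlib.Algebra.Algebra.Prod
import Mathlib.Tactic

set_option autoImplicit false
set_option linter.unusedSectionVars false
universe u v w

namespace Groth.Agent.Helper6.FinAlg

open scoped Classical

theorem algHom_pi_eq_eval (k : Type u) [Field k] (F : Type w) [Finite F] (χ : (F → k) →ₐ[k] k) :
    ∃ f : F, ∀ g : F → k, χ g = g f := by
  have := Fintype.ofFinite F
  have hidem : ∀ f : F, χ (Pi.single f 1) = 0 ∨ χ (Pi.single f 1) = 1 := by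
    intro f
    have h : χ (Pi.single f 1) * χ (Pi.single f 1) = χ (Pi.single f 1) := by
      rw [← map_mul, ← Pi.single_mul, one_mul]
    have h' : χ (Pi.single f 1) * (χ (Pi.single f 1) - 1) = 0 := by rw [mul_sub, h, mul_one, sub_self]
    rcases mul_eq_zero.1 h' with h0 | h1
    · exact Or.inl h0
    · exact Or.inr (sub_eq_zero.1 h1)
  have hsum : ∑ f : F, χ (Pi.single f (1 : k)) = 1 := by
    rw [← map_sum, Finset.univ_sum_single]
    exact map_one χ
  have hex : ∃ f : F, χ (Pi.single f 1) = 1 := by
    by_contra hno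
    push Not at hno
    have : ∀ f : F, χ (Pi.single f (1 : k)) = 0 := fun f => (hidem f).resolve_right (hno f)
    rw [Finset.sum_congr rfl (fun f _ => this f), Finset.sum_const_zero] at hsum
    exact zero_ne_one hsum
  obtain ⟨f, hf⟩ := hex
  refine ⟨f, fun g => ?_⟩
  have hother : ∀ f' : F, f' ≠ f → χ (Pi.single f' (1 : k)) = 0 := by
    intro f' hne
    have : χ (Pi.single f' (1 : k)) * χ (Pi.single f (1 : k)) = 0 := by
      rw [← map_mul]
      have : (Pi.single f' (1 : k) : F → k) * Pi.single f (1 : k) = 0 := by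
        funext x
        simp only [Pi.mul_apply, Pi.zero_apply, Pi.single_apply]
        by_cases h1 : x = f'
        · have : x ≠ f := fun h2 => hne (h1.symm.trans h2)
          simp [this]
        · simp [h1]
      rw [this, map_zero]
    rwa [hf, mul_one] at this
  have hg : g = ∑ f' : F, g f' • (Pi.single f' (1 : k) : F → k) := by
    funext x
    simp [Finset.sum_apply, Pi.single_apply]
  conv_lhs => rw [hg]
  rw [map_sum, Finset.sum_eq_single f]
  · rw [map_smul, hf, smul_eq_mul, mul_one]
  · intro f' _ hne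
    rw [map_smul, hother f' hne, smul_zero]
  · intro h; exact absurd (Finset.mem_univ f) h

theorem s17332 (k : Type u) [Field k] (E : Type v) [Finite E]
    (F : Type w) [Finite F] (u : (F → k) →ₐ[k] (E → k)) :
    ∃! φ : E → F, ∀ g : F → k, u g = g ∘ φ := by
  have hex : ∀ e : E, ∃ f : F, ∀ g : F → k, u g e = g f := fun e =>
    algHom_pi_eq_eval k F ((Pi.evalAlgHom k (fun _ : E => k) e).comp u)
  choose φ hφ using hex
  refine ⟨φ, fun g => funext fun e => hφ e g, ?_⟩
  intro φ' hφ'
  funext e
  have h1 := congrFun (hφ' (Pi.single (φ e) 1)) e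
  rw [hφ e] at h1
  simp only [Pi.single_eq_same, Function.comp_apply, Pi.single_apply] at h1
  by_contra hne
  rw [if_neg hne] at h1
  exact one_ne_zero h1

theorem s17333 (k : Type u) [Field k] (B : Type v) [CommRing B] [Algebra k B]
    (C : Type w) [CommRing C] [Algebra k C] (D : Derivation k (B × C) (B × C)) :
    ∃! P : Derivation k B B × Derivation k C C, ∀ (b : B) (c : C), D (b, c) = (P.1 b, P.2 c) := by
  have he : D ((1 : B), (0 : C)) = 0 := by
    have h1 : ((1 : B), (0 : C)) * ((1 : B), (0 : C)) = ((1 : B), (0 : C)) := by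
      ext <;> simp
    have h2 := D.leibniz ((1 : B), (0 : C)) ((1 : B), (0 : C))
    rw [h1] at h2
    -- D e = e • D e + e • D e
    have h3 : ((1 : B), (0 : C)) • D ((1 : B), (0 : C)) = 0 := by
      have h4 : ((1 : B), (0 : C)) • D ((1 : B), (0 : C))
          = ((1 : B), (0 : C)) • (((1 : B), (0 : C)) • D ((1 : B), (0 : C))
            + ((1 : B), (0 : C)) • D ((1 : B), (0 : C))) := by rw [← h2]
      rw [smul_add, smul_smul, h1] at h4
      exact left_eq_add.mp h4
    rw [h2, h3, add_zero]
  have he' : D ((0 : B), (1 : C)) = 0 := by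
    have h1 : ((0 : B), (1 : C)) = 1 - ((1 : B), (0 : C)) := by ext <;> simp
    rw [h1, map_sub, he, sub_zero]
    exact D.map_one_eq_zero
  have hB : ∀ b : B, (D (b, 0)).2 = 0 := by
    intro b
    have h1 : ((b, 0) : B × C) = ((1 : B), (0 : C)) * (b, 0) := by ext <;> simp
    have h2 := D.leibniz ((1 : B), (0 : C)) ((b, 0) : B × C)
    rw [← h1, he, smul_zero, add_zero] at h2
    have h3 := congrArg Prod.snd h2
    simpa using h3
  have hC : ∀ c : C, (D (0, c)).1 = 0 := by
    intro c
    have h1 : ((0, c) : B × C) = ((0 : B), (1 : C)) * (0, c) := by ext <;> simp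
    have h2 := D.leibniz ((0 : B), (1 : C)) ((0, c) : B × C)
    rw [← h1, he', smul_zero, add_zero] at h2
    have h3 := congrArg Prod.fst h2
    simpa using h3
  let D₁ : Derivation k B B := Derivation.mk'
    ((LinearMap.fst k B C).comp ((D : (B × C) →ₗ[k] (B × C)).comp (LinearMap.inl k B C)))
    (by
      intro a b
      show (D (a * b, 0)).1 = a • (D (b, 0)).1 + b • (D (a, 0)).1
      have h1 : ((a * b, 0) : B × C) = (a, 0) * (b, 0) := by ext <;> simp
      rw [h1, D.leibniz]
      simp)
  let D₂ : Derivation k C C := Derivation.mk'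
    ((LinearMap.snd k B C).comp ((D : (B × C) →ₗ[k] (B × C)).comp (LinearMap.inr k B C)))
    (by
      intro a b
      show (D (0, a * b)).2 = a • (D (0, b)).2 + b • (D (0, a)).2
      have h1 : ((0, a * b) : B × C) = (0, a) * (0, b) := by ext <;> simp
      rw [h1, D.leibniz]
      simp)
  have hD : ∀ (b : B) (c : C), D (b, c) = (D₁ b, D₂ c) := by
    intro b c
    have h1 : ((b, c) : B × C) = (b, 0) + (0, c) := by ext <;> simp
    rw [h1, map_add]
    ext
    · show (D (b, 0)).1 + (D (0, c)).1 = (D (b, 0)).1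
      rw [hC, add_zero]
    · show (D (b, 0)).2 + (D (0, c)).2 = (D (0, c)).2
      rw [hB, zero_add]
  refine ⟨(D₁, D₂), hD, ?_⟩
  rintro ⟨P₁, P₂⟩ hP
  have e1 : P₁ = D₁ := by
    ext b
    have := (hP b 0).symm.trans (hD b 0)
    exact congrArg Prod.fst this
  have e2 : P₂ = D₂ := by
    ext c
    have := (hP 0 c).symm.trans (hD 0 c)
    exact congrArg Prod.snd this
  rw [e1, e2]

end Groth.Agent.Helper6.FinAlg
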