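import Groth.Agent.Lib.Helper6.FinAlg
import Mathlib.RingTheory.LocalRing.MaximalIdeal.Basic
import Mathlib.RingTheory.Adjoin.Basic

set_option autoImplicit false
set_option linter.unusedSectionVars false
universe u v

namespace Groth.Agent.Helper6.FinAlg

open IsLocalRing

variable (k : Type u) [Field k] [IsAlgClosed k]
    (A : Type v) [CommRing A] [Algebra k A] [Module.Finite k A] [IsLocalRing A]

theorem exists_sub_mem_maximalIdeal (x : A) : ∃ c : k, x - algebraMap k A c ∈ maximalIdeal A := by
  obtain ⟨χ, hχ⟩ := exists_algHom_ker_eq k A (maximalIdeal A)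
  refine ⟨χ x, ?_⟩
  rw [← hχ]
  exact sub_algebraMap_mem_ker χ x

include k in
theorem exists_pow_maximalIdeal_eq_bot : ∃ N : ℕ, maximalIdeal A ^ N = ⊥ := by
  have := isArtinian k A
  have h := IsArtinianRing.isNilpotent_jacobson_bot (R := A)
  rw [IsLocalRing.jacobson_eq_maximalIdeal _ bot_ne_top] at h
  exact h

theorem s17324 (m : ℕ) (a : Fin m → A) (ha : ∀ i, a i ∈ maximalIdeal A) :
    Algebra.adjoin k (Set.range a) = ⊤ ↔ Ideal.span (Set.range a) = maximalIdeal A := by
  have hle : Ideal.span (Set.range a) ≤ maximalIdeal A := by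
    rw [Ideal.span_le]
    rintro _ ⟨i, rfl⟩
    exact ha i
  constructor
  · intro hadj
    apply le_antisymm hle
    intro x hx
    have hx' : x ∈ Algebra.adjoin k (Set.range a) := hadj ▸ Algebra.mem_top
    have key : ∀ y ∈ Algebra.adjoin k (Set.range a),
        ∃ c : k, y - algebraMap k A c ∈ Ideal.span (Set.range a) := by
      intro y hy
      induction hy using Algebra.adjoin_induction with
      | mem y hy => exact ⟨0, by rw [map_zero, sub_zero]; exact Ideal.subset_span hy⟩
      | algebraMap r => exact ⟨r, by rw [sub_self]; exact Ideal.zero_mem _⟩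
      | add y z _ _ hy hz =>
        obtain ⟨c, hc⟩ := hy
        obtain ⟨d, hd⟩ := hz
        refine ⟨c + d, ?_⟩
        have : y + z - algebraMap k A (c + d) = (y - algebraMap k A c) + (z - algebraMap k A d) := by
          rw [map_add]; ring
        rw [this]
        exact Ideal.add_mem _ hc hd
      | mul y z _ _ hy hz =>
        obtain ⟨c, hc⟩ := hy
        obtain ⟨d, hd⟩ := hz
        refine ⟨c * d, ?_⟩
        have : y * z - algebraMap k A (c * d)
            = y * (z - algebraMap k A d) + algebraMap k A d * (y - algebraMap k A c) := by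
          rw [map_mul]; ring
        rw [this]
        exact Ideal.add_mem _ (Ideal.mul_mem_left _ _ hd) (Ideal.mul_mem_left _ _ hc)
    obtain ⟨c, hc⟩ := key x hx'
    have hcm : algebraMap k A c ∈ maximalIdeal A := by
      have : algebraMap k A c = x - (x - algebraMap k A c) := by ring
      rw [this]
      exact Ideal.sub_mem _ hx (hle hc)
    have hc0 : c = 0 := by
      by_contra hne
      have hu : IsUnit (algebraMap k A c) := (IsUnit.mk0 c hne).map (algebraMap k A)
      exact (mem_maximalIdeal _).1 hcm hu
    rw [hc0, map_zero, sub_zero] at hc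
    exact hc
  · intro hspan
    obtain ⟨N, hN⟩ := exists_pow_maximalIdeal_eq_bot k A
    have key : ∀ j : ℕ, ∀ x : A, ∃ b ∈ Algebra.adjoin k (Set.range a), x - b ∈ maximalIdeal A ^ j := by
      intro j
      induction j with
      | zero =>
        intro x
        exact ⟨0, Subalgebra.zero_mem _, by rw [pow_zero, Ideal.one_eq_top]; exact Submodule.mem_top⟩
      | succ j ih =>
        have hm : ∀ x ∈ maximalIdeal A,
            ∃ b ∈ Algebra.adjoin k (Set.range a), x - b ∈ maximalIdeal A ^ (j + 1) := by
          intro x hx
          rw [← hspan, Ideal.mem_span_range_iff_exists_fun] at hx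
          obtain ⟨r, rfl⟩ := hx
          choose b hb hbr using fun i => ih (r i)
          refine ⟨∑ i, b i * a i, ?_, ?_⟩
          · exact Subalgebra.sum_mem _ fun i _ =>
              Subalgebra.mul_mem _ (hb i) (Algebra.subset_adjoin ⟨i, rfl⟩)
          · rw [← Finset.sum_sub_distrib]
            refine Ideal.sum_mem _ fun i _ => ?_
            rw [← sub_mul, pow_succ]
            exact Ideal.mul_mem_mul (hbr i) (ha i)
        intro x
        obtain ⟨c, hc⟩ := exists_sub_mem_maximalIdeal k A x
        obtain ⟨b, hb, hxb⟩ := hm _ hc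
        refine ⟨algebraMap k A c + b, Subalgebra.add_mem _ (Subalgebra.algebraMap_mem _ c) hb, ?_⟩
        have : x - (algebraMap k A c + b) = x - algebraMap k A c - b := by ring
        rw [this]
        exact hxb
    rw [eq_top_iff]
    intro x _
    obtain ⟨b, hb, hxb⟩ := key N x
    rw [hN, Ideal.mem_bot, sub_eq_zero] at hxb
    rw [hxb]
    exact hb

end Groth.Agent.Helper6.FinAlg
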