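import Mathlib

/-! Characters of `G` vanishing on the common kernel of finitely many torsion characters
are integral combinations of them. -/

universe u

namespace Groth.Agent.Lib.Helper6.FinDual

/-- On `n`-torsion of `ℚ/ℤ` every endomorphism is multiplication by an integer. -/
theorem torsion_scalar (n : ℕ) (hn : 0 < n) (ψ : AddCircle (1 : ℚ) →+ AddCircle (1 : ℚ)) :
    ∃ a : ℤ, ∀ y : AddCircle (1 : ℚ), n • y = 0 → ψ y = a • y := by
  -- torsion elements are multiples of 1/n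
  have hcyc : ∀ y : AddCircle (1 : ℚ), n • y = 0 →
      ∃ b : ℤ, y = b • (((1 / n : ℚ)) : AddCircle (1 : ℚ)) := by
    intro y hy
    obtain ⟨q, rfl⟩ := QuotientAddGroup.mk_surjective y
    have h1 : ((n • q : ℚ) : AddCircle (1 : ℚ)) = 0 := hy
    rw [AddCircle.coe_eq_zero_iff] at h1
    obtain ⟨b, hb⟩ := h1
    refine ⟨b, ?_⟩
    have h2 : q = b • (1 / n : ℚ) := by
      have hn' : (n : ℚ) ≠ 0 := Nat.cast_ne_zero.mpr hn.ne'
      rw [zsmul_eq_mul, mul_one, nsmul_eq_mul] at hb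
      rw [zsmul_eq_mul, hb]
      field_simp
    show ((q : ℚ) : AddCircle (1 : ℚ)) = _
    rw [h2]
    rfl
  have ht : n • (((1 / n : ℚ)) : AddCircle (1 : ℚ)) = 0 := by
    have : ((n • (1 / n : ℚ) : ℚ) : AddCircle (1 : ℚ)) = 0 := by
      rw [AddCircle.coe_eq_zero_iff]
      refine ⟨1, ?_⟩
      have hn' : (n : ℚ) ≠ 0 := Nat.cast_ne_zero.mpr hn.ne'
      rw [one_smul, nsmul_eq_mul]
      field_simp
    exact this
  obtain ⟨a, ha⟩ := hcyc (ψ (((1 / n : ℚ)) : AddCircle (1 : ℚ))) (by rw [← map_nsmul, ht, map_zero])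
  refine ⟨a, fun y hy => ?_⟩
  obtain ⟨b, rfl⟩ := hcyc y hy
  rw [map_zsmul, ha, smul_comm]

theorem span_of_ker {G : Type u} [AddCommGroup G] {ι : Type*} [Fintype ι]
    (c : ι → (G →+ AddCircle (1 : ℚ))) (hc : ∀ i, ∃ n : ℕ, 0 < n ∧ n • c i = 0)
    (χ : G →+ AddCircle (1 : ℚ)) (hχ : ∀ g : G, (∀ i, c i g = 0) → χ g = 0) :
    ∃ a : ι → ℤ, χ = ∑ i, a i • c i := by
  classical
  let Φ : G →+ (ι → AddCircle (1 : ℚ)) := AddMonoidHom.pi c
  have hker : Φ.ker ≤ χ.ker := by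
    intro g hg
    rw [AddMonoidHom.mem_ker] at hg ⊢
    exact hχ g (fun i => congrFun hg i)
  let χ' : G ⧸ Φ.ker →+ AddCircle (1 : ℚ) := QuotientAddGroup.lift Φ.ker χ hker
  let Φ' : G ⧸ Φ.ker →+ (ι → AddCircle (1 : ℚ)) := QuotientAddGroup.kerLift Φ
  have hinj : Function.Injective Φ'.toIntLinearMap := QuotientAddGroup.kerLift_injective Φ
  obtain ⟨ψ, hψ⟩ := CharacterModule.dual_surjective_of_injective (R := ℤ) Φ'.toIntLinearMap hinj χ'
  have hψ' : ∀ g : G, ψ (Φ g) = χ g := by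
    intro g
    have := DFunLike.congr_fun hψ (QuotientAddGroup.mk g)
    exact this
  have hT : ∀ i, ∃ a : ℤ, ∀ y : AddCircle (1 : ℚ), (∃ g, y = c i g) →
      ψ (Pi.single i y) = a • y := by
    intro i
    obtain ⟨n, hn, hni⟩ := hc i
    obtain ⟨a, ha⟩ := torsion_scalar n hn
      ((ψ : (ι → AddCircle (1 : ℚ)) →+ AddCircle (1 : ℚ)).comp (AddMonoidHom.single (fun _ : ι => AddCircle (1 : ℚ)) i))
    refine ⟨a, ?_⟩
    rintro y ⟨g, rfl⟩
    have hy : n • c i g = 0 := by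
      have := DFunLike.congr_fun hni g
      simpa using this
    exact ha _ hy
  choose a ha using hT
  refine ⟨a, ?_⟩
  ext g
  rw [← hψ' g]
  have h1 : Φ g = ∑ i, Pi.single i (c i g) := by
    funext j
    rw [Finset.sum_apply]
    simp [Φ, Pi.single_apply]
  rw [h1, map_sum]
  simp only [AddMonoidHom.coe_finset_sum, Finset.sum_apply, AddMonoidHom.smul_apply]
  exact Finset.sum_congr rfl fun i _ => ha i _ ⟨g, rfl⟩

end Groth.Agent.Lib.Helper6.FinDual
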