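import Mathlib

set_option linter.unusedSectionVars false
set_option autoImplicit false
set_option maxHeartbeats 400000

noncomputable section

namespace Groth.Agent.Lib.Helper6.FinLim

universe u v

variable {A : Type u} [CommRing A] (I : Ideal A)
  {M : ℕ → Type v} [∀ n, AddCommGroup (M n)] [∀ n, Module A (M n)]
  (f : ∀ n, M (n + 1) →ₗ[A] M n)
  {L : Type v} [AddCommGroup L] [Module A L] (π : ∀ n, L →ₗ[A] M n)

theorem pi_zero_surjective (hf : ∀ n, Function.Surjective (f n))
    (hlift : ∀ y : (∀ n, M n), (∀ n, f n (y (n + 1)) = y n) → ∃ x : L, ∀ n, π n x = y n) :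
    Function.Surjective (π 0) := by
  intro m
  obtain ⟨y, hy0, hy⟩ : ∃ y : ∀ n, M n, y 0 = m ∧ ∀ n, f n (y (n + 1)) = y n := by
    refine ⟨fun n => Nat.rec (motive := fun n => M n) m (fun n yn => (hf n yn).choose) n, rfl, ?_⟩
    intro n
    exact (hf n _).choose_spec
  obtain ⟨x, hx⟩ := hlift y hy
  exact ⟨x, by rw [hx 0, hy0]⟩

theorem span_eq_top (hker : ∀ n, LinearMap.ker (f n) = I ^ (n + 1) • (⊤ : Submodule A (M (n + 1))))
    (hkill : ∀ n, I ^ (n + 1) • (⊤ : Submodule A (M n)) = ⊥)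
    (hπ : ∀ n, f n ∘ₗ π (n + 1) = π n) {t : ℕ} (x : Fin t → L)
    (h0 : Submodule.span A (Set.range (fun i => π 0 (x i))) = ⊤) :
    ∀ n, Submodule.span A (Set.range (fun i => π n (x i))) = ⊤ := by
  intro n
  induction n with
  | zero => exact h0
  | succ n ih =>
    set N := Submodule.span A (Set.range (fun i => π (n + 1) (x i))) with hN
    have hmap : Submodule.map (f n) N = ⊤ := by
      rw [hN, Submodule.map_span, ← Set.range_comp, ← ih]
      congr 2
      funext i
      have := LinearMap.congr_fun (hπ n) (x i)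
      exact this
    have h1 : (⊤ : Submodule A (M (n + 1))) ≤ N ⊔ I ^ (n + 1) • ⊤ := by
      intro m _
      have : f n m ∈ Submodule.map (f n) N := by rw [hmap]; trivial
      obtain ⟨m', hm', hmm'⟩ := this
      have hk : m - m' ∈ LinearMap.ker (f n) := by
        rw [LinearMap.mem_ker, map_sub, hmm', sub_self]
      rw [hker n] at hk
      have : m = m' + (m - m') := by abel
      rw [this]
      exact Submodule.add_mem_sup hm' hk
    have h2 : I ^ (n + 1) • (⊤ : Submodule A (M (n + 1))) ≤ N := by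
      calc I ^ (n + 1) • (⊤ : Submodule A (M (n + 1)))
          ≤ I ^ (n + 1) • (N ⊔ I ^ (n + 1) • ⊤) := Submodule.smul_mono le_rfl h1
        _ = I ^ (n + 1) • N ⊔ I ^ (n + 1) • I ^ (n + 1) • ⊤ := Submodule.smul_sup _ _ _
        _ ≤ N ⊔ ⊥ := by
          apply sup_le_sup Submodule.smul_le_right
          rw [← Submodule.mul_smul, ← pow_add]
          have : I ^ (n + 1 + (n + 1)) ≤ I ^ (n + 1 + 1) := Ideal.pow_le_pow_right (by omega)
          exact (Submodule.smul_mono_left this).trans (hkill (n + 1)).le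
        _ = N := by simp
    exact top_le_iff.1 (h1.trans (sup_le le_rfl h2))

theorem step (hker : ∀ n, LinearMap.ker (f n) = I ^ (n + 1) • (⊤ : Submodule A (M (n + 1))))
    (hπ : ∀ n, f n ∘ₗ π (n + 1) = π n) {t : ℕ} (x : Fin t → L) (n : ℕ)
    (hspan : Submodule.span A (Set.range (fun i => π (n + 1) (x i))) = ⊤) (y : L)
    (a : Fin t → A) (ha : π n y = ∑ i, a i • π n (x i)) :
    ∃ a' : Fin t → A, (∀ i, a' i - a i ∈ I ^ (n + 1)) ∧
      π (n + 1) y = ∑ i, a' i • π (n + 1) (x i) := by
  have hπ' : ∀ w, f n (π (n + 1) w) = π n w := fun w => LinearMap.congr_fun (hπ n) w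
  have hz : π (n + 1) y - ∑ i, a i • π (n + 1) (x i) ∈ LinearMap.ker (f n) := by
    rw [LinearMap.mem_ker, map_sub, map_sum, hπ', ha]
    simp only [map_smul, hπ', sub_self]
  rw [hker n, ← hspan, Submodule.mem_ideal_smul_span_iff_exists_sum] at hz
  obtain ⟨c, hc, hsum⟩ := hz
  refine ⟨fun i => a i + c i, fun i => by simpa using hc i, ?_⟩
  rw [Finsupp.sum_fintype c (fun i r => r • π (n + 1) (x i)) (fun i => zero_smul _ _)] at hsum
  simp only [add_smul, Finset.sum_add_distrib, hsum]
  abel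

/-- dependent choice helper -/
def depSeq {X : ℕ → Type*} (P : ∀ n, X n → Prop) (R : ∀ n, X n → X (n + 1) → Prop) (a0 : X 0)
    (h0 : P 0 a0) (hs : ∀ n a, P n a → ∃ a', R n a a' ∧ P (n + 1) a') : ∀ n, {a : X n // P n a}
  | 0 => ⟨a0, h0⟩
  | n + 1 => ⟨(hs n (depSeq P R a0 h0 hs n).1 (depSeq P R a0 h0 hs n).2).choose,
      (hs n (depSeq P R a0 h0 hs n).1 (depSeq P R a0 h0 hs n).2).choose_spec.2⟩

theorem depSeq_rel {X : ℕ → Type*} (P : ∀ n, X n → Prop) (R : ∀ n, X n → X (n + 1) → Prop)
    (a0 : X 0) (h0 : P 0 a0) (hs : ∀ n a, P n a → ∃ a', R n a a' ∧ P (n + 1) a') (n : ℕ) :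
    R n (depSeq P R a0 h0 hs n).1 (depSeq P R a0 h0 hs (n + 1)).1 :=
  (hs n (depSeq P R a0 h0 hs n).1 (depSeq P R a0 h0 hs n).2).choose_spec.1

theorem exists_seq (hker : ∀ n, LinearMap.ker (f n) = I ^ (n + 1) • (⊤ : Submodule A (M (n + 1))))
    (hπ : ∀ n, f n ∘ₗ π (n + 1) = π n) {t : ℕ} (x : Fin t → L)
    (hspan : ∀ n, Submodule.span A (Set.range (fun i => π n (x i))) = ⊤) (y : L) :
    ∃ a : ℕ → Fin t → A, (∀ n i, a (n + 1) i - a n i ∈ I ^ (n + 1)) ∧
      ∀ n, π n y = ∑ i, a n i • π n (x i) := by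
  have h0 : ∃ a0 : Fin t → A, π 0 y = ∑ i, a0 i • π 0 (x i) := by
    have : π 0 y ∈ Submodule.span A (Set.range (fun i => π 0 (x i))) := by
      rw [hspan 0]; trivial
    obtain ⟨c, hc⟩ := (Submodule.mem_span_range_iff_exists_fun A).1 this
    exact ⟨c, hc.symm⟩
  obtain ⟨a0, ha0⟩ := h0
  have hstep := fun n (a : Fin t → A) (ha : π n y = ∑ i, a i • π n (x i)) =>
    step I f π hker hπ x n (hspan (n + 1)) y a ha
  refine ⟨fun n => (depSeq (X := fun _ => Fin t → A)
      (fun n a => π n y = ∑ i, a i • π n (x i))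
      (fun n a a' => ∀ i, a' i - a i ∈ I ^ (n + 1)) a0 ha0 hstep n).1, ?_, ?_⟩
  · intro n i
    exact depSeq_rel (X := fun _ => Fin t → A) (fun n a => π n y = ∑ i, a i • π n (x i))
      (fun n a a' => ∀ i, a' i - a i ∈ I ^ (n + 1)) a0 ha0 hstep n i
  · intro n
    exact (depSeq (X := fun _ => Fin t → A) (fun n a => π n y = ∑ i, a i • π n (x i))
      (fun n a a' => ∀ i, a' i - a i ∈ I ^ (n + 1)) a0 ha0 hstep n).2

variable [Module (AdicCompletion I A) L] [IsScalarTower A (AdicCompletion I A) L]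

theorem pi_smul_mem (k n : ℕ) (r : AdicCompletion I A)
    (hr : r ∈ I ^ k • (⊤ : Submodule A (AdicCompletion I A))) (x : L) :
    π n (r • x) ∈ I ^ k • (⊤ : Submodule A (M n)) := by
  refine Submodule.smul_induction_on hr ?_ ?_
  · intro c hc b _
    rw [smul_assoc, map_smul]
    exact Submodule.smul_mem_smul hc trivial
  · intro r1 r2 h1 h2
    rw [add_smul, map_add]
    exact add_mem h1 h2

theorem main (hI : I.FG) [Module.Finite A (M 0)] (hf : ∀ n, Function.Surjective (f n))
    (hker : ∀ n, LinearMap.ker (f n) = I ^ (n + 1) • (⊤ : Submodule A (M (n + 1))))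
    (hkill : ∀ n, I ^ (n + 1) • (⊤ : Submodule A (M n)) = ⊥)
    (hπ : ∀ n, f n ∘ₗ π (n + 1) = π n)
    (hinj : ∀ x : L, (∀ n, π n x = 0) → x = 0)
    (hlift : ∀ y : (∀ n, M n), (∀ n, f n (y (n + 1)) = y n) → ∃ x : L, ∀ n, π n x = y n) :
    Module.Finite (AdicCompletion I A) L := by
  obtain ⟨t, s, hs⟩ := Module.Finite.exists_fin (R := A) (M := M 0)
  have hsurj := pi_zero_surjective f π hf hlift
  choose x hx using fun i => hsurj (s i)
  have h0 : Submodule.span A (Set.range (fun i => π 0 (x i))) = ⊤ := by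
    rw [← hs]; congr 2; funext i; exact hx i
  have hspan := span_eq_top I f π hker hkill hπ x h0
  have key : ∀ y : L, y ∈ Submodule.span (AdicCompletion I A) (Set.range x) := by
    intro y
    obtain ⟨a, ha1, ha2⟩ := exists_seq I f π hker hπ x hspan y
    -- Cauchy sequences
    have hc : ∀ i n, a n i ≡ a (n + 1) i [SMOD (I ^ n • ⊤ : Submodule A A)] := by
      intro i n
      rw [SModEq.sub_mem, smul_eq_mul, Ideal.mul_top]
      have := ha1 n i
      have h2 : a n i - a (n + 1) i = -(a (n + 1) i - a n i) := by ring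
      rw [h2]
      exact neg_mem (Ideal.pow_le_pow_right (Nat.le_succ n) this)
    let ahat : Fin t → AdicCompletion I A := fun i =>
      AdicCompletion.mk I A (AdicCompletion.AdicCauchySequence.mk I A (fun n => a n i) (hc i))
    have hdiff : ∀ i n, ahat i - AdicCompletion.of I A (a n i) ∈
        I ^ (n + 1) • (⊤ : Submodule A (AdicCompletion I A)) := by
      intro i n
      rw [AdicCompletion.pow_smul_top_eq_ker_eval hI, LinearMap.mem_ker, map_sub, sub_eq_zero]
      show Submodule.mkQ _ (a (n + 1) i) = Submodule.mkQ _ (a n i)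
      rw [Submodule.mkQ_apply, Submodule.mkQ_apply, Submodule.Quotient.eq, smul_eq_mul,
        Ideal.mul_top]
      exact ha1 n i
    have hy : y = ∑ i, ahat i • x i := by
      rw [← sub_eq_zero]
      apply hinj
      intro n
      rw [map_sub, map_sum, ha2 n, ← Finset.sum_sub_distrib]
      apply Finset.sum_eq_zero
      intro i _
      have e1 : ahat i • x i = a n i • x i + (ahat i - AdicCompletion.of I A (a n i)) • x i := by
        rw [sub_smul]
        have : AdicCompletion.of I A (a n i) • x i = a n i • x i := by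
          have h := algebraMap_smul (AdicCompletion I A) (a n i) (x i)
          rw [AdicCompletion.algebraMap_apply] at h
          exact h
        rw [this]; abel
      rw [e1, map_add, map_smul]
      have := pi_smul_mem I π (n + 1) n _ (hdiff i n) (x i)
      rw [hkill n, Submodule.mem_bot] at this
      rw [this]; simp
    rw [hy]
    exact Submodule.sum_mem _ fun i _ =>
      Submodule.smul_mem _ _ (Submodule.subset_span ⟨i, rfl⟩)
  refine ⟨⟨(Set.finite_range x).toFinset, ?_⟩⟩
  rw [Set.Finite.coe_toFinset]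
  exact top_le_iff.1 fun y _ => key y

end Groth.Agent.Lib.Helper6.FinLim
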