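import Mathlib

/-!
# Base change of a finite quotient along a pushout square
-/

namespace Groth.Agent.Lib.Helper6.FinQuotBC

open TensorProduct

universe u

/-- If `B' = A' ⊗_A B` and `B ⧸ I` is finite over `A`, then `B' ⧸ I B'` is finite over `A'`. -/
theorem finite_quotient_map {A B A' B' : Type*} [CommRing A] [CommRing B] [CommRing A']
    [CommRing B'] [Algebra A B] [Algebra A A'] [Algebra B B'] [Algebra A' B'] [Algebra A B']
    [IsScalarTower A B B'] [IsScalarTower A A' B'] (hpo : Algebra.IsPushout A B A' B')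
    (I : Ideal B) [Module.Finite A (B ⧸ I)] :
    Module.Finite A' (B' ⧸ I.map (algebraMap B B')) := by
  classical
  have hbc : IsBaseChange A' (IsScalarTower.toAlgHom A B B').toLinearMap := hpo.symm.out
  -- the A-linear map B ⧸ I → B' ⧸ I B'
  let g0 : B →ₗ[A] (B' ⧸ I.map (algebraMap B B')) :=
    ((Ideal.Quotient.mkₐ A' (I.map (algebraMap B B'))).toLinearMap.restrictScalars A).comp
      (IsScalarTower.toAlgHom A B B').toLinearMap
  have hg0 : ∀ b, g0 b = Ideal.Quotient.mk (I.map (algebraMap B B')) (algebraMap B B' b) := by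
    intro b; rfl
  have hker : (I.restrictScalars A) ≤ LinearMap.ker g0 := by
    intro b hb
    rw [LinearMap.mem_ker, hg0, Ideal.Quotient.eq_zero_iff_mem]
    exact Ideal.mem_map_of_mem _ hb
  let g1 : (B ⧸ I) →ₗ[A] (B' ⧸ I.map (algebraMap B B')) :=
    (I.restrictScalars A).liftQ g0 hker
  have hg1 : ∀ b : B, g1 (Ideal.Quotient.mk I b) =
      Ideal.Quotient.mk (I.map (algebraMap B B')) (algebraMap B B' b) := by
    intro b; rfl
  let ψ : A' ⊗[A] (B ⧸ I) →ₗ[A'] (B' ⧸ I.map (algebraMap B B')) := g1.liftBaseChange A'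
  have hψ : Function.Surjective ψ := by
    intro y
    obtain ⟨b', rfl⟩ := Ideal.Quotient.mk_surjective y
    refine hbc.inductionOn b' (fun b' => ∃ x, ψ x = Ideal.Quotient.mk _ b') ?_ ?_ ?_ ?_
    · exact ⟨0, by simp⟩
    · intro b
      refine ⟨1 ⊗ₜ Ideal.Quotient.mk I b, ?_⟩
      simp only [ψ, LinearMap.liftBaseChange_tmul, one_smul]
      rw [hg1]; rfl
    · rintro s n ⟨x, hx⟩
      refine ⟨s • x, ?_⟩
      rw [map_smul, hx]
      rfl
    · rintro n₁ n₂ ⟨x₁, h₁⟩ ⟨x₂, h₂⟩
      exact ⟨x₁ + x₂, by rw [map_add, h₁, h₂, map_add]⟩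
  exact Module.Finite.of_surjective ψ hψ

end Groth.Agent.Lib.Helper6.FinQuotBC
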