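import Mathlib
import Groth.Prelude.Def_DCoh4
import Groth.Prelude.Def_RefHull
import Groth.Agent.Lib.Helper2.HomExt.Bridge

/-!
# The sheaf Hom into an injective module is flasque (helper6)

Sections of `𝓗om(F, I)` over `U` are morphisms of presheaves of modules from the presheaf-level
extension by zero `extZ F U` (`W ↦ F(W)` if `W ≤ U`, `0` otherwise) to `I`; `extZ F U ↪ extZ F V`
is a monomorphism of presheaves, sheafification is exact, and `I` is injective.
-/

set_option autoImplicit false
set_option backward.isDefEq.respectTransparency.types false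
set_option linter.unusedSectionVars false
universe u

open CategoryTheory CategoryTheory.Limits AlgebraicGeometry TopologicalSpace Opposite

namespace Groth.Agent.Lib.Helper6.FlasqueHom

open Groth.Agent.Helper2.HomExt Groth.Agent.Lead.RH

variable {X : Scheme.{u}}

open Classical in
/-- presheaf-level extension by zero of `F` from the open `U` -/
noncomputable def extZ (F : X.Modules) (U : X.Opens) : PresheafOfModules.Submodule F.val where
  obj W := if W.unop ≤ U then ⊤ else ⊥
  map {W W'} f := by
    intro x hx
    rw [Submodule.mem_comap]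
    by_cases h : W.unop ≤ U
    · have h' : W'.unop ≤ U := (leOfHom f.unop).trans h
      simp [h']
    · have hx0 : x = 0 := by simpa [h] using hx
      subst hx0
      rw [map_zero]
      exact Submodule.zero_mem _

open Classical in
theorem extZ_le (F : X.Modules) {U V : X.Opens} (hUV : U ≤ V) : extZ F U ≤ extZ F V := by
  intro W
  change (if W.unop ≤ U then (⊤ : Submodule _ _) else ⊥) ≤ (if W.unop ≤ V then ⊤ else ⊥)
  by_cases h : W.unop ≤ U
  · rw [if_pos h, if_pos (h.trans hUV)]
  · rw [if_neg h]; exact bot_le

open Classical in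
theorem mem_extZ (F : X.Modules) {U : X.Opens} {W : (X.Opens)ᵒᵖ} (h : W.unop ≤ U)
    (m : F.val.obj W) : m ∈ (extZ F U).obj W := by
  change m ∈ (if W.unop ≤ U then (⊤ : Submodule _ _) else ⊥)
  rw [if_pos h]; exact Submodule.mem_top

open Classical in
theorem eq_zero_of_mem_extZ (F : X.Modules) {U : X.Opens} {W : (X.Opens)ᵒᵖ} (h : ¬ W.unop ≤ U)
    {m : F.val.obj W} (hm : m ∈ (extZ F U).obj W) : m = 0 := by
  change m ∈ (if W.unop ≤ U then (⊤ : Submodule _ _) else ⊥) at hm
  rw [if_neg h] at hm
  exact (Submodule.mem_bot _).1 hm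

open Classical in
/-- the value on sections over `W` of the map `extZ F U → G` defined by a section `g` of the sheaf Hom -/
noncomputable def thetaFun (F G : X.Modules) {U : X.Opens} (g : Γ(RefHull.homSh F G, U))
    (W : (X.Opens)ᵒᵖ) (x : (extZ F U).obj W) : Γ(G, W.unop) :=
  if h : W.unop ≤ U then app g h (x.1 : Γ(F, W.unop)) else 0

theorem thetaFun_pos (F G : X.Modules) {U : X.Opens} (g : Γ(RefHull.homSh F G, U))
    {W : (X.Opens)ᵒᵖ} (h : W.unop ≤ U) (x : (extZ F U).obj W) :
    thetaFun F G g W x = app g h (x.1 : Γ(F, W.unop)) := dif_pos h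

theorem thetaFun_neg (F G : X.Modules) {U : X.Opens} (g : Γ(RefHull.homSh F G, U))
    {W : (X.Opens)ᵒᵖ} (h : ¬ W.unop ≤ U) (x : (extZ F U).obj W) :
    thetaFun F G g W x = 0 := dif_neg h

theorem thetaFun_zero (F G : X.Modules) {U : X.Opens} (g : Γ(RefHull.homSh F G, U))
    (W : (X.Opens)ᵒᵖ) : thetaFun F G g W 0 = 0 := by
  by_cases h : W.unop ≤ U
  · rw [thetaFun_pos F G g h]
    exact map_zero ((LocHom.ofSection g).app W.unop h)
  · exact thetaFun_neg F G g h _

/-- the morphism of abelian presheaves `extZ F U → G` defined by a section of the sheaf Hom -/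
noncomputable def thetaAb (F G : X.Modules) {U : X.Opens} (g : Γ(RefHull.homSh F G, U)) :
    (extZ F U).toPresheafOfModules.presheaf ⟶ G.presheaf where
  app W := AddCommGrpCat.ofHom
    { toFun := fun (x : (extZ F U).obj W) => thetaFun F G g W x
      map_zero' := thetaFun_zero F G g W
      map_add' := fun x y => by
        by_cases h : W.unop ≤ U
        · rw [thetaFun_pos F G g h, thetaFun_pos F G g h, thetaFun_pos F G g h]
          exact app_add g h x.1 y.1
        · rw [thetaFun_neg F G g h, thetaFun_neg F G g h, thetaFun_neg F G g h]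
          exact (add_zero _).symm }
  naturality := by
    intro W W' k
    ext x
    have hle : W'.unop ≤ W.unop := leOfHom k.unop
    change thetaFun F G g W' ((extZ F U).toPresheafOfModules.map k x) =
      G.presheaf.map k (thetaFun F G g W x)
    by_cases h : W.unop ≤ U
    · have h' : W'.unop ≤ U := hle.trans h
      rw [thetaFun_pos F G g h', thetaFun_pos F G g h]
      exact (app_res g h hle x.1).symm
    · have hx0 : x = 0 := Subtype.ext (eq_zero_of_mem_extZ F h x.2)
      subst hx0
      rw [thetaFun_neg F G g h, map_zero]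
      exact (congrArg (thetaFun F G g W')
        (map_zero (ConcreteCategory.hom ((extZ F U).toPresheafOfModules.map k)))).trans
        (thetaFun_zero F G g W')

/-- the morphism of presheaves of modules `extZ F U → G` defined by a section of the sheaf Hom -/
noncomputable def theta (F G : X.Modules) {U : X.Opens} (g : Γ(RefHull.homSh F G, U)) :
    (extZ F U).toPresheafOfModules ⟶ G.val :=
  PresheafOfModules.homMk (thetaAb F G g) (by
    intro W r x
    let r' : Γ(X, W.unop) := r
    change thetaFun F G g W (r • x) = r' • thetaFun F G g W x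
    by_cases h : W.unop ≤ U
    · rw [thetaFun_pos F G g h, thetaFun_pos F G g h]
      exact app_smul g h r' x.1
    · rw [thetaFun_neg F G g h, thetaFun_neg F G g h, smul_zero])

theorem theta_app (F G : X.Modules) {U : X.Opens} (g : Γ(RefHull.homSh F G, U))
    (W : (X.Opens)ᵒᵖ) (x : (extZ F U).obj W) :
    ((theta F G g).app W).hom x = thetaFun F G g W x := rfl

/-- sheafification of presheaves of modules on a scheme -/
noncomputable abbrev shf (X : Scheme.{u}) : X.PresheafOfModules ⥤ SheafOfModules.{u} X.ringCatSheaf :=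
  PresheafOfModules.sheafification (𝟙 X.ringCatSheaf.obj)

/-- the sheafification adjunction -/
noncomputable def shfAdj (X : Scheme.{u}) : shf X ⊣ SheafOfModules.forget X.ringCatSheaf :=
  PresheafOfModules.sheafificationAdjunction (𝟙 X.ringCatSheaf.obj)

/-- morphisms of presheaves of modules into an injective sheaf of modules extend along
monomorphisms of presheaves (sheafification is exact) -/
theorem exists_extension (I : X.Modules) (hI : Injective I) {P Q : X.PresheafOfModules} (ι : P ⟶ Q)
    [Mono ι] (θ : P ⟶ I.val) : ∃ θ' : Q ⟶ I.val, ι ≫ θ' = θ := by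
  haveI hI' : @Injective (SheafOfModules.{u} X.ringCatSheaf) _ I := hI
  let I' : SheafOfModules.{u} X.ringCatSheaf := I
  let a : (shf X).obj P ⟶ I' := ((shfAdj X).homEquiv P I').symm θ
  haveI : Mono ((shf X).map ι) := inferInstance
  let a' : (shf X).obj Q ⟶ I' := Injective.factorThru a ((shf X).map ι)
  have ha : (shf X).map ι ≫ a' = a := Injective.comp_factorThru a ((shf X).map ι)
  refine ⟨(shfAdj X).homEquiv Q I' a', ?_⟩
  calc ι ≫ (shfAdj X).homEquiv Q I' a'
      = (shfAdj X).homEquiv P I' ((shf X).map ι ≫ a') :=
        ((shfAdj X).homEquiv_naturality_left ι a').symm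
    _ = (shfAdj X).homEquiv P I' a := by rw [ha]
    _ = θ := Equiv.apply_symm_apply _ _

/-- sections of the sheaf Hom into an injective module extend to larger opens -/
theorem exists_section_extension (F I : X.Modules) (hI : Injective I) {U V : X.Opens}
    (hUV : U ≤ V) (g : Γ(RefHull.homSh F I, U)) :
    ∃ g' : Γ(RefHull.homSh F I, V),
      (RefHull.homSh F I).presheaf.map (homOfLE hUV).op g' = g := by
  obtain ⟨θ', hθ'⟩ := exists_extension I hI
    (PresheafOfModules.Submodule.homOfLE (extZ_le F hUV)) (theta F I g)
  let ℓ' : LocHom F I V :=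
    { app := fun W hW =>
        { toFun := fun m => (θ'.app (op W)).hom ⟨m, mem_extZ F (W := op W) hW m⟩
          map_zero' := map_zero (θ'.app (op W)).hom
          map_add' := fun m m' => map_add (θ'.app (op W)).hom
            ⟨m, mem_extZ F (W := op W) hW m⟩ ⟨m', mem_extZ F (W := op W) hW m'⟩ }
      res := fun W W' hW h m =>
        (PresheafOfModules.naturality_apply θ' (homOfLE h).op
          ⟨m, mem_extZ F (W := op W) hW m⟩).symm
      smul := fun W hW r m => (θ'.app (op W)).hom.map_smul r ⟨m, mem_extZ F (W := op W) hW m⟩ }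
  refine ⟨ℓ'.toSection, ?_⟩
  apply section_ext_app
  intro W i m
  rw [app_map, LocHom.app_toSection]
  have e := congrArg (fun (t : (extZ F U).toPresheafOfModules ⟶ I.val) =>
    (PresheafOfModules.Hom.app t (op W)).hom
      (⟨m, mem_extZ F (W := op W) i m⟩ : (extZ F U).obj (op W))) hθ'
  exact e.trans (thetaFun_pos F I g (W := op W) i _)

theorem app_res' {M N : X.Modules} (φ : M ⟶ N) {U V : X.Opens} (hUV : U ≤ V) (s : Γ(M, V)) :
    N.presheaf.map (homOfLE hUV).op (φ.app V s) = φ.app U (M.presheaf.map (homOfLE hUV).op s) :=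
  (ConcreteCategory.congr_hom (φ.mapPresheaf.naturality (homOfLE hUV).op) s).symm

/-- **`𝓗om(F, I)` is flasque for `I` injective.** -/
theorem surjective_restr (X : Scheme.{u}) (F I : X.Modules)
    [DCoh.HasSheafHom F] (hI : Injective I) (U V : X.Opens) (hUV : U ≤ V) :
    Function.Surjective (((DCoh.sheafHom F).obj I).val.map (homOfLE hUV).op).hom := by
  intro y
  let e := sheafHomIso F I
  obtain ⟨g', hg'⟩ := exists_section_extension F I hI hUV (e.hom.app U y)
  refine ⟨e.inv.app V g', ?_⟩
  change ((DCoh.sheafHom F).obj I).presheaf.map (homOfLE hUV).op (e.inv.app V g') = y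
  rw [app_res' e.inv hUV g', hg']
  change ((e.hom ≫ e.inv).app U) y = y
  rw [e.hom_inv_id]
  rfl

end Groth.Agent.Lib.Helper6.FlasqueHom
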