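import Mathlib

/-!
# A fibrewise flatness criterion over a principal nonzerodivisor (helper6)

`A` a commutative ring, `ϖ ∈ A` regular on `A` and on the `A`-module `M`.  If `M/ϖM` is flat over
`A/ϖ` and `M[1/ϖ]` is flat over `A[1/ϖ]` then `M` is flat over `A`.
-/

open TensorProduct

universe u

namespace Groth.Agent.Lib.Helper6.FlatDVR

variable {A : Type u} [CommRing A] (ϖ : A)

/-- `1 ⊗ x = 0` in `A/(ϖ) ⊗ X` iff `x ∈ ϖ X`. -/
theorem one_tmul_eq_zero_iff {X : Type u} [AddCommGroup X] [Module A X] (x : X) :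
    ((1 : A ⧸ Ideal.span {ϖ}) ⊗ₜ[A] x = 0) ↔ ∃ x', x = ϖ • x' := by
  rw [← (quotTensorEquivQuotSMul X (Ideal.span {ϖ})).map_eq_zero_iff,
    quotTensorEquivQuotSMul_mk_one_tmul, Submodule.Quotient.mk_eq_zero,
    Submodule.ideal_span_singleton_smul, Submodule.mem_smul_pointwise_iff_exists]
  constructor
  · rintro ⟨y, -, rfl⟩
    exact ⟨y, rfl⟩
  · rintro ⟨y, rfl⟩
    exact ⟨y, trivial, rfl⟩

/-- every element of `A/(ϖ) ⊗ X` is of the form `1 ⊗ x`. -/
theorem exists_one_tmul {X : Type u} [AddCommGroup X] [Module A X]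
    (w : (A ⧸ Ideal.span {ϖ}) ⊗[A] X) : ∃ x : X, w = (1 : A ⧸ Ideal.span {ϖ}) ⊗ₜ[A] x := by
  induction w using TensorProduct.induction_on with
  | zero => exact ⟨0, by simp⟩
  | tmul b x =>
    obtain ⟨a, rfl⟩ := Ideal.Quotient.mk_surjective b
    refine ⟨a • x, ?_⟩
    rw [← smul_tmul]
    congr 1
    rw [Algebra.smul_def, mul_one]
    rfl
  | add w₁ w₂ h₁ h₂ =>
    obtain ⟨x₁, rfl⟩ := h₁
    obtain ⟨x₂, rfl⟩ := h₂
    exact ⟨x₁ + x₂, by rw [tmul_add]⟩


/-- Lemma S: if `ϖ` is regular on `N`, the base change to `A/(ϖ)` of the inclusion of the kernel of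
`p : F → N` is injective. -/
theorem baseChange_ker_injective {F N : Type u} [AddCommGroup F] [Module A F] [AddCommGroup N]
    [Module A N] (p : F →ₗ[A] N) (hN : IsSMulRegular N ϖ) :
    Function.Injective ((LinearMap.ker p).subtype.baseChange (A ⧸ Ideal.span {ϖ})) := by
  rw [injective_iff_map_eq_zero]
  intro w hw
  obtain ⟨k, rfl⟩ := exists_one_tmul ϖ w
  rw [LinearMap.baseChange_tmul] at hw
  obtain ⟨f, hf⟩ := (one_tmul_eq_zero_iff ϖ _).mp hw
  have hpf : p f = 0 := by
    apply hN
    show ϖ • p f = ϖ • (0 : N)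
    rw [← map_smul, ← hf, smul_zero]
    exact k.2
  rw [one_tmul_eq_zero_iff]
  exact ⟨⟨f, hpf⟩, Subtype.ext hf⟩

theorem isSMulRegular_tensor_flat {M F : Type u} [AddCommGroup M] [Module A M] [AddCommGroup F]
    [Module A F] [Module.Flat A F] (hM : IsSMulRegular M ϖ) : IsSMulRegular (M ⊗[A] F) ϖ := by
  have h1 : Function.Injective ((LinearMap.lsmul A M ϖ).rTensor F) :=
    Module.Flat.rTensor_preserves_injective_linearMap _ hM
  have h2 : ⇑((LinearMap.lsmul A M ϖ).rTensor F) = fun w => ϖ • w := by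
    funext w
    induction w using TensorProduct.induction_on with
    | zero => simp
    | tmul m f => rw [LinearMap.rTensor_tmul, LinearMap.lsmul_apply, smul_tmul']
    | add w₁ w₂ h₁ h₂ => rw [map_add, h₁, h₂, smul_add]
  rw [h2] at h1
  exact h1

theorem distrib_sq {B : Type u} [CommRing B] [Algebra A B] {M K F : Type u} [AddCommGroup M]
    [Module A M] [AddCommGroup K] [Module A K] [AddCommGroup F] [Module A F] (i : K →ₗ[A] F)
    (w : B ⊗[A] (M ⊗[A] K)) :
    (i.baseChange B).lTensor (B ⊗[A] M) (AlgebraTensorModule.distribBaseChange A B M K w) =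
      AlgebraTensorModule.distribBaseChange A B M F ((i.lTensor M).baseChange B w) := by
  induction w using TensorProduct.induction_on with
  | zero => simp
  | tmul b t =>
    induction t using TensorProduct.induction_on with
    | zero => simp
    | tmul m k => simp
    | add t₁ t₂ h₁ h₂ => simp only [tmul_add, map_add, h₁, h₂]
  | add w₁ w₂ h₁ h₂ => simp only [map_add, h₁, h₂]

/-- key step: `1 ⊗ z = 0` -/
theorem one_tmul_eq_zero_aux {B : Type u} [CommRing B] [Algebra A B]
    (hϖB : algebraMap A B ϖ = 0)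
    {M K F : Type u} [AddCommGroup M] [Module A M] [AddCommGroup K] [Module A K]
    [AddCommGroup F] [Module A F] (i : K →ₗ[A] F)
    (hi : Function.Injective (i.baseChange B))
    [hflat : Module.Flat B (B ⊗[A] M)] (z : M ⊗[A] K) (y : M ⊗[A] F)
    (hz : i.lTensor M z = ϖ • y) : (1 : B) ⊗ₜ[A] z = 0 := by
  have hinj : Function.Injective ((i.baseChange B).lTensor (B ⊗[A] M)) :=
    Module.Flat.lTensor_preserves_injective_linearMap _ hi
  have h4 : (i.lTensor M).baseChange B ((1 : B) ⊗ₜ[A] z) = 0 := by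
    rw [LinearMap.baseChange_tmul, hz, tmul_smul, smul_tmul']
    have : ϖ • (1 : B) = 0 := by
      rw [Algebra.smul_def, mul_one, hϖB]
    rw [this, zero_tmul]
  have h5 := distrib_sq (B := B) (M := M) i ((1 : B) ⊗ₜ[A] z)
  rw [h4, map_zero] at h5
  have h6 := hinj (h5.trans (map_zero _).symm)
  exact (AlgebraTensorModule.distribBaseChange A B M K).injective
    (h6.trans (map_zero _).symm)

/-- Lemma T' (abstract form). -/
theorem isSMulRegular_tensor_aux {B : Type u} [CommRing B] [Algebra A B]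
    (hϖB : algebraMap A B ϖ = 0)
    (hQ : ∀ (X : Type u) [AddCommGroup X] [Module A X] (x : X),
      (1 : B) ⊗ₜ[A] x = 0 → ∃ x', x = ϖ • x')
    (hS : ∀ (F N : Type u) [AddCommGroup F] [Module A F] [AddCommGroup N] [Module A N]
      (p : F →ₗ[A] N), IsSMulRegular N ϖ →
      Function.Injective ((LinearMap.ker p).subtype.baseChange B))
    {M N : Type u} [AddCommGroup M] [Module A M] [AddCommGroup N]
    [Module A N] (hM : IsSMulRegular M ϖ) (hN : IsSMulRegular N ϖ)
    [hflat : Module.Flat B (B ⊗[A] M)] :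
    IsSMulRegular (M ⊗[A] N) ϖ := by
  classical
  have hp : Function.Surjective (Finsupp.linearCombination A (id : N → N)) :=
    Finsupp.linearCombination_id_surjective A N
  have hex : Function.Exact
      ((LinearMap.ker (Finsupp.linearCombination A (id : N → N))).subtype.lTensor M)
      ((Finsupp.linearCombination A (id : N → N)).lTensor M) :=
    lTensor_exact M (LinearMap.exact_subtype_ker_map _) hp
  have hMF : IsSMulRegular (M ⊗[A] (N →₀ A)) ϖ := isSMulRegular_tensor_flat ϖ hM
  apply IsSMulRegular.of_right_eq_zero_of_smul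
  intro x hx
  obtain ⟨y, rfl⟩ := LinearMap.lTensor_surjective M hp x
  have h3 : (Finsupp.linearCombination A (id : N → N)).lTensor M (ϖ • y) = 0 := by
    rw [map_smul, hx]
  obtain ⟨z, hz⟩ := (hex (ϖ • y)).mp h3
  have hz0 : (1 : B) ⊗ₜ[A] z = 0 :=
    one_tmul_eq_zero_aux ϖ hϖB _ (hS _ _ _ hN) z y hz
  obtain ⟨z', rfl⟩ := hQ _ z hz0
  have h7 : ϖ • (LinearMap.ker (Finsupp.linearCombination A (id : N → N))).subtype.lTensor M z'
      = ϖ • y := by
    rw [← hz, map_smul]
  have h8 := hMF h7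
  rw [← h8]
  exact (hex _).mpr ⟨z', rfl⟩

/-- Lemma T': if `ϖ` is regular on `M` and `N` and `M/ϖM` is flat over `A/ϖ`, then `ϖ` is regular on
`M ⊗ N`. -/
theorem isSMulRegular_tensor {M N : Type u} [AddCommGroup M] [Module A M] [AddCommGroup N]
    [Module A N] (hM : IsSMulRegular M ϖ) (hN : IsSMulRegular N ϖ)
    (hflat : Module.Flat (A ⧸ Ideal.span {ϖ}) ((A ⧸ Ideal.span {ϖ}) ⊗[A] M)) :
    IsSMulRegular (M ⊗[A] N) ϖ :=
  isSMulRegular_tensor_aux ϖ (B := A ⧸ Ideal.span {ϖ})
    (Ideal.Quotient.eq_zero_iff_mem.mpr (Ideal.subset_span rfl))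
    (fun _ _ _ x hx => (one_tmul_eq_zero_iff ϖ x).mp hx)
    (fun _ _ _ _ _ _ p hN => baseChange_ker_injective ϖ p hN) hM hN

/-- Step 1: an element of `M ⊗ I` killed by `M ⊗ I → M ⊗ A` is `ϖ`-power torsion when `M[1/ϖ]` is
flat. -/
theorem exists_pow_smul_eq_zero {M : Type u} [AddCommGroup M] [Module A M]
    (h2 : Module.Flat (Localization.Away ϖ) (LocalizedModule (Submonoid.powers ϖ) M))
    (I : Ideal A) (x : M ⊗[A] I) (hx : I.subtype.lTensor M x = 0) :
    ∃ n : ℕ, ϖ ^ n • x = 0 := by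
  have hfl : Module.Flat A (LocalizedModule (Submonoid.powers ϖ) M) :=
    Module.Flat.trans A (Localization.Away ϖ) (LocalizedModule (Submonoid.powers ϖ) M)
  have hinj : Function.Injective
      (I.subtype.lTensor (LocalizedModule (Submonoid.powers ϖ) M)) :=
    Module.Flat.lTensor_preserves_injective_linearMap _ Subtype.val_injective
  have hnat : ∀ w : M ⊗[A] I,
      I.subtype.lTensor (LocalizedModule (Submonoid.powers ϖ) M)
        ((LocalizedModule.mkLinearMap (Submonoid.powers ϖ) M).rTensor I w) =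
      (LocalizedModule.mkLinearMap (Submonoid.powers ϖ) M).rTensor A
        (I.subtype.lTensor M w) := by
    intro w
    induction w using TensorProduct.induction_on with
    | zero => simp
    | tmul m a => simp
    | add w₁ w₂ h₁ h₂ => simp only [map_add, h₁, h₂]
  have h0 : (LocalizedModule.mkLinearMap (Submonoid.powers ϖ) M).rTensor I x = 0 := by
    apply hinj
    rw [hnat, hx, map_zero, map_zero]
  have hloc : IsLocalizedModule (Submonoid.powers ϖ)
      (AlgebraTensorModule.rTensor A I (LocalizedModule.mkLinearMap (Submonoid.powers ϖ) M)) :=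
    inferInstance
  obtain ⟨⟨s, n, rfl⟩, hs⟩ := (IsLocalizedModule.eq_zero_iff (Submonoid.powers ϖ)
    (AlgebraTensorModule.rTensor A I
      (LocalizedModule.mkLinearMap (Submonoid.powers ϖ) M))).mp h0
  exact ⟨n, hs⟩

/-- **Fibrewise flatness over a principal nonzerodivisor.** -/
theorem flat_of_quotient_of_localization {M : Type u} [AddCommGroup M] [Module A M]
    (hA : IsSMulRegular A ϖ) (hM : IsSMulRegular M ϖ)
    (h1 : Module.Flat (A ⧸ Ideal.span {ϖ}) ((A ⧸ Ideal.span {ϖ}) ⊗[A] M))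
    (h2 : Module.Flat (Localization.Away ϖ) (LocalizedModule (Submonoid.powers ϖ) M)) :
    Module.Flat A M := by
  rw [Module.Flat.iff_lTensor_injective']
  intro I
  rw [injective_iff_map_eq_zero]
  intro x hx
  obtain ⟨n, hn⟩ := exists_pow_smul_eq_zero ϖ h2 I x hx
  have hI : IsSMulRegular I ϖ := by
    intro a b hab
    apply Subtype.ext
    apply hA
    exact congrArg Subtype.val hab
  have hreg : IsSMulRegular (M ⊗[A] I) ϖ := isSMulRegular_tensor ϖ hM hI h1
  have hreg' : IsSMulRegular (M ⊗[A] I) (ϖ ^ n) := hreg.pow n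
  apply hreg'
  show ϖ ^ n • x = ϖ ^ n • 0
  rw [hn, smul_zero]

end Groth.Agent.Lib.Helper6.FlatDVR
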