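import Mathlib

set_option linter.unusedSectionVars false
set_option autoImplicit false
set_option maxHeartbeats 400000

noncomputable section

namespace Groth.Agent.Lib.Helper6.FlatModPow

open TensorProduct

/-- In a flat module, `t x = 0` forces `x ∈ s M` when `Ann(t) ⊆ (s)`. -/
theorem exists_smul_of_flat {S : Type*} [CommRing S] {M : Type*} [AddCommGroup M] [Module S M]
    [Module.Flat S M] (s t : S) (hst : t * s = 0) (hexact : ∀ y : S, t * y = 0 → ∃ z, y = s * z)
    (x : M) (hx : t • x = 0) : ∃ w : M, x = s • w := by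
  have hE : Function.Exact (LinearMap.lsmul S S s) (LinearMap.lsmul S S t) := by
    intro y
    constructor
    · intro h
      obtain ⟨z, hz⟩ := hexact y (by simpa using h)
      exact ⟨z, by simp [hz]⟩
    · rintro ⟨z, rfl⟩
      simp only [LinearMap.lsmul_apply, smul_eq_mul]
      rw [← mul_assoc, hst, zero_mul]
  have hE' := Module.Flat.lTensor_exact M hE
  have h1 : (LinearMap.lsmul S S t).lTensor M (x ⊗ₜ[S] (1 : S)) = 0 := by
    rw [LinearMap.lTensor_tmul, LinearMap.lsmul_apply, smul_eq_mul, mul_one,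
      ← mul_one t, ← smul_eq_mul, ← TensorProduct.smul_tmul, hx, TensorProduct.zero_tmul]
  obtain ⟨w, hw⟩ := (hE' _).1 h1
  refine ⟨TensorProduct.rid S M w, ?_⟩
  have h2 : ∀ w : M ⊗[S] S, TensorProduct.rid S M ((LinearMap.lsmul S S s).lTensor M w) =
      s • TensorProduct.rid S M w := by
    intro w
    induction w using TensorProduct.induction_on with
    | zero => simp
    | tmul m r =>
      rw [LinearMap.lTensor_tmul, TensorProduct.rid_tmul, TensorProduct.rid_tmul,
        LinearMap.lsmul_apply, smul_eq_mul, mul_smul]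
    | add a b ha hb => rw [map_add, map_add, ha, hb, map_add, smul_add]
  have := h2 w
  rw [hw, TensorProduct.rid_tmul, one_smul] at this
  exact this

variable {R : Type*} [CommRing R] [IsDomain R] (π : R) (hπ : π ≠ 0)
  {A : Type*} [AddCommGroup A] [Module R A]

include hπ in
theorem mem_pow_smul_of_smul_eq_zero (m : ℕ)
    [Module.Flat (R ⧸ (Ideal.span {π} ^ (m + 1)))
      ((R ⧸ (Ideal.span {π} ^ (m + 1))) ⊗[R] A)]
    (a : A) (ha : π • a = 0) : a ∈ (Ideal.span {π} ^ m • ⊤ : Submodule R A) := by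
  set I : Ideal R := Ideal.span {π} ^ (m + 1) with hI
  have hIspan : I = Ideal.span {π ^ (m + 1)} := by rw [hI, Ideal.span_singleton_pow]
  have hst : (Ideal.Quotient.mk I π) * (Ideal.Quotient.mk I π) ^ m = 0 := by
    rw [← pow_succ', ← map_pow, Ideal.Quotient.eq_zero_iff_mem, hIspan]
    exact Ideal.mem_span_singleton_self _
  have hexact : ∀ y : R ⧸ I, (Ideal.Quotient.mk I π) * y = 0 →
      ∃ z, y = (Ideal.Quotient.mk I π) ^ m * z := by
    intro y hy
    obtain ⟨r, rfl⟩ := Ideal.Quotient.mk_surjective y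
    rw [← map_mul, Ideal.Quotient.eq_zero_iff_mem, hIspan, Ideal.mem_span_singleton'] at hy
    obtain ⟨c, hc⟩ := hy
    have : r = π ^ m * c := by
      apply mul_left_cancel₀ hπ
      rw [← hc, pow_succ]; ring
    exact ⟨Ideal.Quotient.mk I c, by rw [this, map_mul, map_pow]⟩
  have hx : (Ideal.Quotient.mk I π) • ((1 : R ⧸ I) ⊗ₜ[R] a) = 0 := by
    rw [TensorProduct.smul_tmul', smul_eq_mul, mul_one]
    have : (Ideal.Quotient.mk I π) = π • (1 : R ⧸ I) := by
      rw [Algebra.smul_def, mul_one]; rfl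
    rw [this, TensorProduct.smul_tmul, ha, TensorProduct.tmul_zero]
  obtain ⟨w, hw⟩ := exists_smul_of_flat (S := R ⧸ I) (M := (R ⧸ I) ⊗[R] A) _ _ hst hexact _ hx
  -- transport to the quotient
  have h3 := congrArg (TensorProduct.quotTensorEquivQuotSMul A I) hw
  rw [TensorProduct.quotTensorEquivQuotSMul_mk_one_tmul] at h3
  have h4 : (Ideal.Quotient.mk I π) ^ m • w = (π ^ m) • w := by
    rw [← map_pow]
    have : (Ideal.Quotient.mk I (π ^ m)) = (π ^ m) • (1 : R ⧸ I) := by
      rw [Algebra.smul_def, mul_one]; rfl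
    rw [this, smul_assoc, one_smul]
  rw [h4, map_smul] at h3
  obtain ⟨a', ha'⟩ := Submodule.Quotient.mk_surjective _
    (TensorProduct.quotTensorEquivQuotSMul A I w)
  rw [← ha', ← Submodule.Quotient.mk_smul, Submodule.Quotient.eq] at h3
  have hle : (I • ⊤ : Submodule R A) ≤ Ideal.span {π} ^ m • ⊤ :=
    Submodule.smul_mono_left (Ideal.pow_le_pow_right (Nat.le_succ m))
  have h5 : π ^ m • a' ∈ (Ideal.span {π} ^ m • ⊤ : Submodule R A) :=
    Submodule.smul_mem_smul (Ideal.pow_mem_pow (Ideal.mem_span_singleton_self π) m) trivial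
  have : a = (a - π ^ m • a') + π ^ m • a' := by abel
  rw [this]
  exact add_mem (hle h3) h5

include hπ in
theorem eq_zero_of_smul_eq_zero [IsHausdorff (Ideal.span {π}) A]
    (h : ∀ n : ℕ, 1 ≤ n → Module.Flat (R ⧸ (Ideal.span {π} ^ n))
      ((R ⧸ (Ideal.span {π} ^ n)) ⊗[R] A))
    (a : A) (ha : π • a = 0) : a = 0 := by
  apply IsHausdorff.haus' (I := Ideal.span {π}) a
  intro m
  rw [SModEq.zero]
  have := h (m + 1) (Nat.succ_pos m)
  exact mem_pow_smul_of_smul_eq_zero π hπ m a ha

include hπ in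
theorem eq_zero_of_pow_smul_eq_zero [IsHausdorff (Ideal.span {π}) A]
    (h : ∀ n : ℕ, 1 ≤ n → Module.Flat (R ⧸ (Ideal.span {π} ^ n))
      ((R ⧸ (Ideal.span {π} ^ n)) ⊗[R] A))
    (m : ℕ) (a : A) (ha : π ^ m • a = 0) : a = 0 := by
  induction m with
  | zero => simpa using ha
  | succ m ih =>
    apply ih
    apply eq_zero_of_smul_eq_zero π hπ h
    rw [smul_smul, ← pow_succ']; exact ha

end Groth.Agent.Lib.Helper6.FlatModPow
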