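import Mathlib

/-! A finitely presented module over a local ring isomorphic to its Frobenius pullback is free. -/

open scoped TensorProduct
open IsLocalRing
set_option linter.unusedSectionVars false
set_option autoImplicit false
noncomputable section

namespace Groth.Agent.Lib.Helper6.FrobFree

universe u v

/-- minimal generators of a finite module over a local ring -/
lemma min_gens (R : Type u) [CommRing R] [IsLocalRing R] (M : Type v) [AddCommGroup M] [Module R M]
    [Module.Finite R M] :
    ∃ (n : ℕ) (x : Fin n → M), Submodule.span R (Set.range x) = ⊤ ∧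
      ∀ c : Fin n → R, ∑ j, c j • x j = 0 → ∀ j, c j ∈ maximalIdeal R := by
  let w := Module.finBasis (ResidueField R) (ResidueField R ⊗[R] M)
  obtain ⟨x, hx⟩ := (TensorProduct.mk_surjective R M (ResidueField R)
    Ideal.Quotient.mk_surjective).comp_left w
  refine ⟨_, x, IsLocalRing.span_eq_top_of_tmul_eq_basis x w (congr_fun hx), fun c hc j => ?_⟩
  have h1 := congrArg (TensorProduct.mk R (ResidueField R) M 1) hc
  rw [map_sum, map_zero] at h1
  have h2 : ∑ j, (algebraMap R (ResidueField R) (c j)) • w j = 0 := by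
    rw [← h1]
    refine Finset.sum_congr rfl fun j _ => ?_
    rw [map_smul, algebraMap_smul]
    congr 1
    exact (congr_fun hx j).symm
  have h3 := Fintype.linearIndependent_iff.1 w.linearIndependent _ h2 j
  exact (IsLocalRing.residue_eq_zero_iff _).1 h3

theorem free_of_twist_iso {R : Type u} [CommRing R] [IsLocalRing R] (p : ℕ) (hp : 2 ≤ p)
    (R' : Type u) [CommRing R'] [Algebra R R'] (τ : R' ≃+* R)
    (halg : ∀ r : R, algebraMap R R' r = τ.symm (r ^ p))
    (M : Type v) [AddCommGroup M] [Module R M] [Module.FinitePresentation R M]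
    (e : (R' ⊗[R] M) →ₛₗ[(τ : R' →+* R)] M) (he : Function.Bijective e) : Module.Free R M := by
  obtain ⟨n, x, hx, hrel⟩ := min_gens R M
  let π : (Fin n → R) →ₗ[R] M := Fintype.linearCombination R x
  have hπ : Function.Surjective π := by
    rw [← LinearMap.range_eq_top, Fintype.range_linearCombination]
    exact hx
  have hπa : ∀ c : Fin n → R, π c = ∑ j, c j • x j := fun c => Fintype.linearCombination_apply R x c
  obtain ⟨S, hS⟩ := Module.FinitePresentation.fg_ker π hπ
  let I : Ideal R := Ideal.span {a | ∃ c ∈ S, ∃ j, a = c j}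
  have hIfg : I.FG := by
    have hfin : {a : R | ∃ c ∈ S, ∃ j, a = c j}.Finite := by
      have : {a : R | ∃ c ∈ S, ∃ j, a = c j} =
          (fun cj : (Fin n → R) × Fin n => cj.1 cj.2) '' ((S : Set (Fin n → R)) ×ˢ Set.univ) := by
        ext a
        constructor
        · rintro ⟨c, hc, j, rfl⟩
          exact ⟨(c, j), ⟨hc, Set.mem_univ j⟩, rfl⟩
        · rintro ⟨⟨c, j⟩, ⟨hc, _⟩, rfl⟩
          exact ⟨c, hc, j, rfl⟩
      rw [this]
      exact (S.finite_toSet.prod Set.finite_univ).image _
    exact ⟨hfin.toFinset, by simp [I]⟩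
  have hcoord : ∀ c ∈ LinearMap.ker π, ∀ j, c j ∈ I := by
    intro c hc j
    rw [← hS] at hc
    induction hc using Submodule.span_induction with
    | mem c hc => exact Ideal.subset_span ⟨c, hc, j, rfl⟩
    | zero => exact I.zero_mem
    | add a b _ _ ha hb => exact I.add_mem ha hb
    | smul r a _ ha => exact I.mul_mem_left r ha
  have hIm : I ≤ maximalIdeal R := by
    rw [Ideal.span_le]
    rintro _ ⟨c, hc, j, rfl⟩
    have h1 : c ∈ LinearMap.ker π := hS ▸ Submodule.subset_span hc
    exact hrel c (by rw [← hπa]; exact h1) j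
  -- coordinate functionals
  let q : ((Fin n → R) ⧸ LinearMap.ker π) ≃ₗ[R] M := π.quotKerEquivOfSurjective hπ
  let ξ : Fin n → M →ₗ[R] R ⧸ I := fun i =>
    ((LinearMap.ker π).liftQ ((Submodule.mkQ I) ∘ₗ (LinearMap.proj i)) (fun c hc => by
      rw [LinearMap.mem_ker]
      exact (Submodule.Quotient.mk_eq_zero I).2 (hcoord c hc i))) ∘ₗ q.symm.toLinearMap
  have hξ : ∀ i (c : Fin n → R), ξ i (π c) = Submodule.Quotient.mk (c i) := by
    intro i c
    have h1 : q.symm (π c) = Submodule.Quotient.mk c := by
      rw [LinearEquiv.symm_apply_eq]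
      rfl
    simp only [ξ, LinearMap.comp_apply, LinearEquiv.coe_coe]
    rw [h1]
    rfl
  have hξx : ∀ i j, ξ i (x j) = Submodule.Quotient.mk (if i = j then (1 : R) else 0) := by
    intro i j
    have h1 : x j = π (Pi.single j 1) := by
      rw [hπa, Finset.sum_eq_single j]
      · simp
      · intro k _ hk
        simp [Pi.single_apply, hk]
      · intro h
        exact absurd (Finset.mem_univ j) h
    rw [h1, hξ]
    congr 1
    simp [Pi.single_apply, eq_comm]
  -- twisted ideal and target
  let J' : Ideal R' := Ideal.map (algebraMap R R') I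
  let Fb : (R ⧸ I) →ₐ[R] (R' ⧸ J') :=
    Ideal.quotientMapₐ J' (Algebra.ofId R R') Ideal.le_comap_map
  let Bi : Fin n → R' →ₗ[R] M →ₗ[R] (R' ⧸ J') := fun i =>
    LinearMap.mk₂ R (fun d m => Ideal.Quotient.mk J' d * Fb (ξ i m))
      (fun d₁ d₂ m => by rw [map_add, add_mul])
      (fun r d m => by
        rw [Algebra.smul_def, map_mul, mul_assoc, Algebra.smul_def]
        rfl)
      (fun d m₁ m₂ => by rw [map_add, map_add, mul_add])
      (fun r d m => by
        rw [map_smul, map_smul, mul_smul_comm])
  let Φ : Fin n → (R' ⊗[R] M) →ₗ[R] (R' ⧸ J') := fun i => TensorProduct.lift (Bi i)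
  have hΦ : ∀ i (d : Fin n → R'), Φ i (∑ j, d j ⊗ₜ[R] x j) = Ideal.Quotient.mk J' (d i) := by
    intro i d
    rw [map_sum, Finset.sum_eq_single i]
    · show Ideal.Quotient.mk J' (d i) * Fb (ξ i (x i)) = _
      rw [hξx, if_pos rfl]
      have : Fb (Submodule.Quotient.mk (1 : R)) = 1 := map_one Fb
      rw [this, mul_one]
    · intro j _ hj
      show Ideal.Quotient.mk J' (d j) * Fb (ξ i (x j)) = 0
      rw [hξx, if_neg (Ne.symm hj)]
      have : Fb (Submodule.Quotient.mk (0 : R)) = 0 := map_zero Fb
      rw [this, mul_zero]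
    · intro h
      exact absurd (Finset.mem_univ i) h
  -- the images of the twisted generators
  let z : Fin n → M := fun j => e ((1 : R') ⊗ₜ[R] x j)
  have hez : ∀ (d : R') (j : Fin n), e (d ⊗ₜ[R] x j) = τ d • z j := by
    intro d j
    have h1 : d ⊗ₜ[R] x j = d • ((1 : R') ⊗ₜ[R] x j) := by
      rw [TensorProduct.smul_tmul', smul_eq_mul, mul_one]
    rw [h1, e.map_smulₛₗ]
    rfl
  have hclaim : ∀ d : Fin n → R, ∑ j, d j • z j = 0 → ∀ i, τ.symm (d i) ∈ J' := by
    intro d hd i
    have h1 : e (∑ j, τ.symm (d j) ⊗ₜ[R] x j) = 0 := by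
      rw [map_sum, ← hd]
      refine Finset.sum_congr rfl fun j _ => ?_
      rw [hez, RingEquiv.apply_symm_apply]
    have h2 := he.1 (h1.trans (map_zero e).symm)
    have h3 := congrArg (Φ i) h2
    rw [hΦ, map_zero] at h3
    exact Ideal.Quotient.eq_zero_iff_mem.1 h3
  have hJ' : ∀ y ∈ J', τ y ∈ maximalIdeal R • I := by
    intro y hy
    refine Submodule.span_induction (p := fun y _ => τ y ∈ maximalIdeal R • I) ?_ ?_ ?_ ?_ hy
    · rintro _ ⟨a, ha, rfl⟩
      rw [halg, RingEquiv.apply_symm_apply]
      have hp' : p = (p - 1) + 1 := by omega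
      rw [hp', pow_succ]
      refine Submodule.smul_mem_smul ?_ ha
      exact Ideal.pow_mem_of_mem _ (hIm ha) _ (by omega)
    · rw [map_zero]
      exact Submodule.zero_mem _
    · intro a b _ _ ha hb
      rw [map_add]
      exact Submodule.add_mem _ ha hb
    · intro r a _ ha
      show τ (r * a) ∈ _
      rw [map_mul]
      exact Ideal.mul_mem_left _ _ ha
  -- `z` generates
  have hzspan : ∀ w : R' ⊗[R] M, e w ∈ Submodule.span R (Set.range z) := by
    intro w
    induction w using TensorProduct.induction_on with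
    | zero => rw [map_zero]; exact Submodule.zero_mem _
    | tmul d m =>
      have hm : m ∈ Submodule.span R (Set.range x) := hx ▸ Submodule.mem_top
      induction hm using Submodule.span_induction generalizing d with
      | mem m hm =>
        obtain ⟨j, rfl⟩ := hm
        rw [hez]
        exact Submodule.smul_mem _ _ (Submodule.subset_span ⟨j, rfl⟩)
      | zero => rw [TensorProduct.tmul_zero, map_zero]; exact Submodule.zero_mem _
      | add a b _ _ ha hb =>
        rw [TensorProduct.tmul_add, map_add]
        exact Submodule.add_mem _ (ha d) (hb d)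
      | smul r a _ ha =>
        rw [← TensorProduct.smul_tmul]
        exact ha (r • d)
    | add a b ha hb => rw [map_add]; exact Submodule.add_mem _ ha hb
  have hz : ∀ m : M, m ∈ Submodule.span R (Set.range z) := by
    intro m
    obtain ⟨w, rfl⟩ := he.2 m
    exact hzspan w
  have hC : ∀ i, ∃ c : Fin n → R, z i = ∑ j, c j • x j := by
    intro i
    have : z i ∈ Submodule.span R (Set.range x) := hx ▸ Submodule.mem_top
    obtain ⟨c, hc⟩ := (Submodule.mem_span_range_iff_exists_fun R).1 this
    exact ⟨c, hc.symm⟩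
  have hC' : ∀ i, ∃ c : Fin n → R, x i = ∑ j, c j • z j := by
    intro i
    obtain ⟨c, hc⟩ := (Submodule.mem_span_range_iff_exists_fun R).1 (hz (x i))
    exact ⟨c, hc.symm⟩
  choose C hC using hC
  choose C' hC' using hC'
  have hN : ∀ k, (fun j => ∑ i, C' k i * C i j - (if k = j then (1 : R) else 0)) ∈
      LinearMap.ker π := by
    intro k
    rw [LinearMap.mem_ker, hπa]
    have h1 : ∑ j, (∑ i, C' k i * C i j - (if k = j then (1 : R) else 0)) • x j =
        ∑ i, C' k i • z i - x k := by
      simp_rw [sub_smul, Finset.sum_sub_distrib, Finset.sum_smul, mul_smul]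
      rw [Finset.sum_comm]
      congr 1
      · refine Finset.sum_congr rfl fun i _ => ?_
        rw [hC i, Finset.smul_sum]
      · rw [Finset.sum_eq_single k]
        · simp
        · intro j _ hj
          simp [Ne.symm hj]
        · intro h
          exact absurd (Finset.mem_univ k) h
    rw [h1, ← hC' k, sub_self]
  have hImI : (I : Submodule R R) ≤ maximalIdeal R • (I : Submodule R R) := by
    show I ≤ maximalIdeal R • I
    rw [Ideal.span_le]
    rintro _ ⟨c, hcS, j, rfl⟩
    have hcK : c ∈ LinearMap.ker π := hS ▸ Submodule.subset_span hcS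
    have hcx : ∑ k, c k • x k = 0 := by rw [← hπa]; exact hcK
    have hd : ∑ i, (∑ k, c k * C' k i) • z i = 0 := by
      simp_rw [Finset.sum_smul, mul_smul]
      rw [Finset.sum_comm]
      rw [← hcx]
      refine Finset.sum_congr rfl fun k _ => ?_
      rw [hC' k, Finset.smul_sum]
    have h4 := hclaim _ hd
    have h5 : ∀ i, (∑ k, c k * C' k i) ∈ maximalIdeal R • I := fun i => by
      have := hJ' _ (h4 i)
      rwa [RingEquiv.apply_symm_apply] at this
    have h6 : c j = ∑ i, (∑ k, c k * C' k i) * C i j -
        ∑ k, c k * (∑ i, C' k i * C i j - (if k = j then (1 : R) else 0)) := by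
      simp_rw [mul_sub, Finset.sum_sub_distrib, Finset.sum_mul, Finset.mul_sum]
      rw [Finset.sum_comm]
      have : ∑ k, c k * (if k = j then (1 : R) else 0) = c j := by
        rw [Finset.sum_eq_single j]
        · simp
        · intro k _ hk
          simp [hk]
        · intro h
          exact absurd (Finset.mem_univ j) h
      rw [this]
      have h7 : ∀ k i, c k * C' k i * C i j = c k * (C' k i * C i j) := fun k i => mul_assoc _ _ _
      simp_rw [h7]
      ring
    rw [SetLike.mem_coe, h6]
    refine Submodule.sub_mem _ (Submodule.sum_mem _ fun i _ => ?_) (Submodule.sum_mem _ fun k _ => ?_)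
    · exact Ideal.mul_mem_right _ _ (h5 i)
    · rw [mul_comm]
      exact Submodule.smul_mem_smul (hIm (hcoord _ (hN k) j)) (hcoord c hcK k)
  have hI0 : I = ⊥ := Submodule.eq_bot_of_le_smul_of_le_jacobson_bot (maximalIdeal R) I hIfg hImI
    (IsLocalRing.maximalIdeal_le_jacobson _)
  have hK : LinearMap.ker π = ⊥ := by
    rw [Submodule.eq_bot_iff]
    intro c hc
    funext j
    have := hcoord c hc j
    rw [hI0] at this
    simpa using this
  exact Module.Free.of_equiv (LinearEquiv.ofBijective π ⟨LinearMap.ker_eq_bot.1 hK, hπ⟩)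

end Groth.Agent.Lib.Helper6.FrobFree
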