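import Mathlib
import Groth.Agent.S4860

/-!
# Finite type points of schemes (helper6)
-/

open AlgebraicGeometry CategoryTheory

universe u

namespace Groth.Agent.Lib.Helper6.FtPts

/-- ring-level: a prime `q ⊇ I` with `g ∉ q`, where `(R/I)_g` is a field, is contained in `I`. -/
theorem prime_le_of_isField {R : Type u} [CommRing R] (I : Ideal R) [I.IsPrime] (g : R)
    (hf : IsField (Localization.Away (Ideal.Quotient.mk I g))) (hg : g ∉ I)
    (q : Ideal R) [hq : q.IsPrime] (hIq : I ≤ q) (hgq : g ∉ q) : q ≤ I := by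
  set B := R ⧸ I
  set fb : B := Ideal.Quotient.mk I g with hfb
  set L := Localization.Away fb
  let qb : Ideal B := q.map (Ideal.Quotient.mk I)
  have hqb : qb.IsPrime :=
    Ideal.map_isPrime_of_surjective Ideal.Quotient.mk_surjective (by simpa using hIq)
  have hfq : fb ∉ qb := by
    rw [hfb, Ideal.mem_quotient_iff_mem hIq]
    exact hgq
  have hdisj : Disjoint (Submonoid.powers fb : Set B) (qb : Set B) :=
    (Ideal.disjoint_powers_iff_notMem _ hqb.isRadical).mpr hfq
  have hprime : (qb.map (algebraMap B L)).IsPrime :=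
    IsLocalization.isPrime_of_isPrime_disjoint (Submonoid.powers fb) L qb hqb hdisj
  have hbot : qb.map (algebraMap B L) = ⊥ := by
    rw [eq_bot_iff]
    intro x hx
    by_contra hx0
    obtain ⟨y, hy⟩ := hf.mul_inv_cancel hx0
    apply hprime.ne_top
    rw [Ideal.eq_top_iff_one, ← hy]
    exact Ideal.mul_mem_right _ _ hx
  have hcomap : Ideal.comap (algebraMap B L) (qb.map (algebraMap B L)) = qb :=
    IsLocalization.comap_map_of_isPrime_disjoint (Submonoid.powers fb) L hqb hdisj
  have hfb0 : fb ≠ 0 := by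
    rw [hfb, ne_eq, Ideal.Quotient.eq_zero_iff_mem]
    exact hg
  have hinj : Function.Injective (algebraMap B L) :=
    IsLocalization.injective L (powers_le_nonZeroDivisors_of_noZeroDivisors hfb0)
  intro a ha
  have h1 : Ideal.Quotient.mk I a ∈ qb := Ideal.mem_map_of_mem _ ha
  rw [← hcomap, hbot, Ideal.mem_comap, Ideal.mem_bot] at h1
  have h2 : Ideal.Quotient.mk I a = 0 := hinj (by rw [h1, map_zero])
  exact Ideal.Quotient.eq_zero_iff_mem.mp h2


/-- any ideal of a field (given as `IsField`) which is not `⊤` is `⊥`. -/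
theorem eq_bot_of_isField {K : Type u} [CommRing K] (hK : IsField K) (J : Ideal K) (hJ : J ≠ ⊤) :
    J = ⊥ := by
  rw [eq_bot_iff]
  intro x hx
  by_contra hx0
  obtain ⟨y, hy⟩ := hK.mul_inv_cancel hx0
  apply hJ
  rw [Ideal.eq_top_iff_one, ← hy]
  exact Ideal.mul_mem_right _ _ hx

/-- Core: a locally finite type morphism from the spectrum of a field lands in a point which is closed
in some affine open neighbourhood (inside any given affine open neighbourhood). -/
theorem exists_affine_closed {S : Scheme.{u}} {k : Type u} [Field k]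
    (f : Spec (CommRingCat.of k) ⟶ S) [LocallyOfFiniteType f] (U0 : S.Opens)
    (hU0 : IsAffineOpen U0) (hu0 : f (IsLocalRing.closedPoint k) ∈ U0) :
    ∃ U : S.Opens, IsAffineOpen U ∧ U ≤ U0 ∧ ∃ hu : f (IsLocalRing.closedPoint k) ∈ U,
      IsClosed ({⟨f (IsLocalRing.closedPoint k), hu⟩} : Set ↥U) := by
  classical
  set pt : ↥(Spec (CommRingCat.of k)) := IsLocalRing.closedPoint k with hpt
  have hsub : ∀ x : ↥(Spec (CommRingCat.of k)), x = pt := fun x => Subsingleton.elim _ _
  have htop : (⊤ : (Spec (CommRingCat.of k)).Opens) ≤ f ⁻¹ᵁ U0 := by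
    intro x _
    rw [hsub x]
    exact hu0
  set φ := f.appLE U0 ⊤ htop with hφdef
  have hφ : φ.hom.FiniteType :=
    HasRingHomProperty.appLE @LocallyOfFiniteType f ‹_› ⟨U0, hU0⟩ ⟨⊤, isAffineOpen_top _⟩ htop
  have hK : IsField Γ(Spec (CommRingCat.of k), ⊤) :=
    MulEquiv.isField (Field.toIsField k)
      (Scheme.ΓSpecIso (CommRingCat.of k)).commRingCatIsoToRingEquiv.toMulEquiv
  have : IsDomain Γ(Spec (CommRingCat.of k), ⊤) := hK.isDomain
  set I : Ideal Γ(S, U0) := RingHom.ker φ.hom with hI
  have hIprime : I.IsPrime := RingHom.ker_isPrime φ.hom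
  -- apply S4860
  have h3 : ∃ (K : Type u) (_ : Field K) (_ : Algebra (Γ(S, U0) ⧸ I) K),
      Function.Injective (algebraMap (Γ(S, U0) ⧸ I) K) ∧ Algebra.FiniteType (Γ(S, U0) ⧸ I) K := by
    refine ⟨Γ(Spec (CommRingCat.of k), ⊤), hK.toField, (RingHom.kerLift φ.hom).toAlgebra, ?_, ?_⟩
    · exact RingHom.kerLift_injective φ.hom
    · have h4 : (RingHom.kerLift φ.hom).FiniteType := by
        apply RingHom.FiniteType.of_comp_finiteType (f := Ideal.Quotient.mk I)
        have : (RingHom.kerLift φ.hom).comp (Ideal.Quotient.mk I) = φ.hom := by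
          ext x
          exact RingHom.kerLift_mk φ.hom x
        rw [this]
        exact hφ
      exact h4
  obtain ⟨fb, hfb0, hfb⟩ := ((Groth.Agent.S4860.result (Γ(S, U0) ⧸ I)).out 2 0).mp h3
  obtain ⟨g, rfl⟩ := Ideal.Quotient.mk_surjective fb
  have hgI : g ∉ I := fun h => hfb0 (Ideal.Quotient.eq_zero_iff_mem.mpr h)
  have hu : f pt ∈ S.basicOpen g := by
    have h1 : (Spec (CommRingCat.of k)).basicOpen (φ g) = ⊤ ⊓ f ⁻¹ᵁ (S.basicOpen g) :=
      Scheme.basicOpen_appLE f ⊤ U0 htop g
    have h2 : φ g ≠ 0 := fun h => hgI (by rw [hI, RingHom.mem_ker]; exact h)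
    have h3 : IsUnit (φ g) := by
      obtain ⟨y, hy⟩ := hK.mul_inv_cancel h2
      exact IsUnit.of_mul_eq_one _ hy
    rw [Scheme.basicOpen_of_isUnit _ h3] at h1
    have : pt ∈ (⊤ : (Spec (CommRingCat.of k)).Opens) ⊓ f ⁻¹ᵁ (S.basicOpen g) := by
      rw [← h1]; trivial
    exact this.2
  refine ⟨S.basicOpen g, hU0.basicOpen g, S.basicOpen_le g, hu, ?_⟩
  rw [← closure_subset_iff_isClosed]
  intro y hy
  have hspec : (⟨f pt, hu⟩ : ↥(S.basicOpen g)) ⤳ y := specializes_iff_mem_closure.mpr hy
  have hspec' : f pt ⤳ y.1 := hspec.map continuous_subtype_val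
  have hyU0 : y.1 ∈ U0 := S.basicOpen_le g y.2
  set pu := hU0.primeIdealOf ⟨f pt, hu0⟩ with hpu
  set pt' := hU0.primeIdealOf ⟨y.1, hyU0⟩ with hpt'
  have e1 : hU0.fromSpec pu = f pt := hU0.fromSpec_primeIdealOf ⟨f pt, hu0⟩
  have e2 : hU0.fromSpec pt' = y.1 := hU0.fromSpec_primeIdealOf ⟨y.1, hyU0⟩
  have hle : pu.asIdeal ≤ pt'.asIdeal := by
    rw [PrimeSpectrum.asIdeal_le_asIdeal, PrimeSpectrum.le_iff_specializes]
    have h0 : hU0.fromSpec pu ⤳ hU0.fromSpec pt' := by
      rw [e1, e2]
      exact hspec'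
    exact (hU0.fromSpec.isOpenEmbedding.isInducing.specializes_iff).mp h0
  have hpuI : pu.asIdeal = I := by
    have h1 := IsAffineOpen.comap_primeIdealOf_appLE U0 hU0 ⊤ (isAffineOpen_top _) htop
      (x := pt) trivial
    have h2 := congrArg PrimeSpectrum.asIdeal h1
    rw [hpu, ← h2]
    have h3 : ((isAffineOpen_top (Spec (CommRingCat.of k))).primeIdealOf ⟨pt, trivial⟩).asIdeal = ⊥ :=
      eq_bot_of_isField hK _ (PrimeSpectrum.isPrime _).ne_top
    show Ideal.comap φ.hom _ = I
    rw [h3, hI]
    rfl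
  have hgpt' : g ∉ pt'.asIdeal := by
    have h1 : pt' ∈ hU0.fromSpec ⁻¹ᵁ S.basicOpen g := by
      show hU0.fromSpec pt' ∈ S.basicOpen g
      rw [e2]
      exact y.2
    rw [hU0.fromSpec_preimage_basicOpen] at h1
    exact h1
  have hle' : pt'.asIdeal ≤ I :=
    prime_le_of_isField I g hfb hgI pt'.asIdeal (hq := pt'.2) (hpuI ▸ hle) hgpt'
  have heq : pt' = pu := by
    apply PrimeSpectrum.ext
    exact le_antisymm (hpuI ▸ hle') hle
  have : y.1 = f pt := by rw [← e1, ← e2, heq]
  exact Subtype.ext this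


/-- A point closed in some open neighbourhood is a finite type point. -/
theorem lft_of_closed {S : Scheme.{u}} (s : S) (U : S.Opens) (hs : s ∈ U)
    (hc : IsClosed ({⟨s, hs⟩} : Set ↥U)) : LocallyOfFiniteType (S.fromSpecResidueField s) := by
  let x : ↥(U : Scheme.{u}) := ⟨s, hs⟩
  have h1 : IsClosedImmersion ((U : Scheme.{u}).fromSpecResidueField x) :=
    isClosed_singleton_iff_isClosedImmersion.mp hc
  have e := Scheme.Hom.SpecMap_residueFieldMap_fromSpecResidueField U.ι x
  have h2 : LocallyOfFiniteType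
      (Spec.map (U.ι.residueFieldMap x) ≫ S.fromSpecResidueField (U.ι x)) := by
    rw [e]; infer_instance
  have h3 : S.fromSpecResidueField s = inv (Spec.map (U.ι.residueFieldMap x)) ≫
      (Spec.map (U.ι.residueFieldMap x) ≫ S.fromSpecResidueField (U.ι x)) := by
    rw [IsIso.inv_hom_id_assoc]
    rfl
  rw [h3]
  have h4 : LocallyOfFiniteType (inv (Spec.map (U.ι.residueFieldMap x))) := inferInstance
  exact MorphismProperty.comp_mem _ _ _ h4 h2

/-- The image point of a locally finite type morphism from the spectrum of a field is a finite type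
point. -/
theorem ft_of_lft {S : Scheme.{u}} {k : Type u} [Field k]
    (f : Spec (CommRingCat.of k) ⟶ S) [LocallyOfFiniteType f] :
    LocallyOfFiniteType (S.fromSpecResidueField (f (IsLocalRing.closedPoint k))) := by
  obtain ⟨U0, hU0, hu0, -⟩ := exists_isAffineOpen_mem_and_subset
    (x := f (IsLocalRing.closedPoint k)) (U := ⊤) trivial
  obtain ⟨U, -, -, hu, hc⟩ := exists_affine_closed f U0 hU0 hu0
  exact lft_of_closed _ U hu hc

theorem ft_iff (S : Scheme.{u}) (s : S) :
    LocallyOfFiniteType (S.fromSpecResidueField s) ↔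
      ∃ U : S.Opens, IsAffineOpen U ∧ ∃ hs : s ∈ U, IsClosed ({⟨s, hs⟩} : Set ↥U) := by
  constructor
  · intro h
    let f : Spec (CommRingCat.of (S.residueField s)) ⟶ S := S.fromSpecResidueField s
    have hf : LocallyOfFiniteType f := h
    have hpt : f (IsLocalRing.closedPoint (S.residueField s)) = s :=
      Scheme.fromSpecResidueField_apply _ _
    obtain ⟨U0, hU0, hu0, -⟩ := exists_isAffineOpen_mem_and_subset (x := s) (U := ⊤) trivial
    have hu0' : f (IsLocalRing.closedPoint (S.residueField s)) ∈ U0 := by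
      rw [hpt]; exact hu0
    obtain ⟨U, hU, -, hu, hc⟩ := exists_affine_closed f U0 hU0 hu0'
    have hu' : s ∈ U := by
      rw [← hpt]; exact hu
    refine ⟨U, hU, hu', ?_⟩
    convert hc using 3
    exact hpt.symm
  · rintro ⟨U, -, hs, hc⟩
    exact lft_of_closed s U hs hc


/-- S9339: a locally finite type morphism maps finite type points to finite type points. -/
theorem ft_image {T S : Scheme.{u}} (f : T ⟶ S) [LocallyOfFiniteType f] (t : T)
    (ht : LocallyOfFiniteType (T.fromSpecResidueField t)) :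
    LocallyOfFiniteType (S.fromSpecResidueField (f t)) := by
  let g : Spec (CommRingCat.of (T.residueField t)) ⟶ S := T.fromSpecResidueField t ≫ f
  have hg : LocallyOfFiniteType g := by
    have := ht
    exact MorphismProperty.comp_mem _ _ _ ht inferInstance
  have hpt : g (IsLocalRing.closedPoint (T.residueField t)) = f t := by
    exact congrArg (fun y => f y) (Scheme.fromSpecResidueField_apply t _)
  have := ft_of_lft g
  rwa [hpt] at this

/-- S9340 (the nontrivial inclusion): every finite type point of the target of a surjective locally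
finite type morphism is the image of a finite type point. -/
theorem ft_surj {T S : Scheme.{u}} (f : T ⟶ S) [LocallyOfFiniteType f] [Surjective f] (s : S)
    (hs : LocallyOfFiniteType (S.fromSpecResidueField s)) :
    ∃ t : T, LocallyOfFiniteType (T.fromSpecResidueField t) ∧ f t = s := by
  obtain ⟨t0, ht0⟩ := f.surjective s
  have hne : Nonempty ↥(f.fiber s) := by
    have : t0 ∈ Set.range (f.fiberι s) := by
      rw [f.range_fiberι s]; exact ht0
    obtain ⟨z, -⟩ := this
    exact ⟨z⟩
  obtain ⟨z, -, hz⟩ := nonempty_inter_closedPoints (X := ↥(f.fiber s)) (Z := Set.univ)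
    Set.univ_nonempty isOpen_univ.isLocallyClosed
  have hz' : IsClosed ({z} : Set ↥(f.fiber s)) := hz
  have h1 : IsClosedImmersion ((f.fiber s).fromSpecResidueField z) :=
    isClosed_singleton_iff_isClosedImmersion.mp hz'
  have h2 : LocallyOfFiniteType (f.fiberι s) := by
    have := hs
    exact inferInstanceAs (LocallyOfFiniteType (Limits.pullback.fst f (S.fromSpecResidueField s)))
  let g : Spec (CommRingCat.of ((f.fiber s).residueField z)) ⟶ T :=
    (f.fiber s).fromSpecResidueField z ≫ f.fiberι s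
  have hg : LocallyOfFiniteType g := MorphismProperty.comp_mem _ _ _ inferInstance h2
  have hpt : g (IsLocalRing.closedPoint ((f.fiber s).residueField z)) = f.fiberι s z := by
    exact congrArg (fun y => f.fiberι s y) (Scheme.fromSpecResidueField_apply z _)
  refine ⟨f.fiberι s z, ?_, ?_⟩
  · have := ft_of_lft g
    rwa [hpt] at this
  · have : f.fiberι s z ∈ f ⁻¹' {s} := by
      rw [← f.range_fiberι s]; exact ⟨z, rfl⟩
    exact this

/-- S9341 (first part): a nonempty locally closed subset contains a finite type point. -/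
theorem ft_locallyClosed (S : Scheme.{u}) (Z : Set S) (hZ : IsLocallyClosed Z) (hne : Z.Nonempty) :
    (Z ∩ {s : S | LocallyOfFiniteType (S.fromSpecResidueField s)}).Nonempty := by
  obtain ⟨z, hz⟩ := hne
  obtain ⟨O, C, hO, hC, rfl⟩ := hZ
  obtain ⟨W, hW, hzW, hWO⟩ := exists_isAffineOpen_mem_and_subset (x := z) (U := ⟨O, hO⟩) hz.1
  have : CompactSpace ↥W := isCompact_iff_compactSpace.mp hW.isCompact
  have hcl : IsClosed ((Subtype.val : ↥W → S) ⁻¹' C) := hC.preimage continuous_subtype_val
  obtain ⟨x, hxC, hx⟩ := hcl.exists_closed_singleton ⟨⟨z, hzW⟩, hz.2⟩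
  refine ⟨x.1, ⟨hWO x.2, hxC⟩, ?_⟩
  exact lft_of_closed x.1 W x.2 hx


/-- For a field `k`, the canonical map `Spec κ(pt) ⟶ Spec k` is an isomorphism. -/
theorem isIso_fromSpecResidueField_field (k : Type u) [Field k] :
    IsIso ((Spec (CommRingCat.of k)).fromSpecResidueField (IsLocalRing.closedPoint k)) := by
  set x : ↥(Spec (CommRingCat.of k)) := IsLocalRing.closedPoint k with hx
  rw [← Scheme.Spec.map_residueFieldIso_inv_eq_fromSpecResidueField]
  have hmax : x.asIdeal.IsMaximal := by
    rw [hx]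
    exact IsLocalRing.maximalIdeal.isMaximal k
  have hbij : Function.Bijective (algebraMap (CommRingCat.of k) x.asIdeal.ResidueField) :=
    ⟨(algebraMap k x.asIdeal.ResidueField).injective, Ideal.algebraMap_residueField_surjective _⟩
  have : IsIso (CommRingCat.ofHom (algebraMap (CommRingCat.of k) x.asIdeal.ResidueField)) :=
    (ConcreteCategory.isIso_iff_bijective _).mpr hbij
  infer_instance

set_option backward.isDefEq.respectTransparency false in
/-- S9337. -/
theorem ft_field_iff (S : Scheme.{u}) (k : Type u) [Field k] (f : Spec (CommRingCat.of k) ⟶ S) :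
    LocallyOfFiniteType f ↔
      ∃ U : S.Opens, IsAffineOpen U ∧ ∃ hu : f (IsLocalRing.closedPoint k) ∈ U,
        IsClosed ({⟨f (IsLocalRing.closedPoint k), hu⟩} : Set ↥U) ∧
          (f.residueFieldMap (IsLocalRing.closedPoint k)).hom.Finite := by
  have hiso := isIso_fromSpecResidueField_field k
  have e := Scheme.Hom.SpecMap_residueFieldMap_fromSpecResidueField f (IsLocalRing.closedPoint k)
  constructor
  · intro h
    obtain ⟨U0, hU0, hu0, -⟩ := exists_isAffineOpen_mem_and_subset
      (x := f (IsLocalRing.closedPoint k)) (U := ⊤) trivial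
    obtain ⟨U, hU, -, hu, hc⟩ := exists_affine_closed f U0 hU0 hu0
    refine ⟨U, hU, hu, hc, ?_⟩
    have h1 : LocallyOfFiniteType (Spec.map (f.residueFieldMap (IsLocalRing.closedPoint k)) ≫
        S.fromSpecResidueField (f (IsLocalRing.closedPoint k))) := by
      rw [e]
      exact MorphismProperty.comp_mem _ _ _ inferInstance h
    have h2 : LocallyOfFiniteType (Spec.map (f.residueFieldMap (IsLocalRing.closedPoint k))) :=
      locallyOfFiniteType_of_comp _ (S.fromSpecResidueField (f (IsLocalRing.closedPoint k)))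
    have h3 : (f.residueFieldMap (IsLocalRing.closedPoint k)).hom.FiniteType :=
      (HasRingHomProperty.Spec_iff (P := @LocallyOfFiniteType)).mp h2
    algebraize [(f.residueFieldMap (IsLocalRing.closedPoint k)).hom]
    show Module.Finite _ _
    exact finite_of_finite_type_of_isJacobsonRing _ _
  · rintro ⟨U, hU, hu, hc, hfin⟩
    have h1 : LocallyOfFiniteType (S.fromSpecResidueField (f (IsLocalRing.closedPoint k))) :=
      lft_of_closed _ U hu hc
    have h2 : IsFinite (Spec.map (f.residueFieldMap (IsLocalRing.closedPoint k))) :=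
      (IsFinite.SpecMap_iff _).mpr hfin
    have h3 : LocallyOfFiniteType ((Spec (CommRingCat.of k)).fromSpecResidueField
        (IsLocalRing.closedPoint k) ≫ f) := by
      rw [← e]
      exact MorphismProperty.comp_mem _ _ _ inferInstance h1
    have h4 : f = inv ((Spec (CommRingCat.of k)).fromSpecResidueField
        (IsLocalRing.closedPoint k)) ≫ ((Spec (CommRingCat.of k)).fromSpecResidueField
        (IsLocalRing.closedPoint k) ≫ f) := by
      rw [IsIso.inv_hom_id_assoc]
    rw [h4]
    exact MorphismProperty.comp_mem _ _ _ inferInstance h3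

end Groth.Agent.Lib.Helper6.FtPts
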