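import Mathlib

open Matrix

namespace Groth.Agent.Helper6.GL2

variable {p : ℕ} [Fact p.Prime]

abbrev M2' (p : ℕ) := Matrix (Fin 2) (Fin 2) (ZMod p)
abbrev G2' (p : ℕ) := GL (Fin 2) (ZMod p)
abbrev V2' (p : ℕ) := (Fin 2 → ZMod p)

/-- Cartan data. -/
structure Cartan (C : Subgroup (G2' p)) (E : Subring (M2' p)) : Prop where
  field : IsField E
  card : Nat.card E = p ^ 2
  eq : (E : Set (M2' p)) = insert 0 ((fun g : (G2' p) => (g : (M2' p))) '' (C : Set (G2' p)))

namespace Cartan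

variable {C : Subgroup (G2' p)} {E : Subring (M2' p)} (hC : Cartan C E)
include hC

lemma mem_E {c : (G2' p)} (hc : c ∈ C) : (c : (M2' p)) ∈ E := by
  have : (c : (M2' p)) ∈ (E : Set (M2' p)) := by
    rw [hC.eq]; right; exact ⟨c, hc, rfl⟩
  exact this

lemma exists_of_mem {x : (M2' p)} (hx : x ∈ E) (h0 : x ≠ 0) : ∃ c ∈ C, (c : (M2' p)) = x := by
  have : x ∈ (E : Set (M2' p)) := hx
  rw [hC.eq] at this
  rcases this with h | ⟨c, hc, rfl⟩
  · exact absurd h h0
  · exact ⟨c, hc, rfl⟩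

lemma comm {x y : (M2' p)} (hx : x ∈ E) (hy : y ∈ E) : x * y = y * x :=
  congrArg Subtype.val (hC.field.mul_comm ⟨x, hx⟩ ⟨y, hy⟩)

omit hC in
lemma scalar_mem (E : Subring (M2' p)) (t : ZMod p) : algebraMap (ZMod p) (M2' p) t ∈ E := by
  have : algebraMap (ZMod p) (M2' p) t = ((t.val : ℕ) : (M2' p)) := by
    rw [← map_natCast (algebraMap (ZMod p) (M2' p)), ZMod.natCast_zmod_val]
  rw [this]
  exact natCast_mem E _

/-- free: a nonzero element of `E` kills no nonzero vector -/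
lemma mulVec_ne_zero {x : (M2' p)} (hx : x ∈ E) (h0 : x ≠ 0) {v : (V2' p)} (hv : v ≠ 0) : x *ᵥ v ≠ 0 := by
  obtain ⟨c, _, rfl⟩ := hC.exists_of_mem hx h0
  intro h
  apply hv
  have : (c⁻¹ : (G2' p)).1 *ᵥ (c.1 *ᵥ v) = v := by
    rw [Matrix.mulVec_mulVec, Units.inv_mul, Matrix.one_mulVec]
  rw [← this, h, Matrix.mulVec_zero]

lemma transitive {v w : (V2' p)} (hv : v ≠ 0) (hw : w ≠ 0) : ∃ c ∈ C, (c : (M2' p)) *ᵥ v = w := by
  classical
  let f : E → (V2' p) := fun x => x.1 *ᵥ v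
  have hinj : Function.Injective f := by
    intro x y hxy
    by_contra hne
    have h1 : (x.1 - y.1) ≠ 0 := fun h => hne (Subtype.ext (sub_eq_zero.mp h))
    have h2 : (x.1 - y.1) *ᵥ v = 0 := by
      rw [Matrix.sub_mulVec]; exact sub_eq_zero.mpr hxy
    exact hC.mulVec_ne_zero (E.sub_mem x.2 y.2) h1 hv h2
  have hcard : Nat.card (V2' p) ≤ Nat.card E := by
    rw [hC.card, Nat.card_eq_fintype_card, Fintype.card_fun, ZMod.card, Fintype.card_fin]
  obtain ⟨x, hx⟩ := (hinj.bijective_of_nat_card_le hcard).2 w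
  have hx0 : x.1 ≠ 0 := by
    intro h0
    apply hw
    rw [← hx]
    show x.1 *ᵥ v = 0
    rw [h0, Matrix.zero_mulVec]
  obtain ⟨c, hc, hcx⟩ := hC.exists_of_mem x.2 hx0
  exact ⟨c, hc, by rw [hcx]; exact hx⟩

lemma card_C : Nat.card C = p ^ 2 - 1 := by
  classical
  have h1 : Nat.card E = (E : Set (M2' p)).ncard := Nat.card_coe_set_eq _
  rw [hC.eq, Set.ncard_insert_of_notMem, Set.ncard_image_of_injective _ Units.val_injective,
    hC.card] at h1
  · have : Nat.card C = (C : Set (G2' p)).ncard := Nat.card_coe_set_eq _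
    omega
  · rintro ⟨c, _, hc⟩
    exact c.ne_zero hc

end Cartan

/-- upper unitriangular -/
def Tp (x : ZMod p) : G2' p :=
  ⟨!![1, x; 0, 1], !![1, -x; 0, 1],
    by ext i j; fin_cases i <;> fin_cases j <;> simp [Matrix.mul_apply, Fin.sum_univ_two],
    by ext i j; fin_cases i <;> fin_cases j <;> simp [Matrix.mul_apply, Fin.sum_univ_two]⟩

/-- lower unitriangular -/
def Tm (x : ZMod p) : G2' p :=
  ⟨!![1, 0; x, 1], !![1, 0; -x, 1],
    by ext i j; fin_cases i <;> fin_cases j <;> simp [Matrix.mul_apply, Fin.sum_univ_two],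
    by ext i j; fin_cases i <;> fin_cases j <;> simp [Matrix.mul_apply, Fin.sum_univ_two]⟩

lemma Tp_val (x : ZMod p) : ((Tp x : G2' p) : M2' p) = !![1, x; 0, 1] := rfl
lemma Tm_val (x : ZMod p) : ((Tm x : G2' p) : M2' p) = !![1, 0; x, 1] := rfl

lemma Tp_mul (x y : ZMod p) : Tp x * Tp y = Tp (x + y) := by
  apply Units.ext
  rw [Units.val_mul, Tp_val, Tp_val, Tp_val]
  ext i j; fin_cases i <;> fin_cases j <;> simp [Matrix.mul_apply, Fin.sum_univ_two, add_comm]

lemma Tm_mul (x y : ZMod p) : Tm x * Tm y = Tm (x + y) := by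
  apply Units.ext
  rw [Units.val_mul, Tm_val, Tm_val, Tm_val]
  ext i j; fin_cases i <;> fin_cases j <;> simp [Matrix.mul_apply, Fin.sum_univ_two, add_comm]

lemma Tp_zero : Tp (0 : ZMod p) = 1 := by
  apply Units.ext
  rw [Tp_val, Units.val_one]
  ext i j; fin_cases i <;> fin_cases j <;> simp

lemma Tm_zero : Tm (0 : ZMod p) = 1 := by
  apply Units.ext
  rw [Tm_val, Units.val_one]
  ext i j; fin_cases i <;> fin_cases j <;> simp

lemma Tp_pow (x : ZMod p) (n : ℕ) : Tp x ^ n = Tp ((n : ZMod p) * x) := by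
  induction n with
  | zero => simp [Tp_zero]
  | succ n ih => rw [pow_succ, ih, Tp_mul]; congr 1; push_cast; ring

lemma Tm_pow (x : ZMod p) (n : ℕ) : Tm x ^ n = Tm ((n : ZMod p) * x) := by
  induction n with
  | zero => simp [Tm_zero]
  | succ n ih => rw [pow_succ, ih, Tm_mul]; congr 1; push_cast; ring

lemma Tp_mem (H : Subgroup (G2' p)) {b : ZMod p} (hb : b ≠ 0) (h : Tp b ∈ H) (x : ZMod p) :
    Tp x ∈ H := by
  have : Tp x = Tp b ^ (x / b).val := by
    rw [Tp_pow, ZMod.natCast_zmod_val, div_mul_cancel₀ _ hb]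
  rw [this]; exact H.pow_mem h _

lemma Tm_mem (H : Subgroup (G2' p)) {b : ZMod p} (hb : b ≠ 0) (h : Tm b ∈ H) (x : ZMod p) :
    Tm x ∈ H := by
  have : Tm x = Tm b ^ (x / b).val := by
    rw [Tm_pow, ZMod.natCast_zmod_val, div_mul_cancel₀ _ hb]
  rw [this]; exact H.pow_mem h _

/-- `SL₂` is generated by the unitriangular matrices. -/
lemma sl2_mem (H : Subgroup (G2' p)) (hp : ∀ x, Tp x ∈ H) (hm : ∀ x, Tm x ∈ H)
    (g : G2' p) (hg : (g : M2' p).det = 1) : g ∈ H := by
  have key : ∀ g : G2' p, (g : M2' p).det = 1 → (g : M2' p) 1 0 ≠ 0 → g ∈ H := by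
    intro g hg hc
    have : g = Tp (((g : M2' p) 0 0 - 1) / (g : M2' p) 1 0) * Tm ((g : M2' p) 1 0) *
        Tp (((g : M2' p) 1 1 - 1) / (g : M2' p) 1 0) := by
      apply Units.ext
      rw [Units.val_mul, Units.val_mul, Tp_val, Tp_val, Tm_val]
      rw [Matrix.det_fin_two] at hg
      ext i j
      fin_cases i <;> fin_cases j <;>
        simp [Matrix.mul_apply, Fin.sum_univ_two] <;> field_simp <;>
        first
        | ring1
        | linear_combination hg
        | linear_combination -hg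
    rw [this]
    exact H.mul_mem (H.mul_mem (hp _) (hm _)) (hp _)
  by_cases hc : (g : M2' p) 1 0 = 0
  · have h1 : Tm 1 * g ∈ H := by
      apply key
      · rw [Units.val_mul, Matrix.det_mul, hg, Tm_val, Matrix.det_fin_two]; simp
      · rw [Units.val_mul, Tm_val]
        simp only [Matrix.mul_apply, Fin.sum_univ_two]
        simp [hc]
        intro h0
        rw [Matrix.det_fin_two, h0, hc] at hg
        simp at hg
    have : g = (Tm 1)⁻¹ * (Tm 1 * g) := by group
    rw [this]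
    exact H.mul_mem (H.inv_mem (hm 1)) h1
  · exact key g hg hc

end Groth.Agent.Helper6.GL2
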