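import Groth.Agent.Lib.Helper6.GL2a

open Matrix

namespace Groth.Agent.Helper6.GL2

variable {p : ℕ} [Fact p.Prime]

lemma Tp_inj {b : ZMod p} (h : Tp b = 1) : b = 0 := by
  have := congrArg (fun g : G2' p => (g : M2' p) 0 1) h
  simpa [Tp_val] using this

lemma Tm_inj {b : ZMod p} (h : Tm b = 1) : b = 0 := by
  have := congrArg (fun g : G2' p => (g : M2' p) 1 0) h
  simpa [Tm_val] using this

/-- an element fixing `e₁` with det 1 is `Tp b`. -/
lemma eq_Tp_of_fix (u : G2' p) (h1 : (u : M2' p) *ᵥ ![1, 0] = ![1, 0])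
    (hdet : (u : M2' p).det = 1) : u = Tp ((u : M2' p) 0 1) := by
  have h00 : (u : M2' p) 0 0 = 1 := by
    have := congrFun h1 0
    simpa [Matrix.mulVec, dotProduct, Fin.sum_univ_two] using this
  have h10 : (u : M2' p) 1 0 = 0 := by
    have := congrFun h1 1
    simpa [Matrix.mulVec, dotProduct, Fin.sum_univ_two] using this
  have h11 : (u : M2' p) 1 1 = 1 := by
    rw [Matrix.det_fin_two, h00, h10] at hdet
    simpa using hdet
  apply Units.ext
  rw [Tp_val]
  ext i j; fin_cases i <;> fin_cases j <;> simp [h00, h10, h11]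

lemma eq_Tm_of_fix (u : G2' p) (h1 : (u : M2' p) *ᵥ ![0, 1] = ![0, 1])
    (hdet : (u : M2' p).det = 1) : u = Tm ((u : M2' p) 1 0) := by
  have h01 : (u : M2' p) 0 1 = 0 := by
    have := congrFun h1 0
    simpa [Matrix.mulVec, dotProduct, Fin.sum_univ_two] using this
  have h11 : (u : M2' p) 1 1 = 1 := by
    have := congrFun h1 1
    simpa [Matrix.mulVec, dotProduct, Fin.sum_univ_two] using this
  have h00 : (u : M2' p) 0 0 = 1 := by
    rw [Matrix.det_fin_two, h01, h11] at hdet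
    simpa using hdet
  apply Units.ext
  rw [Tm_val]
  ext i j; fin_cases i <;> fin_cases j <;> simp [h00, h01, h11]

lemma e1_ne : (![1, 0] : V2' p) ≠ 0 := by
  intro h
  have := congrFun h 0
  simp at this

lemma e2_ne : (![0, 1] : V2' p) ≠ 0 := by
  intro h
  have := congrFun h 1
  simp at this

lemma exists_Tp (H : Subgroup (G2' p)) {C : Subgroup (G2' p)} {E : Subring (M2' p)}
    (hC : Cartan C E) (hCH : C ≤ H) (hp : p ∣ Nat.card H) :
    ∃ b : ZMod p, b ≠ 0 ∧ Tp b ∈ H := by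
  classical
  have hprime : p.Prime := Fact.out
  obtain ⟨⟨u₀, hu₀H⟩, hord⟩ := exists_prime_orderOf_dvd_card' p hp
  have hu₀p : u₀ ^ p = 1 := by
    have := pow_orderOf_eq_one (⟨u₀, hu₀H⟩ : H)
    rw [hord] at this
    exact congrArg Subtype.val this
  have hu₀ne : u₀ ≠ 1 := by
    rintro rfl
    have : orderOf (⟨1, hu₀H⟩ : H) = 1 := orderOf_eq_one_iff.mpr rfl
    rw [this] at hord; exact hprime.one_lt.ne hord
  have hnil : ((u₀ : M2' p) - 1) ^ p = 0 := by
    rw [sub_pow_char_of_commute (p := p) (Commute.one_right _), one_pow, ← Units.val_pow_eq_pow_val, hu₀p,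
      Units.val_one, sub_self]
  have hdet0 : ((u₀ : M2' p) - 1).det = 0 := by
    have := congrArg Matrix.det hnil
    rw [Matrix.det_pow, Matrix.det_zero] at this
    exact (pow_eq_zero_iff hprime.ne_zero).mp this
  obtain ⟨v, hv0, hv⟩ := Matrix.exists_mulVec_eq_zero_iff.mpr hdet0
  have hfix : (u₀ : M2' p) *ᵥ v = v := by
    rw [Matrix.sub_mulVec, Matrix.one_mulVec, sub_eq_zero] at hv; exact hv
  obtain ⟨c, hcC, hc⟩ := hC.transitive e1_ne hv0
  have huH : c⁻¹ * u₀ * c ∈ H := H.mul_mem (H.mul_mem (H.inv_mem (hCH hcC)) hu₀H) (hCH hcC)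
  have hufix : ((c⁻¹ * u₀ * c : G2' p) : M2' p) *ᵥ ![1, 0] = ![1, 0] := by
    rw [Units.val_mul, Units.val_mul, ← Matrix.mulVec_mulVec, hc, ← Matrix.mulVec_mulVec, hfix,
      ← hc, Matrix.mulVec_mulVec, Units.inv_mul, Matrix.one_mulVec]
  have hdetu₀ : (u₀ : M2' p).det = 1 := by
    have h1 : (u₀ : M2' p).det ^ p = 1 := by
      rw [← Matrix.det_pow, ← Units.val_pow_eq_pow_val, hu₀p, Units.val_one, Matrix.det_one]
    rwa [ZMod.pow_card] at h1
  have hudet : ((c⁻¹ * u₀ * c : G2' p) : M2' p).det = 1 := by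
    rw [Units.val_mul, Units.val_mul, Matrix.det_mul, Matrix.det_mul, hdetu₀, mul_one,
      ← Matrix.det_mul, Units.inv_mul, Matrix.det_one]
  have hform := eq_Tp_of_fix _ hufix hudet
  refine ⟨_, ?_, hform ▸ huH⟩
  intro hb0
  rw [hb0, Tp_zero] at hform
  apply hu₀ne
  have : u₀ = c * (c⁻¹ * u₀ * c) * c⁻¹ := by group
  rw [this, hform]; group

lemma exists_Tm (H : Subgroup (G2' p)) {C : Subgroup (G2' p)} {E : Subring (M2' p)}
    (hC : Cartan C E) (hCH : C ≤ H) {b : ZMod p} (hb : b ≠ 0) (hTb : Tp b ∈ H) :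
    ∃ y : ZMod p, y ≠ 0 ∧ Tm y ∈ H := by
  obtain ⟨c, hcC, hc⟩ := hC.transitive (p := p) e1_ne e2_ne
  have hwH : c * Tp b * c⁻¹ ∈ H := H.mul_mem (H.mul_mem (hCH hcC) hTb) (H.inv_mem (hCH hcC))
  have hinv : ((c⁻¹ : G2' p) : M2' p) *ᵥ ![0, 1] = ![1, 0] := by
    rw [← hc, Matrix.mulVec_mulVec, Units.inv_mul, Matrix.one_mulVec]
  have hTfix : ((Tp b : G2' p) : M2' p) *ᵥ ![1, 0] = ![1, 0] := by
    rw [Tp_val]
    ext i; fin_cases i <;> simp [Matrix.mulVec, dotProduct, Fin.sum_univ_two]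
  have hwfix : ((c * Tp b * c⁻¹ : G2' p) : M2' p) *ᵥ ![0, 1] = ![0, 1] := by
    rw [Units.val_mul, Units.val_mul, ← Matrix.mulVec_mulVec, hinv, ← Matrix.mulVec_mulVec, hTfix,
      hc]
  have hwdet : ((c * Tp b * c⁻¹ : G2' p) : M2' p).det = 1 := by
    have hT : ((Tp b : G2' p) : M2' p).det = 1 := by
      rw [Tp_val, Matrix.det_fin_two]; simp
    rw [Units.val_mul, Units.val_mul, Matrix.det_mul, Matrix.det_mul, hT, mul_one,
      ← Matrix.det_mul, Units.mul_inv, Matrix.det_one]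
  have hform := eq_Tm_of_fix _ hwfix hwdet
  refine ⟨_, ?_, hform ▸ hwH⟩
  intro hy0
  rw [hy0, Tm_zero] at hform
  apply hb
  apply Tp_inj
  have : Tp b = c⁻¹ * (c * Tp b * c⁻¹) * c := by group
  rw [this, hform]; group

end Groth.Agent.Helper6.GL2
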