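import Groth.Agent.Lib.Helper6.GL2b

open Matrix

namespace Groth.Agent.Helper6.GL2

variable {p : ℕ} [Fact p.Prime]

lemma cayley (A : M2' p) : A * A = A.trace • A - A.det • (1 : M2' p) := by
  ext i j; fin_cases i <;> fin_cases j <;>
    simp [Matrix.mul_apply, Fin.sum_univ_two, Matrix.det_fin_two, Matrix.trace_fin_two] <;> ring

namespace Cartan

variable {C : Subgroup (G2' p)} {E : Subring (M2' p)} (hC : Cartan C E)
include hC

lemma eq_of_mul_eq_zero {x z : M2' p} (hx : x ∈ E) (h0 : x ≠ 0) (h : x * z = 0) : z = 0 := by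
  obtain ⟨c, _, rfl⟩ := hC.exists_of_mem hx h0
  calc z = (c⁻¹ : G2' p).1 * (c.1 * z) := by rw [← mul_assoc, Units.inv_mul, one_mul]
    _ = 0 := by rw [h, mul_zero]

lemma other_root {x y : G2' p} (hx : x ∈ C) (hy : y ∈ C) (hdet : (x : M2' p).det = (y : M2' p).det)
    (htr : (x : M2' p).trace = (y : M2' p).trace) (hne : x ≠ y) :
    (y : M2' p) = (x : M2' p).trace • (1 : M2' p) - (x : M2' p) := by
  have hxE := hC.mem_E hx
  have hyE := hC.mem_E hy
  have hne' : (x : M2' p) - (y : M2' p) ≠ 0 := fun h => hne (Units.ext (sub_eq_zero.mp h))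
  have hcomm := hC.comm hxE hyE
  have h1 := cayley (x : M2' p)
  have h2 := cayley (y : M2' p)
  rw [← hdet, ← htr] at h2
  have h3 : ((x : M2' p) - (y : M2' p)) *
      ((x : M2' p) + (y : M2' p) - (x : M2' p).trace • (1 : M2' p)) = 0 := by
    have : ((x : M2' p) - (y : M2' p)) *
      ((x : M2' p) + (y : M2' p) - (x : M2' p).trace • (1 : M2' p)) =
      (x : M2' p) * (x : M2' p) - (y : M2' p) * (y : M2' p) + ((x : M2' p) * (y : M2' p) -
        (y : M2' p) * (x : M2' p)) - (x : M2' p).trace • ((x : M2' p) - (y : M2' p)) := by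
      simp only [mul_sub, sub_mul, mul_add, add_mul, Matrix.mul_smul, mul_one, smul_sub]
      abel
    rw [this, h1, h2, hcomm]
    simp only [smul_sub]
    abel
  have h4 := hC.eq_of_mul_eq_zero (E.sub_mem hxE hyE) hne' h3
  rw [sub_eq_zero] at h4
  rw [← h4]; abel

/-- the determinant on `C`. -/
noncomputable def detC (C : Subgroup (G2' p)) : C →* (ZMod p)ˣ :=
  Matrix.GeneralLinearGroup.det.comp C.subtype

lemma card_ker_le : Nat.card (detC C).ker ≤ 2 * p := by
  classical
  haveI : Fintype (detC C).ker := Fintype.ofFinite _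
  rw [Nat.card_eq_fintype_card, ← Finset.card_univ]
  let τ : (detC C).ker → ZMod p := fun k => ((k.1.1 : G2' p) : M2' p).trace
  have hfib : ∀ a ∈ (Finset.univ : Finset (detC C).ker).image τ,
      ((Finset.univ : Finset (detC C).ker).filter fun x => τ x = a).card ≤ 2 := by
    intro a _
    by_contra hlt
    push Not at hlt
    obtain ⟨x, hx, y, hy, z, hz, hxy, hxz, hyz⟩ := Finset.two_lt_card.mp hlt
    simp only [Finset.mem_filter, Finset.mem_univ, true_and] at hx hy hz
    have hdet : ∀ k : (detC C).ker, ((k.1.1 : G2' p) : M2' p).det = 1 := by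
      intro k
      have := k.2
      rw [MonoidHom.mem_ker] at this
      have h2 := congrArg Units.val this
      simpa [detC] using h2
    have hy' := hC.other_root x.1.2 y.1.2 (by rw [hdet, hdet]) (by
      show τ x = τ y
      rw [hx, hy]) (fun h => hxy (Subtype.ext (Subtype.ext h)))
    have hz' := hC.other_root x.1.2 z.1.2 (by rw [hdet, hdet]) (by
      show τ x = τ z
      rw [hx, hz]) (fun h => hxz (Subtype.ext (Subtype.ext h)))
    apply hyz
    apply Subtype.ext
    apply Subtype.ext
    apply Units.ext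
    rw [hy', hz']
  calc (Finset.univ : Finset (detC C).ker).card
      ≤ 2 * ((Finset.univ : Finset (detC C).ker).image τ).card :=
        Finset.card_le_mul_card_image _ 2 hfib
    _ ≤ 2 * p := by
        apply Nat.mul_le_mul_left
        calc ((Finset.univ : Finset (detC C).ker).image τ).card
            ≤ (Finset.univ : Finset (ZMod p)).card := Finset.card_le_card (Finset.subset_univ _)
          _ = p := by rw [Finset.card_univ, ZMod.card]

lemma det_surjective : Function.Surjective (detC C) := by
  classical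
  have hprime : p.Prime := Fact.out
  rw [← MonoidHom.range_eq_top]
  by_contra hne
  have hidx1 : (detC C).range.index ≠ 1 := fun h => hne (Subgroup.index_eq_one.mp h)
  have hidx0 : (detC C).range.index ≠ 0 := Subgroup.index_ne_zero_of_finite
  have h2 : 2 ≤ (detC C).range.index := by omega
  have hcardU : Nat.card (ZMod p)ˣ = p - 1 := by
    rw [Nat.card_eq_fintype_card, ZMod.card_units]
  have h3 := Subgroup.card_mul_index (detC C).range
  rw [hcardU] at h3
  have h4 := Subgroup.card_mul_index (detC C).ker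
  rw [Subgroup.index_ker, hC.card_C] at h4
  have h5 := hC.card_ker_le
  -- p^2 - 1 = |ker| * |range| ≤ 2p * |range|, 2 * |range| ≤ p - 1
  have h6 : 2 * Nat.card (detC C).range ≤ p - 1 := by
    rw [← h3, mul_comm]
    exact Nat.mul_le_mul_left _ h2
  have h7 : p ^ 2 - 1 ≤ p * (p - 1) := by
    calc p ^ 2 - 1 = Nat.card (detC C).ker * Nat.card (detC C).range := h4.symm
      _ ≤ 2 * p * Nat.card (detC C).range := Nat.mul_le_mul_right _ h5
      _ = p * (2 * Nat.card (detC C).range) := by ring
      _ ≤ p * (p - 1) := Nat.mul_le_mul_left _ h6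
  have hp2 : 2 ≤ p := hprime.two_le
  have h8 : p * (p - 1) = p ^ 2 - p := by
    rw [Nat.mul_sub, mul_one, sq]
  rw [h8] at h7
  have h9 : p ≤ p ^ 2 := by nlinarith
  omega

end Cartan

end Groth.Agent.Helper6.GL2
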