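import Groth.Agent.Lib.Helper6.GL2c

open Matrix

namespace Groth.Agent.Helper6.GL2

variable (p : ℕ) [Fact p.Prime]

theorem exists_cartan : ∃ (C : Subgroup (GL (Fin 2) (ZMod p)))
    (E : Subring (Matrix (Fin 2) (Fin 2) (ZMod p))), IsField E ∧ Nat.card E = p ^ 2 ∧
    (E : Set (Matrix (Fin 2) (Fin 2) (ZMod p))) =
      insert 0 ((fun g : GL (Fin 2) (ZMod p) => (g : Matrix (Fin 2) (Fin 2) (ZMod p))) ''
        (C : Set (GL (Fin 2) (ZMod p)))) := by
  classical
  let K := GaloisField p 2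
  have hrank : Module.finrank (ZMod p) K = 2 := GaloisField.finrank p (by norm_num)
  let b : Module.Basis (Fin 2) (ZMod p) K := Module.finBasisOfFinrankEq (ZMod p) K hrank
  let φ : K →ₐ[ZMod p] Matrix (Fin 2) (Fin 2) (ZMod p) := Algebra.leftMulMatrix b
  have hφ : Function.Injective φ := Algebra.leftMulMatrix_injective b
  let E : Subring (Matrix (Fin 2) (Fin 2) (ZMod p)) := φ.toRingHom.range
  let e : K ≃+* E := RingEquiv.ofBijective φ.toRingHom.rangeRestrict
    ⟨fun x y h => hφ (congrArg Subtype.val h), RingHom.rangeRestrict_surjective _⟩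
  have hEfield : IsField E := e.symm.toMulEquiv.isField (Field.toIsField K)
  have hcard : Nat.card E = p ^ 2 := by
    rw [← Nat.card_congr e.toEquiv]
    exact GaloisField.card p 2 (by norm_num)
  -- inverse closed
  have hinv : ∀ x : Matrix (Fin 2) (Fin 2) (ZMod p), x ∈ E → x ≠ 0 →
      ∃ y ∈ E, x * y = 1 ∧ y * x = 1 := by
    intro x hx hx0
    obtain ⟨y, hy⟩ := hEfield.mul_inv_cancel (a := ⟨x, hx⟩) (fun h => hx0 (congrArg Subtype.val h))
    refine ⟨y.1, y.2, congrArg Subtype.val hy, ?_⟩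
    have := hEfield.mul_comm ⟨x, hx⟩ y
    rw [this] at hy
    exact congrArg Subtype.val hy
  let C : Subgroup (GL (Fin 2) (ZMod p)) :=
    { carrier := {g | (g : Matrix (Fin 2) (Fin 2) (ZMod p)) ∈ E}
      mul_mem' := by
        intro g h hg hh
        show ((g * h : GL (Fin 2) (ZMod p)) : Matrix (Fin 2) (Fin 2) (ZMod p)) ∈ E
        rw [Units.val_mul]
        exact E.mul_mem hg hh
      one_mem' := by
        show ((1 : GL (Fin 2) (ZMod p)) : Matrix (Fin 2) (Fin 2) (ZMod p)) ∈ E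
        rw [Units.val_one]; exact E.one_mem
      inv_mem' := by
        intro g hg
        show ((g⁻¹ : GL (Fin 2) (ZMod p)) : Matrix (Fin 2) (Fin 2) (ZMod p)) ∈ E
        obtain ⟨y, hyE, hy1, hy2⟩ := hinv g.1 hg g.ne_zero
        have : ((g⁻¹ : GL (Fin 2) (ZMod p)) : Matrix (Fin 2) (Fin 2) (ZMod p)) = y := by
          calc ((g⁻¹ : GL (Fin 2) (ZMod p)) : Matrix (Fin 2) (Fin 2) (ZMod p))
              = (g⁻¹ : GL (Fin 2) (ZMod p)).1 * (g.1 * y) := by rw [hy1, mul_one]
            _ = y := by rw [← mul_assoc, Units.inv_mul, one_mul]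
        rw [this]; exact hyE }
  refine ⟨C, E, hEfield, hcard, ?_⟩
  ext x
  constructor
  · intro hx
    by_cases hx0 : x = 0
    · left; exact hx0
    · right
      obtain ⟨y, hyE, hy1, hy2⟩ := hinv x hx hx0
      exact ⟨⟨x, y, hy1, hy2⟩, hx, rfl⟩
  · rintro (rfl | ⟨g, hg, rfl⟩)
    · exact E.zero_mem
    · exact hg


theorem main (H : Subgroup (GL (Fin 2) (ZMod p))) :
    H = ⊤ ↔
      (∃ (C : Subgroup (GL (Fin 2) (ZMod p))) (E : Subring (Matrix (Fin 2) (Fin 2) (ZMod p))),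
          C ≤ H ∧ IsField E ∧ Nat.card E = p ^ 2 ∧
            (E : Set (Matrix (Fin 2) (Fin 2) (ZMod p))) =
              insert 0 ((fun g : GL (Fin 2) (ZMod p) => (g : Matrix (Fin 2) (Fin 2) (ZMod p))) ''
                (C : Set (GL (Fin 2) (ZMod p))))) ∧
        p ∣ Nat.card H := by
  have hprime : p.Prime := Fact.out
  constructor
  · rintro rfl
    obtain ⟨C, E, h1, h2, h3⟩ := exists_cartan p
    refine ⟨⟨C, E, le_top, h1, h2, h3⟩, ?_⟩
    rw [Subgroup.card_top, Matrix.card_GL_field, Fin.prod_univ_two, ZMod.card]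
    apply Dvd.dvd.mul_left
    simp only [Fin.val_one, pow_one]
    have : p ^ 2 - p = p * (p - 1) := by
      rw [Nat.mul_sub, mul_one, sq]
    rw [this]
    exact dvd_mul_right _ _
  · rintro ⟨⟨C, E, hCH, h1, h2, h3⟩, hdvd⟩
    have hC : Cartan C E := ⟨h1, h2, h3⟩
    obtain ⟨b, hb, hTb⟩ := exists_Tp H hC hCH hdvd
    obtain ⟨y, hy, hTy⟩ := exists_Tm H hC hCH hb hTb
    have hp' : ∀ x, Tp x ∈ H := Tp_mem H hb hTb
    have hm' : ∀ x, Tm x ∈ H := Tm_mem H hy hTy
    rw [eq_top_iff]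
    intro g _
    obtain ⟨c, hc⟩ := hC.det_surjective (Matrix.GeneralLinearGroup.det g)
    have hcdet : ((c : G2' p) : M2' p).det = (g : M2' p).det := by
      have := congrArg Units.val hc
      simpa [Cartan.detC] using this
    have h4 : g * (c : G2' p)⁻¹ ∈ H := by
      apply sl2_mem H hp' hm'
      rw [Units.val_mul, Matrix.det_mul]
      have h5 : ((c : G2' p) : M2' p).det * (((c : G2' p)⁻¹ : G2' p) : M2' p).det = 1 := by
        rw [← Matrix.det_mul, Units.mul_inv, Matrix.det_one]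
      rw [← hcdet]; exact h5
    have : g = g * (c : G2' p)⁻¹ * c := by group
    rw [this]
    exact H.mul_mem h4 (hCH c.2)

end Groth.Agent.Helper6.GL2
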