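import Groth.Agent.Lib.Helper6.GaCharSeq

set_option autoImplicit false

namespace Groth.Agent.Helper6.GaChar
open Polynomial

universe u
variable {A : Type u} [CommRing A] (p : ℕ) [hp : Fact p.Prime] [CharP A p]

section Seq

variable (c : ℕ → A) (Q : ℕ) (h0 : c 0 = 1)
  (hrel : ∀ i j, i + j < Q → c i * c j = (Nat.choose (i + j) i : A) * c (i + j))

include hrel in
theorem c_step (d n : ℕ) (hd : d + 1 < p) (hQ : (d + 1) * p ^ n < Q) :
    c ((d + 1) * p ^ n) * ((d + 1 : ℕ) : A) = c (d * p ^ n) * c (p ^ n) := by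
  have hsum : d * p ^ n + p ^ n = (d + 1) * p ^ n := by ring
  have h1 := hrel (d * p ^ n) (p ^ n) (by rw [hsum]; exact hQ)
  rw [hsum] at h1
  have h2 : Nat.choose ((d + 1) * p ^ n) (d * p ^ n) ≡ d + 1 [MOD p] := by
    have := Choose.choose_pow_mul_pow_mul_modEq_choose_nat (p := p) (k := n) (a := d + 1) (b := d)
    rw [mul_comm (p ^ n) (d + 1), mul_comm (p ^ n) d] at this
    rw [Nat.choose_succ_self_right] at this
    exact this
  rw [h1, natCast_eq_of_modEq (A := A) p h2, mul_comm]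

include h0 hrel in
theorem c_dig (n : ℕ) : ∀ d : ℕ, d < p → d * p ^ n < Q →
    c (d * p ^ n) = Ring.inverse (d.factorial : A) * c (p ^ n) ^ d := by
  intro d
  induction d with
  | zero =>
    intro _ _
    simp [h0]
  | succ d ih =>
    intro hd hQ
    have hQ' : d * p ^ n < Q := by
      refine lt_of_le_of_lt ?_ hQ
      exact Nat.mul_le_mul_right _ (Nat.le_succ d)
    have ihd := ih (by omega) hQ'
    have hs := c_step p c Q hrel d n hd hQ
    obtain ⟨u, hu⟩ := isUnit_natCast_of_lt (A := A) p (Nat.succ_pos d) hd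
    obtain ⟨ud, hud⟩ := isUnit_fact (A := A) p (show d < p by omega)
    have hfac : ((d + 1).factorial : A) = (u : A) * (ud : A) := by
      rw [Nat.factorial_succ, Nat.cast_mul, hu, hud]
    have hfac' : ((d + 1).factorial : A) = ((u * ud : Aˣ) : A) := by
      rw [hfac, Units.val_mul]
    rw [hfac', Ring.inverse_unit]
    rw [← hud, Ring.inverse_unit] at ihd
    rw [ihd, ← hu] at hs
    -- hs : c ((d+1) p^n) * u = ud⁻¹ * a^d * a
    have : c ((d + 1) * p ^ n) = c ((d + 1) * p ^ n) * (u : A) * ((u⁻¹ : Aˣ) : A) := by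
      rw [mul_assoc, u.mul_inv, mul_one]
    rw [this, hs, mul_inv_rev, Units.val_mul, pow_succ]
    ring

include hrel in
theorem c_add (n m d : ℕ) (hm : m < p ^ n) (hQ : m + d * p ^ n < Q) :
    c (m + d * p ^ n) = c m * c (d * p ^ n) := by
  have h1 := hrel m (d * p ^ n) hQ
  have h2 := choose_add_mul_pow p n m d hm
  rw [h1, natCast_eq_of_modEq (A := A) p h2, Nat.cast_one, one_mul]

end Seq

/-- digit product -/
noncomputable def D (a : ℕ → A) (N m : ℕ) : A :=
  ∏ i ∈ Finset.range N,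
    (Ring.inverse ((m / p ^ i % p).factorial : A) * a i ^ (m / p ^ i % p))

omit [CharP A p] in
theorem digit_mod (N m i : ℕ) (hi : i < N) : (m % p ^ N) / p ^ i % p = m / p ^ i % p := by
  have hpos : 0 < p := hp.out.pos
  have hpi : 0 < p ^ i := pow_pos hpos i
  conv_rhs => rw [← Nat.mod_add_div m (p ^ N)]
  obtain ⟨t, ht⟩ := Nat.exists_eq_add_of_lt hi
  have hN : p ^ N = p ^ i * (p * p ^ t) := by
    rw [ht]; ring
  rw [hN, mul_assoc, Nat.add_mul_div_left _ _ hpi, mul_assoc, Nat.add_mul_mod_self_left]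

omit [CharP A p] in
theorem D_mod (a : ℕ → A) (N m : ℕ) : D p a N (m % p ^ N) = D p a N m := by
  unfold D
  refine Finset.prod_congr rfl fun i hi => ?_
  rw [Finset.mem_range] at hi
  rw [digit_mod p N m i hi]

omit [CharP A p] in
theorem D_succ (a : ℕ → A) (N m : ℕ) :
    D p a (N + 1) m = D p a N (m % p ^ N) *
      (Ring.inverse ((m / p ^ N % p).factorial : A) * a N ^ (m / p ^ N % p)) := by
  rw [D_mod]
  unfold D
  rw [Finset.prod_range_succ]

theorem c_eq_D (c : ℕ → A) (Q : ℕ) (h0 : c 0 = 1)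
    (hrel : ∀ i j, i + j < Q → c i * c j = (Nat.choose (i + j) i : A) * c (i + j)) (N : ℕ) :
    ∀ m, m < p ^ N → m < Q → c m = D p (fun i => c (p ^ i)) N m := by
  have hpos : 0 < p := hp.out.pos
  induction N with
  | zero =>
    intro m hm _
    have : m = 0 := by simpa using hm
    subst this
    simp [D, h0]
  | succ N ih =>
    intro m hm hQ
    have hdecomp : m % p ^ N + (m / p ^ N) * p ^ N = m := by
      rw [mul_comm]; exact Nat.mod_add_div m (p ^ N)
    have hd : m / p ^ N < p := by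
      rw [Nat.div_lt_iff_lt_mul (pow_pos hpos N), mul_comm, ← pow_succ]; exact hm
    have hm' : m % p ^ N < p ^ N := Nat.mod_lt _ (pow_pos hpos N)
    have hQ1 : m % p ^ N < Q := lt_of_le_of_lt (Nat.mod_le _ _) hQ
    have hQ2 : (m / p ^ N) * p ^ N < Q := by
      refine lt_of_le_of_lt ?_ hQ
      rw [mul_comm]; exact Nat.mul_div_le m (p ^ N)
    have e1 := c_add p c Q hrel N (m % p ^ N) (m / p ^ N) hm' (by rw [hdecomp]; exact hQ)
    rw [hdecomp] at e1
    rw [e1, ih _ hm' hQ1, c_dig p c Q h0 hrel N _ hd hQ2, D_succ, Nat.mod_eq_of_lt hd]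

omit [CharP A p] in
theorem sum_D_eq_prod (a : ℕ → A) (N : ℕ) :
    ∑ m ∈ Finset.range (p ^ N), C (D p a N m) * X ^ m =
      ∏ i ∈ Finset.range N, E p (a i) i := by
  have hpos : 0 < p := hp.out.pos
  induction N with
  | zero =>
    simp [D]
  | succ N ih =>
    rw [Finset.prod_range_succ, ← ih]
    unfold E
    rw [Finset.sum_mul_sum, ← Finset.sum_product']
    symm
    refine Finset.sum_nbij' (fun x : ℕ × ℕ => x.1 + x.2 * p ^ N)
      (fun m => (m % p ^ N, m / p ^ N)) ?_ ?_ ?_ ?_ ?_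
    · rintro ⟨m', d⟩ hx
      simp only [Finset.mem_product, Finset.mem_range] at hx ⊢
      calc m' + d * p ^ N < p ^ N + d * p ^ N := by omega
        _ = (d + 1) * p ^ N := by ring
        _ ≤ p * p ^ N := Nat.mul_le_mul_right _ hx.2
        _ = p ^ (N + 1) := by rw [pow_succ, mul_comm]
    · intro m hm
      simp only [Finset.mem_range] at hm
      simp only [Finset.mem_product, Finset.mem_range]
      refine ⟨Nat.mod_lt _ (pow_pos hpos N), ?_⟩
      rw [Nat.div_lt_iff_lt_mul (pow_pos hpos N), mul_comm, ← pow_succ]; exact hm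
    · rintro ⟨m', d⟩ hx
      simp only [Finset.mem_product, Finset.mem_range] at hx
      have h1 : (m' + d * p ^ N) % p ^ N = m' := by
        rw [Nat.add_mul_mod_self_right, Nat.mod_eq_of_lt hx.1]
      have h2 : (m' + d * p ^ N) / p ^ N = d := by
        rw [Nat.add_mul_div_right _ _ (pow_pos hpos N), Nat.div_eq_of_lt hx.1, zero_add]
      simp only [h1, h2]
    · intro m _
      simp only
      rw [mul_comm]; exact Nat.mod_add_div m (p ^ N)
    · rintro ⟨m', d⟩ hx
      simp only [Finset.mem_product, Finset.mem_range] at hx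
      have h1 : (m' + d * p ^ N) % p ^ N = m' := by
        rw [Nat.add_mul_mod_self_right, Nat.mod_eq_of_lt hx.1]
      have h2 : (m' + d * p ^ N) / p ^ N = d := by
        rw [Nat.add_mul_div_right _ _ (pow_pos hpos N), Nat.div_eq_of_lt hx.1, zero_add]
      simp only
      rw [D_succ, h1, h2, Nat.mod_eq_of_lt hx.2, pow_add]
      simp only [map_mul]
      ring

/-- main structure theorem (truncated form) -/
theorem sum_eq_prod (c : ℕ → A) (Q : ℕ) (h0 : c 0 = 1)
    (hrel : ∀ i j, i + j < Q → c i * c j = (Nat.choose (i + j) i : A) * c (i + j)) (N : ℕ)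
    (hN : p ^ N ≤ Q) :
    ∑ m ∈ Finset.range (p ^ N), C (c m) * X ^ m =
      ∏ i ∈ Finset.range N, E p (c (p ^ i)) i := by
  rw [← sum_D_eq_prod]
  refine Finset.sum_congr rfl fun m hm => ?_
  rw [Finset.mem_range] at hm
  rw [c_eq_D p c Q h0 hrel N m hm (lt_of_lt_of_le hm hN)]

/-- `c (p^n) ^ p = 0` -/
theorem pow_p_eq_zero (c : ℕ → A) (Q : ℕ) (h0 : c 0 = 1)
    (hrel : ∀ i j, i + j < Q → c i * c j = (Nat.choose (i + j) i : A) * c (i + j)) (n : ℕ)
    (hQ : (p - 1) * p ^ n < Q)
    (hlast : c ((p - 1) * p ^ n) * c (p ^ n) =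
      (Nat.choose ((p - 1) * p ^ n + p ^ n) ((p - 1) * p ^ n) : A) * c ((p - 1) * p ^ n + p ^ n)) :
    c (p ^ n) ^ p = 0 := by
  have hpos : 0 < p := hp.out.pos
  have hsum : (p - 1) * p ^ n + p ^ n = p * p ^ n := by
    have : p - 1 + 1 = p := Nat.sub_add_cancel hpos
    calc (p - 1) * p ^ n + p ^ n = (p - 1 + 1) * p ^ n := by ring
      _ = p * p ^ n := by rw [this]
  have h2 : Nat.choose (p * p ^ n) ((p - 1) * p ^ n) ≡ 0 [MOD p] := by
    have := Choose.choose_pow_mul_pow_mul_modEq_choose_nat (p := p) (k := n) (a := p) (b := p - 1)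
    rw [mul_comm (p ^ n) p, mul_comm (p ^ n) (p - 1)] at this
    refine this.trans ?_
    have h3 : Nat.choose p (p - 1) = p := by
      have := Nat.choose_succ_self_right (p - 1)
      rwa [Nat.sub_add_cancel hpos] at this
    rw [h3]
    exact (Nat.modEq_zero_iff_dvd).mpr dvd_rfl
  rw [hsum, natCast_eq_of_modEq (A := A) p h2, Nat.cast_zero, zero_mul] at hlast
  rw [c_dig p c Q h0 hrel n (p - 1) (Nat.sub_lt hpos one_pos) hQ] at hlast
  obtain ⟨u, hu⟩ := isUnit_fact (A := A) p (Nat.sub_lt hpos one_pos)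
  have hp1 : p - 1 + 1 = p := Nat.sub_add_cancel hpos
  rw [← hu, Ring.inverse_unit, mul_assoc, ← pow_succ, hp1] at hlast
  have : c (p ^ n) ^ p = (u : A) * (((u⁻¹ : Aˣ) : A) * c (p ^ n) ^ p) := by
    rw [← mul_assoc, u.mul_inv, one_mul]
  rw [this, hlast, mul_zero]

end Groth.Agent.Helper6.GaChar
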