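import Groth.Agent.Lib.Helper6.GaCharPoly
import Mathlib.RingTheory.PowerSeries.Substitution

set_option autoImplicit false

namespace Groth.Agent.Helper6.GaChar

universe u
variable {A : Type u} [CommRing A]

theorem hasSubst_add : PowerSeries.HasSubst
    (MvPowerSeries.X 0 + MvPowerSeries.X 1 : MvPowerSeries (Fin 2) A) :=
  (PowerSeries.HasSubst.X 0).add (PowerSeries.HasSubst.X 1)

theorem mvps_coeff_add_pow (n i j : ℕ) :
    MvPowerSeries.coeff (mono i j)
      ((MvPowerSeries.X 0 + MvPowerSeries.X 1 : MvPowerSeries (Fin 2) A) ^ n) =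
      if n = i + j then (Nat.choose n i : A) else 0 := by
  rw [← MvPolynomial.coe_X, ← MvPolynomial.coe_X, ← MvPolynomial.coe_add, ← MvPolynomial.coe_pow,
    MvPolynomial.coeff_coe, coeff_add_pow]

theorem coeff_subst_add (χ : PowerSeries A) (i j : ℕ) :
    MvPowerSeries.coeff (mono i j)
      (PowerSeries.subst (MvPowerSeries.X 0 + MvPowerSeries.X 1 : MvPowerSeries (Fin 2) A) χ) =
      (Nat.choose (i + j) i : A) * PowerSeries.coeff (i + j) χ := by
  rw [PowerSeries.coeff_subst hasSubst_add, finsum_eq_single _ (i + j)]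
  · rw [mvps_coeff_add_pow, if_pos rfl, smul_eq_mul, mul_comm]
  · intro d hd
    rw [mvps_coeff_add_pow, if_neg hd, smul_zero]

theorem coeff_subst_mul (χ ψ : PowerSeries A) (i j : ℕ) :
    MvPowerSeries.coeff (mono i j)
      (PowerSeries.subst (MvPowerSeries.X 0 : MvPowerSeries (Fin 2) A) χ *
        PowerSeries.subst (MvPowerSeries.X 1 : MvPowerSeries (Fin 2) A) ψ) =
      PowerSeries.coeff i χ * PowerSeries.coeff j ψ := by
  classical
  rw [MvPowerSeries.coeff_mul]
  rw [Finset.sum_eq_single (Finsupp.single 0 i, Finsupp.single 1 j)]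
  · rw [PowerSeries.coeff_subst_single, PowerSeries.coeff_subst_single]
    simp
  · rintro ⟨e1, e2⟩ he hne
    rw [Finset.mem_antidiagonal] at he
    simp only at he
    rw [PowerSeries.coeff_subst_single, PowerSeries.coeff_subst_single]
    by_cases h1 : e1 = Finsupp.single 0 (e1 0)
    · by_cases h2 : e2 = Finsupp.single 1 (e2 1)
      · exfalso
        apply hne
        have ha := DFunLike.congr_fun he 0
        have hb := DFunLike.congr_fun he 1
        rw [mono_zero] at ha
        rw [mono_one] at hb
        have h10 : e2 0 = 0 := by rw [h2]; simp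
        have h01 : e1 1 = 0 := by rw [h1]; simp
        simp only [Finsupp.coe_add, Pi.add_apply] at ha hb
        rw [h10, add_zero] at ha
        rw [h01, zero_add] at hb
        rw [Prod.mk.injEq]
        exact ⟨by rw [h1, ha], by rw [h2, hb]⟩
      · rw [if_neg h2, mul_zero]
    · rw [if_neg h1, zero_mul]
  · intro h
    exfalso; apply h
    rw [Finset.mem_antidiagonal]
    rfl

/-- the power series character property -/
def SChar (χ : PowerSeries A) : Prop :=
  PowerSeries.constantCoeff χ = 1 ∧
    PowerSeries.subst (MvPowerSeries.X 0 + MvPowerSeries.X 1 : MvPowerSeries (Fin 2) A) χ =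
      PowerSeries.subst (MvPowerSeries.X 0 : MvPowerSeries (Fin 2) A) χ *
        PowerSeries.subst (MvPowerSeries.X 1 : MvPowerSeries (Fin 2) A) χ

theorem schar_iff (χ : PowerSeries A) : SChar χ ↔ IsChar (fun n => PowerSeries.coeff n χ) := by
  unfold SChar IsChar
  rw [← PowerSeries.coeff_zero_eq_constantCoeff_apply]
  refine and_congr Iff.rfl ?_
  constructor
  · intro h i j
    have := congrArg (MvPowerSeries.coeff (mono i j)) h
    rw [coeff_subst_add, coeff_subst_mul] at this
    exact this.symm
  · intro h
    ext m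
    rw [eq_mono m, coeff_subst_add, coeff_subst_mul]
    exact (h _ _).symm

end Groth.Agent.Helper6.GaChar
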