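import Groth.Agent.Lib.Helper6.GaCharPoly
import Mathlib.RingTheory.PowerSeries.Exp

set_option autoImplicit false

namespace Groth.Agent.Helper6.GaChar

universe u
variable {A : Type u} [CommRing A] [Algebra ℚ A]

/-- the exponential coefficient sequence -/
noncomputable def expSeq (a : A) (n : ℕ) : A := a ^ n * algebraMap ℚ A (1 / (n.factorial : ℚ))

theorem natCast_mul_inv_fact (n : ℕ) :
    (n.factorial : A) * algebraMap ℚ A (1 / (n.factorial : ℚ)) = 1 := by
  have h : (n.factorial : A) = algebraMap ℚ A (n.factorial : ℚ) := by simp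
  rw [h, ← map_mul, mul_one_div_cancel (by exact_mod_cast n.factorial_ne_zero), map_one]

theorem isChar_expSeq (a : A) : IsChar (expSeq a) := by
  constructor
  · simp [expSeq]
  · intro i j
    unfold expSeq
    have hfac : ((i + j).factorial : A) =
        (Nat.choose (i + j) i : A) * (i.factorial : A) * (j.factorial : A) := by
      rw [← Nat.cast_mul, ← Nat.cast_mul, Nat.choose_symm_add,
        Nat.add_choose_mul_factorial_mul_factorial]
    have hi := natCast_mul_inv_fact (A := A) i
    have hj := natCast_mul_inv_fact (A := A) j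
    have hij := natCast_mul_inv_fact (A := A) (i + j)
    set x := algebraMap ℚ A (1 / (i.factorial : ℚ)) with hx
    set y := algebraMap ℚ A (1 / (j.factorial : ℚ)) with hy
    set z := algebraMap ℚ A (1 / ((i + j).factorial : ℚ)) with hz
    rw [hfac] at hij
    calc a ^ i * x * (a ^ j * y) = a ^ (i + j) * (x * y) * 1 := by rw [pow_add]; ring
      _ = a ^ (i + j) * (x * y) *
            ((Nat.choose (i + j) i : A) * (i.factorial : A) * (j.factorial : A) * z) := by rw [hij]
      _ = (Nat.choose (i + j) i : A) * (a ^ (i + j) * z) *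
            (((i.factorial : A) * x) * ((j.factorial : A) * y)) := by ring
      _ = (Nat.choose (i + j) i : A) * (a ^ (i + j) * z) := by rw [hi, hj, mul_one, mul_one]

theorem IsChar.eq_expSeq {c : ℕ → A} (hc : IsChar c) : ∀ n, c n = expSeq (c 1) n := by
  intro n
  induction n with
  | zero => simp [expSeq, hc.1]
  | succ n ih =>
    have h1 := hc.2 n 1
    rw [Nat.choose_succ_self_right] at h1
    have h2 := natCast_mul_inv_fact (A := A) (n + 1)
    have h3 := natCast_mul_inv_fact (A := A) n
    unfold expSeq at ih ⊢
    set x := algebraMap ℚ A (1 / (n.factorial : ℚ)) with hx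
    set z := algebraMap ℚ A (1 / ((n + 1).factorial : ℚ)) with hz
    rw [Nat.factorial_succ, Nat.cast_mul] at h2
    calc c (n + 1) = c (n + 1) * (((n + 1 : ℕ) : A) * (n.factorial : A) * z) := by
          rw [h2, mul_one]
      _ = (((n + 1 : ℕ) : A) * c (n + 1)) * ((n.factorial : A) * z) := by ring
      _ = (c n * c 1) * ((n.factorial : A) * z) := by rw [h1]
      _ = (c 1 ^ n * x * c 1) * ((n.factorial : A) * z) := by rw [ih]
      _ = c 1 ^ (n + 1) * z * ((n.factorial : A) * x) := by rw [pow_succ]; ring
      _ = c 1 ^ (n + 1) * z := by rw [h3, mul_one]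

theorem coeff_rescale_exp (a : A) (n : ℕ) :
    PowerSeries.coeff n (PowerSeries.rescale a (PowerSeries.exp A)) = expSeq a n := by
  rw [PowerSeries.coeff_rescale, PowerSeries.coeff_exp]
  rfl

end Groth.Agent.Helper6.GaChar
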