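import Groth.Agent.Lib.Helper6.GaCharPoly
import Mathlib.Data.Nat.Choose.Lucas
import Mathlib.Data.Nat.Prime.Factorial
import Mathlib.Algebra.CharP.Invertible
import Mathlib.Algebra.CharP.Lemmas
import Mathlib.Algebra.CharP.Basic
import Mathlib.RingTheory.MvPolynomial.Basic

set_option autoImplicit false

namespace Groth.Agent.Helper6.GaChar
open Polynomial

universe u
variable {A : Type u} [CommRing A] (p : ℕ) [hp : Fact p.Prime] [CharP A p]

/-- truncated exponential factor `exp_p(a X^(p^n))` -/
noncomputable def E (a : A) (n : ℕ) : A[X] :=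
  ∑ j ∈ Finset.range p, C (Ring.inverse (j.factorial : A) * a ^ j) * X ^ (j * p ^ n)

omit hp in
theorem natCast_eq_of_modEq {x y : ℕ} (h : x ≡ y [MOD p]) : (x : A) = (y : A) :=
  CharP.natCast_eq_natCast' A p h

theorem isUnit_natCast_of_lt {d : ℕ} (h0 : 0 < d) (hd : d < p) : IsUnit (d : A) := by
  rw [CharP.isUnit_natCast_iff hp.out]
  intro hdvd
  exact absurd (Nat.le_of_dvd h0 hdvd) (by omega)

theorem isUnit_fact {j : ℕ} (hj : j < p) : IsUnit (j.factorial : A) := by
  rw [CharP.isUnit_natCast_iff hp.out, Nat.Prime.dvd_factorial hp.out]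
  omega

/-- Lucas: `choose (m + e p^n) m ≡ 1` for `m < p^n` -/
theorem choose_add_mul_pow (n : ℕ) : ∀ (m e : ℕ), m < p ^ n →
    Nat.choose (m + e * p ^ n) m ≡ 1 [MOD p] := by
  induction n with
  | zero =>
    intro m e hm
    have : m = 0 := by simpa using hm
    subst this
    simp [Nat.ModEq.refl]
  | succ n ih =>
    intro m e hm
    have hpos : 0 < p := hp.out.pos
    have h1 := Choose.choose_modEq_choose_mod_mul_choose_div_nat (p := p) (n := m + e * p ^ (n + 1))
      (k := m)
    have h2 : (m + e * p ^ (n + 1)) % p = m % p := by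
      rw [pow_succ, ← mul_assoc, Nat.add_mul_mod_self_right]
    have h3 : (m + e * p ^ (n + 1)) / p = m / p + e * p ^ n := by
      rw [pow_succ, ← mul_assoc, Nat.add_mul_div_right _ _ hpos]
    rw [h2, h3, Nat.choose_self, one_mul] at h1
    have hm' : m / p < p ^ n := by
      rw [Nat.div_lt_iff_lt_mul hpos, ← pow_succ]; exact hm
    exact h1.trans (ih (m / p) e hm')

theorem coeff_E_zero (a : A) (k : ℕ) :
    (E p a 0).coeff k = if k < p then Ring.inverse (k.factorial : A) * a ^ k else 0 := by
  unfold E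
  rw [Polynomial.finsetSum_coeff]
  simp only [pow_zero, mul_one, Polynomial.coeff_C_mul_X_pow]
  rw [Finset.sum_ite_eq]
  simp only [Finset.mem_range]

theorem isChar_E_zero (a : A) (ha : a ^ p = 0) : IsChar (E p a 0).coeff := by
  constructor
  · rw [coeff_E_zero, if_pos hp.out.pos]
    simp
  · intro i j
    rw [coeff_E_zero, coeff_E_zero, coeff_E_zero]
    by_cases hij : i + j < p
    · have hi : i < p := by omega
      have hj : j < p := by omega
      rw [if_pos hi, if_pos hj, if_pos hij]
      obtain ⟨ui, hui⟩ := isUnit_fact (A := A) p hi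
      obtain ⟨uj, huj⟩ := isUnit_fact (A := A) p hj
      obtain ⟨uij, huij⟩ := isUnit_fact (A := A) p hij
      rw [← hui, ← huj, ← huij, Ring.inverse_unit, Ring.inverse_unit, Ring.inverse_unit]
      have hfac : ((i + j).factorial : A) =
          (Nat.choose (i + j) i : A) * (i.factorial : A) * (j.factorial : A) := by
        rw [← Nat.cast_mul, ← Nat.cast_mul, Nat.choose_symm_add, Nat.add_choose_mul_factorial_mul_factorial]
      have h1 : (Nat.choose (i + j) i : A) = (uij : A) * ((ui⁻¹ : Aˣ) : A) * ((uj⁻¹ : Aˣ) : A) := by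
        rw [huij, hfac, ← hui, ← huj]
        have e1 := ui.mul_inv
        have e2 := uj.mul_inv
        calc (Nat.choose (i + j) i : A)
            = (Nat.choose (i + j) i : A) * ((ui : A) * ((ui⁻¹ : Aˣ) : A)) *
                ((uj : A) * ((uj⁻¹ : Aˣ) : A)) := by rw [e1, e2, mul_one, mul_one]
          _ = _ := by ring
      rw [h1, pow_add]
      have e3 := uij.mul_inv
      calc ((ui⁻¹ : Aˣ) : A) * a ^ i * (((uj⁻¹ : Aˣ) : A) * a ^ j)
          = ((uij : A) * ((uij⁻¹ : Aˣ) : A)) *
              (((ui⁻¹ : Aˣ) : A) * a ^ i * (((uj⁻¹ : Aˣ) : A) * a ^ j)) := by rw [e3, one_mul]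
        _ = _ := by ring
    · rw [if_neg hij, mul_zero]
      by_cases hi : i < p
      · by_cases hj : j < p
        · rw [if_pos hi, if_pos hj]
          have : a ^ i * a ^ j = 0 := by
            rw [← pow_add]
            obtain ⟨k, hk⟩ := Nat.exists_eq_add_of_le (not_lt.mp hij)
            rw [hk, pow_add, ha, zero_mul]
          calc Ring.inverse (i.factorial : A) * a ^ i * (Ring.inverse (j.factorial : A) * a ^ j)
              = Ring.inverse (i.factorial : A) * Ring.inverse (j.factorial : A) *
                  (a ^ i * a ^ j) := by ring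
            _ = 0 := by rw [this, mul_zero]
        · rw [if_neg hj, mul_zero]
      · rw [if_neg hi, zero_mul]

theorem aeval_E (a : A) (n : ℕ) {B : Type*} [CommRing B] [Algebra A B] (u : B) :
    Polynomial.aeval u (E p a n) = Polynomial.aeval (u ^ p ^ n) (E p a 0) := by
  unfold E
  simp only [map_sum, map_mul, Polynomial.aeval_C, map_pow, Polynomial.aeval_X, pow_zero, mul_one]
  refine Finset.sum_congr rfl fun j _ => ?_
  rw [← pow_mul, mul_comm j]

theorem pchar_E (a : A) (ha : a ^ p = 0) (n : ℕ) : PChar (E p a n) := by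
  have h0 : PChar (E p a 0) := (pchar_iff _).mpr (isChar_E_zero p a ha)
  refine ⟨?_, ?_⟩
  · have := aeval_E p a n (B := A) (0 : A)
    rw [Polynomial.coe_aeval_eq_eval, Polynomial.coe_aeval_eq_eval, zero_pow (pow_ne_zero _ hp.out.ne_zero)] at this
    rw [this]; exact h0.1
  · rw [aeval_E p a n (MvPolynomial.X 0 + MvPolynomial.X 1 : MvPolynomial (Fin 2) A),
      aeval_E p a n (MvPolynomial.X 0 : MvPolynomial (Fin 2) A),
      aeval_E p a n (MvPolynomial.X 1 : MvPolynomial (Fin 2) A), add_pow_char_pow]
    exact h0.aeval_add _ _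

end Groth.Agent.Helper6.GaChar
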