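import Groth.Agent.Lib.Helper6.H90
import Mathlib.RingTheory.Trace.Basic
import Mathlib.RingTheory.TensorProduct.Free
import Mathlib.Tactic

set_option autoImplicit false
set_option linter.unusedSectionVars false
universe u v w

namespace Groth.Agent.Helper6.GalDescent

open scoped TensorProduct
open Groth.Agent.Helper6.H90

variable {k : Type u} [Field k] {K : Type v} [Field K] [Algebra k K] [FiniteDimensional k K]
variable {V : Type w} [AddCommGroup V] [Module K V] [Module k V] [IsScalarTower k K V]

/-- A semilinear action of the Galois group on a `K`-vector space. -/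
structure IsSemilinAction (ρ : (K ≃ₐ[k] K) → V → V) : Prop where
  add : ∀ σ v w, ρ σ (v + w) = ρ σ v + ρ σ w
  smul : ∀ σ (x : K) v, ρ σ (x • v) = σ x • ρ σ v
  one : ∀ v, ρ 1 v = v
  mul : ∀ σ τ v, ρ (σ * τ) v = ρ σ (ρ τ v)

namespace IsSemilinAction

variable {ρ : (K ≃ₐ[k] K) → V → V} (h : IsSemilinAction ρ)
include h

theorem zero (σ : K ≃ₐ[k] K) : ρ σ 0 = 0 := by
  have := h.add σ 0 0
  rw [add_zero] at this
  exact left_eq_add.mp this

/-- `ρ σ` as an additive hom. -/
def hom (σ : K ≃ₐ[k] K) : V →+ V where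
  toFun := ρ σ
  map_zero' := h.zero σ
  map_add' := h.add σ

theorem sum {ι : Type*} (σ : K ≃ₐ[k] K) (s : Finset ι) (f : ι → V) :
    ρ σ (∑ i ∈ s, f i) = ∑ i ∈ s, ρ σ (f i) :=
  map_sum (h.hom σ) f s

theorem avg_fixed (v : V) (σ : K ≃ₐ[k] K) :
    ρ σ (∑ τ : K ≃ₐ[k] K, ρ τ v) = ∑ τ : K ≃ₐ[k] K, ρ τ v := by
  rw [h.sum]
  simp_rw [← h.mul]
  exact Fintype.sum_bijective (fun i => σ * i) (Group.mulLeft_bijective σ) _ _ (fun i => rfl)

/-- The span over `K` of the fixed vectors is everything. -/
theorem span_fixed : Submodule.span K {v : V | ∀ σ, ρ σ v = v} = ⊤ := by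
  by_contra hne
  obtain ⟨φ, hφ0, hφ⟩ := Submodule.exists_le_ker_of_lt_top _ (lt_top_iff_ne_top.2 hne)
  apply hφ0
  have key : ∀ v : V, φ v = 0 := by
    intro v
    have hf := dedekind (k := k) (fun τ => φ (ρ τ v)) (by
      intro x
      have h1 : (∑ τ : K ≃ₐ[k] K, ρ τ (x • v)) ∈ LinearMap.ker φ :=
        hφ (Submodule.subset_span (h.avg_fixed (x • v)))
      rw [LinearMap.mem_ker] at h1
      rw [← h1, map_sum]
      refine Finset.sum_congr rfl fun τ _ => ?_
      rw [h.smul, map_smul, smul_eq_mul, mul_comm])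
    have := congrFun hf 1
    simpa [h.one] using this
  exact LinearMap.ext key

theorem algebraMap_smul_fixed (c : k) (v : V) (hv : ∀ σ, ρ σ v = v) (σ : K ≃ₐ[k] K) :
    ρ σ (c • v) = c • v := by
  rw [← algebraMap_smul K c v, h.smul, hv σ, AlgEquiv.commutes]

/-- A `k`-linearly independent family of fixed vectors is `K`-linearly independent. -/
theorem linearIndependent_of_fixed [IsGalois k K] {ι : Type*} (w : ι → V)
    (hw : ∀ i σ, ρ σ (w i) = w i)
    (hli : LinearIndependent k w) : LinearIndependent K w := by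
  rw [linearIndependent_iff']
  intro s g hg i hi
  -- for each y, trace coefficients vanish
  have htr : ∀ y : K, ∀ j ∈ s, Algebra.trace k K (y * g j) = 0 := by
    intro y
    have hrel : ∑ j ∈ s, (Algebra.trace k K (y * g j)) • w j = 0 := by
      have h0 : ∑ σ : K ≃ₐ[k] K, ρ σ (y • ∑ j ∈ s, g j • w j) = 0 := by
        rw [hg, smul_zero]
        simp [h.zero]
      rw [← h0]
      have : ∀ σ : K ≃ₐ[k] K, ρ σ (y • ∑ j ∈ s, g j • w j) = ∑ j ∈ s, σ (y * g j) • w j := by
        intro σ
        rw [Finset.smul_sum, h.sum]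
        refine Finset.sum_congr rfl fun j _ => ?_
        rw [smul_smul, h.smul, hw j σ]
      simp_rw [this]
      rw [Finset.sum_comm]
      refine Finset.sum_congr rfl fun j _ => ?_
      rw [← Finset.sum_smul, ← trace_eq_sum_automorphisms, algebraMap_smul]
    exact linearIndependent_iff'.1 hli s _ hrel
  have hf := dedekind (k := k) (fun τ => τ (g i)) (by
    intro x
    have := htr x i hi
    have h2 := congrArg (algebraMap k K) this
    rw [trace_eq_sum_automorphisms, map_zero] at h2
    rw [← h2]
    refine Finset.sum_congr rfl fun τ _ => ?_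
    rw [map_mul, mul_comm])
  have := congrFun hf 1
  simpa using this

end IsSemilinAction

/-- The natural map `K ⊗[k] W → V` for a `k`-submodule `W` of `V`. -/
noncomputable def mu (W : Submodule k V) : K ⊗[k] W →ₗ[K] V :=
  TensorProduct.AlgebraTensorModule.lift
    { toFun := fun x => x • (W.subtype.restrictScalars k : W →ₗ[k] V)
      map_add' := fun x y => by ext; simp [add_smul]
      map_smul' := fun c x => by ext; simp [mul_smul] }

theorem mu_tmul (W : Submodule k V) (x : K) (w : W) : mu W (x ⊗ₜ w) = x • (w : V) := by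
  simp [mu]

theorem mu_bijective [IsGalois k K] {ρ : (K ≃ₐ[k] K) → V → V} (h : IsSemilinAction ρ)
    (W : Submodule k V) (hW : ∀ v, v ∈ W ↔ ∀ σ, ρ σ v = v) :
    Function.Bijective (mu (K := K) W) := by
  constructor
  · -- injective
    let b := Module.Free.chooseBasis k W
    let B := Algebra.TensorProduct.basis K b
    have hli : LinearIndependent K (fun i => ((b i : W) : V)) := by
      apply h.linearIndependent_of_fixed
      · intro i σ
        exact (hW _).1 (b i).2 σ
      · exact b.linearIndependent.map' (W.subtype) (Submodule.ker_subtype W)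
    have hinj := B.injective_constr_of_linearIndependent (R₂ := K) hli
    have heq : mu (K := K) W = B.constr K (fun i => ((b i : W) : V)) := by
      apply B.ext
      intro i
      rw [Module.Basis.constr_basis, Algebra.TensorProduct.basis_apply, mu_tmul, one_smul]
    rw [heq]
    exact hinj
  · -- surjective
    rw [← LinearMap.range_eq_top, eq_top_iff, ← h.span_fixed, Submodule.span_le]
    intro v hv
    exact ⟨(1 : K) ⊗ₜ ⟨v, (hW v).2 hv⟩, by rw [mu_tmul, one_smul]⟩

end Groth.Agent.Helper6.GalDescent
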