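import Groth.Agent.Lib.Helper6.GalDescent

set_option autoImplicit false
set_option linter.unusedSectionVars false
universe u v w

namespace Groth.Agent.Helper6.GalDescent

open scoped TensorProduct
open Groth.Agent.Helper6.H90

variable {k : Type u} [Field k] {K : Type v} [Field K] [Algebra k K] [FiniteDimensional k K]
variable {V : Type w} [AddCommGroup V] [Module K V] [Module k V] [IsScalarTower k K V]

/-- Galois descent, flexible form: if `ι : W → V` is an injective `k`-linear map whose range is the
set of fixed vectors of a semilinear action, any `K`-linear map `K ⊗[k] W → V` with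
`x ⊗ w ↦ x • ι w` is bijective. -/
theorem bijective_of_fixed [IsGalois k K] {ρ : (K ≃ₐ[k] K) → V → V} (h : IsSemilinAction ρ)
    {W : Type*} [AddCommGroup W] [Module k W] (ι : W →ₗ[k] V) (hι : Function.Injective ι)
    (hrange : ∀ v, v ∈ Set.range ι ↔ ∀ σ, ρ σ v = v)
    (f : K ⊗[k] W →ₗ[K] V) (hf : ∀ (x : K) (w : W), f (x ⊗ₜ w) = x • ι w) :
    Function.Bijective f := by
  constructor
  · let b := Module.Free.chooseBasis k W
    let B := Algebra.TensorProduct.basis K b
    have hli : LinearIndependent K (fun i => ι (b i)) := by
      apply h.linearIndependent_of_fixed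
      · intro i σ
        exact (hrange _).1 ⟨b i, rfl⟩ σ
      · exact b.linearIndependent.map' ι (LinearMap.ker_eq_bot.2 hι)
    have hinj := B.injective_constr_of_linearIndependent (R₂ := K) hli
    have heq : f = B.constr K (fun i => ι (b i)) := by
      apply B.ext
      intro i
      rw [Module.Basis.constr_basis, Algebra.TensorProduct.basis_apply, hf, one_smul]
    rw [heq]
    exact hinj
  · rw [← LinearMap.range_eq_top, eq_top_iff, ← h.span_fixed, Submodule.span_le]
    intro v hv
    obtain ⟨w, rfl⟩ := (hrange v).2 hv
    exact ⟨(1 : K) ⊗ₜ w, by rw [hf, one_smul]⟩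

end Groth.Agent.Helper6.GalDescent
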