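import Groth.Prelude.Def_W4c1stackycurvesGalP1
import Mathlib

set_option linter.unusedSectionVars false
set_option autoImplicit false
set_option maxHeartbeats 400000

noncomputable section

universe u

namespace Groth.Agent.Lib.Helper6.GalP1

open W4c1stackycurves Matrix

variable {k K : Type u} [Field k] [Field K] [Algebra k K]

/-- the `2 × 2` determinant of two vectors -/
def cr (u w : Fin 2 → K) : K := u 0 * w 1 - u 1 * w 0

theorem cr_eq_zero_iff {u w : Fin 2 → K} (hw : w ≠ 0) : cr u w = 0 ↔ ∃ c : K, u = c • w := by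
  constructor
  · intro h
    unfold cr at h
    by_cases h0 : w 0 = 0
    · have h1 : w 1 ≠ 0 := by
        intro h1
        apply hw
        funext i
        fin_cases i
        · exact h0
        · exact h1
      refine ⟨u 1 / w 1, ?_⟩
      funext i
      fin_cases i
      · simp only [Fin.zero_eta, Pi.smul_apply, smul_eq_mul, h0, mul_zero]
        rw [h0, mul_zero, sub_eq_zero] at h
        rcases mul_eq_zero.mp h with h | h
        · exact h
        · exact absurd h h1
      · simp only [Fin.mk_one, Pi.smul_apply, smul_eq_mul]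
        field_simp
    · refine ⟨u 0 / w 0, ?_⟩
      funext i
      fin_cases i
      · simp only [Fin.zero_eta, Pi.smul_apply, smul_eq_mul]
        field_simp
      · simp only [Fin.mk_one, Pi.smul_apply, smul_eq_mul]
        field_simp
        linear_combination -h
  · rintro ⟨c, rfl⟩
    simp only [cr, Pi.smul_apply, smul_eq_mul]
    ring

theorem mk_eq_iff_cr {u w : Fin 2 → K} (hu : u ≠ 0) (hw : w ≠ 0) :
    Projectivization.mk K u hu = Projectivization.mk K w hw ↔ cr u w = 0 := by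
  rw [Projectivization.mk_eq_mk_iff', cr_eq_zero_iff hw]
  constructor
  · rintro ⟨a, ha⟩
    exact ⟨a, ha.symm⟩
  · rintro ⟨a, ha⟩
    exact ⟨a, ha.symm⟩

theorem cr_smul_smul (c c' : K) (u w : Fin 2 → K) : cr (c • u) (c' • w) = c * c' * cr u w := by
  simp only [cr, Pi.smul_apply, smul_eq_mul]
  ring

theorem cr_add_left (u u' w : Fin 2 → K) : cr (u + u') w = cr u w + cr u' w := by
  simp only [cr, Pi.add_apply]
  ring

theorem cr_smul_left (c : K) (u w : Fin 2 → K) : cr (c • u) w = c * cr u w := by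
  simp only [cr, Pi.smul_apply, smul_eq_mul]
  ring

theorem cr_comp (σ : K ≃ₐ[k] K) (u w : Fin 2 → K) :
    cr (fun i => σ (u i)) (fun i => σ (w i)) = σ (cr u w) := by
  simp only [cr, map_sub, map_mul]

theorem map_mulVec_comp (σ : K ≃ₐ[k] K) (M : Matrix (Fin 2) (Fin 2) K) (u : Fin 2 → K) :
    (M.map σ) *ᵥ (fun i => σ (u i)) = fun i => σ ((M *ᵥ u) i) := by
  funext i
  simp only [Matrix.mulVec, dotProduct, Fin.sum_univ_two, Matrix.map_apply, map_add, map_mul]

/-- A `2 × 2` matrix killing two independent vectors is zero. -/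
theorem eq_zero_of_mulVec_eq_zero (N : Matrix (Fin 2) (Fin 2) K) (u w : Fin 2 → K)
    (hu : N *ᵥ u = 0) (hw : N *ᵥ w = 0) (h : cr u w ≠ 0) : N = 0 := by
  have hu' : ∀ i, N i 0 * u 0 + N i 1 * u 1 = 0 := by
    intro i
    have := congrFun hu i
    simpa [Matrix.mulVec, dotProduct, Fin.sum_univ_two] using this
  have hw' : ∀ i, N i 0 * w 0 + N i 1 * w 1 = 0 := by
    intro i
    have := congrFun hw i
    simpa [Matrix.mulVec, dotProduct, Fin.sum_univ_two] using this
  ext i j
  unfold cr at h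
  fin_cases j
  · simp only [Fin.zero_eta, Matrix.zero_apply]
    have : N i 0 * (u 0 * w 1 - u 1 * w 0) = 0 := by
      linear_combination (w 1) * hu' i - (u 1) * hw' i
    rcases mul_eq_zero.mp this with h' | h'
    · exact h'
    · exact absurd h' h
  · simp only [Fin.mk_one, Matrix.zero_apply]
    have : N i 1 * (u 0 * w 1 - u 1 * w 0) = 0 := by
      linear_combination (u 0) * hw' i - (w 0) * hu' i
    rcases mul_eq_zero.mp this with h' | h'
    · exact h'
    · exact absurd h' h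

section core

variable (v v' : Fin 3 → (Fin 2 → K))

/-- the matrix `M` sends each `v i` to a multiple of `v' i` -/
def InW (M : Matrix (Fin 2) (Fin 2) K) : Prop := ∀ i, cr (M *ᵥ v i) (v' i) = 0

theorem inW_add {M N : Matrix (Fin 2) (Fin 2) K} (hM : InW v v' M) (hN : InW v v' N) :
    InW v v' (M + N) := by
  intro i
  rw [Matrix.add_mulVec, cr_add_left, hM i, hN i, add_zero]

theorem inW_smul (c : K) {M : Matrix (Fin 2) (Fin 2) K} (hM : InW v v' M) :
    InW v v' (c • M) := by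
  intro i
  rw [Matrix.smul_mulVec, cr_smul_left, hM i, mul_zero]

theorem inW_zero : InW v v' (0 : Matrix (Fin 2) (Fin 2) K) := by
  intro i
  rw [Matrix.zero_mulVec]
  simp [cr]

theorem inW_sum {ι : Type*} (s : Finset ι) (F : ι → Matrix (Fin 2) (Fin 2) K)
    (h : ∀ i ∈ s, InW v v' (F i)) : InW v v' (∑ i ∈ s, F i) := by
  classical
  induction s using Finset.induction_on with
  | empty => simpa using inW_zero v v'
  | insert a s ha ih =>
    rw [Finset.sum_insert ha]
    exact inW_add v v' (h a (Finset.mem_insert_self a s))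
      (ih fun i hi => h i (Finset.mem_insert_of_mem hi))

/-- the linear conditions as a linear map -/
def Phi : Matrix (Fin 2) (Fin 2) K →ₗ[K] (Fin 3 → K) where
  toFun M i := cr (M *ᵥ v i) (v' i)
  map_add' M N := by
    funext i
    simp only [Pi.add_apply, Matrix.add_mulVec, cr_add_left]
  map_smul' c M := by
    funext i
    simp only [Pi.smul_apply, Matrix.smul_mulVec, cr_smul_left, RingHom.id_apply, smul_eq_mul]

theorem exists_ne_zero_inW : ∃ M : Matrix (Fin 2) (Fin 2) K, M ≠ 0 ∧ InW v v' M := by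
  have h : LinearMap.ker (Phi v v') ≠ ⊥ := by
    apply LinearMap.ker_ne_bot_of_finrank_lt
    rw [Module.finrank_matrix, Module.finrank_fintype_fun_eq_card]
    simp
  obtain ⟨M, hM, hM0⟩ := (Submodule.ne_bot_iff _).mp h
  refine ⟨M, hM0, ?_⟩
  intro i
  exact congrFun (LinearMap.mem_ker.mp hM) i

variable (hstab : ∀ (σ : K ≃ₐ[k] K) (j : Fin 3), ∃ (i : Fin 3) (c c' : K),
  v j = c • (fun a => σ (v i a)) ∧ v' j = c' • (fun a => σ (v' i a)))

include hstab in
theorem inW_map (σ : K ≃ₐ[k] K) {M : Matrix (Fin 2) (Fin 2) K} (hM : InW v v' M) :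
    InW v v' (M.map σ) := by
  intro j
  obtain ⟨i, c, c', h1, h2⟩ := hstab σ j
  rw [h1, h2, Matrix.mulVec_smul, cr_smul_smul, map_mulVec_comp, cr_comp, hM i, map_zero,
    mul_zero]

include hstab in
theorem exists_rational_inW [FiniteDimensional k K] [IsGalois k K]
    {M : Matrix (Fin 2) (Fin 2) K} (hM0 : M ≠ 0) (hM : InW v v' M) :
    ∃ T₀ : Matrix (Fin 2) (Fin 2) k, T₀ ≠ 0 ∧ InW v v' (T₀.map (algebraMap k K)) := by
  classical
  obtain ⟨a, b, hab⟩ : ∃ a b, M a b ≠ 0 := by
    by_contra hcon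
    push Not at hcon
    apply hM0
    ext a b
    exact hcon a b
  obtain ⟨μ, hμ⟩ := Algebra.trace_surjective k K (1 : k)
  set lam : K := μ / M a b with hlam
  refine ⟨Matrix.of fun a' b' => Algebra.trace k K (lam * M a' b'), ?_, ?_⟩
  · intro h0
    have := congrFun (congrFun h0 a) b
    simp only [Matrix.of_apply, Matrix.zero_apply] at this
    rw [hlam, div_mul_cancel₀ _ hab, hμ] at this
    exact one_ne_zero this
  · have heq : (Matrix.of fun a' b' => Algebra.trace k K (lam * M a' b')).map (algebraMap k K) =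
        ∑ σ : K ≃ₐ[k] K, (lam • M).map σ := by
      ext a' b'
      rw [Matrix.map_apply, Matrix.of_apply, trace_eq_sum_automorphisms, Matrix.sum_apply]
      rfl
    rw [heq]
    apply inW_sum
    intro σ _
    exact inW_map v v' hstab σ (inW_smul v v' lam hM)

theorem det_ne_zero_of_inW (hv : ∀ i j, i ≠ j → cr (v i) (v j) ≠ 0)
    (hv' : ∀ i j, i ≠ j → cr (v' i) (v' j) ≠ 0) (hv'0 : ∀ i, v' i ≠ 0)
    {T : Matrix (Fin 2) (Fin 2) K} (hT0 : T ≠ 0) (hT : InW v v' T) : T.det ≠ 0 := by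
  intro hdet
  have hadj : T.adjugate * T = 0 := by rw [Matrix.adjugate_mul, hdet, zero_smul]
  have hadj0 : T.adjugate ≠ 0 := by
    intro h
    apply hT0
    rw [Matrix.adjugate_fin_two] at h
    ext i j
    have h00 := congrFun (congrFun h 0) 0
    have h01 := congrFun (congrFun h 0) 1
    have h10 := congrFun (congrFun h 1) 0
    have h11 := congrFun (congrFun h 1) 1
    simp at h00 h01 h10 h11
    fin_cases i <;> fin_cases j <;> simp [*]
  have hch : ∀ i, ∃ c : K, T *ᵥ v i = c • v' i := fun i => (cr_eq_zero_iff (hv'0 i)).mp (hT i)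
  choose c hc using hch
  have key1 : ∀ i j, i ≠ j → ¬ (c i = 0 ∧ c j = 0) := by
    rintro i j hij ⟨hi, hj⟩
    apply hT0
    apply eq_zero_of_mulVec_eq_zero T (v i) (v j) _ _ (hv i j hij)
    · rw [hc i, hi, zero_smul]
    · rw [hc j, hj, zero_smul]
  have key2 : ∀ i j, i ≠ j → ¬ (c i ≠ 0 ∧ c j ≠ 0) := by
    rintro i j hij ⟨hi, hj⟩
    apply hadj0
    have hz : ∀ l, c l ≠ 0 → T.adjugate *ᵥ v' l = 0 := by
      intro l hl
      have h1 : T.adjugate *ᵥ (T *ᵥ v l) = 0 := by
        rw [Matrix.mulVec_mulVec, hadj, Matrix.zero_mulVec]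
      rw [hc l, Matrix.mulVec_smul] at h1
      rcases smul_eq_zero.mp h1 with h | h
      · exact absurd h hl
      · exact h
    exact eq_zero_of_mulVec_eq_zero T.adjugate (v' i) (v' j) (hz i hi) (hz j hj) (hv' i j hij)
  by_cases h0 : c 0 = 0 <;> by_cases h1 : c 1 = 0 <;> by_cases h2 : c 2 = 0
  · exact key1 0 1 (by decide) ⟨h0, h1⟩
  · exact key1 0 1 (by decide) ⟨h0, h1⟩
  · exact key1 0 2 (by decide) ⟨h0, h2⟩
  · exact key2 1 2 (by decide) ⟨h1, h2⟩
  · exact key1 1 2 (by decide) ⟨h1, h2⟩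
  · exact key2 0 2 (by decide) ⟨h0, h2⟩
  · exact key2 0 1 (by decide) ⟨h0, h1⟩
  · exact key2 0 1 (by decide) ⟨h0, h1⟩

end core

theorem galP_mk (σ : K ≃ₐ[k] K) (u : Fin 2 → K) (hu : u ≠ 0) (h : (fun i => σ (u i)) ≠ 0) :
    galP σ (Projectivization.mk K u hu) = Projectivization.mk K (fun i => σ (u i)) h := rfl

theorem comp_ne_zero (σ : K ≃ₐ[k] K) {u : Fin 2 → K} (hu : u ≠ 0) : (fun i => σ (u i)) ≠ 0 := by
  intro h
  apply hu
  funext i
  have := congrFun h i
  simpa using this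

theorem core [FiniteDimensional k K] [IsGalois k K]
    (P P' : Fin 3 → Projectivization K (Fin 2 → K)) (hP : Function.Injective P)
    (hP' : Function.Injective P')
    (hst : ∀ (σ : K ≃ₐ[k] K) (j : Fin 3), ∃ i, P j = galP σ (P i) ∧ P' j = galP σ (P' i)) :
    ∃ g : Matrix.GeneralLinearGroup (Fin 2) k, ∀ i,
      (Matrix.GeneralLinearGroup.toLin ((Matrix.GeneralLinearGroup.map (algebraMap k K)) g)) • P i
        = P' i := by
  classical
  set v : Fin 3 → (Fin 2 → K) := fun i => (P i).rep with hvdef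
  set v' : Fin 3 → (Fin 2 → K) := fun i => (P' i).rep with hv'def
  have hv0 : ∀ i, v i ≠ 0 := fun i => (P i).rep_nonzero
  have hv'0 : ∀ i, v' i ≠ 0 := fun i => (P' i).rep_nonzero
  have hPv : ∀ i, P i = Projectivization.mk K (v i) (hv0 i) := fun i => (P i).mk_rep.symm
  have hP'v : ∀ i, P' i = Projectivization.mk K (v' i) (hv'0 i) := fun i => (P' i).mk_rep.symm
  have hstab : ∀ (σ : K ≃ₐ[k] K) (j : Fin 3), ∃ (i : Fin 3) (c c' : K),
      v j = c • (fun a => σ (v i a)) ∧ v' j = c' • (fun a => σ (v' i a)) := by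
    intro σ j
    obtain ⟨i, h1, h2⟩ := hst σ j
    rw [hPv j, hPv i, galP_mk σ _ _ (comp_ne_zero σ (hv0 i)), Projectivization.mk_eq_mk_iff'] at h1
    rw [hP'v j, hP'v i, galP_mk σ _ _ (comp_ne_zero σ (hv'0 i)),
      Projectivization.mk_eq_mk_iff'] at h2
    obtain ⟨c, hc⟩ := h1
    obtain ⟨c', hc'⟩ := h2
    exact ⟨i, c, c', hc.symm, hc'.symm⟩
  have hv : ∀ i j, i ≠ j → cr (v i) (v j) ≠ 0 := by
    intro i j hij h
    apply hij
    apply hP
    rw [hPv i, hPv j]
    exact (mk_eq_iff_cr (hv0 i) (hv0 j)).mpr h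
  have hv' : ∀ i j, i ≠ j → cr (v' i) (v' j) ≠ 0 := by
    intro i j hij h
    apply hij
    apply hP'
    rw [hP'v i, hP'v j]
    exact (mk_eq_iff_cr (hv'0 i) (hv'0 j)).mpr h
  obtain ⟨M, hM0, hM⟩ := exists_ne_zero_inW v v'
  obtain ⟨T₀, hT₀, hT⟩ := exists_rational_inW v v' hstab hM0 hM
  have hT0' : T₀.map (algebraMap k K) ≠ 0 := by
    intro h
    apply hT₀
    ext a b
    have := congrFun (congrFun h a) b
    simp only [Matrix.map_apply, Matrix.zero_apply] at this
    exact (map_eq_zero_iff _ (algebraMap k K).injective).mp this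
  have hdet := det_ne_zero_of_inW v v' hv hv' hv'0 hT0' hT
  have hdet0 : T₀.det ≠ 0 := by
    intro h
    apply hdet
    rw [← RingHom.mapMatrix_apply, ← RingHom.map_det, h, map_zero]
  refine ⟨Matrix.GeneralLinearGroup.mkOfDetNeZero T₀ hdet0, ?_⟩
  intro i
  rw [hPv i, hP'v i, Projectivization.smul_mk]
  rw [mk_eq_iff_cr]
  exact hT i

theorem galP_galP_symm (σ : K ≃ₐ[k] K) (x : Projectivization K (Fin 2 → K)) :
    galP σ (galP σ.symm x) = x := by
  induction x using Projectivization.ind with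
  | h u hu =>
    rw [galP_mk σ.symm u hu (comp_ne_zero σ.symm hu),
      galP_mk σ _ _ (comp_ne_zero σ (comp_ne_zero σ.symm hu))]
    congr 1
    funext i
    exact σ.apply_symm_apply (u i)

section main

variable [FiniteDimensional k K] [IsGalois k K]
variable (S S' : Set (Projectivization K (Fin 2 → K)))
  (hS : ∀ (σ : K ≃ₐ[k] K) (x : Projectivization K (Fin 2 → K)), x ∈ S → galP σ x ∈ S)
  (b : S ≃ S')
  (hb : ∀ (σ : K ≃ₐ[k] K) (x : S),
      (b ⟨galP σ x.1, hS σ x.1 x.2⟩ : Projectivization K (Fin 2 → K)) = galP σ (b x).1)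

include hb in
theorem main_of_enum
    (P P' : Fin 3 → Projectivization K (Fin 2 → K)) (hP : Function.Injective P)
    (hP' : Function.Injective P')
    (h1 : ∀ j (h : P j ∈ S), P' j = (b ⟨P j, h⟩ : Projectivization K (Fin 2 → K)))
    (h2 : ∀ j, P j ∉ S → (∀ σ : K ≃ₐ[k] K, galP σ (P j) = P j) ∧
      (∀ σ : K ≃ₐ[k] K, galP σ (P' j) = P' j))
    (h3 : ∀ x ∈ S, ∃ j, P j = x) :
    ∃ g : Matrix.GeneralLinearGroup (Fin 2) k,
      (fun x => (Matrix.GeneralLinearGroup.toLin
        ((Matrix.GeneralLinearGroup.map (algebraMap k K)) g)) • x) '' S = S' := by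
  have hst : ∀ (σ : K ≃ₐ[k] K) (j : Fin 3), ∃ i, P j = galP σ (P i) ∧ P' j = galP σ (P' i) := by
    intro σ j
    by_cases hj : P j ∈ S
    · have hy : galP σ.symm (P j) ∈ S := hS σ.symm _ hj
      obtain ⟨i, hi⟩ := h3 _ hy
      refine ⟨i, ?_, ?_⟩
      · rw [hi, galP_galP_symm]
      · have hmem : P i ∈ S := by rw [hi]; exact hy
        have e : (⟨P i, hmem⟩ : S) = ⟨galP σ.symm (P j), hy⟩ := Subtype.ext hi
        rw [h1 i hmem, e, h1 j hj]
        have := hb σ.symm ⟨P j, hj⟩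
        simp only at this
        rw [this, galP_galP_symm]
    · obtain ⟨f1, f2⟩ := h2 j hj
      exact ⟨j, (f1 σ).symm, (f2 σ).symm⟩
  obtain ⟨g, hg⟩ := core P P' hP hP' hst
  refine ⟨g, ?_⟩
  ext x'
  constructor
  · rintro ⟨x, hx, rfl⟩
    obtain ⟨j, hj⟩ := h3 x hx
    have hmem : P j ∈ S := by rw [hj]; exact hx
    show (Matrix.GeneralLinearGroup.toLin
        ((Matrix.GeneralLinearGroup.map (algebraMap k K)) g)) • x ∈ S'
    rw [← hj, hg j, h1 j hmem]
    exact (b ⟨P j, hmem⟩).2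
  · intro hx'
    set x : S := b.symm ⟨x', hx'⟩ with hx
    obtain ⟨j, hj⟩ := h3 x.1 x.2
    have hmem : P j ∈ S := by rw [hj]; exact x.2
    refine ⟨x.1, x.2, ?_⟩
    show (Matrix.GeneralLinearGroup.toLin
        ((Matrix.GeneralLinearGroup.map (algebraMap k K)) g)) • x.1 = x'
    rw [← hj, hg j, h1 j hmem]
    have e : (⟨P j, hmem⟩ : S) = x := Subtype.ext hj
    rw [e, hx, Equiv.apply_symm_apply]

end main

section rational

variable (k K)

theorem ne0_01 : (![0, 1] : Fin 2 → K) ≠ 0 := by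
  intro h
  have := congrFun h 1
  simp at this

theorem ne0_11 : (![1, 1] : Fin 2 → K) ≠ 0 := by
  intro h
  have := congrFun h 1
  simp at this

theorem ne0_10 : (![1, 0] : Fin 2 → K) ≠ 0 := by
  intro h
  have := congrFun h 0
  simp at this

/-- the point `0` -/
def q0 : Projectivization K (Fin 2 → K) := Projectivization.mk K ![0, 1] (ne0_01 K)
/-- the point `1` -/
def q1 : Projectivization K (Fin 2 → K) := Projectivization.mk K ![1, 1] (ne0_11 K)
/-- the point `∞` -/
def qinf : Projectivization K (Fin 2 → K) := Projectivization.mk K ![1, 0] (ne0_10 K)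

/-- Galois-fixed points -/
def Fixed (x : Projectivization K (Fin 2 → K)) : Prop := ∀ σ : K ≃ₐ[k] K, galP σ x = x

theorem fixed_q0 : Fixed k K (q0 K) := by
  intro σ
  unfold q0
  rw [galP_mk σ _ _ (comp_ne_zero σ (ne0_01 K))]
  congr 1
  funext i
  fin_cases i <;> simp

theorem fixed_q1 : Fixed k K (q1 K) := by
  intro σ
  unfold q1
  rw [galP_mk σ _ _ (comp_ne_zero σ (ne0_11 K))]
  congr 1
  funext i
  fin_cases i <;> simp

theorem fixed_qinf : Fixed k K (qinf K) := by
  intro σ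
  unfold qinf
  rw [galP_mk σ _ _ (comp_ne_zero σ (ne0_10 K))]
  congr 1
  funext i
  fin_cases i <;> simp

theorem q0_ne_q1 : q0 K ≠ q1 K := by
  unfold q0 q1
  rw [Ne, mk_eq_iff_cr]
  simp [cr]

theorem q0_ne_qinf : q0 K ≠ qinf K := by
  unfold q0 qinf
  rw [Ne, mk_eq_iff_cr]
  simp [cr]

theorem q1_ne_qinf : q1 K ≠ qinf K := by
  unfold q1 qinf
  rw [Ne, mk_eq_iff_cr]
  simp [cr]

theorem sel2 (x y : Projectivization K (Fin 2 → K)) :
    ∃ r, Fixed k K r ∧ r ≠ x ∧ r ≠ y := by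
  by_cases h0 : q0 K = x ∨ q0 K = y
  · by_cases h1 : q1 K = x ∨ q1 K = y
    · refine ⟨qinf K, fixed_qinf k K, ?_, ?_⟩
      · intro h
        rcases h0 with h0 | h0 <;> rcases h1 with h1 | h1
        · exact q0_ne_q1 K (h0.trans h1.symm)
        · exact q0_ne_qinf K (h0.trans h.symm)
        · exact q1_ne_qinf K (h1.trans h.symm)
        · exact q0_ne_q1 K (h0.trans h1.symm)
      · intro h
        rcases h0 with h0 | h0 <;> rcases h1 with h1 | h1
        · exact q0_ne_q1 K (h0.trans h1.symm)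
        · exact q1_ne_qinf K (h1.trans h.symm)
        · exact q0_ne_qinf K (h0.trans h.symm)
        · exact q0_ne_q1 K (h0.trans h1.symm)
    · push Not at h1
      exact ⟨q1 K, fixed_q1 k K, h1.1, h1.2⟩
  · push Not at h0
    exact ⟨q0 K, fixed_q0 k K, h0.1, h0.2⟩

theorem sel1 (x : Projectivization K (Fin 2 → K)) :
    ∃ r1 r2, Fixed k K r1 ∧ Fixed k K r2 ∧ r1 ≠ r2 ∧ r1 ≠ x ∧ r2 ≠ x := by
  obtain ⟨r1, f1, h1, _⟩ := sel2 k K x x
  obtain ⟨r2, f2, h2, h3⟩ := sel2 k K x r1
  exact ⟨r1, r2, f1, f2, fun h => h3 h.symm, h1, h2⟩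

end rational

theorem inj3 {α : Type*} (x y z : α) (hxy : x ≠ y) (hxz : x ≠ z) (hyz : y ≠ z) :
    Function.Injective ![x, y, z] := by
  intro i j h
  fin_cases i <;> fin_cases j <;> simp_all

section final

variable [FiniteDimensional k K] [IsGalois k K]
variable (S S' : Set (Projectivization K (Fin 2 → K)))
  (hS : ∀ (σ : K ≃ₐ[k] K) (x : Projectivization K (Fin 2 → K)), x ∈ S → galP σ x ∈ S)
  (b : S ≃ S')
  (hb : ∀ (σ : K ≃ₐ[k] K) (x : S),
      (b ⟨galP σ x.1, hS σ x.1 x.2⟩ : Projectivization K (Fin 2 → K)) = galP σ (b x).1)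

theorem b_val_ne {x y : Projectivization K (Fin 2 → K)} (hx : x ∈ S) (hy : y ∈ S) (hxy : x ≠ y) :
    (b ⟨x, hx⟩ : Projectivization K (Fin 2 → K)) ≠ b ⟨y, hy⟩ := by
  intro h
  apply hxy
  have := b.injective (Subtype.ext h)
  exact congrArg Subtype.val this

include hb in
theorem final (hfin : S.Finite) (h3 : S.ncard ≤ 3) :
    ∃ g : Matrix.GeneralLinearGroup (Fin 2) k,
      (fun x => (Matrix.GeneralLinearGroup.toLin
        ((Matrix.GeneralLinearGroup.map (algebraMap k K)) g)) • x) '' S = S' := by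
  have hcases : S.ncard = 0 ∨ S.ncard = 1 ∨ S.ncard = 2 ∨ S.ncard = 3 := by omega
  rcases hcases with h | h | h | h
  · -- empty
    rw [Set.ncard_eq_zero hfin] at h
    refine ⟨1, ?_⟩
    rw [h, Set.image_empty]
    symm
    rw [Set.eq_empty_iff_forall_notMem]
    intro x' hx'
    have hmem := (b.symm ⟨x', hx'⟩).2
    have hne : S.Nonempty := ⟨_, hmem⟩
    rw [h] at hne
    exact Set.not_nonempty_empty hne
  · obtain ⟨x, hSeq⟩ := Set.ncard_eq_one.mp h
    have hx : x ∈ S := by rw [hSeq]; exact Set.mem_singleton x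
    obtain ⟨r1, r2, f1, f2, h12, h1x, h2x⟩ := sel1 k K x
    obtain ⟨r1', r2', f1', f2', h12', h1x', h2x'⟩ :=
      sel1 k K (b ⟨x, hx⟩ : Projectivization K (Fin 2 → K))
    have hr1 : r1 ∉ S := by rw [hSeq]; exact h1x
    have hr2 : r2 ∉ S := by rw [hSeq]; exact h2x
    refine main_of_enum S S' hS b hb ![x, r1, r2] ![(b ⟨x, hx⟩ : _), r1', r2']
      (inj3 _ _ _ (Ne.symm h1x) (Ne.symm h2x) h12)
      (inj3 _ _ _ (Ne.symm h1x') (Ne.symm h2x') h12') ?_ ?_ ?_
    · intro j hj
      fin_cases j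
      · rfl
      · exact absurd hj hr1
      · exact absurd hj hr2
    · intro j hj
      fin_cases j
      · exact absurd hx hj
      · exact ⟨f1, f1'⟩
      · exact ⟨f2, f2'⟩
    · intro w hw
      rw [hSeq] at hw
      rw [Set.mem_singleton_iff] at hw
      exact ⟨0, hw.symm⟩
  · obtain ⟨x, y, hxy, hSeq⟩ := Set.ncard_eq_two.mp h
    have hx : x ∈ S := by rw [hSeq]; exact Set.mem_insert x _
    have hy : y ∈ S := by rw [hSeq]; exact Set.mem_insert_of_mem _ (Set.mem_singleton y)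
    obtain ⟨r, f, hrx, hry⟩ := sel2 k K x y
    obtain ⟨r', f', hrx', hry'⟩ := sel2 k K (b ⟨x, hx⟩ : Projectivization K (Fin 2 → K))
      (b ⟨y, hy⟩ : Projectivization K (Fin 2 → K))
    have hr : r ∉ S := by
      rw [hSeq]
      intro hmem
      rcases hmem with hmem | hmem
      · exact hrx hmem
      · exact hry hmem
    refine main_of_enum S S' hS b hb ![x, y, r] ![(b ⟨x, hx⟩ : _), (b ⟨y, hy⟩ : _), r']
      (inj3 _ _ _ hxy (Ne.symm hrx) (Ne.symm hry))
      (inj3 _ _ _ (b_val_ne S S' b hx hy hxy) (Ne.symm hrx') (Ne.symm hry')) ?_ ?_ ?_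
    · intro j hj
      fin_cases j
      · rfl
      · rfl
      · exact absurd hj hr
    · intro j hj
      fin_cases j
      · exact absurd hx hj
      · exact absurd hy hj
      · exact ⟨f, f'⟩
    · intro w hw
      rw [hSeq] at hw
      rcases hw with hw | hw
      · exact ⟨0, hw.symm⟩
      · exact ⟨1, hw.symm⟩
  · obtain ⟨x, y, z, hxy, hxz, hyz, hSeq⟩ := Set.ncard_eq_three.mp h
    have hx : x ∈ S := by rw [hSeq]; simp
    have hy : y ∈ S := by rw [hSeq]; simp
    have hz : z ∈ S := by rw [hSeq]; simp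
    refine main_of_enum S S' hS b hb ![x, y, z]
      ![(b ⟨x, hx⟩ : _), (b ⟨y, hy⟩ : _), (b ⟨z, hz⟩ : _)]
      (inj3 _ _ _ hxy hxz hyz)
      (inj3 _ _ _ (b_val_ne S S' b hx hy hxy) (b_val_ne S S' b hx hz hxz)
        (b_val_ne S S' b hy hz hyz)) ?_ ?_ ?_
    · intro j hj
      fin_cases j <;> rfl
    · intro j hj
      fin_cases j
      · exact absurd hx hj
      · exact absurd hy hj
      · exact absurd hz hj
    · intro w hw
      rw [hSeq] at hw
      rcases hw with hw | hw | hw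
      · exact ⟨0, hw.symm⟩
      · exact ⟨1, hw.symm⟩
      · exact ⟨2, hw.symm⟩

end final

end Groth.Agent.Lib.Helper6.GalP1
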