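import Mathlib

/-! Gauss–Jacobi product formula over a finite field. -/

set_option linter.unusedSectionVars false
set_option autoImplicit false

namespace Groth.Agent.Lib.Helper6.GaussJacobi

open BigOperators

variable {F : Type} [Field F] [Fintype F] [DecidableEq F] {R : Type} [CommRing R]

lemma sum_erase_zero (g : F → R) : ∑ x ∈ (Finset.univ : Finset F).erase 0, g x = ∑ u : Fˣ, g u := by
  symm
  refine Finset.sum_bij (fun u _ => (u : F)) (fun u _ => by simp) (fun a _ b _ h => Units.ext h)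
    (fun b hb => ?_) (fun _ _ => rfl)
  have hb' : b ≠ 0 := (Finset.mem_erase.1 hb).1
  exact ⟨Units.mk0 b hb', Finset.mem_univ _, rfl⟩

lemma sum_units (g : F → R) (h0 : g 0 = 0) : ∑ y : F, g y = ∑ u : Fˣ, g u := by
  rw [← sum_erase_zero, Finset.sum_erase _ h0]

lemma sum_units' (g : F → R) : ∑ u : Fˣ, g u = ∑ y : F, g y - g 0 := by
  rw [← sum_erase_zero, ← Finset.add_sum_erase Finset.univ g (Finset.mem_univ 0)]
  ring

lemma prod_apply_unit {ι : Type*} (s : Finset ι) (η : ι → MulChar F R) (a : Fˣ) :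
    (∏ i ∈ s, η i) (a : F) = ∏ i ∈ s, η i (a : F) := by
  classical
  induction s using Finset.induction_on with
  | empty => simp [MulChar.one_apply_coe]
  | insert i s hi ih => rw [Finset.prod_insert hi, Finset.prod_insert hi, MulChar.mul_apply, ih]

lemma addChar_sum {ι : Type*} (Ψ : AddChar F R) (s : Finset ι) (f : ι → F) :
    Ψ (∑ i ∈ s, f i) = ∏ i ∈ s, Ψ (f i) := by
  classical
  induction s using Finset.induction_on with
  | empty => simp
  | insert i s hi ih =>
    rw [Finset.sum_insert hi, Finset.prod_insert hi, AddChar.map_add_eq_mul, ih]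

/-- the reindexing equivalence -/
def reidx (N : ℕ) : Fˣ × (Fin N → Fˣ) ≃ (Fin (N + 1) → Fˣ) where
  toFun ax := Fin.cons ax.1 (fun i => ax.1 * ax.2 i)
  invFun y := (y 0, fun i => (y 0)⁻¹ * y i.succ)
  left_inv ax := by
    rcases ax with ⟨a, x⟩
    simp
  right_inv y := by
    funext i
    refine Fin.cases ?_ (fun j => ?_) i
    · simp
    · simp

variable [IsDomain R]

theorem main (N : ℕ) (η : Fin (N + 1) → MulChar F R) (hprod : ∏ i, η i = 1)
    (hnt : ∃ i : Fin N, η i.succ ≠ 1) (Ψ : AddChar F R) (hΨ : Ψ ≠ 1) :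
    ∏ i : Fin (N + 1), (∑ y : F, Ψ y * η i y) = (Fintype.card F : R) *
      ∑ x ∈ (Finset.univ : Finset (Fin N → Fˣ)).filter (fun x => ∑ i, ((x i : Fˣ) : F) = -1),
        ∏ i : Fin N, η i.succ ((x i : Fˣ) : F) := by
  have hprim : Ψ.IsPrimitive := AddChar.IsPrimitive.of_ne_one hΨ
  -- step 1
  have h1 : ∀ i, ∑ y : F, Ψ y * η i y = ∑ u : Fˣ, Ψ (u : F) * η i (u : F) := by
    intro i
    exact sum_units (fun y => Ψ y * η i y) (by simp [MulChar.map_zero])
  simp_rw [h1]
  rw [Finset.prod_univ_sum, Fintype.piFinset_univ]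
  rw [← (reidx (F := F) N).sum_comp]
  -- the summand
  have h2 : ∀ ax : Fˣ × (Fin N → Fˣ),
      ∏ i, Ψ ((reidx N ax i : Fˣ) : F) * η i ((reidx N ax i : Fˣ) : F) =
      Ψ ((ax.1 : F) * (1 + ∑ i, (ax.2 i : F))) * ∏ i : Fin N, η i.succ (ax.2 i : F) := by
    rintro ⟨a, x⟩
    rw [Fin.prod_univ_succ]
    have e0 : reidx N (a, x) 0 = a := rfl
    have es : ∀ i : Fin N, reidx N (a, x) i.succ = a * x i := fun i => rfl
    simp only [e0, es, Units.val_mul, map_mul]
    rw [Finset.prod_mul_distrib, Finset.prod_mul_distrib]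
    have h3 : Ψ ((a : F) * (1 + ∑ i, (x i : F))) = Ψ (a : F) * ∏ i, Ψ ((a : F) * (x i : F)) := by
      rw [mul_add, mul_one, AddChar.map_add_eq_mul, Finset.mul_sum, addChar_sum]
    have h4 : η 0 (a : F) * ∏ i : Fin N, η i.succ (a : F) = 1 := by
      rw [← Fin.prod_univ_succ (fun i => η i (a : F)), ← prod_apply_unit, hprod,
        MulChar.one_apply_coe]
    rw [h3]
    calc Ψ ↑a * η 0 ↑a * ((∏ i, Ψ (↑a * ↑(x i))) * ((∏ i : Fin N, η i.succ ↑a) * ∏ i : Fin N, η i.succ ↑(x i)))
        = (η 0 (a : F) * ∏ i : Fin N, η i.succ (a : F)) *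
          (Ψ ↑a * (∏ i, Ψ (↑a * ↑(x i))) * ∏ i : Fin N, η i.succ ↑(x i)) := by ring
      _ = _ := by rw [h4, one_mul]
  simp_rw [h2]
  rw [Fintype.sum_prod_type, Finset.sum_comm]
  -- inner sum
  have h5 : ∀ x : Fin N → Fˣ, ∑ a : Fˣ, Ψ ((a : F) * (1 + ∑ i, (x i : F))) *
      ∏ i : Fin N, η i.succ (x i : F) =
      (∏ i : Fin N, η i.succ (x i : F)) *
        ((if ∑ i, (x i : F) = -1 then (Fintype.card F : R) else 0) - 1) := by
    intro x
    rw [← Finset.sum_mul, mul_comm]
    congr 1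
    rw [sum_units' (fun a => Ψ (a * (1 + ∑ i, (x i : F)))), AddChar.sum_mulShift _ hprim, zero_mul,
      AddChar.map_zero_eq_one]
    congr 1
    have : (1 + ∑ i, (x i : F) = 0) ↔ (∑ i, (x i : F) = -1) := by
      constructor
      · intro h; linear_combination h
      · intro h; rw [h]; ring
    rw [Nat.cast_ite, Nat.cast_zero]
    simp only [this]
  simp_rw [h5]
  simp_rw [mul_sub, mul_one, mul_ite, mul_zero]
  rw [Finset.sum_sub_distrib, ← Finset.sum_filter]
  -- the second sum vanishes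
  have h6 : ∑ x : Fin N → Fˣ, ∏ i : Fin N, η i.succ (x i : F) = 0 := by
    have := (Finset.prod_univ_sum (fun _ : Fin N => (Finset.univ : Finset Fˣ))
      (fun i u => η i.succ (u : F))).symm
    rw [Fintype.piFinset_univ] at this
    rw [this]
    obtain ⟨i, hi⟩ := hnt
    refine Finset.prod_eq_zero (Finset.mem_univ i) ?_
    rw [← sum_units (fun y => η i.succ y) (by simp [MulChar.map_zero])]
    exact MulChar.sum_eq_zero_of_ne_one hi
  rw [h6, sub_zero, Finset.mul_sum]
  refine Finset.sum_congr rfl fun x _ => ?_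
  ring

end Groth.Agent.Lib.Helper6.GaussJacobi
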