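import Mathlib
import Groth.Agent.Lib.Helper6.ComodOrbit

/-!
# Tensor products of domains over an algebraically closed field (helper6)

`A` a finite type `k`-domain, `k` algebraically closed, `K` any `k`-domain ⟹ `A ⊗ K`, `K ⊗ A` have
no zero divisors.
-/

namespace Groth.Agent.Lib.Helper6.GeomIntegral

universe u

set_option linter.unusedSectionVars false
set_option linter.style.haveILetI false

open TensorProduct Module

variable (k : Type u) [Field k] [IsAlgClosed k] (A : Type u) [CommRing A] [Algebra k A] [IsDomain A]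
  [Algebra.FiniteType k A] (K : Type u) [CommRing K] [IsDomain K] [Algebra k K]

/-- evaluation at a `k`-point of `A`. -/
noncomputable def evalAt (φ : A →ₐ[k] k) : A ⊗[k] K →ₐ[k] K :=
  Algebra.TensorProduct.lift ((Algebra.ofId k K).comp φ) (AlgHom.id k K) (fun _ _ => Commute.all _ _)

lemma evalAt_tmul (φ : A →ₐ[k] k) (a : A) (c : K) : evalAt k A K φ (a ⊗ₜ c) = φ a • c := by
  rw [evalAt, Algebra.TensorProduct.lift_tmul, AlgHom.comp_apply, Algebra.ofId_apply,
    AlgHom.id_apply, Algebra.smul_def]

theorem mul_eq_zero_right (x y : A ⊗[k] K) (hxy : x * y = 0) : x = 0 ∨ y = 0 := by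
  classical
  let bK := Basis.ofVectorSpace k K
  let B : Basis _ A (A ⊗[k] K) := Algebra.TensorProduct.basis A bK
  -- evaluation in coordinates
  have heval : ∀ (φ : A →ₐ[k] k) (z : A ⊗[k] K),
      evalAt k A K φ z = ∑ j ∈ (B.repr z).support, φ (B.repr z j) • (bK j : K) := by
    intro φ z
    conv_lhs => rw [← B.linearCombination_repr z, Finsupp.linearCombination_apply, Finsupp.sum,
      map_sum]
    apply Finset.sum_congr rfl
    intro j _
    rw [Algebra.TensorProduct.basis_repr_symm_apply', evalAt_tmul]
  have hzero : ∀ (φ : A →ₐ[k] k) (z : A ⊗[k] K), evalAt k A K φ z = 0 →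
      ∀ j, φ (B.repr z j) = 0 := by
    intro φ z hz j
    rw [heval] at hz
    by_cases hj : j ∈ (B.repr z).support
    · have := linearIndependent_iff'.1 bK.linearIndependent (B.repr z).support
        (fun j => φ (B.repr z j)) hz j hj
      exact this
    · rw [Finsupp.notMem_support_iff.1 hj, map_zero]
  have hprod : ∀ i j, B.repr x i * B.repr y j = 0 := by
    intro i j
    apply Groth.Agent.Lib.Helper6.ComodOrbit.eq_zero_of_forall_algHom k A
    intro φ
    have h0 : evalAt k A K φ x * evalAt k A K φ y = 0 := by rw [← map_mul, hxy, map_zero]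
    rw [map_mul]
    rcases mul_eq_zero.1 h0 with h | h
    · rw [hzero φ x h i, zero_mul]
    · rw [hzero φ y h j, mul_zero]
  by_cases hx : x = 0
  · exact Or.inl hx
  right
  have : ∃ i, B.repr x i ≠ 0 := by
    by_contra hcon
    push Not at hcon
    apply hx
    apply B.repr.injective
    ext i
    rw [hcon i, map_zero, Finsupp.zero_apply]
  obtain ⟨i, hi⟩ := this
  apply B.repr.injective
  ext j
  rw [map_zero, Finsupp.zero_apply]
  exact (mul_eq_zero.1 (hprod i j)).resolve_left hi

theorem mul_eq_zero_left (x y : K ⊗[k] A) (hxy : x * y = 0) : x = 0 ∨ y = 0 := by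
  let e := Algebra.TensorProduct.comm k K A
  have h : e x * e y = 0 := by rw [← map_mul, hxy, map_zero]
  rcases mul_eq_zero_right k A K (e x) (e y) h with h | h
  · exact Or.inl (e.injective (h.trans (map_zero e).symm))
  · exact Or.inr (e.injective (h.trans (map_zero e).symm))

end Groth.Agent.Lib.Helper6.GeomIntegral
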