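import Mathlib
import Groth.Agent.Lib.Helper6.GeomIrr

set_option autoImplicit false

namespace Groth.Agent.Lib.Helper6.GeomIrr2

open Polynomial TensorProduct IntermediateField

universe u

/-- Irreducibility of the spectrum in terms of minimal primes. -/
theorem irreducibleSpace_iff_existsUnique (A : Type*) [CommRing A] :
    IrreducibleSpace (PrimeSpectrum A) ↔ ∃! p : Ideal A, p ∈ minimalPrimes A := by
  rw [PrimeSpectrum.irreducibleSpace_iff_isPrime_nilradical]
  constructor
  · intro hN
    refine ⟨nilradical A, ⟨⟨hN, bot_le⟩, fun q hq _ => nilradical_le_prime q (H := hq.1)⟩, ?_⟩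
    intro q hq
    have h1 : nilradical A ≤ q := nilradical_le_prime q (H := hq.1.1)
    exact le_antisymm (hq.2 ⟨hN, bot_le⟩ h1) h1
  · rintro ⟨p, hp, huniq⟩
    have h1 : minimalPrimes A = {p} := by
      ext q
      constructor
      · intro hq
        exact huniq q hq
      · rintro rfl
        exact hp
    have h2 : nilradical A = p := by
      have h3 := Ideal.sInf_minimalPrimes (I := (⊥ : Ideal A))
      rw [show (⊥ : Ideal A).minimalPrimes = minimalPrimes A from rfl, h1, sInf_singleton] at h3
      rw [h3]
      rfl
    rw [h2]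
    exact hp.1.1

theorem mem_range_of_isSepClosed {k L : Type*} [Field k] [IsSepClosed k] [Field L] [Algebra k L]
    (α : L) (hα : IsSeparable k α) : α ∈ Set.range (algebraMap k L) := by
  have hint : IsIntegral k α := hα.isIntegral
  have hdeg := IsSepClosed.degree_eq_one_of_irreducible k (minpoly.irreducible hint) hα
  exact minpoly.mem_range_of_degree_eq_one k α hdeg

theorem irreducibleSpace_of_surjective {X Y : Type*} [TopologicalSpace X] [TopologicalSpace Y]
    [IrreducibleSpace X] (f : X → Y) (hf : Continuous f) (hs : Function.Surjective f) :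
    IrreducibleSpace Y := by
  rw [irreducibleSpace_def]
  have := (IrreducibleSpace.isIrreducible_univ X).image f hf.continuousOn
  rwa [Set.image_univ_of_surjective hs] at this

/-- Over a separably closed field, the tensor product of two algebras with irreducible spectrum
has irreducible spectrum. -/
theorem irreducibleSpace_tensor {k R S : Type u} [Field k] [IsSepClosed k] [CommRing R]
    [CommRing S] [Algebra k R] [Algebra k S] [IrreducibleSpace (PrimeSpectrum R)]
    [IrreducibleSpace (PrimeSpectrum S)] : IrreducibleSpace (PrimeSpectrum (R ⊗[k] S)) := by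
  have hN : (nilradical S).IsPrime :=
    PrimeSpectrum.irreducibleSpace_iff_isPrime_nilradical.mp inferInstance
  have hdom : IsDomain (S ⧸ nilradical S) := Ideal.Quotient.isDomain _
  have hL : ∀ (k' : Type u) [Field k'] [Algebra k k'],
      IrreducibleSpace (PrimeSpectrum (k' ⊗[k] FractionRing (S ⧸ nilradical S))) :=
    fun k' _ _ => GeomIrr.irreducibleSpace_of_sepClosedIn
      (fun α hα => mem_range_of_isSepClosed α hα) k'
  have hS' : ∀ (k' : Type u) [Field k'] [Algebra k k'],
      IrreducibleSpace (PrimeSpectrum (k' ⊗[k] (S ⧸ nilradical S))) := by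
    intro k' _ _
    have := hL k'
    exact Groth.Agent.Helper8.irreducibleSpace_primeSpectrum_of_injective
      (Algebra.TensorProduct.map (AlgHom.id k k')
        (IsScalarTower.toAlgHom k (S ⧸ nilradical S) (FractionRing (S ⧸ nilradical S)))).toRingHom
      (Groth.Agent.Helper8.tensorMap_id_injective k' _
        (IsFractionRing.injective (S ⧸ nilradical S) (FractionRing (S ⧸ nilradical S))))
  have h1 : IrreducibleSpace (PrimeSpectrum (R ⊗[k] (S ⧸ nilradical S))) :=
    Groth.Agent.Helper8.irreducibleSpace_tensor k R (S ⧸ nilradical S) hS'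
  have hg : Function.Surjective (Ideal.Quotient.mkₐ k (nilradical S)) :=
    Ideal.Quotient.mkₐ_surjective k _
  have hf : Function.Surjective
      (Algebra.TensorProduct.map (AlgHom.id k R) (Ideal.Quotient.mkₐ k (nilradical S))) :=
    LinearMap.lTensor_surjective R hg
  have hker : RingHom.ker (Algebra.TensorProduct.map (AlgHom.id k R)
      (Ideal.Quotient.mkₐ k (nilradical S))).toRingHom ≤ nilradical (R ⊗[k] S) := by
    have h2 := Algebra.TensorProduct.lTensor_ker (A := R) (Ideal.Quotient.mkₐ k (nilradical S)) hg
    have h3 : RingHom.ker (Algebra.TensorProduct.map (AlgHom.id k R)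
        (Ideal.Quotient.mkₐ k (nilradical S))).toRingHom =
        RingHom.ker (Algebra.TensorProduct.map (AlgHom.id k R)
          (Ideal.Quotient.mkₐ k (nilradical S))) := rfl
    rw [h3, h2, Ideal.map_le_iff_le_comap]
    intro s hs
    have hs' : s ∈ nilradical S := by
      have : Ideal.Quotient.mkₐ k (nilradical S) s = 0 := hs
      rwa [Ideal.Quotient.mkₐ_eq_mk, Ideal.Quotient.eq_zero_iff_mem] at this
    rw [Ideal.mem_comap, mem_nilradical]
    exact (mem_nilradical.mp hs').map _
  have hhomeo := PrimeSpectrum.isHomeomorph_comap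
    (Algebra.TensorProduct.map (AlgHom.id k R) (Ideal.Quotient.mkₐ k (nilradical S))).toRingHom
    (fun x => ⟨1, one_pos, by
      rw [pow_one]
      exact hf x⟩) hker
  exact irreducibleSpace_of_surjective _ hhomeo.continuous hhomeo.surjective

end Groth.Agent.Lib.Helper6.GeomIrr2
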