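import Groth.Agent.Lib.Lead.BL6
import Groth.Agent.Lib.Lead.BL3
import Mathlib

set_option linter.unusedSectionVars false
set_option autoImplicit false
set_option maxHeartbeats 400000

noncomputable section

universe u

namespace Groth.Agent.Lib.Helper6.GlueAlg

open TensorProduct Groth.Agent.Lead.BL

variable {R R' : Type u} [CommRing R] [CommRing R'] [Algebra R R'] {f : R}
variable {A₁ : Type u} [CommRing A₁] [Algebra R A₁]
variable {A' : Type u} [CommRing A'] [Algebra R A'] [Algebra R' A'] [IsScalarTower R R' A']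
variable (φ : Localization.Away (algebraMap R A' f) ≃ₐ[R'] R' ⊗[R] A₁)

/-- The glued algebra as a subalgebra of `A' × A₁`. -/
def glueAlg : Subalgebra R (A' × A₁) where
  carrier := {p | φ (algebraMap A' (Localization.Away (algebraMap R A' f)) p.1) = (1 : R') ⊗ₜ[R] p.2}
  mul_mem' := by
    intro a b ha hb
    simp only [Set.mem_ofPred_eq, Prod.fst_mul, Prod.snd_mul, map_mul] at *
    rw [ha, hb, Algebra.TensorProduct.tmul_mul_tmul, one_mul]
  add_mem' := by
    intro a b ha hb
    simp only [Set.mem_ofPred_eq, Prod.fst_add, Prod.snd_add, map_add, tmul_add] at *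
    rw [ha, hb]
  algebraMap_mem' := by
    intro r
    simp only [Set.mem_ofPred_eq, Prod.algebraMap_apply]
    rw [← IsScalarTower.algebraMap_apply R A' (Localization.Away (algebraMap R A' f)),
      IsScalarTower.algebraMap_apply R R' (Localization.Away (algebraMap R A' f)), φ.commutes,
      Algebra.TensorProduct.algebraMap_apply, Algebra.algebraMap_self, RingHom.id_apply,
      Algebra.algebraMap_eq_smul_one, Algebra.algebraMap_eq_smul_one (A := A₁), TensorProduct.smul_tmul]

theorem mem_glueAlg (p : A' × A₁) : p ∈ glueAlg φ ↔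
    φ (algebraMap A' (Localization.Away (algebraMap R A' f)) p.1) = (1 : R') ⊗ₜ[R] p.2 := Iff.rfl

/-- the ring localization `A'_f` is the module localization of `A'` at powers of `f ∈ R'`. -/
theorem isLocMod : IsLocalizedModule (Submonoid.powers (algebraMap R R' f))
    (IsScalarTower.toAlgHom R' A' (Localization.Away (algebraMap R A' f))).toLinearMap := by
  haveI : IsLocalization (Algebra.algebraMapSubmonoid A' (Submonoid.powers (algebraMap R R' f)))
      (Localization.Away (algebraMap R A' f)) := by
    have : Algebra.algebraMapSubmonoid A' (Submonoid.powers (algebraMap R R' f)) =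
        Submonoid.powers (algebraMap R A' f) := by
      rw [Algebra.algebraMapSubmonoid, Submonoid.map_powers,
        ← IsScalarTower.algebraMap_apply R R' A']
    rw [this]
    infer_instance
  exact isLocalizedModule_iff_isLocalization.mpr inferInstance

/-- the identification `(A')_f ≃ A'_f` of module and ring localizations -/
def psi : LocalizedModule (Submonoid.powers (algebraMap R R' f)) A' ≃ₗ[R']
    Localization.Away (algebraMap R A' f) :=
  haveI := isLocMod (R := R) (R' := R') (f := f) (A' := A')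
  IsLocalizedModule.iso (Submonoid.powers (algebraMap R R' f))
    (IsScalarTower.toAlgHom R' A' (Localization.Away (algebraMap R A' f))).toLinearMap

theorem psi_ell (x : A') :
    psi (R := R) (R' := R') (f := f) (ell f A' x) =
      algebraMap A' (Localization.Away (algebraMap R A' f)) x := by
  haveI := isLocMod (R := R) (R' := R') (f := f) (A' := A')
  unfold psi ell
  rw [LocalizedModule.mkLinearMap_apply, IsLocalizedModule.iso_mk_one]
  rfl

/-- the module-level glueing datum -/
def alpha : LocalizedModule (Submonoid.powers (algebraMap R R' f)) A' ≃ₗ[R'] R' ⊗[R] A₁ :=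
  psi ≪≫ₗ φ.toLinearEquiv

theorem alpha_ell (x : A') :
    alpha φ (ell f A' x) = φ (algebraMap A' (Localization.Away (algebraMap R A' f)) x) := by
  unfold alpha
  rw [LinearEquiv.trans_apply, psi_ell]
  rfl

theorem toSubmodule_glueAlg : Subalgebra.toSubmodule (glueAlg φ) = glueSub (alpha φ) := by
  ext p
  rw [Subalgebra.mem_toSubmodule, mem_glueAlg, mem_glueSub, alpha_ell]

/-- linear identification of the glued algebra with the glued module -/
def eLin : glueAlg φ ≃ₗ[R] glueSub (alpha φ) :=
  (Subalgebra.toSubmoduleEquiv (glueAlg φ)).symm ≪≫ₗ LinearEquiv.ofEq _ _ (toSubmodule_glueAlg φ)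

theorem eLin_coe (a : glueAlg φ) : ((eLin φ a : glueSub (alpha φ)) : A' × A₁) = (a : A' × A₁) := rfl

/-- first projection, as an algebra map -/
def p1 : glueAlg φ →ₐ[R] A' := (AlgHom.fst R A' A₁).comp (glueAlg φ).val

/-- second projection, as an algebra map -/
def p2 : glueAlg φ →ₐ[R] A₁ := (AlgHom.snd R A' A₁).comp (glueAlg φ).val

theorem p1_eq (a : glueAlg φ) : p1 φ a = pr1 (alpha φ) (eLin φ a) := rfl

theorem p2_eq (a : glueAlg φ) : p2 φ a = pr2 (alpha φ) (eLin φ a) := rfl

theorem phi_p1 (a : glueAlg φ) :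
    φ (algebraMap A' (Localization.Away (algebraMap R A' f)) (p1 φ a)) = (1 : R') ⊗ₜ[R] p2 φ a :=
  a.2

/-- the comparison algebra map `R' ⊗ A → A'` -/
def EE : R' ⊗[R] glueAlg φ →ₐ[R'] A' :=
  Algebra.TensorProduct.lift (Algebra.ofId R' A') (p1 φ) (fun _ _ => Commute.all _ _)

theorem EE_tmul (r' : R') (a : glueAlg φ) : EE φ (r' ⊗ₜ[R] a) = r' • p1 φ a := by
  unfold EE
  rw [Algebra.TensorProduct.lift_tmul, Algebra.ofId_apply, Algebra.smul_def]

theorem EE_eq (w : R' ⊗[R] glueAlg φ) :
    EE φ w = ePrime (alpha φ) (LinearMap.lTensor R' (eLin φ).toLinearMap w) := by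
  induction w using TensorProduct.induction_on with
  | zero => simp
  | tmul r' a =>
    rw [EE_tmul, LinearMap.lTensor_tmul]
    unfold ePrime
    rw [LinearMap.liftBaseChange_tmul]
    rfl
  | add x y hx hy => rw [map_add, map_add, map_add, hx, hy]

variable (h₁ : IsUnit (algebraMap R A₁ f)) (hRR : EtGlue.IsGlueingPair R R' f)

include h₁ in
theorem hf_bij : Function.Bijective fun x : A₁ => f • x := by
  obtain ⟨u, hu⟩ := h₁
  constructor
  · intro x y hxy
    simp only [Algebra.smul_def, ← hu] at hxy
    exact u.isUnit.mul_right_injective hxy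
  · intro y
    refine ⟨↑u⁻¹ * y, ?_⟩
    simp only [Algebra.smul_def, ← hu]
    rw [← mul_assoc, Units.mul_inv, one_mul]

include h₁ hRR in
theorem EE_bijective : Function.Bijective (EE φ) := by
  have hb : Function.Bijective (ePrime (alpha φ)) :=
    ⟨ePrime_injective (alpha φ) (hf_bij h₁) hRR, ePrime_surjective (alpha φ) (hf_bij h₁) hRR⟩
  have hl : Function.Bijective (LinearMap.lTensor R' (eLin φ).toLinearMap) :=
    (LinearEquiv.lTensor R' (eLin φ)).bijective
  have : (EE φ : R' ⊗[R] glueAlg φ → A') =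
      ePrime (alpha φ) ∘ (LinearMap.lTensor R' (eLin φ).toLinearMap) := by
    funext w
    exact EE_eq φ w
  rw [this]
  exact hb.comp hl

include h₁ hRR in
theorem glueAlg_glueable : EtGlue.IsGlueable R R' f (glueAlg φ) := by
  rw [gp_glueable_iff hRR]
  intro a ha h1
  obtain ⟨n, hn⟩ := ha
  have h2 : p1 φ a = 0 := by
    have : EE φ ((1 : R') ⊗ₜ[R] a) = p1 φ a := by rw [EE_tmul, one_smul]
    rw [← this, h1, map_zero]
  have h3 : eLin φ a = 0 := by
    apply tors_glueSub (alpha φ) (hf_bij h₁) (eLin φ a) ⟨n, ?_⟩ ?_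
    · rw [← map_smul, hn, map_zero]
    · rw [← p1_eq, h2]
  exact (eLin φ).injective (h3.trans (map_zero _).symm)

/-- `A₁` as an algebra over the glued algebra. -/
@[reducible] def algP2 : Algebra (glueAlg φ) A₁ := (p2 φ).toRingHom.toAlgebra

theorem towerP2 :
    letI := algP2 φ
    IsScalarTower R (glueAlg φ) A₁ := by
  letI := algP2 φ
  exact IsScalarTower.of_algebraMap_eq fun r => ((p2 φ).commutes r).symm

include h₁ in
theorem isLocalization_p2 :
    letI := algP2 φ
    IsLocalization.Away (algebraMap R (glueAlg φ) f) A₁ := by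
  letI := algP2 φ
  haveI := towerP2 φ
  haveI h0 : IsLocalizedModule (Submonoid.powers f) (pr2 (alpha φ)) :=
    isLocalizedModule_pr2 (alpha φ) (hf_bij h₁)
  have h1 : IsLocalizedModule (Submonoid.powers f)
      (pr2 (alpha φ) ∘ₗ (eLin φ).toLinearMap) := inferInstance
  have h2 : (IsScalarTower.toAlgHom R (glueAlg φ) A₁).toLinearMap =
      pr2 (alpha φ) ∘ₗ (eLin φ).toLinearMap := by
    ext a
    rfl
  rw [← h2] at h1
  have h3 := isLocalizedModule_iff_isLocalization.mp h1
  have h4 : Algebra.algebraMapSubmonoid (glueAlg φ) (Submonoid.powers f) =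
      Submonoid.powers (algebraMap R (glueAlg φ) f) := by
    rw [Algebra.algebraMapSubmonoid, Submonoid.map_powers]
  rw [h4] at h3
  exact h3

/-- the isomorphism `A_f ≃ A₁` -/
def e1 (h₁ : IsUnit (algebraMap R A₁ f)) :
    Localization.Away (algebraMap R (glueAlg φ) f) ≃ₐ[R] A₁ :=
  letI := algP2 φ
  haveI := towerP2 φ
  haveI := isLocalization_p2 φ h₁
  (IsLocalization.algEquiv (Submonoid.powers (algebraMap R (glueAlg φ) f))
    (Localization.Away (algebraMap R (glueAlg φ) f)) A₁).restrictScalars R

theorem e1_algebraMap (a : glueAlg φ) :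
    e1 φ h₁ (algebraMap (glueAlg φ) (Localization.Away (algebraMap R (glueAlg φ) f)) a) =
      p2 φ a := by
  letI := algP2 φ
  haveI := towerP2 φ
  haveI := isLocalization_p2 φ h₁
  unfold e1
  rw [AlgEquiv.restrictScalars_apply, AlgEquiv.commutes]
  rfl

include h₁ hRR in
theorem main :
    ∃ (A : Type u) (_ : CommRing A) (_ : Algebra R A) (_ : EtGlue.IsGlueable R R' f A)
      (e₁ : Localization.Away (algebraMap R A f) ≃ₐ[R] A₁) (e' : R' ⊗[R] A ≃ₐ[R'] A'),
      ∀ a : A, φ (algebraMap A' (Localization.Away (algebraMap R A' f)) (e' ((1 : R') ⊗ₜ[R] a))) =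
        (1 : R') ⊗ₜ[R] e₁ (algebraMap A (Localization.Away (algebraMap R A f)) a) := by
  refine ⟨glueAlg φ, inferInstance, inferInstance, glueAlg_glueable φ h₁ hRR, e1 φ h₁,
    AlgEquiv.ofBijective (EE φ) (EE_bijective φ h₁ hRR), ?_⟩
  intro a
  rw [e1_algebraMap, AlgEquiv.ofBijective_apply, EE_tmul, one_smul]
  exact phi_p1 φ a

end Groth.Agent.Lib.Helper6.GlueAlg
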