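import Mathlib

/-! Gluing idempotents on a quasi-affine open: helper for S9303. -/

namespace Groth.Agent.Lib.Helper6.GlueIdem
open IsLocalization
set_option linter.unusedSectionVars false
set_option linter.unusedVariables false

section general
variable {A : Type*} [CommRing A] (f : A) (Af : Type*) [CommRing Af] [Algebra A Af]
  [IsLocalization.Away f Af]
  {B : Type*} [CommRing B] [Algebra A B] (Bf : Type*) [CommRing Bf] [Algebra B Bf]
  [IsLocalization (Algebra.algebraMapSubmonoid B (Submonoid.powers f)) Bf]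
  [Algebra Af Bf] [Algebra A Bf] [IsScalarTower A Af Bf] [IsScalarTower A B Bf]

omit [IsLocalization.Away f Af] in
lemma dummy : True := trivial

lemma away_eq_zero_iff (a : A) : algebraMap A Af a = 0 ↔ ∃ n : ℕ, f ^ n * a = 0 := by
  rw [IsLocalization.map_eq_zero_iff (Submonoid.powers f)]
  constructor
  · rintro ⟨⟨_, n, rfl⟩, h⟩; exact ⟨n, h⟩
  · rintro ⟨n, h⟩; exact ⟨⟨_, n, rfl⟩, h⟩

lemma algB_eq_zero_iff (b : B) : algebraMap B Bf b = 0 ↔ ∃ n : ℕ, f ^ n • b = 0 := by
  rw [IsLocalization.map_eq_zero_iff (Algebra.algebraMapSubmonoid B (Submonoid.powers f))]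
  constructor
  · rintro ⟨⟨_, _, ⟨n, rfl⟩, rfl⟩, h⟩
    exact ⟨n, by rw [Algebra.smul_def]; exact h⟩
  · rintro ⟨n, h⟩
    exact ⟨⟨_, _, ⟨n, rfl⟩, rfl⟩, by rw [Algebra.smul_def] at h; exact h⟩

lemma exists_rep (x : Af) : ∃ (a : A) (n : ℕ), algebraMap A Af (f ^ n) * x = algebraMap A Af a := by
  obtain ⟨⟨a, ⟨_, n, rfl⟩⟩, h⟩ := IsLocalization.surj (Submonoid.powers f) x
  exact ⟨a, n, by rw [mul_comm]; exact h⟩

lemma isUnit_f (n : ℕ) : IsUnit (algebraMap A Af (f ^ n)) :=
  IsLocalization.map_units Af (⟨f ^ n, n, rfl⟩ : Submonoid.powers f)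

theorem loc_bij (hinj : ∀ a : A, algebraMap A B a = 0 → ∃ n : ℕ, f ^ n * a = 0)
    (hsurj : ∀ b : B, ∃ (n : ℕ) (a : A), f ^ n • b = algebraMap A B a) :
    Function.Bijective (algebraMap Af Bf) := by
  constructor
  · rw [injective_iff_map_eq_zero]
    intro x hx
    obtain ⟨a, n, hxa⟩ := exists_rep f Af x
    have h1 : algebraMap A Bf a = 0 := by
      rw [IsScalarTower.algebraMap_apply A Af Bf, ← hxa, map_mul, hx, mul_zero]
    rw [IsScalarTower.algebraMap_apply A B Bf, algB_eq_zero_iff f Bf] at h1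
    obtain ⟨m, hm⟩ := h1
    rw [Algebra.smul_def, ← map_mul] at hm
    obtain ⟨k, hk⟩ := hinj _ hm
    have h2 : algebraMap A Af a = 0 := by
      rw [away_eq_zero_iff f Af]
      exact ⟨k + m, by rw [pow_add, mul_assoc]; exact hk⟩
    rw [h2] at hxa
    exact ((isUnit_f f Af n).mul_right_eq_zero).mp hxa
  · intro y
    obtain ⟨⟨b, ⟨_, _, ⟨k, rfl⟩, rfl⟩⟩, h⟩ :=
      IsLocalization.surj (Algebra.algebraMapSubmonoid B (Submonoid.powers f)) y
    obtain ⟨n, a, hna⟩ := hsurj b
    obtain ⟨u, hu⟩ := isUnit_f f Af (n + k)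
    refine ⟨(↑u⁻¹ : Af) * algebraMap A Af a, ?_⟩
    have hu' : algebraMap Af Bf (↑u⁻¹ : Af) * algebraMap A Bf (f ^ (n + k)) = 1 := by
      rw [IsScalarTower.algebraMap_apply A Af Bf, ← map_mul, ← hu, Units.inv_mul, map_one]
    have h3 : algebraMap A Bf (f ^ (n + k)) * y = algebraMap A Bf a := by
      rw [IsScalarTower.algebraMap_apply A B Bf a, ← hna, Algebra.smul_def, map_mul, ← h,
        IsScalarTower.algebraMap_apply A B Bf, pow_add, map_mul, map_mul]
      simp only
      ring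
    rw [map_mul, ← IsScalarTower.algebraMap_apply A Af Bf, ← h3, ← mul_assoc, hu', one_mul]

end general

section idem
variable {A : Type*} [CommRing A] (f : A) (Af : Type*) [CommRing Af] [Algebra A Af]
  [IsLocalization.Away f Af]
  {C : Type*} [CommRing C] [Algebra A C] (Cf : Type*) [CommRing Cf] [Algebra C Cf]
  [IsLocalization (Algebra.algebraMapSubmonoid C (Submonoid.powers f)) Cf]
  [Algebra Af Cf] [Algebra A Cf] [IsScalarTower A Af Cf] [IsScalarTower A C Cf]
  (e : Af) (he : IsIdempotentElem e) [IsLocalization.Away e Cf]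

set_option linter.unusedSectionVars false

include he in
lemma map_e : algebraMap Af Cf e = 1 := by
  have hu : IsUnit (algebraMap Af Cf e) :=
    IsLocalization.map_units Cf (⟨e, 1, pow_one e⟩ : Submonoid.powers e)
  have hi : IsIdempotentElem (algebraMap Af Cf e) := he.map (algebraMap Af Cf)
  exact (IsIdempotentElem.iff_eq_one_of_isUnit hu).mp hi

include he in
lemma e_mul_of_map_eq_zero (x : Af) (hx : algebraMap Af Cf x = 0) : e * x = 0 := by
  rw [IsLocalization.map_eq_zero_iff (Submonoid.powers e)] at hx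
  obtain ⟨⟨_, n, rfl⟩, h⟩ := hx
  cases n with
  | zero => simp only [pow_zero, one_mul] at h; rw [h, mul_zero]
  | succ n => simp only at h; rwa [he.pow_succ_eq] at h

include he in
lemma map_surj (y : Cf) : ∃ x : Af, algebraMap Af Cf x = y := by
  obtain ⟨⟨x, ⟨_, n, rfl⟩⟩, h⟩ := IsLocalization.surj (Submonoid.powers e) y
  refine ⟨x, ?_⟩
  simp only at h
  rw [← h, map_pow, map_e Af Cf e he, one_pow, mul_one]

include he Cf in
lemma e_mul_of_mem_ker (a : A) (ha : algebraMap A C a = 0) : e * algebraMap A Af a = 0 := by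
  apply e_mul_of_map_eq_zero Af Cf e he
  rw [← IsScalarTower.algebraMap_apply A Af Cf, IsScalarTower.algebraMap_apply A C Cf, ha, map_zero]

lemma away_eq_zero_iff' (a : A) : algebraMap A Af a = 0 ↔ ∃ n : ℕ, f ^ n * a = 0 := by
  rw [IsLocalization.map_eq_zero_iff (Submonoid.powers f)]
  constructor
  · rintro ⟨⟨_, n, rfl⟩, h⟩; exact ⟨n, h⟩
  · rintro ⟨n, h⟩; exact ⟨⟨_, n, rfl⟩, h⟩

lemma algC_eq_zero_iff (b : C) : algebraMap C Cf b = 0 ↔ ∃ n : ℕ, f ^ n • b = 0 := by
  rw [IsLocalization.map_eq_zero_iff (Algebra.algebraMapSubmonoid C (Submonoid.powers f))]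
  constructor
  · rintro ⟨⟨_, _, ⟨n, rfl⟩, rfl⟩, h⟩
    exact ⟨n, by rw [Algebra.smul_def]; exact h⟩
  · rintro ⟨n, h⟩
    exact ⟨⟨_, _, ⟨n, rfl⟩, rfl⟩, by rw [Algebra.smul_def] at h; exact h⟩

lemma exists_rep' (x : Af) :
    ∃ (a : A) (n : ℕ), algebraMap A Af (f ^ n) * x = algebraMap A Af a := by
  obtain ⟨⟨a, ⟨_, n, rfl⟩⟩, h⟩ := IsLocalization.surj (Submonoid.powers f) x
  exact ⟨a, n, by rw [mul_comm]; exact h⟩

include he Cf in
lemma exists_one_sub : ∃ (j : A) (k : ℕ), algebraMap A C j = 0 ∧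
    algebraMap A Af (f ^ k) * (1 - e) = algebraMap A Af j := by
  obtain ⟨b, k, hb⟩ := exists_rep' f Af (1 - e)
  have h1 : algebraMap C Cf (algebraMap A C b) = 0 := by
    rw [← IsScalarTower.algebraMap_apply A C Cf, IsScalarTower.algebraMap_apply A Af Cf, ← hb,
      map_mul, map_sub, map_one, map_e Af Cf e he, sub_self, mul_zero]
  rw [algC_eq_zero_iff f Cf] at h1
  obtain ⟨n, hn⟩ := h1
  refine ⟨f ^ n * b, n + k, ?_, ?_⟩
  · rw [map_mul, ← Algebra.smul_def]; exact hn
  · rw [pow_add, map_mul, map_mul, mul_assoc, hb]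

include he Cf in
lemma exists_local_unit : ∃ (j0 : A) (k : ℕ), algebraMap A C j0 = 0 ∧
    ∀ j : A, algebraMap A C j = 0 → ∃ k' : ℕ, f ^ k' * (f ^ k * j - j0 * j) = 0 := by
  obtain ⟨j0, k, hj0, h⟩ := exists_one_sub (C := C) f Af Cf e he
  refine ⟨j0, k, hj0, fun j hj => ?_⟩
  have h1 := e_mul_of_mem_ker Af Cf e he j hj
  rw [← away_eq_zero_iff' f Af, map_sub, map_mul, map_mul, ← h]
  have : algebraMap A Af j = (1 - e) * algebraMap A Af j := by rw [sub_mul, h1, one_mul, sub_zero]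
  rw [mul_assoc, ← this, sub_self]

end idem

section main
universe u
variable {A : Type u} [CommRing A] (I : Ideal A) (C : Type u) [CommRing C] [Algebra A C]

/-- the ideal cutting out the complementary open-closed piece -/
def K : Ideal A where
  carrier := {a | ∀ f ∈ I, ∀ j : A, algebraMap A C j = 0 → ∃ n : ℕ, f ^ n * (a * j) = 0}
  zero_mem' := fun f _ j _ => ⟨0, by simp⟩
  add_mem' := by
    intro a b ha hb f hf j hj
    obtain ⟨n, hn⟩ := ha f hf j hj
    obtain ⟨m, hm⟩ := hb f hf j hj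
    refine ⟨n + m, ?_⟩
    have : f ^ (n + m) * ((a + b) * j) = f ^ m * (f ^ n * (a * j)) + f ^ n * (f ^ m * (b * j)) := by
      ring
    rw [this, hn, hm, mul_zero, mul_zero, add_zero]
  smul_mem' := by
    intro c a ha f hf j hj
    obtain ⟨n, hn⟩ := ha f hf j hj
    refine ⟨n, ?_⟩
    have : f ^ n * (c • a * j) = c * (f ^ n * (a * j)) := by rw [smul_eq_mul]; ring
    rw [this, hn, mul_zero]

lemma mem_K {a : A} : a ∈ K I C ↔
    ∀ f ∈ I, ∀ j : A, algebraMap A C j = 0 → ∃ n : ℕ, f ^ n * (a * j) = 0 := Iff.rfl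

variable {I C}

/-- nilpotence-type conditions are checked on generators -/
lemma exists_pow_mul_eq_zero_of_span {s : Set A} (hs : I = Ideal.span s) (x : A)
    (h : ∀ g ∈ s, ∃ n : ℕ, g ^ n * x = 0) : ∀ g ∈ I, ∃ n : ℕ, g ^ n * x = 0 := by
  have hle : I ≤ (Submodule.span A {x}).annihilator.radical := by
    rw [hs, Ideal.span_le]
    intro g hg
    obtain ⟨n, hn⟩ := h g hg
    exact ⟨n, by rw [Submodule.mem_annihilator_span_singleton, smul_eq_mul]; exact hn⟩
  intro g hg
  obtain ⟨n, hn⟩ := hle hg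
  exact ⟨n, by rwa [Submodule.mem_annihilator_span_singleton, smul_eq_mul] at hn⟩

abbrev Cf (C : Type u) [CommRing C] [Algebra A C] (f : A) : Type u :=
  Localization (Algebra.algebraMapSubmonoid C (Submonoid.powers f))

variable (h : ∀ f ∈ I, ∃ e : Localization.Away f, IsIdempotentElem e ∧
      IsLocalization.Away e (Cf C f))

include h in
lemma key (s : Finset A) (hs : I = Ideal.span (s : Set A)) (f : A) (hf : f ∈ I)
    (e : Localization.Away f) (he : IsIdempotentElem e) [IsLocalization.Away e (Cf C f)]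
    (w : A) (z : Localization.Away f) (hw : algebraMap A (Localization.Away f) w = e * z) :
    ∃ m : ℕ, f ^ m * w ∈ K I C := by
  have h1 : ∀ g ∈ s, ∃ (j0 : A) (k : ℕ), algebraMap A C j0 = 0 ∧
      ∀ j : A, algebraMap A C j = 0 → ∃ k' : ℕ, g ^ k' * (g ^ k * j - j0 * j) = 0 := by
    intro g hg
    have hgI : g ∈ I := hs ▸ Ideal.subset_span hg
    obtain ⟨eg, heg, hloc⟩ := h g hgI
    exact exists_local_unit (C := C) g (Localization.Away g) (Cf C g) eg heg
  choose! j0 k0 hj0 hprop using h1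
  have h2 : ∀ g ∈ s, ∃ m : ℕ, f ^ m * (w * j0 g) = 0 := by
    intro g hg
    rw [← away_eq_zero_iff' f (Localization.Away f), map_mul, hw, mul_comm e z, mul_assoc,
      e_mul_of_mem_ker (Localization.Away f) (Cf C f) e he _ (hj0 g hg), mul_zero]
  choose! m0 hm0 using h2
  refine ⟨∑ g ∈ s, m0 g, ?_⟩
  rw [mem_K]
  intro g' hg' j hj
  apply exists_pow_mul_eq_zero_of_span hs _ _ g' hg'
  intro g hg
  obtain ⟨k', hk'⟩ := hprop g hg j hj
  refine ⟨k' + k0 g, ?_⟩
  have hle : m0 g ≤ ∑ g ∈ s, m0 g := Finset.single_le_sum (fun _ _ => Nat.zero_le _) hg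
  obtain ⟨d, hd⟩ := Nat.exists_eq_add_of_le hle
  have e1 : g ^ (k' + k0 g) * (f ^ (∑ g ∈ s, m0 g) * w * j) =
      f ^ (∑ g ∈ s, m0 g) * w * (g ^ k' * (g ^ k0 g * j - j0 g * j))
        + g ^ k' * j * f ^ d * (f ^ m0 g * (w * j0 g)) := by
    rw [hd]; ring
  rw [e1, hk', hm0 g hg, mul_zero, mul_zero, add_zero]

include h in
lemma claimA (f : A) (hf : f ∈ I) (a : A) (haC : algebraMap A C a = 0) (haK : a ∈ K I C) :
    ∃ n : ℕ, f ^ n * a = 0 := by
  obtain ⟨e, he, hloc⟩ := h f hf
  obtain ⟨j0, k, hj0, hk⟩ := exists_one_sub (C := C) f (Localization.Away f) (Cf C f) e he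
  obtain ⟨n, hn⟩ := haK f hf j0 hj0
  have h1 : algebraMap A (Localization.Away f) (a * j0) = 0 :=
    (away_eq_zero_iff' f _ _).mpr ⟨n, hn⟩
  have h2 := e_mul_of_mem_ker (Localization.Away f) (Cf C f) e he a haC
  have h3 : algebraMap A (Localization.Away f) (f ^ k * a) = 0 := by
    rw [map_mul] at h1 ⊢
    have : algebraMap A (Localization.Away f) (f ^ k) * algebraMap A (Localization.Away f) a
        = algebraMap A (Localization.Away f) (f ^ k) * (e * algebraMap A (Localization.Away f) a)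
          + algebraMap A (Localization.Away f) a
            * (algebraMap A (Localization.Away f) (f ^ k) * (1 - e)) := by ring
    rw [this, h2, hk, h1, mul_zero, zero_add]
  obtain ⟨m, hm⟩ := (away_eq_zero_iff' f _ _).mp h3
  exact ⟨m + k, by rw [pow_add, mul_assoc]; exact hm⟩

include h in
lemma claimB (s : Finset A) (hs : I = Ideal.span (s : Set A)) (f : A) (hf : f ∈ I) (c : C)
    (a : A) : ∃ (n : ℕ) (a' : A), f ^ n • c = algebraMap A C a' ∧ f ^ n * a - a' ∈ K I C := by
  obtain ⟨e, he, hloc⟩ := h f hf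
  obtain ⟨x, hx⟩ := map_surj (Localization.Away f) (Cf C f) e he (algebraMap C (Cf C f) c)
  obtain ⟨a'', n, hy⟩ := exists_rep' f (Localization.Away f)
    (e * x + (1 - e) * algebraMap A (Localization.Away f) a)
  have h1 : algebraMap C (Cf C f) (algebraMap A C a'' - f ^ n • c) = 0 := by
    rw [map_sub, ← IsScalarTower.algebraMap_apply A C (Cf C f),
      IsScalarTower.algebraMap_apply A (Localization.Away f) (Cf C f), ← hy, map_mul, map_add,
      map_mul, map_mul, map_sub, map_one, map_e _ _ e he, sub_self, zero_mul, add_zero, one_mul,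
      hx, Algebra.smul_def, map_mul, ← IsScalarTower.algebraMap_apply A C (Cf C f),
      IsScalarTower.algebraMap_apply A (Localization.Away f) (Cf C f), sub_self]
  obtain ⟨m, hm⟩ := (algC_eq_zero_iff f (Cf C f) _).mp h1
  have h2 : algebraMap A (Localization.Away f) (a'' - f ^ n * a) =
      e * (algebraMap A (Localization.Away f) (f ^ n)
        * (x - algebraMap A (Localization.Away f) a)) := by
    rw [map_sub, ← hy, map_mul]; ring
  obtain ⟨m', hm'⟩ := key h s hs f hf e he _ _ h2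
  refine ⟨m + m' + n, f ^ (m + m') * a'', ?_, ?_⟩
  · rw [smul_sub, sub_eq_zero] at hm
    have e1 : f ^ (m + m' + n) • c = f ^ m' • (f ^ m • (f ^ n • c)) := by
      rw [smul_smul, smul_smul]; congr 1; ring
    rw [e1, ← hm, map_mul, Algebra.smul_def, Algebra.smul_def, pow_add, map_mul]
    ring
  · have : f ^ (m + m' + n) * a - f ^ (m + m') * a'' =
        - (f ^ m * (f ^ m' * (a'' - f ^ n * a))) := by ring
    rw [this]
    exact neg_mem (Ideal.mul_mem_left _ _ hm')

include h in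
theorem main (hI : I.FG) : ∃ K : Ideal A, ∀ f ∈ I, Function.Bijective
      (algebraMap (Localization.Away f)
        (Localization (Algebra.algebraMapSubmonoid (C × (A ⧸ K)) (Submonoid.powers f)))) := by
  obtain ⟨s, hs⟩ := hI
  refine ⟨K I C, fun f hf => ?_⟩
  apply loc_bij (B := C × (A ⧸ K I C)) f (Localization.Away f)
    (Localization (Algebra.algebraMapSubmonoid (C × (A ⧸ K I C)) (Submonoid.powers f)))
  · intro a ha
    rw [Prod.algebraMap_apply] at ha
    have h1 := congrArg Prod.fst ha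
    have h2 := congrArg Prod.snd ha
    simp only [Prod.fst_zero, Prod.snd_zero] at h1 h2
    exact claimA h f hf a h1 (Ideal.Quotient.eq_zero_iff_mem.mp h2)
  · rintro ⟨c, q⟩
    obtain ⟨a, rfl⟩ := Ideal.Quotient.mk_surjective q
    obtain ⟨n, a', h1, h2⟩ := claimB h s hs.symm f hf c a
    refine ⟨n, a', ?_⟩
    rw [Prod.algebraMap_apply, Prod.smul_mk, h1]
    congr 1
    rw [Ideal.Quotient.algebraMap_eq, Algebra.smul_def, Ideal.Quotient.algebraMap_eq, ← map_mul]
    exact Ideal.Quotient.eq.mpr h2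

end main
end Groth.Agent.Lib.Helper6.GlueIdem
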