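import Groth.Agent.Lib.Lead.BL1

set_option linter.unusedSectionVars false
set_option autoImplicit false
set_option maxHeartbeats 400000

noncomputable section

universe u

namespace Groth.Agent.Lib.Helper6.GluePair

open TensorProduct

variable {R R' : Type u} [CommRing R] [CommRing R'] [Algebra R R'] {f : R}

/-- A submodule `N` of `B` such that `B / N` is `f`-power torsion and `R' ⊗ (B / N) = 0` is
everything. -/
theorem eq_top_of_local (hq : EtGlue.QuotPowBijective R R' f) {B : Type u} [AddCommGroup B]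
    [Module R B] (N : Submodule R B) (h1 : ∀ b : B, ∃ n : ℕ, f ^ n • b ∈ N)
    (h2 : ∀ y : R' ⊗[R] B, LinearMap.lTensor R' N.mkQ y = 0) : N = ⊤ := by
  have htors : ∀ c : B ⧸ N, ∃ n : ℕ, f ^ n • c = 0 := by
    intro c
    obtain ⟨b, rfl⟩ := Submodule.Quotient.mk_surjective _ c
    obtain ⟨n, hn⟩ := h1 b
    exact ⟨n, by rw [← Submodule.Quotient.mk_smul, Submodule.Quotient.mk_eq_zero]; exact hn⟩
  rw [eq_top_iff]
  intro b _
  have hb : (1 : R') ⊗ₜ[R] (Submodule.Quotient.mk b : B ⧸ N) = (1 : R') ⊗ₜ[R] (0 : B ⧸ N) := by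
    have := h2 ((1 : R') ⊗ₜ[R] b)
    rw [LinearMap.lTensor_tmul] at this
    rw [TensorProduct.tmul_zero]
    exact this
  have h0 := (Groth.Agent.Lead.BL.tors_bijective hq htors).1 hb
  rwa [Submodule.Quotient.mk_eq_zero] at h0

variable {A B : Type u} [CommRing A] [Algebra R A] [CommRing B] [Algebra R B]

/-- If `y ∈ R' ⊗ B` lies in the range of `R' ⊗ B₀ → R' ⊗ B` for an `R`-subalgebra `B₀`, then it
dies in `R' ⊗ (B / B₀)`. -/
theorem lTensor_mkQ_eq_zero_of_mem_range (B₀ : Subalgebra R B) (y : R' ⊗[R] B)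
    (hy : y ∈ (Algebra.TensorProduct.map (AlgHom.id R R') B₀.val).range) :
    LinearMap.lTensor R' (Subalgebra.toSubmodule B₀).mkQ y = 0 := by
  obtain ⟨x, rfl⟩ := hy
  induction x using TensorProduct.induction_on with
  | zero => simp
  | tmul r' b =>
    change LinearMap.lTensor R' (Subalgebra.toSubmodule B₀).mkQ
      ((Algebra.TensorProduct.map (AlgHom.id R R') B₀.val) (r' ⊗ₜ[R] b)) = 0
    rw [Algebra.TensorProduct.map_tmul, LinearMap.lTensor_tmul]
    have : (Subalgebra.toSubmodule B₀).mkQ (B₀.val b) = 0 := by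
      rw [Submodule.mkQ_apply, Submodule.Quotient.mk_eq_zero]
      exact b.2
    rw [this, TensorProduct.tmul_zero]
  | add x y hx hy =>
    change LinearMap.lTensor R' (Subalgebra.toSubmodule B₀).mkQ
      ((Algebra.TensorProduct.map (AlgHom.id R R') B₀.val) (x + y)) = 0
    rw [map_add, map_add]
    change LinearMap.lTensor R' (Subalgebra.toSubmodule B₀).mkQ
      ((Algebra.TensorProduct.map (AlgHom.id R R') B₀.val).toRingHom x) +
      LinearMap.lTensor R' (Subalgebra.toSubmodule B₀).mkQ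
      ((Algebra.TensorProduct.map (AlgHom.id R R') B₀.val).toRingHom y) = 0
    rw [hx, hy, add_zero]

/-- The `R`-subalgebra generated by the image of `φ` and a set `S`. -/
def genAlg (φ : A →ₐ[R] B) (S : Set B) : Subalgebra R B :=
  Algebra.adjoin R (Set.range φ ∪ S)

theorem range_le_genAlg (φ : A →ₐ[R] B) (S : Set B) (a : A) : φ a ∈ genAlg φ S :=
  Algebra.subset_adjoin (Or.inl ⟨a, rfl⟩)

theorem subset_genAlg (φ : A →ₐ[R] B) (S : Set B) {b : B} (hb : b ∈ S) : b ∈ genAlg φ S :=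
  Algebra.subset_adjoin (Or.inr hb)

/-- If `genAlg φ S = ⊤` for a finite `S`, then `φ` is of finite type. -/
theorem finiteType_of_genAlg_eq_top (φ : A →ₐ[R] B) (S : Set B) (hS : S.Finite)
    (h : genAlg φ S = ⊤) : φ.toRingHom.FiniteType := by
  let _ : Algebra A B := φ.toRingHom.toAlgebra
  change Algebra.FiniteType A B
  refine ⟨(Subalgebra.fg_def).2 ⟨S, hS, ?_⟩⟩
  rw [eq_top_iff]
  intro b hbtop
  clear hbtop
  have hb : b ∈ genAlg φ S := by rw [h]; trivial
  unfold genAlg at hb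
  induction hb using Algebra.adjoin_induction with
  | mem x hx =>
    rcases hx with ⟨a, rfl⟩ | hx
    · exact Subalgebra.algebraMap_mem _ a
    · exact Algebra.subset_adjoin hx
  | algebraMap r =>
    have : algebraMap R B r = algebraMap A B (algebraMap R A r) := (φ.commutes r).symm
    rw [this]
    exact Subalgebra.algebraMap_mem _ _
  | add x y _ _ hx hy => exact add_mem hx hy
  | mul x y _ _ hx hy => exact mul_mem hx hy


/-- Step A: from finite type of `A_f → B_f`, a finite set `S₁` such that `B / genAlg φ S` is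
`f`-power torsion whenever `S₁ ⊆ S`. -/
theorem exists_finite_tors (φ : A →ₐ[R] B)
    (h1 : (Localization.awayMap φ.toRingHom (algebraMap R A f)).FiniteType) :
    ∃ S₁ : Set B, S₁.Finite ∧ ∀ S : Set B, S₁ ⊆ S → ∀ b : B, ∃ n : ℕ,
      f ^ n • b ∈ Subalgebra.toSubmodule (genAlg φ S) := by
  classical
  set fA := algebraMap R A f with hfA
  set Af := Localization.Away fA
  set Bf := Localization.Away (φ.toRingHom fA)
  set g : Af →+* Bf := Localization.awayMap φ.toRingHom fA with hg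
  have hfB : φ.toRingHom fA = algebraMap R B f := φ.commutes f
  have hgmap : ∀ a : A, g (algebraMap A Af a) = algebraMap B Bf (φ a) := by
    intro a
    rw [hg]
    unfold Localization.awayMap IsLocalization.Away.map
    rw [IsLocalization.map_eq]
    rfl
  let _ : Algebra Af Bf := g.toAlgebra
  have h1' : Algebra.FiniteType Af Bf := h1
  obtain ⟨T, hT⟩ := h1'.out
  have hsel : ∀ t : Bf, ∃ (n : ℕ) (b : B),
      t * algebraMap B Bf (φ.toRingHom fA) ^ n = algebraMap B Bf b :=
    fun t => IsLocalization.Away.surj (φ.toRingHom fA) t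
  choose nt bt hbt using hsel
  refine ⟨(T.image bt : Finset B), Finset.finite_toSet _, ?_⟩
  intro S hS
  set B₀ := genAlg φ S with hB₀
  have hfmem : φ.toRingHom fA ∈ B₀ := range_le_genAlg φ S fA
  have key : ∀ y : Bf, ∃ (n : ℕ) (b₀ : B), b₀ ∈ B₀ ∧
      y * algebraMap B Bf (φ.toRingHom fA) ^ n = algebraMap B Bf b₀ := by
    intro y
    have hy : y ∈ Algebra.adjoin Af (T : Set Bf) := by rw [hT]; trivial
    induction hy using Algebra.adjoin_induction with
    | mem t ht =>
      refine ⟨nt t, bt t, subset_genAlg φ S (hS ?_), hbt t⟩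
      exact Finset.mem_coe.2 (Finset.mem_image_of_mem bt ht)
    | algebraMap x =>
      obtain ⟨n, a, hna⟩ := IsLocalization.Away.surj fA x
      refine ⟨n, φ a, range_le_genAlg φ S a, ?_⟩
      have := congrArg g hna
      rw [map_mul, map_pow, hgmap, hgmap] at this
      exact this
    | add x y _ _ hx hy =>
      obtain ⟨n₁, b₁, hb₁, h₁⟩ := hx
      obtain ⟨n₂, b₂, hb₂, h₂⟩ := hy
      refine ⟨n₁ + n₂, b₁ * (φ.toRingHom fA) ^ n₂ + b₂ * (φ.toRingHom fA) ^ n₁,
        add_mem (mul_mem hb₁ (pow_mem hfmem _)) (mul_mem hb₂ (pow_mem hfmem _)), ?_⟩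
      rw [map_add, map_mul, map_mul, map_pow, map_pow, ← h₁, ← h₂, pow_add]
      ring
    | mul x y _ _ hx hy =>
      obtain ⟨n₁, b₁, hb₁, h₁⟩ := hx
      obtain ⟨n₂, b₂, hb₂, h₂⟩ := hy
      refine ⟨n₁ + n₂, b₁ * b₂, mul_mem hb₁ hb₂, ?_⟩
      rw [map_mul, ← h₁, ← h₂, pow_add]
      ring
  intro b
  obtain ⟨n, b₀, hb₀, h⟩ := key (algebraMap B Bf b)
  rw [← map_pow, ← map_mul,
    IsLocalization.eq_iff_exists (Submonoid.powers (φ.toRingHom fA))] at h
  obtain ⟨⟨c, m, hm⟩, hc⟩ := h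
  refine ⟨m + n, ?_⟩
  change f ^ (m + n) • b ∈ B₀
  have : f ^ (m + n) • b = (φ.toRingHom fA) ^ m * b₀ := by
    rw [Algebra.smul_def, map_pow, ← hfB, pow_add, mul_assoc]
    simp only [← hm] at hc
    rw [← hc]
    ring
  rw [this]
  exact mul_mem (pow_mem hfmem _) hb₀

/-- Step B: from finite type of `R' ⊗ A → R' ⊗ B`, a finite set `S₂` such that
`R' ⊗ genAlg φ S → R' ⊗ B` is surjective whenever `S₂ ⊆ S`. -/
theorem exists_finite_tensor_surj (φ : A →ₐ[R] B)
    (h2 : (Algebra.TensorProduct.map (AlgHom.id R R') φ).toRingHom.FiniteType) :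
    ∃ S₂ : Set B, S₂.Finite ∧ ∀ S : Set B, S₂ ⊆ S → ∀ y : R' ⊗[R] B,
      y ∈ (Algebra.TensorProduct.map (AlgHom.id R R') (genAlg φ S).val).range := by
  classical
  set G : R' ⊗[R] A →+* R' ⊗[R] B :=
    (Algebra.TensorProduct.map (AlgHom.id R R') φ).toRingHom with hG
  let _ : Algebra (R' ⊗[R] A) (R' ⊗[R] B) := G.toAlgebra
  have h2' : Algebra.FiniteType (R' ⊗[R] A) (R' ⊗[R] B) := h2
  obtain ⟨T, hT⟩ := h2'.out
  have hsel : ∀ t : R' ⊗[R] B, ∃ s : Finset (R' × B), t = ∑ i ∈ s, i.1 ⊗ₜ[R] i.2 :=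
    fun t => TensorProduct.exists_finset t
  choose sel hsel' using hsel
  refine ⟨(T.biUnion fun t => (sel t).image Prod.snd : Finset B), Finset.finite_toSet _, ?_⟩
  intro S hS y
  set B₀ := genAlg φ S with hB₀
  have htm : ∀ (r' : R') (b : B), b ∈ B₀ →
      r' ⊗ₜ[R] b ∈ (Algebra.TensorProduct.map (AlgHom.id R R') B₀.val).range := by
    intro r' b hb
    exact ⟨r' ⊗ₜ[R] (⟨b, hb⟩ : B₀), by simp⟩
  have hy : y ∈ Algebra.adjoin (R' ⊗[R] A) (T : Set (R' ⊗[R] B)) := by rw [hT]; trivial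
  induction hy using Algebra.adjoin_induction with
  | mem t ht =>
    rw [hsel' t]
    refine Subalgebra.sum_mem _ fun i hi => htm i.1 i.2 (subset_genAlg φ S (hS ?_))
    rw [Finset.mem_coe, Finset.mem_biUnion]
    exact ⟨t, ht, Finset.mem_image_of_mem _ hi⟩
  | algebraMap x =>
    change G x ∈ _
    induction x using TensorProduct.induction_on with
    | zero => rw [map_zero]; exact zero_mem _
    | tmul r' a =>
      have : G (r' ⊗ₜ[R] a) = r' ⊗ₜ[R] φ a := by
        rw [hG]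
        change (Algebra.TensorProduct.map (AlgHom.id R R') φ) (r' ⊗ₜ[R] a) = _
        rw [Algebra.TensorProduct.map_tmul]
        rfl
      rw [this]
      exact htm r' (φ a) (range_le_genAlg φ S a)
    | add x y hx hy => rw [map_add]; exact add_mem hx hy
  | add x y _ _ hx hy => exact add_mem hx hy
  | mul x y _ _ hx hy => exact mul_mem hx hy

theorem finiteType_of_local (hq : EtGlue.QuotPowBijective R R' f) (φ : A →ₐ[R] B)
    (h1 : (Localization.awayMap φ.toRingHom (algebraMap R A f)).FiniteType)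
    (h2 : (Algebra.TensorProduct.map (AlgHom.id R R') φ).toRingHom.FiniteType) :
    φ.toRingHom.FiniteType := by
  obtain ⟨S₁, hS₁, hA⟩ := exists_finite_tors φ h1
  obtain ⟨S₂, hS₂, hB⟩ := exists_finite_tensor_surj φ h2
  have htop : Subalgebra.toSubmodule (genAlg φ (S₁ ∪ S₂)) = ⊤ :=
    eq_top_of_local hq _ (hA _ Set.subset_union_left)
      (fun y => lTensor_mkQ_eq_zero_of_mem_range _ y (hB _ Set.subset_union_right y))
  refine finiteType_of_genAlg_eq_top φ (S₁ ∪ S₂) (hS₁.union hS₂) ?_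
  rw [eq_top_iff]
  intro b _
  have : b ∈ Subalgebra.toSubmodule (genAlg φ (S₁ ∪ S₂)) := by rw [htop]; trivial
  exact this

theorem tensor_finiteType_of_finiteType (φ : A →ₐ[R] B) (hφ : φ.toRingHom.FiniteType) :
    (Algebra.TensorProduct.map (AlgHom.id R R') φ).toRingHom.FiniteType := by
  set G : R' ⊗[R] A →+* R' ⊗[R] B :=
    (Algebra.TensorProduct.map (AlgHom.id R R') φ).toRingHom with hG
  let _ : Algebra A B := φ.toRingHom.toAlgebra
  let _ : Algebra (R' ⊗[R] A) (R' ⊗[R] B) := G.toAlgebra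
  have hφ' : Algebra.FiniteType A B := hφ
  obtain ⟨T, hT⟩ := hφ'.out
  change Algebra.FiniteType (R' ⊗[R] A) (R' ⊗[R] B)
  classical
  refine ⟨⟨T.image (fun b => (1 : R') ⊗ₜ[R] b), ?_⟩⟩
  have hGtm : ∀ (r' : R') (a : A), G (r' ⊗ₜ[R] a) = r' ⊗ₜ[R] φ a := by
    intro r' a
    rw [hG]
    change (Algebra.TensorProduct.map (AlgHom.id R R') φ) (r' ⊗ₜ[R] a) = _
    rw [Algebra.TensorProduct.map_tmul]
    rfl
  have h1b : ∀ b : B, (1 : R') ⊗ₜ[R] b ∈
      Algebra.adjoin (R' ⊗[R] A) ((T.image (fun b => (1 : R') ⊗ₜ[R] b) : Finset _) : Set (R' ⊗[R] B)) := by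
    intro b
    have hb : b ∈ Algebra.adjoin A (T : Set B) := by rw [hT]; trivial
    induction hb using Algebra.adjoin_induction with
    | mem x hx =>
      exact Algebra.subset_adjoin (Finset.mem_coe.2 (Finset.mem_image_of_mem _ hx))
    | algebraMap a =>
      have : (1 : R') ⊗ₜ[R] (algebraMap A B a) = algebraMap (R' ⊗[R] A) (R' ⊗[R] B) (1 ⊗ₜ[R] a) :=
        (hGtm 1 a).symm
      rw [this]
      exact Subalgebra.algebraMap_mem _ _
    | add x y _ _ hx hy => rw [TensorProduct.tmul_add]; exact add_mem hx hy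
    | mul x y _ _ hx hy =>
      have : (1 : R') ⊗ₜ[R] (x * y) = ((1 : R') ⊗ₜ[R] x) * ((1 : R') ⊗ₜ[R] y) := by
        rw [Algebra.TensorProduct.tmul_mul_tmul, one_mul]
      rw [this]
      exact mul_mem hx hy
  rw [eq_top_iff]
  intro y _
  induction y using TensorProduct.induction_on with
  | zero => exact zero_mem _
  | tmul r' b =>
    have : r' ⊗ₜ[R] b = algebraMap (R' ⊗[R] A) (R' ⊗[R] B) (r' ⊗ₜ[R] 1) * ((1 : R') ⊗ₜ[R] b) := by
      have h3 : algebraMap (R' ⊗[R] A) (R' ⊗[R] B) (r' ⊗ₜ[R] 1) = r' ⊗ₜ[R] φ 1 := hGtm r' 1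
      rw [h3, map_one, Algebra.TensorProduct.tmul_mul_tmul, mul_one, one_mul]
    rw [this]
    exact mul_mem (Subalgebra.algebraMap_mem _ _) (h1b b)
  | add x y hx hy => exact add_mem (hx trivial) (hy trivial)

theorem finiteType_iff (hq : EtGlue.QuotPowBijective R R' f) (φ : A →ₐ[R] B) :
    φ.toRingHom.FiniteType ↔
      (Localization.awayMap φ.toRingHom (algebraMap R A f)).FiniteType ∧
        (Algebra.TensorProduct.map (AlgHom.id R R') φ).toRingHom.FiniteType := by
  constructor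
  · intro hφ
    exact ⟨RingHom.localization_away_map_finiteType A B _ _ φ.toRingHom (algebraMap R A f) hφ,
      tensor_finiteType_of_finiteType φ hφ⟩
  · rintro ⟨h1, h2⟩
    exact finiteType_of_local hq φ h1 h2

end Groth.Agent.Lib.Helper6.GluePair
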