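import Groth.Agent.Lib.Helper6.GluePair
import Groth.Agent.Lib.Lead.BL9

set_option linter.unusedSectionVars false
set_option autoImplicit false
set_option maxHeartbeats 400000

noncomputable section

universe u

namespace Groth.Agent.Lib.Helper6.GluePairAlg

open TensorProduct

attribute [local instance] Algebra.TensorProduct.rightAlgebra

variable (R R' : Type u) [CommRing R] [CommRing R'] [Algebra R R']
variable (A B : Type u) [CommRing A] [Algebra R A] [CommRing B] [Algebra R B]
  [Algebra A B] [IsScalarTower R A B]

/-- The base-changed map `R' ⊗ A → R' ⊗ B`. -/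
def GG : R' ⊗[R] A →ₐ[R] R' ⊗[R] B :=
  Algebra.TensorProduct.map (AlgHom.id R R') (IsScalarTower.toAlgHom R A B)

theorem GG_tmul (r' : R') (a : A) : GG R R' A B (r' ⊗ₜ[R] a) = r' ⊗ₜ[R] algebraMap A B a := by
  unfold GG
  rw [Algebra.TensorProduct.map_tmul]
  rfl

/-- `R' ⊗ B` as an algebra over `R' ⊗ A`. -/
@[reducible] def algGG : Algebra (R' ⊗[R] A) (R' ⊗[R] B) := (GG R R' A B).toRingHom.toAlgebra

/-- `R' ⊗ B` as an algebra over `A`. -/
@[reducible] def algAB' : Algebra A (R' ⊗[R] B) :=
  ((algebraMap B (R' ⊗[R] B)).comp (algebraMap A B)).toAlgebra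

theorem isPushout :
    letI := algGG R R' A B
    letI := algAB' R R' A B
    ∀ (_ : IsScalarTower A B (R' ⊗[R] B)) (_ : IsScalarTower A (R' ⊗[R] A) (R' ⊗[R] B)),
    Algebra.IsPushout A B (R' ⊗[R] A) (R' ⊗[R] B) := by
  letI := algGG R R' A B
  letI := algAB' R R' A B
  intro h1 h2
  haveI : IsScalarTower R (R' ⊗[R] A) (R' ⊗[R] B) :=
    IsScalarTower.of_algebraMap_eq fun r => ((GG R R' A B).commutes r).symm
  haveI : IsScalarTower R' (R' ⊗[R] A) (R' ⊗[R] B) :=
    IsScalarTower.of_algebraMap_eq fun r' => by
      change r' ⊗ₜ[R] (1 : B) = GG R R' A B (r' ⊗ₜ[R] (1 : A))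
      rw [GG_tmul, map_one]
  exact (Algebra.IsPushout.comp_iff (R := R) (S := A) (T := B) (R' := R') (S' := R' ⊗[R] A)
    (T' := R' ⊗[R] B)).1 inferInstance


theorem tower1 :
    letI := algAB' R R' A B
    IsScalarTower A B (R' ⊗[R] B) := by
  letI := algAB' R R' A B
  exact IsScalarTower.of_algebraMap_eq fun _ => rfl

theorem tower2 :
    letI := algGG R R' A B
    letI := algAB' R R' A B
    IsScalarTower A (R' ⊗[R] A) (R' ⊗[R] B) := by
  letI := algGG R R' A B
  letI := algAB' R R' A B
  refine IsScalarTower.of_algebraMap_eq fun a => ?_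
  change (1 : R') ⊗ₜ[R] algebraMap A B a = GG R R' A B ((1 : R') ⊗ₜ[R] a)
  rw [GG_tmul]

/-- Base change of a stable property along `A → R' ⊗ A`. -/
theorem baseChange_of_stable {P : ∀ {R S : Type u} [CommRing R] [CommRing S], (R →+* S) → Prop}
    (hP : RingHom.IsStableUnderBaseChange @P) (h : P (algebraMap A B)) :
    P (GG R R' A B).toRingHom := by
  letI := algGG R R' A B
  letI := algAB' R R' A B
  have t1 := tower1 R R' A B
  have t2 := tower2 R R' A B
  have hpo := isPushout R R' A B t1 t2
  exact hP A B (R' ⊗[R] A) (R' ⊗[R] B) h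

/-- `R' ⊗ B` is the base change of the `A`-module `B` to `R' ⊗ A`. -/
theorem isPushout_symm :
    letI := algGG R R' A B
    letI := algAB' R R' A B
    ∀ (_ : IsScalarTower A B (R' ⊗[R] B)) (_ : IsScalarTower A (R' ⊗[R] A) (R' ⊗[R] B)),
    Algebra.IsPushout A (R' ⊗[R] A) B (R' ⊗[R] B) := by
  letI := algGG R R' A B
  letI := algAB' R R' A B
  intro t1 t2
  exact (isPushout R R' A B t1 t2).symm


section pair

variable {R R'} {f : R}

omit [Algebra A B] [IsScalarTower R A B] [CommRing B] [Algebra R B] in
theorem algebraMap_right (a : A) : algebraMap A (R' ⊗[R] A) a = (1 : R') ⊗ₜ[R] a := rfl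

omit [Algebra A B] [IsScalarTower R A B] [CommRing B] [Algebra R B] in
theorem pow_mul_eq_smul (n : ℕ) (x : R' ⊗[R] A) :
    algebraMap A (R' ⊗[R] A) (algebraMap R A f) ^ n * x = f ^ n • x := by
  rw [← map_pow, algebraMap_right]
  induction x using TensorProduct.induction_on with
  | zero => simp
  | tmul r' a =>
    rw [Algebra.TensorProduct.tmul_mul_tmul, one_mul, ← map_pow, ← Algebra.smul_def,
      TensorProduct.tmul_smul]
  | add x y hx hy => rw [mul_add, hx, hy, smul_add]

omit [Algebra A B] [IsScalarTower R A B] [CommRing B] [Algebra R B] in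
theorem quotPowBijective_tensor (hq : EtGlue.QuotPowBijective R R' f) :
    EtGlue.QuotPowBijective A (R' ⊗[R] A) (algebraMap R A f) := by
  intro n _
  constructor
  · rw [injective_iff_map_eq_zero]
    intro x hx
    obtain ⟨a, rfl⟩ := Ideal.Quotient.mk_surjective x
    rw [Ideal.quotientMap_mk, Ideal.Quotient.eq_zero_iff_mem, Ideal.map_span,
      Set.image_singleton, Ideal.mem_span_singleton'] at hx
    obtain ⟨c, hc⟩ := hx
    have h1 : (1 : R') ⊗ₜ[R] a = f ^ n • c := by
      rw [← pow_mul_eq_smul, ← map_pow, mul_comm, hc]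
      rfl
    obtain ⟨a₁, ha₁⟩ := Groth.Agent.Lead.BL.b_inj hq n a ⟨c, h1⟩
    rw [Ideal.Quotient.eq_zero_iff_mem, Ideal.mem_span_singleton']
    exact ⟨a₁, by rw [ha₁, Algebra.smul_def, map_pow, mul_comm]⟩
  · intro y
    obtain ⟨x, rfl⟩ := Ideal.Quotient.mk_surjective y
    obtain ⟨m, x₁, hx⟩ := Groth.Agent.Lead.BL.b_surj hq n x
    refine ⟨Ideal.Quotient.mk _ m, ?_⟩
    rw [Ideal.quotientMap_mk, Ideal.Quotient.eq, Ideal.map_span, Set.image_singleton,
      Ideal.mem_span_singleton']
    refine ⟨-x₁, ?_⟩
    change -x₁ * algebraMap A (R' ⊗[R] A) (algebraMap R A f ^ n) = _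
    rw [hx, map_pow, neg_mul, mul_comm, pow_mul_eq_smul, algebraMap_right]
    abel

omit [Algebra A B] [IsScalarTower R A B] [CommRing B] [Algebra R B] in
theorem isGlueingPair_tensor (hq : EtGlue.QuotPowBijective R R' f)
    (hA : EtGlue.IsGlueable R R' f A) :
    EtGlue.IsGlueingPair A (R' ⊗[R] A) (algebraMap R A f) := by
  rw [Groth.Agent.Lead.BL.gp_iff_tors_bij (quotPowBijective_tensor A hq)]
  rw [Groth.Agent.Lead.BL.glueable_iff_tors_bij hq] at hA
  obtain ⟨h1, h2⟩ := hA
  constructor
  · intro x ⟨n, hn⟩ hx
    refine h1 x ⟨n, ?_⟩ hx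
    rw [Algebra.smul_def, map_pow]
    exact hn
  · intro x' ⟨n, hn⟩
    rw [pow_mul_eq_smul] at hn
    obtain ⟨m, ⟨k, hk⟩, hm⟩ := h2 x' ⟨n, hn⟩
    refine ⟨m, ⟨k, ?_⟩, hm⟩
    rw [← map_pow, ← Algebra.smul_def]
    exact hk

/-- forward direction for a local property stable under base change -/
theorem forward {P : ∀ {R S : Type u} [CommRing R] [CommRing S], (R →+* S) → Prop}
    (hP : RingHom.IsStableUnderBaseChange @P) (hP' : RingHom.LocalizationAwayPreserves @P)
    (h : P (algebraMap A B)) :
    P (Localization.awayMap (algebraMap A B) (algebraMap R A f)) ∧ P (GG R R' A B).toRingHom :=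
  ⟨hP' (algebraMap A B) (algebraMap R A f) (Localization.Away (algebraMap R A f))
      (Localization.Away (algebraMap A B (algebraMap R A f))) h,
    baseChange_of_stable R R' A B hP h⟩

section away

variable (g : A)

/-- `B_g` as an algebra over `A_g`. -/
@[reducible] def algAway : Algebra (Localization.Away g) (Localization.Away (algebraMap A B g)) :=
  (Localization.awayMap (algebraMap A B) g).toAlgebra

theorem towerAway :
    letI := algAway A B g
    IsScalarTower A (Localization.Away g) (Localization.Away (algebraMap A B g)) := by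
  letI := algAway A B g
  refine IsScalarTower.of_algebraMap_eq fun a => ?_
  change _ = Localization.awayMap (algebraMap A B) g (algebraMap A _ a)
  rw [Localization.awayMap, IsLocalization.Away.map, IsLocalization.map_eq]
  exact IsScalarTower.algebraMap_apply A B _ a

/-- `B_g` (ring localization) is the module localization of `B` at powers of `g`. -/
def awayEquiv :
    letI := algAway A B g
    LocalizedModule (Submonoid.powers g) B ≃ₗ[Localization.Away g]
      Localization.Away (algebraMap A B g) := by
  letI := algAway A B g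
  haveI := towerAway A B g
  haveI : IsLocalization (Algebra.algebraMapSubmonoid B (Submonoid.powers g))
      (Localization.Away (algebraMap A B g)) := by
    have : Algebra.algebraMapSubmonoid B (Submonoid.powers g) =
        Submonoid.powers (algebraMap A B g) := by
      rw [Algebra.algebraMapSubmonoid, Submonoid.map_powers]
    rw [this]
    infer_instance
  haveI : IsLocalizedModule (Submonoid.powers g)
      (IsScalarTower.toAlgHom A B (Localization.Away (algebraMap A B g))).toLinearMap :=
    isLocalizedModule_iff_isLocalization.mpr inferInstance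
  exact (IsLocalizedModule.iso (Submonoid.powers g)
    (IsScalarTower.toAlgHom A B
      (Localization.Away (algebraMap A B g))).toLinearMap).extendScalarsOfIsLocalization
        (Submonoid.powers g) (Localization.Away g)

end away

theorem flat_iff (hRR' : EtGlue.IsGlueingPair R R' f) (hA : EtGlue.IsGlueable R R' f A) :
    (algebraMap A B).Flat ↔
      (Localization.awayMap (algebraMap A B) (algebraMap R A f)).Flat ∧
        (GG R R' A B).toRingHom.Flat := by
  constructor
  · exact forward A B RingHom.Flat.isStableUnderBaseChange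
      RingHom.Flat.propertyIsLocal.localizationAwayPreserves
  · rintro ⟨h1, h2⟩
    rw [RingHom.flat_algebraMap_iff]
    have hp := isGlueingPair_tensor A hRR'.1 hA
    letI := algGG R R' A B
    letI := algAB' R R' A B
    have t1 := tower1 R R' A B
    have t2 := tower2 R R' A B
    haveI hpo := isPushout_symm R R' A B t1 t2
    letI := algAway A B (algebraMap R A f)
    haveI : Module.Flat (R' ⊗[R] A) (R' ⊗[R] B) := h2
    haveI : Module.Flat (Localization.Away (algebraMap R A f))
        (Localization.Away (algebraMap A B (algebraMap R A f))) := h1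
    haveI : Module.Flat (R' ⊗[R] A) ((R' ⊗[R] A) ⊗[A] B) :=
      Module.Flat.of_linearEquiv
        (Algebra.IsPushout.equiv A (R' ⊗[R] A) B (R' ⊗[R] B)).toLinearEquiv
    haveI : Module.Flat (Localization.Away (algebraMap R A f))
        (LocalizedModule (Submonoid.powers (algebraMap R A f)) B) :=
      Module.Flat.of_linearEquiv (awayEquiv A B (algebraMap R A f))
    exact Groth.Agent.Lead.BL.flat_of_glue hp B

theorem finite_iff (hRR' : EtGlue.IsGlueingPair R R' f) :
    (algebraMap A B).Finite ↔
      (Localization.awayMap (algebraMap A B) (algebraMap R A f)).Finite ∧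
        (GG R R' A B).toRingHom.Finite := by
  constructor
  · exact forward A B RingHom.finite_isStableUnderBaseChange
      RingHom.finite_localizationPreserves.away
  · rintro ⟨h1, h2⟩
    rw [RingHom.finite_algebraMap]
    have hp := quotPowBijective_tensor A hRR'.1
    letI := algGG R R' A B
    letI := algAB' R R' A B
    have t1 := tower1 R R' A B
    have t2 := tower2 R R' A B
    haveI hpo := isPushout_symm R R' A B t1 t2
    letI := algAway A B (algebraMap R A f)
    haveI : Module.Finite (R' ⊗[R] A) (R' ⊗[R] B) := h2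
    haveI : Module.Finite (Localization.Away (algebraMap R A f))
        (Localization.Away (algebraMap A B (algebraMap R A f))) := h1
    have k1 : Module.Finite (R' ⊗[R] A) ((R' ⊗[R] A) ⊗[A] B) :=
      Module.Finite.equiv
        (Algebra.IsPushout.equiv A (R' ⊗[R] A) B (R' ⊗[R] B)).toLinearEquiv.symm
    have k2 : Module.Finite (Localization.Away (algebraMap R A f))
        (LocalizedModule (Submonoid.powers (algebraMap R A f)) B) :=
      Module.Finite.equiv (awayEquiv A B (algebraMap R A f)).symm
    exact Groth.Agent.Lead.BL.finite_of_finite hp k1 k2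

end pair

end Groth.Agent.Lib.Helper6.GluePairAlg
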