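import Groth.Agent.Lib.Helper6.GluePairFP

set_option linter.unusedSectionVars false
set_option autoImplicit false
set_option maxHeartbeats 400000

noncomputable section

universe u

namespace Groth.Agent.Lib.Helper6.GluePairEt

open TensorProduct KaehlerDifferential

open Groth.Agent.Lib.Helper6.GluePairAlg Groth.Agent.Lib.Helper6.GluePairFP

attribute [local instance] Algebra.TensorProduct.rightAlgebra

variable {R R' : Type u} [CommRing R] [CommRing R'] [Algebra R R'] {f : R}
variable (A B : Type u) [CommRing A] [Algebra R A] [CommRing B] [Algebra R B]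
  [Algebra A B] [IsScalarTower R A B]

/-- `Ω[B/A]` is `g`-power torsion when `B_g` is unramified over `A_g`. -/
theorem kaehler_tors (g : A)
    (h : (Localization.awayMap (algebraMap A B) g).FormallyUnramified) (m : Ω[B⁄A]) :
    ∃ n : ℕ, g ^ n • m = 0 := by
  letI := algAway A B g
  haveI := towerAway A B g
  haveI : IsLocalization (Algebra.algebraMapSubmonoid B (Submonoid.powers g))
      (Localization.Away (algebraMap A B g)) := by
    have : Algebra.algebraMapSubmonoid B (Submonoid.powers g) =
        Submonoid.powers (algebraMap A B g) := by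
      rw [Algebra.algebraMapSubmonoid, Submonoid.map_powers]
    rw [this]
    infer_instance
  haveI : Algebra.FormallyUnramified (Localization.Away g)
      (Localization.Away (algebraMap A B g)) := h
  haveI : Subsingleton Ω[Localization.Away (algebraMap A B g)⁄Localization.Away g] :=
    Algebra.FormallyUnramified.subsingleton_kaehlerDifferential
  have hloc : IsLocalizedModule (Submonoid.powers g)
      ((KaehlerDifferential.map A (Localization.Away g) B
        (Localization.Away (algebraMap A B g))).restrictScalars A) := inferInstance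
  have h0 : ((KaehlerDifferential.map A (Localization.Away g) B
        (Localization.Away (algebraMap A B g))).restrictScalars A) m = 0 :=
    Subsingleton.elim _ _
  obtain ⟨⟨c, n, rfl⟩, hc⟩ := (IsLocalizedModule.eq_zero_iff (Submonoid.powers g) _).mp h0
  exact ⟨n, hc⟩

theorem unram_of_local (hq : EtGlue.QuotPowBijective R R' f)
    (h1 : (Localization.awayMap (algebraMap A B) (algebraMap R A f)).FormallyUnramified)
    (h2 : (GG R R' A B).toRingHom.FormallyUnramified) :
    (algebraMap A B).FormallyUnramified := by
  rw [RingHom.formallyUnramified_algebraMap]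
  have hp := quotPowBijective_tensor A hq
  letI := algGG R R' A B
  letI := algAB' R R' A B
  have t1 := tower1 R R' A B
  have t2 := tower2 R R' A B
  haveI hpo := isPushout_symm R R' A B t1 t2
  haveI : Algebra.FormallyUnramified (R' ⊗[R] A) (R' ⊗[R] B) := h2
  haveI : Subsingleton Ω[(R' ⊗[R] B)⁄(R' ⊗[R] A)] :=
    Algebra.FormallyUnramified.subsingleton_kaehlerDifferential
  haveI : Subsingleton ((R' ⊗[R] A) ⊗[A] Ω[B⁄A]) :=
    (tensorKaehlerEquivBase A (R' ⊗[R] A) B (R' ⊗[R] B)).toEquiv.subsingleton
  have hbij := Groth.Agent.Lead.BL.tors_bijective hp (kaehler_tors A B (algebraMap R A f) h1)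
  refine ⟨⟨fun x y => ?_⟩⟩
  exact hbij.1 (Subsingleton.elim _ _)

theorem etale_iff (hRR' : EtGlue.IsGlueingPair R R' f) (hA : EtGlue.IsGlueable R R' f A) :
    (algebraMap A B).Etale ↔
      (Localization.awayMap (algebraMap A B) (algebraMap R A f)).Etale ∧
        (GG R R' A B).toRingHom.Etale := by
  constructor
  · exact forward (R := R) (R' := R') (f := f) A B RingHom.Etale.isStableUnderBaseChange
      RingHom.Etale.propertyIsLocal.localizationAwayPreserves
  · rintro ⟨h1, h2⟩
    rw [RingHom.Etale.iff_flat_and_formallyUnramified] at h1 h2 ⊢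
    obtain ⟨a1, a2, a3⟩ := h1
    obtain ⟨b1, b2, b3⟩ := h2
    obtain ⟨c1, c3⟩ := (flat_fp_iff A B hRR' hA).mpr ⟨⟨a1, a3⟩, ⟨b1, b3⟩⟩
    exact ⟨c1, unram_of_local A B hRR'.1 a2 b2, c3⟩

end Groth.Agent.Lib.Helper6.GluePairEt
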