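import Groth.Agent.Lib.Helper6.GluePairAlg
import Mathlib

set_option linter.unusedSectionVars false
set_option autoImplicit false
set_option maxHeartbeats 400000

noncomputable section

universe u

namespace Groth.Agent.Lib.Helper6.GluePairFP

open TensorProduct

/-- If the localization `P_g → B_{π g}` of a surjection `π` is finitely presented, then `ker π`
is, up to `g`-power torsion, generated by a finite set. -/
theorem exists_finset_tors {P B : Type u} [CommRing P] [CommRing B] (π : P →+* B)
    (hπ : Function.Surjective π) (g : P)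
    (h : (Localization.awayMap π g).FinitePresentation) :
    ∃ S₁ : Finset P, (↑S₁ : Set P) ⊆ RingHom.ker π ∧
      ∀ j ∈ RingHom.ker π, ∃ k : ℕ, g ^ k * j ∈ Ideal.span (S₁ : Set P) := by
  classical
  have hb : Function.Surjective (Localization.awayMap π g) := by
    rw [Localization.awayMap_surjective_iff]
    intro a
    obtain ⟨b, rfl⟩ := hπ a
    exact ⟨b, 0, by simp⟩
  have hker : (RingHom.ker (Localization.awayMap π g)).FG := by
    letI : Algebra (Localization.Away g) (Localization.Away (π g)) :=
      (Localization.awayMap π g).toAlgebra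
    haveI : Algebra.FinitePresentation (Localization.Away g) (Localization.Away (π g)) := h
    exact Algebra.FinitePresentation.ker_fG_of_surjective
      (Algebra.ofId (Localization.Away g) (Localization.Away (π g))) hb
  have hmap : RingHom.ker (Localization.awayMap π g) =
      (RingHom.ker π).map (algebraMap P (Localization.Away g)) :=
    IsLocalization.ker_map (Localization.Away (π g)) π (Submonoid.map_powers π g)
  rw [hmap, Ideal.map, Ideal.span] at hker
  obtain ⟨s', hs', hspan⟩ := (Submodule.fg_span_iff_fg_span_finset_subset _).mp hker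
  obtain ⟨S₁, hS₁, rfl⟩ := Finset.subset_set_image_iff.mp hs'
  refine ⟨S₁, hS₁, ?_⟩
  intro j hj
  have h1 : algebraMap P (Localization.Away g) j ∈
      Submodule.span (Localization.Away g) ((algebraMap P (Localization.Away g)) '' (S₁ : Set P)) := by
    have : algebraMap P (Localization.Away g) j ∈ Submodule.span (Localization.Away g)
        ((algebraMap P (Localization.Away g)) '' (RingHom.ker π : Set P)) :=
      Submodule.subset_span ⟨j, hj, rfl⟩
    rw [hspan] at this
    simpa using this
  obtain ⟨⟨t, k, rfl⟩, ht⟩ := multiple_mem_span_of_mem_localization_span (Submonoid.powers g)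
    (Localization.Away g) _ _ h1
  have h2 : Submodule.span P ((algebraMap P (Localization.Away g)) '' (S₁ : Set P)) =
      Submodule.map (Algebra.linearMap P (Localization.Away g)) (Ideal.span (S₁ : Set P)) := by
    rw [Ideal.span, Submodule.map_span]
    rfl
  rw [h2] at ht
  obtain ⟨j', hj', hjj'⟩ := ht
  have h3 : algebraMap P (Localization.Away g) j' = algebraMap P (Localization.Away g) (g ^ k * j) := by
    rw [map_mul]
    rw [Submonoid.smul_def, Algebra.smul_def] at hjj'
    exact hjj'
  obtain ⟨⟨c, m, rfl⟩, hc⟩ := (IsLocalization.eq_iff_exists (Submonoid.powers g) _).mp h3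
  refine ⟨m + k, ?_⟩
  have : g ^ (m + k) * j = g ^ m * j' := by
    rw [pow_add, mul_assoc]
    exact hc.symm
  rw [this]
  exact Ideal.mul_mem_left _ _ hj'

section tensor

variable {R R' : Type u} [CommRing R] [CommRing R'] [Algebra R R'] {f : R}
variable {P B : Type u} [CommRing P] [CommRing B] [Algebra R P] [Algebra R B]

/-- the inclusion of an ideal as an `R`-linear map -/
def iota (J : Ideal P) : J →ₗ[R] P := J.subtype.restrictScalars R

theorem iota_apply (J : Ideal P) (x : J) : iota (R := R) J x = (x : P) := rfl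

theorem map_eq_lTensor (π : P →ₐ[R] B) (x : R' ⊗[R] P) :
    Algebra.TensorProduct.map (AlgHom.id R' R') π x = LinearMap.lTensor R' π.toLinearMap x := by
  induction x using TensorProduct.induction_on with
  | zero => simp
  | tmul r' p => simp
  | add x y hx hy => rw [map_add, map_add, hx, hy]

theorem exact_iota (π : P →ₐ[R] B) :
    Function.Exact (iota (R := R) (RingHom.ker π.toRingHom)) π.toLinearMap := by
  intro p
  constructor
  · intro hp
    exact ⟨⟨p, hp⟩, rfl⟩
  · rintro ⟨x, rfl⟩
    exact x.2

theorem mem_ker_iff_range (π : P →ₐ[R] B) (hπ : Function.Surjective π) (t : R' ⊗[R] P) :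
    t ∈ RingHom.ker (Algebra.TensorProduct.map (AlgHom.id R' R') π).toRingHom ↔
      t ∈ LinearMap.range (LinearMap.lTensor R' (iota (R := R) (RingHom.ker π.toRingHom))) := by
  have hex := lTensor_exact R' (exact_iota π) hπ
  rw [RingHom.mem_ker]
  change Algebra.TensorProduct.map (AlgHom.id R' R') π t = 0 ↔ _
  rw [map_eq_lTensor]
  exact hex t

theorem exists_finset_of_mem_ker (π : P →ₐ[R] B) (hπ : Function.Surjective π) (t : R' ⊗[R] P)
    (ht : t ∈ RingHom.ker (Algebra.TensorProduct.map (AlgHom.id R' R') π).toRingHom) :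
    ∃ S : Finset P, (↑S : Set P) ⊆ RingHom.ker π.toRingHom ∧
      t ∈ Ideal.span ((fun j : P => (1 : R') ⊗ₜ[R] j) '' (S : Set P)) := by
  classical
  rw [mem_ker_iff_range π hπ] at ht
  obtain ⟨w, rfl⟩ := ht
  induction w using TensorProduct.induction_on with
  | zero => exact ⟨∅, by simp, by rw [map_zero]; exact Ideal.zero_mem _⟩
  | tmul r' j =>
    refine ⟨{(j : P)}, by simp, ?_⟩
    rw [LinearMap.lTensor_tmul, iota_apply]
    have : r' ⊗ₜ[R] (j : P) = (r' ⊗ₜ[R] (1 : P)) * ((1 : R') ⊗ₜ[R] (j : P)) := by
      rw [Algebra.TensorProduct.tmul_mul_tmul, mul_one, one_mul]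
    rw [this]
    apply Ideal.mul_mem_left
    apply Ideal.subset_span
    exact ⟨(j : P), by simp, rfl⟩
  | add x y hx hy =>
    obtain ⟨Sx, hSx, hx'⟩ := hx
    obtain ⟨Sy, hSy, hy'⟩ := hy
    refine ⟨Sx ∪ Sy, ?_, ?_⟩
    · rw [Finset.coe_union]
      exact Set.union_subset hSx hSy
    · rw [map_add]
      apply Ideal.add_mem
      · exact Ideal.span_mono (Set.image_mono (by rw [Finset.coe_union]; exact Set.subset_union_left)) hx'
      · exact Ideal.span_mono (Set.image_mono (by rw [Finset.coe_union]; exact Set.subset_union_right)) hy'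

theorem exists_finset_tensor (π : P →ₐ[R] B) (hπ : Function.Surjective π)
    (hK : (RingHom.ker (Algebra.TensorProduct.map (AlgHom.id R' R') π).toRingHom).FG) :
    ∃ S₂ : Finset P, (↑S₂ : Set P) ⊆ RingHom.ker π.toRingHom ∧
      RingHom.ker (Algebra.TensorProduct.map (AlgHom.id R' R') π).toRingHom ≤
        Ideal.span ((fun j : P => (1 : R') ⊗ₜ[R] j) '' (S₂ : Set P)) := by
  classical
  obtain ⟨T, hT⟩ := hK
  have key := exists_finset_of_mem_ker (R' := R') π hπ
  choose! S hS1 hS2 using key
  refine ⟨T.biUnion S, ?_, ?_⟩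
  · intro x hx
    rw [Finset.mem_coe, Finset.mem_biUnion] at hx
    obtain ⟨t, ht, hxt⟩ := hx
    have htK : t ∈ RingHom.ker (Algebra.TensorProduct.map (AlgHom.id R' R') π).toRingHom := by
      rw [← hT]; exact Ideal.subset_span ht
    exact hS1 t htK hxt
  · rw [← hT]
    apply Ideal.span_le.mpr
    intro t ht
    have htK : t ∈ RingHom.ker (Algebra.TensorProduct.map (AlgHom.id R' R') π).toRingHom := by
      rw [← hT]; exact Ideal.subset_span ht
    refine Ideal.span_mono (Set.image_mono ?_) (hS2 t htK)
    intro x hx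
    rw [Finset.mem_coe, Finset.mem_biUnion]
    exact ⟨t, ht, hx⟩

end tensor

section assemble

variable {R R' : Type u} [CommRing R] [CommRing R'] [Algebra R R'] {f : R}
variable {P B : Type u} [CommRing P] [CommRing B] [Algebra R P] [Algebra R B]

/-- `J₀ ∩ J` as an `R`-submodule of `J`. -/
def NN (J J₀ : Ideal P) : Submodule R J := (Submodule.comap J.subtype J₀).restrictScalars R

theorem mem_NN (J J₀ : Ideal P) (x : J) : x ∈ NN (R := R) J J₀ ↔ (x : P) ∈ J₀ := Iff.rfl

/-- multiplication closure -/
theorem mul_mem_range (J J₀ : Ideal P) (a : R' ⊗[R] P) (z : R' ⊗[R] (NN (R := R) J J₀)) :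
    ∃ z' : R' ⊗[R] (NN (R := R) J J₀),
      LinearMap.lTensor R' (iota J ∘ₗ (NN J J₀).subtype) z' =
        a * LinearMap.lTensor R' (iota J ∘ₗ (NN J J₀).subtype) z := by
  induction a using TensorProduct.induction_on with
  | zero => exact ⟨0, by simp⟩
  | add a b ha hb =>
    obtain ⟨za, hza⟩ := ha
    obtain ⟨zb, hzb⟩ := hb
    exact ⟨za + zb, by rw [map_add, hza, hzb, add_mul]⟩
  | tmul r' p =>
    induction z using TensorProduct.induction_on with
    | zero => exact ⟨0, by simp⟩
    | add x y hx hy =>
      obtain ⟨zx, hzx⟩ := hx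
      obtain ⟨zy, hzy⟩ := hy
      exact ⟨zx + zy, by rw [map_add, hzx, hzy, map_add, mul_add]⟩
    | tmul s' n =>
      refine ⟨(r' * s') ⊗ₜ[R] ⟨⟨p * (n : J), J.mul_mem_left p (n : J).2⟩, ?_⟩, ?_⟩
      · rw [mem_NN]; exact J₀.mul_mem_left p n.2
      · simp [iota_apply, Algebra.TensorProduct.tmul_mul_tmul]

theorem ker_fg_of_local (hq : EtGlue.QuotPowBijective R R' f) [Module.Flat R B]
    (π : P →ₐ[R] B) (hπ : Function.Surjective π)
    (h1 : (Localization.awayMap π.toRingHom (algebraMap R P f)).FinitePresentation)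
    (hK : (RingHom.ker (Algebra.TensorProduct.map (AlgHom.id R' R') π).toRingHom).FG) :
    (RingHom.ker π.toRingHom).FG := by
  classical
  obtain ⟨S₁, hS₁, hT⟩ := exists_finset_tors π.toRingHom hπ (algebraMap R P f) h1
  obtain ⟨S₂, hS₂, hK2⟩ := exists_finset_tensor (R' := R') π hπ hK
  have hle : Ideal.span ((S₁ ∪ S₂ : Finset P) : Set P) ≤ RingHom.ker π.toRingHom :=
    Ideal.span_le.mpr (by rw [Finset.coe_union]; exact Set.union_subset hS₁ hS₂)
  have htop : NN (R := R) (RingHom.ker π.toRingHom)
      (Ideal.span ((S₁ ∪ S₂ : Finset P) : Set P)) = ⊤ := by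
    apply Groth.Agent.Lib.Helper6.GluePair.eq_top_of_local hq
    · intro b
      obtain ⟨k, hk⟩ := hT b b.2
      refine ⟨k, ?_⟩
      rw [mem_NN]
      have : ((f ^ k • b : RingHom.ker π.toRingHom) : P) = algebraMap R P f ^ k * (b : P) := by
        rw [Submodule.coe_smul_of_tower, Algebra.smul_def, map_pow]
      rw [this]
      exact Ideal.span_mono (by rw [Finset.coe_union]; exact Set.subset_union_left) hk
    · intro y
      have hex := lTensor_exact R' (LinearMap.exact_subtype_mkQ
        (NN (R := R) (RingHom.ker π.toRingHom) (Ideal.span ((S₁ ∪ S₂ : Finset P) : Set P))))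
        (Submodule.mkQ_surjective _)
      rw [hex]
      have hinj : Function.Injective
          (LinearMap.lTensor R' (iota (R := R) (RingHom.ker π.toRingHom))) :=
        LinearMap.lTensor_injective_of_exact_of_flat π.toLinearMap hπ (iota _)
          Subtype.val_injective (exact_iota π) R'
      have hmem : LinearMap.lTensor R' (iota (R := R) (RingHom.ker π.toRingHom)) y ∈
          RingHom.ker (Algebra.TensorProduct.map (AlgHom.id R' R') π).toRingHom := by
        rw [mem_ker_iff_range π hπ]; exact ⟨y, rfl⟩
      have h3 := hK2 hmem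
      have h4 : ∀ x ∈ Ideal.span ((fun j : P => (1 : R') ⊗ₜ[R] j) '' (S₂ : Set P)),
          ∃ z, LinearMap.lTensor R' (iota (R := R) (RingHom.ker π.toRingHom) ∘ₗ
            (NN (RingHom.ker π.toRingHom)
              (Ideal.span ((S₁ ∪ S₂ : Finset P) : Set P))).subtype) z = x := by
        intro x hx
        induction hx using Submodule.span_induction with
        | mem x hx =>
          obtain ⟨j, hj, rfl⟩ := hx
          refine ⟨(1 : R') ⊗ₜ[R] ⟨⟨j, hS₂ hj⟩, ?_⟩, ?_⟩
          · rw [mem_NN]
            apply Ideal.subset_span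
            rw [Finset.coe_union]
            exact Or.inr hj
          · rw [LinearMap.lTensor_tmul]
            rfl
        | zero => exact ⟨0, map_zero _⟩
        | add x y _ _ hx hy =>
          obtain ⟨zx, rfl⟩ := hx
          obtain ⟨zy, rfl⟩ := hy
          exact ⟨zx + zy, map_add _ _ _⟩
        | smul a x _ hx =>
          obtain ⟨z, rfl⟩ := hx
          obtain ⟨z', hz'⟩ := mul_mem_range _ _ a z
          exact ⟨z', by rw [hz', smul_eq_mul]⟩
      obtain ⟨z, hz⟩ := h4 _ h3
      refine ⟨z, hinj ?_⟩
      rw [← hz, LinearMap.lTensor_comp]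
      rfl
  have heq : RingHom.ker π.toRingHom = Ideal.span ((S₁ ∪ S₂ : Finset P) : Set P) := by
    refine le_antisymm (fun j hj => ?_) hle
    have : (⟨j, hj⟩ : RingHom.ker π.toRingHom) ∈ NN (R := R) (RingHom.ker π.toRingHom)
        (Ideal.span ((S₁ ∪ S₂ : Finset P) : Set P)) := by
      rw [htop]; trivial
    exact this
  rw [heq]
  exact ⟨S₁ ∪ S₂, rfl⟩

theorem awayMap_comp {R₀ P₀ B₀ : Type u} [CommRing R₀] [CommRing P₀] [CommRing B₀]
    (a : R₀ →+* P₀) (p : P₀ →+* B₀) (r : R₀) :
    (Localization.awayMap p (a r)).comp (Localization.awayMap a r) =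
      Localization.awayMap (p.comp a) r := by
  apply IsLocalization.ringHom_ext (Submonoid.powers r)
  ext x
  simp [Localization.awayMap, IsLocalization.Away.map]

theorem fp_of_local (hq : EtGlue.QuotPowBijective R R' f) [Module.Flat R B]
    (hft : Algebra.FiniteType R B)
    (h1 : (Localization.awayMap (algebraMap R B) f).FinitePresentation)
    (h2 : Algebra.FinitePresentation R' (R' ⊗[R] B)) : Algebra.FinitePresentation R B := by
  obtain ⟨n, π, hπ⟩ := Algebra.FiniteType.iff_quotient_mvPolynomial''.mp hft
  refine Algebra.FinitePresentation.of_surjective hπ ?_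
  apply ker_fg_of_local hq π hπ
  · have e : algebraMap R B = π.toRingHom.comp (algebraMap R (MvPolynomial (Fin n) R)) := by
      ext x
      simp
    rw [e] at h1
    have hcomp := awayMap_comp (algebraMap R (MvPolynomial (Fin n) R)) π.toRingHom f
    refine RingHom.FinitePresentation.of_comp_finiteType
      (Localization.awayMap (algebraMap R (MvPolynomial (Fin n) R)) f) ?_ ?_
    · rw [hcomp]; exact h1
    · exact RingHom.localization_away_map_finiteType R (MvPolynomial (Fin n) R) _ _
        (algebraMap R (MvPolynomial (Fin n) R)) f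
        (RingHom.finiteType_algebraMap.mpr inferInstance)
  · have hsurj : Function.Surjective (Algebra.TensorProduct.map (AlgHom.id R' R') π) := by
      intro y
      obtain ⟨x, hx⟩ := LinearMap.lTensor_surjective R' (g := π.toLinearMap) hπ y
      exact ⟨x, by rw [map_eq_lTensor, hx]⟩
    exact Algebra.FinitePresentation.ker_fG_of_surjective
      (Algebra.TensorProduct.map (AlgHom.id R' R') π) hsurj

end assemble

section alg

open Groth.Agent.Lib.Helper6.GluePairAlg

attribute [local instance] Algebra.TensorProduct.rightAlgebra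

variable {R R' : Type u} [CommRing R] [CommRing R'] [Algebra R R'] {f : R}
variable (A B : Type u) [CommRing A] [Algebra R A] [CommRing B] [Algebra R B]
  [Algebra A B] [IsScalarTower R A B]

theorem flat_fp_iff (hRR' : EtGlue.IsGlueingPair R R' f) (hA : EtGlue.IsGlueable R R' f A) :
    ((algebraMap A B).Flat ∧ (algebraMap A B).FinitePresentation) ↔
      ((Localization.awayMap (algebraMap A B) (algebraMap R A f)).Flat ∧
        (Localization.awayMap (algebraMap A B) (algebraMap R A f)).FinitePresentation) ∧
      ((GG R R' A B).toRingHom.Flat ∧ (GG R R' A B).toRingHom.FinitePresentation) := by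
  constructor
  · rintro ⟨h1, h2⟩
    have k1 := forward (R := R) (R' := R') (f := f) A B RingHom.Flat.isStableUnderBaseChange
      RingHom.Flat.propertyIsLocal.localizationAwayPreserves h1
    have k2 := forward (R := R) (R' := R') (f := f) A B
      RingHom.finitePresentation_isStableUnderBaseChange
      RingHom.finitePresentation_localizationPreserves.away h2
    exact ⟨⟨k1.1, k2.1⟩, ⟨k1.2, k2.2⟩⟩
  · rintro ⟨⟨h1, h2⟩, ⟨h3, h4⟩⟩
    have hflat : (algebraMap A B).Flat := (flat_iff A B hRR' hA).mpr ⟨h1, h3⟩
    refine ⟨hflat, ?_⟩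
    have hft : (algebraMap A B).FiniteType :=
      Groth.Agent.Lib.Helper6.GluePair.finiteType_of_local hRR'.1 (IsScalarTower.toAlgHom R A B)
        (RingHom.FiniteType.of_finitePresentation h2)
        (RingHom.FiniteType.of_finitePresentation h4)
    rw [RingHom.finitePresentation_algebraMap]
    rw [RingHom.finiteType_algebraMap] at hft
    rw [RingHom.flat_algebraMap_iff] at hflat
    have hp := quotPowBijective_tensor A hRR'.1
    letI := algGG R R' A B
    letI := algAB' R R' A B
    have t1 := tower1 R R' A B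
    have t2 := tower2 R R' A B
    haveI hpo := isPushout_symm R R' A B t1 t2
    haveI : Algebra.FinitePresentation (R' ⊗[R] A) (R' ⊗[R] B) := h4
    have k : Algebra.FinitePresentation (R' ⊗[R] A) ((R' ⊗[R] A) ⊗[A] B) :=
      Algebra.FinitePresentation.equiv
        (Algebra.IsPushout.equiv A (R' ⊗[R] A) B (R' ⊗[R] B)).symm
    exact fp_of_local hp hft h2 k

end alg

end Groth.Agent.Lib.Helper6.GluePairFP
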