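import Mathlib
import Groth.Agent.Lib.Helper1.TorL

/-!
# Graded freeness criterion: `Tor₁(M, k) = 0` implies free with a homogeneous basis

`S = k[x₀..xₙ]`, `M` a finitely generated `ℕ`-graded module.  Graded Nakayama, the long exact
sequence of Tor (helper1's `TorL`) and Krull's intersection theorem.
-/

set_option autoImplicit false
set_option linter.unusedSectionVars false
set_option linter.unusedVariables false
set_option linter.unusedSimpArgs false
set_option linter.style.haveILetI false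
set_option linter.overlappingInstances false
set_option maxHeartbeats 800000

universe u

open CategoryTheory DirectSum

namespace Groth.Agent.Lib.Helper6.GrFree

section Nak

variable {R : Type u} [CommRing R] {σ : Type*} [SetLike σ R] (𝒜 : ℕ → σ)
variable {M : Type u} [AddCommGroup M] [Module R M] (ℳ : ℕ → AddSubgroup M)
  [DirectSum.Decomposition ℳ] [SetLike.GradedSMul 𝒜 ℳ]

/-- the homogeneous component of degree `d` -/
noncomputable def pr (d : ℕ) : M →+ M where
  toFun x := (DirectSum.decompose ℳ x d : M)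
  map_zero' := by simp
  map_add' x y := by simp

lemma pr_apply (d : ℕ) (x : M) : pr ℳ d x = (DirectSum.decompose ℳ x d : M) := rfl

lemma pr_mem (d : ℕ) (x : M) : pr ℳ d x ∈ ℳ d := (DirectSum.decompose ℳ x d).2

lemma pr_of_mem_same {d : ℕ} {x : M} (hx : x ∈ ℳ d) : pr ℳ d x = x :=
  DirectSum.decompose_of_mem_same ℳ hx

lemma pr_of_mem_ne {d e : ℕ} {x : M} (hx : x ∈ ℳ d) (h : d ≠ e) : pr ℳ e x = 0 :=
  DirectSum.decompose_of_mem_ne ℳ hx h

lemma sum_pr (x : M) : ∃ s : Finset ℕ, x = ∑ d ∈ s, pr ℳ d x := by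
  classical
  exact ⟨(DirectSum.decompose ℳ x).support, (DirectSum.sum_support_decompose ℳ x).symm⟩

include 𝒜 in
lemma pr_smul (e : ℕ) (a : R) (ha : a ∈ 𝒜 e) (y : M) (d : ℕ) :
    pr ℳ d (a • y) = if e ≤ d then a • pr ℳ (d - e) y else 0 := by
  induction y using DirectSum.Decomposition.inductionOn ℳ with
  | zero => simp
  | @homogeneous f m =>
    have hmem : a • (m : M) ∈ ℳ (e + f) := by
      have := SetLike.GradedSMul.smul_mem (A := 𝒜) (B := ℳ) ha m.2
      rwa [vadd_eq_add] at this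
    by_cases hd : e + f = d
    · subst hd
      rw [pr_of_mem_same ℳ hmem, if_pos (Nat.le_add_right e f), Nat.add_sub_cancel_left,
        pr_of_mem_same ℳ m.2]
    · rw [pr_of_mem_ne ℳ hmem hd]
      split_ifs with hle
      · rw [pr_of_mem_ne ℳ m.2 (by omega), smul_zero]
      · rfl
  | add m m' h h' =>
    rw [smul_add, map_add, h, h']
    split_ifs
    · rw [map_add, smul_add]
    · rw [add_zero]

include 𝒜 in
lemma pr_sum_smul (s : Finset ℕ) (c : ℕ → R) (hc : ∀ e ∈ s, c e ∈ 𝒜 e) (y : M) (d : ℕ) :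
    pr ℳ d ((∑ e ∈ s, c e) • y) = ∑ e ∈ s, if e ≤ d then c e • pr ℳ (d - e) y else 0 := by
  rw [Finset.sum_smul, map_sum]
  exact Finset.sum_congr rfl (fun e he => pr_smul 𝒜 ℳ e (c e) (hc e he) y d)

include 𝒜 in
/-- a submodule spanned by homogeneous elements is closed under taking components -/
lemma span_homog
    (hdec : ∀ a : R, ∃ (s : Finset ℕ) (c : ℕ → R), (∀ e ∈ s, c e ∈ 𝒜 e) ∧ a = ∑ e ∈ s, c e)
    {ι : Type*} (m : ι → M) (hm : ∀ i, ∃ d, m i ∈ ℳ d) :
    ∀ x ∈ Submodule.span R (Set.range m), ∀ d, pr ℳ d x ∈ Submodule.span R (Set.range m) := by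
  intro x hx
  induction hx using Submodule.span_induction with
  | mem x hx =>
    obtain ⟨i, rfl⟩ := hx
    obtain ⟨d', hd'⟩ := hm i
    intro d
    by_cases h : d' = d
    · subst h; rw [pr_of_mem_same ℳ hd']; exact Submodule.subset_span ⟨i, rfl⟩
    · rw [pr_of_mem_ne ℳ hd' h]; exact Submodule.zero_mem _
  | zero => intro d; rw [map_zero]; exact Submodule.zero_mem _
  | add x y _ _ hx hy => intro d; rw [map_add]; exact Submodule.add_mem _ (hx d) (hy d)
  | smul a x _ hx =>
    intro d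
    obtain ⟨s, c, hc, rfl⟩ := hdec a
    rw [pr_sum_smul 𝒜 ℳ s c hc x d]
    refine Submodule.sum_mem _ (fun e _ => ?_)
    split_ifs
    · exact Submodule.smul_mem _ _ (hx _)
    · exact Submodule.zero_mem _

include 𝒜 in
/-- graded Nakayama for `ℕ`-graded modules -/
theorem nakayama (I : Ideal R)
    (hI : ∀ a ∈ I, ∃ (s : Finset ℕ) (c : ℕ → R),
      (∀ e ∈ s, 1 ≤ e ∧ c e ∈ 𝒜 e) ∧ a = ∑ e ∈ s, c e)
    (N : Submodule R M) (hN : ∀ x ∈ N, ∀ d, pr ℳ d x ∈ N)
    (hsup : N ⊔ I • (⊤ : Submodule R M) = ⊤) : N = ⊤ := by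
  have key : ∀ d : ℕ, ∀ z ∈ ℳ d, z ∈ N := by
    intro d
    induction d using Nat.strong_induction_on with
    | _ d ih =>
      intro z hz
      have hz' : z ∈ N ⊔ I • (⊤ : Submodule R M) := by rw [hsup]; exact Submodule.mem_top
      obtain ⟨y, hy, w, hw, rfl⟩ := Submodule.mem_sup.mp hz'
      have hpw : pr ℳ d w ∈ N := by
        refine Submodule.smul_induction_on hw ?_ ?_
        · intro a ha z' _
          obtain ⟨s, c, hc, rfl⟩ := hI a ha
          rw [pr_sum_smul 𝒜 ℳ s c (fun e he => (hc e he).2) z' d]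
          refine Submodule.sum_mem _ (fun e he => ?_)
          split_ifs with hle
          · apply Submodule.smul_mem
            have h1 := (hc e he).1
            exact ih (d - e) (by omega) _ (pr_mem ℳ _ _)
          · exact Submodule.zero_mem _
        · intro x y hx hy
          rw [map_add]; exact Submodule.add_mem _ hx hy
      have h2 : pr ℳ d (y + w) = y + w := pr_of_mem_same ℳ hz
      rw [← h2, map_add]
      exact Submodule.add_mem _ (hN y hy d) hpw
  rw [eq_top_iff]
  intro x _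
  obtain ⟨s, hs⟩ := sum_pr ℳ x
  rw [hs]
  exact Submodule.sum_mem _ (fun d _ => key d _ (pr_mem ℳ d x))

end Nak

section Main

variable (k : Type u) [Field k] (n : ℕ)

local notation "S" => MvPolynomial (Fin (n + 1)) k

/-- the irrelevant ideal -/
noncomputable abbrev mm : Ideal (MvPolynomial (Fin (n + 1)) k) :=
  RingHom.ker (MvPolynomial.constantCoeff : MvPolynomial (Fin (n + 1)) k →+* k)

lemma mm_isMaximal : (mm k n).IsMaximal := by
  apply RingHom.ker_isMaximal_of_surjective
  intro c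
  exact ⟨MvPolynomial.C c, MvPolynomial.constantCoeff_C _ c⟩

lemma hdec (a : MvPolynomial (Fin (n + 1)) k) : ∃ (s : Finset ℕ) (c : ℕ → MvPolynomial (Fin (n + 1)) k),
    (∀ e ∈ s, c e ∈ MvPolynomial.homogeneousSubmodule (Fin (n + 1)) k e) ∧ a = ∑ e ∈ s, c e :=
  ⟨Finset.range (a.totalDegree + 1), fun e => MvPolynomial.homogeneousComponent e a,
    fun e _ => MvPolynomial.homogeneousComponent_mem e a,
    (MvPolynomial.sum_homogeneousComponent a).symm⟩

lemma hdec_mm (a : MvPolynomial (Fin (n + 1)) k) (ha : a ∈ mm k n) :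
    ∃ (s : Finset ℕ) (c : ℕ → MvPolynomial (Fin (n + 1)) k),
    (∀ e ∈ s, 1 ≤ e ∧ c e ∈ MvPolynomial.homogeneousSubmodule (Fin (n + 1)) k e) ∧
      a = ∑ e ∈ s, c e := by
  classical
  refine ⟨(Finset.range (a.totalDegree + 1)).filter (fun e => 1 ≤ e),
    fun e => MvPolynomial.homogeneousComponent e a,
    fun e he => ⟨(Finset.mem_filter.mp he).2, MvPolynomial.homogeneousComponent_mem e a⟩, ?_⟩
  have h0 : MvPolynomial.homogeneousComponent 0 a = 0 := by
    rw [MvPolynomial.homogeneousComponent_zero]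
    have : MvPolynomial.constantCoeff a = 0 := ha
    rw [MvPolynomial.constantCoeff_eq] at this
    rw [this, map_zero]
  rw [Finset.sum_filter]
  conv_lhs => rw [← MvPolynomial.sum_homogeneousComponent a]
  apply Finset.sum_congr rfl
  intro e _
  split_ifs with h
  · rfl
  · have : e = 0 := by omega
    rw [this, h0]

/-- Krull intersection for a free module over the polynomial ring -/
lemma eq_zero_of_forall_mem_pow {ι : Type u} (x : ι →₀ MvPolynomial (Fin (n + 1)) k)
    (hx : ∀ j : ℕ, x ∈ (mm k n) ^ j • (⊤ : Submodule (MvPolynomial (Fin (n + 1)) k)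
      (ι →₀ MvPolynomial (Fin (n + 1)) k))) : x = 0 := by
  have hcoord : ∀ (j : ℕ) (y : ι →₀ MvPolynomial (Fin (n + 1)) k),
      y ∈ (mm k n) ^ j • (⊤ : Submodule (MvPolynomial (Fin (n + 1)) k)
        (ι →₀ MvPolynomial (Fin (n + 1)) k)) → ∀ i, y i ∈ (mm k n) ^ j := by
    intro j y hy i
    refine Submodule.smul_induction_on hy ?_ ?_
    · intro a ha z _
      rw [Finsupp.smul_apply, smul_eq_mul]
      exact Ideal.mul_mem_right _ _ ha
    · intro y z hy hz
      rw [Finsupp.add_apply]; exact Ideal.add_mem _ hy hz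
  have hne : mm k n ≠ ⊤ := (mm_isMaximal k n).ne_top
  have hbot := Ideal.iInf_pow_eq_bot_of_isDomain (mm k n) hne
  apply Finsupp.ext
  intro i
  have : x i ∈ ⨅ j, (mm k n) ^ j := by
    rw [Ideal.mem_iInf]
    intro j; exact hcoord j x (hx j) i
  rw [hbot] at this
  simpa using this

variable (M : Type u) [AddCommGroup M] [Module (MvPolynomial (Fin (n + 1)) k) M]
    [Module.Finite (MvPolynomial (Fin (n + 1)) k) M]
    (ℳ : ℕ → AddSubgroup M)
    [SetLike.GradedSMul (MvPolynomial.homogeneousSubmodule (Fin (n + 1)) k) ℳ]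
    [DirectSum.Decomposition ℳ]

/-- a minimal homogeneous generating family -/
lemma exists_min_gens :
    ∃ (ι : Type u) (m : ι → M), (∀ i, ∃ d, m i ∈ ℳ d) ∧
      Submodule.span (MvPolynomial (Fin (n + 1)) k) (Set.range m) = ⊤ ∧
      ∀ c : ι →₀ MvPolynomial (Fin (n + 1)) k,
        Finsupp.linearCombination (MvPolynomial (Fin (n + 1)) k) m c ∈
          (mm k n) • (⊤ : Submodule (MvPolynomial (Fin (n + 1)) k) M) → ∀ i, c i ∈ mm k n := by
  classical
  haveI := mm_isMaximal k n
  letI : Field (MvPolynomial (Fin (n + 1)) k ⧸ mm k n) := Ideal.Quotient.field (mm k n)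
  let V := M ⧸ (mm k n) • (⊤ : Submodule (MvPolynomial (Fin (n + 1)) k) M)
  let π : M →ₗ[MvPolynomial (Fin (n + 1)) k] V := Submodule.mkQ _
  let T : Set V := π '' {x | ∃ d, x ∈ ℳ d}
  obtain ⟨b, hbT, hbspan, hbli⟩ :=
    exists_linearIndependent (MvPolynomial (Fin (n + 1)) k ⧸ mm k n) T
  have hchoose : ∀ v : b, ∃ x : M, (∃ d, x ∈ ℳ d) ∧ π x = v := by
    intro v
    obtain ⟨x, hx, hxv⟩ := hbT v.2
    exact ⟨x, hx, hxv⟩
  choose m hmh hmπ using hchoose
  -- the `S`-span of `b` is everything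
  have hTtop : Submodule.span (MvPolynomial (Fin (n + 1)) k) T = ⊤ := by
    rw [eq_top_iff]
    intro v _
    obtain ⟨x, rfl⟩ := Submodule.mkQ_surjective _ v
    obtain ⟨s, hs⟩ := sum_pr ℳ x
    rw [hs, map_sum]
    refine Submodule.sum_mem _ (fun d _ => Submodule.subset_span ⟨_, ⟨d, pr_mem ℳ d x⟩, rfl⟩)
  have hSspan : ∀ X : Set V,
      (Submodule.span (MvPolynomial (Fin (n + 1)) k ⧸ mm k n) X : Set V) =
        (Submodule.span (MvPolynomial (Fin (n + 1)) k) X : Set V) := by
    intro X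
    have := Submodule.restrictScalars_span (MvPolynomial (Fin (n + 1)) k)
      (MvPolynomial (Fin (n + 1)) k ⧸ mm k n) Ideal.Quotient.mk_surjective X
    rw [← this]; rfl
  have hbtop : Submodule.span (MvPolynomial (Fin (n + 1)) k) (b : Set V) = ⊤ := by
    apply SetLike.coe_injective
    rw [← hSspan, hbspan, hSspan, hTtop]
  refine ⟨b, m, hmh, ?_, ?_⟩
  · -- generation, by graded Nakayama
    apply nakayama (MvPolynomial.homogeneousSubmodule (Fin (n + 1)) k) ℳ (mm k n)
      (hdec_mm k n) _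
      (span_homog (MvPolynomial.homogeneousSubmodule (Fin (n + 1)) k) ℳ (hdec k n) m hmh)
    have hmap : (Submodule.span (MvPolynomial (Fin (n + 1)) k) (Set.range m)).map π = ⊤ := by
      rw [Submodule.map_span, ← hbtop]
      congr 1
      ext v
      constructor
      · rintro ⟨_, ⟨i, rfl⟩, rfl⟩; rw [hmπ i]; exact i.2
      · intro hv; exact ⟨m ⟨v, hv⟩, ⟨⟨v, hv⟩, rfl⟩, hmπ ⟨v, hv⟩⟩
    have h2 := Submodule.comap_map_eq π
      (Submodule.span (MvPolynomial (Fin (n + 1)) k) (Set.range m))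
    rw [hmap, Submodule.comap_top, Submodule.ker_mkQ] at h2
    exact h2.symm
  · -- minimality
    intro c hc i
    have h0 : π (Finsupp.linearCombination (MvPolynomial (Fin (n + 1)) k) m c) = 0 := by
      rw [Submodule.mkQ_apply, Submodule.Quotient.mk_eq_zero]; exact hc
    rw [Finsupp.linearCombination_apply, Finsupp.sum, map_sum] at h0
    have h1 : ∑ j ∈ c.support,
        (Ideal.Quotient.mk (mm k n) (c j)) • ((j : V)) = 0 := by
      rw [← h0]
      apply Finset.sum_congr rfl
      intro j _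
      rw [map_smul, hmπ j]
      rfl
    have h2 := (linearIndependent_iff'.mp hbli) c.support
      (fun j => Ideal.Quotient.mk (mm k n) (c j)) h1
    by_cases hi : i ∈ c.support
    · exact Ideal.Quotient.eq_zero_iff_mem.mp (h2 i hi)
    · rw [Finsupp.notMem_support_iff.mp hi]; exact Ideal.zero_mem _

include ℳ in
theorem main
    (h : Limits.IsZero (((Tor (ModuleCat.{u} (MvPolynomial (Fin (n + 1)) k)) 1).obj
      (ModuleCat.of (MvPolynomial (Fin (n + 1)) k) M)).obj
      (ModuleCat.of (MvPolynomial (Fin (n + 1)) k)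
        (MvPolynomial (Fin (n + 1)) k ⧸
          RingHom.ker (MvPolynomial.constantCoeff : MvPolynomial (Fin (n + 1)) k →+* k))))) :
    ∃ (ι : Type u) (b : Module.Basis ι (MvPolynomial (Fin (n + 1)) k) M),
      ∀ i, SetLike.IsHomogeneousElem ℳ (b i) := by
  classical
  obtain ⟨ι, m, hmh, hspan, hmin⟩ := exists_min_gens k n M ℳ
  let φ : (ι →₀ MvPolynomial (Fin (n + 1)) k) →ₗ[MvPolynomial (Fin (n + 1)) k] M :=
    Finsupp.linearCombination (MvPolynomial (Fin (n + 1)) k) m
  have hφsurj : Function.Surjective φ := by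
    rw [← LinearMap.range_eq_top, Finsupp.range_linearCombination]; exact hspan
  let K := LinearMap.ker φ
  -- `K ≤ 𝔪 F`
  have hK1 : K ≤ (mm k n) • (⊤ : Submodule (MvPolynomial (Fin (n + 1)) k)
      (ι →₀ MvPolynomial (Fin (n + 1)) k)) := by
    intro x hx
    have hx0 : φ x = 0 := hx
    have hxi : ∀ i, x i ∈ mm k n := hmin x (by
      show φ x ∈ _
      rw [hx0]; exact Submodule.zero_mem _)
    rw [← Finsupp.sum_single x, Finsupp.sum]
    refine Submodule.sum_mem _ (fun i _ => ?_)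
    have : Finsupp.single i (x i) = (x i) • (Finsupp.single i (1 : MvPolynomial (Fin (n + 1)) k)) := by
      rw [Finsupp.smul_single, smul_eq_mul, mul_one]
    rw [this]
    exact Submodule.smul_mem_smul (hxi i) Submodule.mem_top
  -- Tor: `K ⊗ κ → F ⊗ κ` is injective
  have hSS := Groth.Agent.Helper1.TorL.shortExact_subtype_mkQ
    (R := MvPolynomial (Fin (n + 1)) k) K
  let κ := ModuleCat.of (MvPolynomial (Fin (n + 1)) k)
        (MvPolynomial (Fin (n + 1)) k ⧸ mm k n)
  have hflat : Limits.IsZero (Groth.Agent.Helper1.TorL.T 1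
      (ModuleCat.of (MvPolynomial (Fin (n + 1)) k) (ι →₀ MvPolynomial (Fin (n + 1)) k)) κ) := by
    haveI : Module.Flat (MvPolynomial (Fin (n + 1)) k)
        (ModuleCat.of (MvPolynomial (Fin (n + 1)) k) (ι →₀ MvPolynomial (Fin (n + 1)) k)) :=
      inferInstanceAs (Module.Flat (MvPolynomial (Fin (n + 1)) k)
        (ι →₀ MvPolynomial (Fin (n + 1)) k))
    exact Groth.Agent.Helper1.TorL.isZero_tor_succ_of_flat _ κ 0
  have e : (ModuleCat.of (MvPolynomial (Fin (n + 1)) k)
      ((ι →₀ MvPolynomial (Fin (n + 1)) k) ⧸ K)) ≅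
      ModuleCat.of (MvPolynomial (Fin (n + 1)) k) M :=
    (LinearMap.quotKerEquivOfSurjective φ hφsurj).toModuleIso
  have hX3 : Limits.IsZero (Groth.Agent.Helper1.TorL.T 1 (ModuleCat.of (MvPolynomial (Fin (n + 1)) k)
      ((ι →₀ MvPolynomial (Fin (n + 1)) k) ⧸ K)) κ) :=
    Limits.IsZero.of_iso h (Groth.Agent.Helper1.TorL.torCongrLeft e κ 1)
  have hinj : Function.Injective (LinearMap.rTensor
      (MvPolynomial (Fin (n + 1)) k ⧸ mm k n) K.subtype) :=
    (Groth.Agent.Helper1.TorL.isZero_tor_one_X₃_iff _ hSS κ hflat).mp hX3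
  -- `K ≤ 𝔪 K`
  have hK2 : ∀ x : K, x ∈ (mm k n) • (⊤ : Submodule (MvPolynomial (Fin (n + 1)) k) K) := by
    intro x
    have h1 : (LinearMap.rTensor (MvPolynomial (Fin (n + 1)) k ⧸ mm k n) K.subtype)
        (x ⊗ₜ[MvPolynomial (Fin (n + 1)) k] (1 : MvPolynomial (Fin (n + 1)) k ⧸ mm k n)) = 0 := by
      rw [LinearMap.rTensor_tmul]
      apply (TensorProduct.tensorQuotEquivQuotSMul
        (ι →₀ MvPolynomial (Fin (n + 1)) k) (mm k n)).injective
      rw [map_zero, ← map_one (Ideal.Quotient.mk (mm k n)),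
        TensorProduct.tensorQuotEquivQuotSMul_tmul_mk, one_smul,
        Submodule.Quotient.mk_eq_zero]
      exact hK1 x.2
    have h2 : (x ⊗ₜ[MvPolynomial (Fin (n + 1)) k]
        (1 : MvPolynomial (Fin (n + 1)) k ⧸ mm k n)) = 0 := by
      apply hinj; rw [h1, map_zero]
    have h3 := congrArg (TensorProduct.tensorQuotEquivQuotSMul K (mm k n)) h2
    rw [map_zero, ← map_one (Ideal.Quotient.mk (mm k n)),
      TensorProduct.tensorQuotEquivQuotSMul_tmul_mk, one_smul,
      Submodule.Quotient.mk_eq_zero] at h3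
    exact h3
  have hK3 : K ≤ (mm k n) • K := by
    intro x hx
    have h1 := hK2 ⟨x, hx⟩
    have h2 : ((mm k n) • (⊤ : Submodule (MvPolynomial (Fin (n + 1)) k) K)).map K.subtype =
        (mm k n) • K := by
      rw [Submodule.map_smul'', Submodule.map_subtype_top]
    rw [← h2]
    exact ⟨⟨x, hx⟩, h1, rfl⟩
  have hK4 : ∀ j : ℕ, K ≤ (mm k n) ^ j • (⊤ : Submodule (MvPolynomial (Fin (n + 1)) k)
      (ι →₀ MvPolynomial (Fin (n + 1)) k)) := by
    intro j
    induction j with
    | zero => simp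
    | succ j ih =>
      refine hK3.trans ?_
      rw [pow_succ', Submodule.mul_smul]
      exact Submodule.smul_mono le_rfl ih
  have hKbot : K = ⊥ := by
    rw [eq_bot_iff]
    intro x hx
    rw [Submodule.mem_bot]
    exact eq_zero_of_forall_mem_pow k n x (fun j => hK4 j hx)
  have hφinj : Function.Injective φ := LinearMap.ker_eq_bot.mp hKbot
  let eqv : (ι →₀ MvPolynomial (Fin (n + 1)) k) ≃ₗ[MvPolynomial (Fin (n + 1)) k] M :=
    LinearEquiv.ofBijective φ ⟨hφinj, hφsurj⟩
  refine ⟨ι, Module.Basis.ofRepr eqv.symm, fun i => ?_⟩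
  have hb : (Module.Basis.ofRepr eqv.symm) i = m i := by
    rw [Module.Basis.coe_ofRepr]
    show φ (Finsupp.single i 1) = m i
    rw [Finsupp.linearCombination_single, one_smul]
  rw [hb]
  obtain ⟨d, hd⟩ := hmh i
  exact ⟨d, hd⟩

end Main

end Groth.Agent.Lib.Helper6.GrFree
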