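import Groth.Prelude.Def_GrMap

/-! Degreewise criterion for bijectivity of the induced map of associated graded rings. -/

set_option linter.unusedSectionVars false
set_option autoImplicit false
noncomputable section

namespace Groth.Agent.Lib.Helper6.GrMapBij

open AssocGr

universe u v

variable {A : Type u} {B : Type v} [CommRing A] [CommRing B] {φ : A →+* B}
  {𝓕 : FiltBl.IdealFiltration A} {𝓖 : FiltBl.IdealFiltration B}

theorem map_injective_of (h : IsFiltHom φ 𝓕 𝓖)
    (hinj : ∀ n a, a ∈ 𝓕.F n → φ a ∈ 𝓖.F (n + 1) → a ∈ 𝓕.F (n + 1)) :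
    Function.Injective (AssocGr.map h) := by
  rw [injective_iff_map_eq_zero]
  intro g hg
  obtain ⟨f, rfl⟩ := mkG_surjective _ g
  rw [map_mkG, mkG_eq_zero_iff, mem_succIdeal_iff] at hg
  rw [mkG_eq_zero_iff, mem_succIdeal_iff]
  intro n
  have h1 := hg n
  rw [coe_reesMap, Polynomial.coeff_map] at h1
  exact hinj n _ (f.2 n) h1

theorem map_surjective_of (h : IsFiltHom φ 𝓕 𝓖)
    (hsurj : ∀ n b, b ∈ 𝓖.F n → ∃ a ∈ 𝓕.F n, φ a - b ∈ 𝓖.F (n + 1)) :
    Function.Surjective (AssocGr.map h) := by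
  intro g'
  classical
  obtain ⟨f', rfl⟩ := mkG_surjective _ g'
  choose a haI ha using fun n => hsurj n ((f' : Polynomial B).coeff n) (f'.2 n)
  let f : Polynomial A := ∑ n ∈ (f' : Polynomial B).support, Polynomial.monomial n (a n)
  have hfc : ∀ n, f.coeff n = if n ∈ (f' : Polynomial B).support then a n else 0 := by
    intro n
    simp only [f, Polynomial.finsetSum_coeff, Polynomial.coeff_monomial]
    rw [Finset.sum_ite_eq']
  have hf : f ∈ 𝓕.rees := by
    intro n
    rw [hfc]
    split_ifs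
    · exact haI n
    · exact Ideal.zero_mem _
  refine ⟨mkG _ ⟨f, hf⟩, ?_⟩
  rw [map_mkG, ← sub_eq_zero, ← map_sub, mkG_eq_zero_iff, mem_succIdeal_iff]
  intro n
  rw [Subalgebra.coe_sub, Polynomial.coeff_sub, coe_reesMap, Polynomial.coeff_map]
  show φ (f.coeff n) - (f' : Polynomial B).coeff n ∈ _
  rw [hfc]
  split_ifs with h'
  · exact ha n
  · rw [Polynomial.notMem_support_iff.1 h', map_zero, sub_zero]
    exact Ideal.zero_mem _

end Groth.Agent.Lib.Helper6.GrMapBij
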