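import Groth.Prelude.Def_AssocGrMod
import Groth.Agent.Lib.Helper6.AdicLiftMod

/-! Extracting degreewise approximations from generation of the associated graded module. -/

set_option linter.unusedSectionVars false
set_option autoImplicit false
noncomputable section

namespace Groth.Agent.Lib.Helper6.GrModApprox

open Polynomial AssocGr

universe u

variable {A : Type u} [CommRing A] {I : Ideal A} {M : Type u} [AddCommGroup M] [Module A M]
  (F : I.Filtration M)

lemma coeff_smul_monomM (f : ↥(FiltBl.IdealFiltration.adic I).rees) (d : ℕ) (x : F.N d) (n : ℕ) :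
    ReesM.coeff F (f • monomM F d x) n =
      if d ≤ n then (f : A[X]).coeff (n - d) • (x : M) else 0 := by
  rw [ReesM.coeff_smul]
  simp only [ReesM.coeff_monomM]
  split_ifs with h
  · rw [Finset.sum_eq_single (n - d, d)]
    · simp
    · rintro ⟨p1, p2⟩ hp hne
      rw [Finset.HasAntidiagonal.mem_antidiagonal] at hp
      simp only at hp ⊢
      rw [if_neg, smul_zero]
      rintro rfl
      apply hne
      have : p1 = n - d := by omega
      rw [this]
    · intro h'
      exfalso
      apply h'
      rw [Finset.HasAntidiagonal.mem_antidiagonal]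
      simp only
      omega
  · apply Finset.sum_eq_zero
    rintro ⟨p1, p2⟩ hp
    rw [Finset.HasAntidiagonal.mem_antidiagonal] at hp
    simp only at hp ⊢
    rw [if_neg (by omega), smul_zero]

theorem approx_of_mem_span {ι : Type*} [Fintype ι] (d : ι → ℕ) (x : (i : ι) → ↥(F.N (d i)))
    (n : ℕ) (y : M) (hy : y ∈ F.N n)
    (hmem : mkGM F (monomM F n ⟨y, hy⟩) ∈
      Submodule.span (GrRing (FiltBl.IdealFiltration.adic I))
        (Set.range fun i => (inDegM F (d i) (x i) : GrMod F))) :
    ∃ a : ι → A, (∀ i, a i ∈ I ^ (n - d i)) ∧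
      y - ∑ i, a i • ((x i : ↥(F.N (d i))) : M) ∈ F.N (n + 1) := by
  obtain ⟨g, hg⟩ := (Submodule.mem_span_range_iff_exists_fun _).1 hmem
  choose f hf using fun i => mkG_surjective (FiltBl.IdealFiltration.adic I) (g i)
  have h0 : mkGM F (monomM F n ⟨y, hy⟩ - ∑ i, f i • monomM F (d i) (x i)) = 0 := by
    rw [_root_.map_sub, _root_.map_sum, ← hg, sub_eq_zero]
    refine Finset.sum_congr rfl fun i _ => ?_
    rw [← hf i, coe_inDegM, mkG_smul_mkGM]
  rw [mkGM_eq_zero_iff, mem_succMod_iff] at h0
  have h1 : ReesM.coeffHom F n (monomM F n ⟨y, hy⟩ - ∑ i, f i • monomM F (d i) (x i)) ∈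
      F.N (n + 1) := h0 n
  rw [_root_.map_sub, _root_.map_sum] at h1
  simp only [ReesM.coeffHom_apply, ReesM.coeff_monomM, if_true, coeff_smul_monomM] at h1
  refine ⟨fun i => if d i ≤ n then (f i : A[X]).coeff (n - d i) else 0, fun i => ?_, ?_⟩
  · simp only
    split_ifs with h
    · exact (f i).2 (n - d i)
    · exact Ideal.zero_mem _
  · have e : ∑ i, (if d i ≤ n then (f i : A[X]).coeff (n - d i) else 0) •
        ((x i : ↥(F.N (d i))) : M) =
        ∑ i, (if d i ≤ n then (f i : A[X]).coeff (n - d i) • ((x i : ↥(F.N (d i))) : M)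
          else 0) := by
      refine Finset.sum_congr rfl fun i _ => ?_
      split_ifs with h
      · rfl
      · rw [zero_smul]
    rw [e]
    exact h1

/-- every element of the associated graded module is a sum of homogeneous classes -/
theorem mkGM_eq_sum (y : ReesM F) :
    mkGM F y = ∑ n ∈ ((toReesM F).symm y : PolynomialModule A M).coeff.support,
      (inDegM F n ⟨ReesM.coeff F y n, ReesM.coeff_mem F y n⟩ : GrMod F) := by
  conv_lhs => rw [← sum_termM F y]
  rw [_root_.map_sum]
  rfl

end Groth.Agent.Lib.Helper6.GrModApprox
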