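import Mathlib

set_option linter.unusedSectionVars false
set_option linter.unusedVariables false
set_option autoImplicit false
set_option maxHeartbeats 400000

noncomputable section

namespace Groth.Agent.Lib.Helper6.GradedOrbit

open Polynomial DirectSum

universe u

section Orbit

variable {k : Type u} [Field k] {R : Type u} [CommRing R] [Algebra k R]
variable (𝒜 : ℤ → Submodule k R) [GradedAlgebra 𝒜]

/-- component of the orbit map -/
def orbitComp (x : R →ₐ[k] k) (i : ℤ) : 𝒜 i →ₗ[k] k[X] :=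
  (Polynomial.monomial i.toNat : k →ₗ[k] k[X]) ∘ₗ x.toLinearMap ∘ₗ (𝒜 i).subtype

lemma orbitComp_apply (x : R →ₐ[k] k) (i : ℤ) (a : 𝒜 i) :
    orbitComp 𝒜 x i a = Polynomial.monomial i.toNat (x (a : R)) := rfl

variable (hpos : ∀ n : ℤ, n < 0 → 𝒜 n = ⊥)

include hpos in
lemma eq_zero_of_neg {i : ℤ} (hi : i < 0) (a : 𝒜 i) : (a : R) = 0 := by
  have h : (a : R) ∈ (⊥ : Submodule k R) := (hpos i hi) ▸ a.2
  exact (Submodule.mem_bot k).1 h

/-- the orbit map `r ↦ ∑ x(r_n) T^n` -/
def orbit (x : R →ₐ[k] k) : R →ₐ[k] k[X] :=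
  (DirectSum.toAlgebra k (fun i => 𝒜 i) (orbitComp 𝒜 x)
    (by
      rw [orbitComp_apply]
      change Polynomial.monomial (0 : ℤ).toNat (x (1 : R)) = 1
      rw [map_one]; rfl)
    (by
      intro i j ai aj
      rw [orbitComp_apply, orbitComp_apply, orbitComp_apply, Polynomial.monomial_mul_monomial]
      change Polynomial.monomial (i + j).toNat (x ((ai : R) * (aj : R))) = _
      rw [map_mul]
      by_cases hi : i < 0
      · rw [eq_zero_of_neg 𝒜 hpos hi ai]; simp
      by_cases hj : j < 0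
      · rw [eq_zero_of_neg 𝒜 hpos hj aj]; simp
      rw [not_lt] at hi hj
      rw [Int.toNat_add hi hj])).comp
  (DirectSum.decomposeAlgEquiv 𝒜 : R →ₐ[k] ⨁ i, 𝒜 i)

lemma orbit_of_mem (x : R →ₐ[k] k) {i : ℤ} {r : R} (hr : r ∈ 𝒜 i) :
    orbit 𝒜 hpos x r = Polynomial.monomial i.toNat (x r) := by
  unfold orbit
  rw [AlgHom.comp_apply]
  change (DirectSum.toAlgebra k (fun i => 𝒜 i) (orbitComp 𝒜 x) _ _) (decompose 𝒜 r) = _
  rw [DirectSum.decompose_of_mem 𝒜 hr, DirectSum.toAlgebra_apply, DirectSum.toSemiring_of]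
  rfl

lemma orbit_injective [IsDomain R] [Ring.KrullDimLE 1 R] (x : R →ₐ[k] k) {n : ℤ} (hn : 0 < n)
    {z : R} (hz : z ∈ 𝒜 n) (hxz : x z ≠ 0) :
    Function.Injective (orbit 𝒜 hpos x) := by
  have hinj : Function.Injective (orbit 𝒜 hpos x : R →+* k[X]) := by
    rw [RingHom.injective_iff_ker_eq_bot]
    by_contra hne
    set P := RingHom.ker (orbit 𝒜 hpos x : R →+* k[X]) with hP
    haveI : P.IsPrime := RingHom.ker_isPrime _
    have hmax : P.IsMaximal := Ideal.IsPrime.isMaximal_of_ne_bot ‹_› hne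
    have hφz : orbit 𝒜 hpos x z = Polynomial.monomial n.toNat (x z) := orbit_of_mem 𝒜 hpos x hz
    have hzP : z ∉ P := by
      rw [hP, RingHom.mem_ker]
      change ¬ (orbit 𝒜 hpos x z = 0)
      rw [hφz, Polynomial.monomial_eq_zero_iff]
      exact hxz
    obtain ⟨y, i, hi, hyi⟩ := hmax.exists_inv hzP
    have hi0 : orbit 𝒜 hpos x i = 0 := by
      have := hi
      rw [hP, RingHom.mem_ker] at this
      exact this
    have h1 : orbit 𝒜 hpos x y * orbit 𝒜 hpos x z = 1 := by
      have := congrArg (orbit 𝒜 hpos x) hyi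
      rw [map_add, map_mul, hi0, add_zero, map_one] at this
      exact this
    have hu : IsUnit (Polynomial.monomial n.toNat (x z)) := by
      rw [← hφz]
      exact .of_mul_eq_one_right _ h1
    have := Polynomial.natDegree_eq_zero_of_isUnit hu
    rw [Polynomial.natDegree_monomial_eq _ hxz] at this
    omega
  exact hinj

/-- the semigroup of degrees on which `x` does not vanish -/
def semigroup (x : R →ₐ[k] k) : AddSubmonoid ℕ where
  carrier := {n | ∃ r ∈ 𝒜 (n : ℤ), x r ≠ 0}
  zero_mem' := by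
    refine ⟨1, ?_, by rw [map_one]; exact one_ne_zero⟩
    rw [Nat.cast_zero]
    exact SetLike.GradedOne.one_mem
  add_mem' := by
    rintro a b ⟨r, hr, hxr⟩ ⟨s, hs, hxs⟩
    refine ⟨r * s, ?_, ?_⟩
    · rw [Nat.cast_add]
      exact SetLike.GradedMul.mul_mem hr hs
    · rw [map_mul]
      exact mul_ne_zero hxr hxs

/-- embedding of the semigroup algebra in `k[X]` -/
def semiEmb (x : R →ₐ[k] k) : AddMonoidAlgebra k (semigroup 𝒜 x) →+* k[X] :=
  ((Polynomial.toFinsuppIso k).symm : AddMonoidAlgebra k ℕ →+* k[X]).comp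
    (AddMonoidAlgebra.mapDomainRingHom k (semigroup 𝒜 x).subtype)

lemma semiEmb_single (x : R →ₐ[k] k) (h : semigroup 𝒜 x) (c : k) :
    semiEmb 𝒜 x (AddMonoidAlgebra.single h c) = Polynomial.monomial (h : ℕ) c := by
  unfold semiEmb
  rw [RingHom.comp_apply]
  change ((Polynomial.toFinsuppIso k).symm) (AddMonoidAlgebra.mapDomain _ _) = _
  rw [AddMonoidAlgebra.mapDomain_single]
  rw [← Polynomial.ofFinsupp_single]
  rfl

lemma semiEmb_injective (x : R →ₐ[k] k) : Function.Injective (semiEmb 𝒜 x) := by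
  unfold semiEmb
  rw [RingHom.coe_comp]
  refine Function.Injective.comp (RingEquiv.injective _) ?_
  exact AddMonoidAlgebra.mapDomain_injective Subtype.val_injective

lemma range_eq (x : R →ₐ[k] k) :
    (orbit 𝒜 hpos x : R →+* k[X]).range = (semiEmb 𝒜 x).range := by
  apply le_antisymm
  · rintro _ ⟨r, rfl⟩
    change orbit 𝒜 hpos x r ∈ _
    induction r using DirectSum.Decomposition.inductionOn 𝒜 with
    | zero => rw [map_zero]; exact Subring.zero_mem _
    | @homogeneous i a =>
      rw [orbit_of_mem 𝒜 hpos x a.2]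
      by_cases hxa : x (a : R) = 0
      · rw [hxa, map_zero]; exact Subring.zero_mem _
      · have hi : 0 ≤ i := by
          by_contra hi
          rw [not_le] at hi
          exact hxa (by rw [eq_zero_of_neg 𝒜 hpos hi a, map_zero])
        have hmem : i.toNat ∈ semigroup 𝒜 x := by
          refine ⟨a, ?_, hxa⟩
          rw [Int.toNat_of_nonneg hi]
          exact a.2
        exact ⟨AddMonoidAlgebra.single ⟨i.toNat, hmem⟩ (x a), semiEmb_single 𝒜 x _ _⟩
    | add a b ha hb => rw [map_add]; exact Subring.add_mem _ ha hb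
  · rintro _ ⟨p, rfl⟩
    induction p using AddMonoidAlgebra.induction_linear with
    | zero => rw [map_zero]; exact Subring.zero_mem _
    | add f g hf hg => rw [map_add]; exact Subring.add_mem _ hf hg
    | single h c =>
      obtain ⟨r, hr, hxr⟩ := h.2
      refine ⟨(c / x r) • r, ?_⟩
      change orbit 𝒜 hpos x ((c / x r) • r) = semiEmb 𝒜 x (AddMonoidAlgebra.single h c)
      rw [semiEmb_single, map_smul, orbit_of_mem 𝒜 hpos x hr, Int.toNat_natCast,
        Polynomial.smul_monomial, smul_eq_mul, div_mul_cancel₀ _ hxr]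

lemma orbit_surjective_of_one (x : R →ₐ[k] k) {r : R} (hr : r ∈ 𝒜 1) (hxr : x r ≠ 0) :
    Function.Surjective (orbit 𝒜 hpos x) := by
  intro p
  induction p using Polynomial.induction_on' with
  | add p q hp hq =>
    obtain ⟨a, rfl⟩ := hp
    obtain ⟨b, rfl⟩ := hq
    exact ⟨a + b, map_add _ _ _⟩
  | monomial n c =>
    refine ⟨(c / (x r) ^ n) • r ^ n, ?_⟩
    have hrn : r ^ n ∈ 𝒜 (n : ℤ) := by
      have := SetLike.pow_mem_graded n hr
      rw [nsmul_eq_mul, mul_one] at this
      exact this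
    rw [map_smul, orbit_of_mem 𝒜 hpos x hrn, Int.toNat_natCast,
      Polynomial.smul_monomial, smul_eq_mul, map_pow, div_mul_cancel₀ _ (pow_ne_zero n hxr)]

end Orbit

section Aux

lemma ringEquiv_of_range_eq {A B C : Type*} [CommRing A] [CommRing B] [CommRing C]
    (f : A →+* C) (g : B →+* C) (hf : Function.Injective f) (hg : Function.Injective g)
    (h : f.range = g.range) : Nonempty (A ≃+* B) := by
  let e1 : A ≃+* f.range := RingEquiv.ofBijective f.rangeRestrict
    ⟨fun a b hab => hf (congrArg Subtype.val hab), f.rangeRestrict_surjective⟩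
  let e2 : B ≃+* g.range := RingEquiv.ofBijective g.rangeRestrict
    ⟨fun a b hab => hg (congrArg Subtype.val hab), g.rangeRestrict_surjective⟩
  exact ⟨e1.trans ((RingEquiv.subringCongr h).trans e2.symm)⟩

variable {k : Type u} [Field k] {R : Type u} [CommRing R] [Algebra k R]

lemma exists_point [IsAlgClosed k] [Algebra.FiniteType k R] [IsDomain R] (z : R) (hz : z ≠ 0) :
    ∃ x : R →ₐ[k] k, x z ≠ 0 := by
  haveI : IsJacobsonRing R := isJacobsonRing_of_finiteType (A := k)
  have hj : (⊥ : Ideal R).jacobson = ⊥ :=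
    IsJacobsonRing.out ‹_› (Ideal.isRadical_bot)
  have hex : ∃ m : Ideal R, m.IsMaximal ∧ z ∉ m := by
    by_contra hcon
    push Not at hcon
    apply hz
    have : z ∈ (⊥ : Ideal R).jacobson := by
      rw [Ideal.jacobson, Ideal.mem_sInf]
      rintro m ⟨_, hm⟩
      exact hcon m hm
    rw [hj] at this
    exact (Ideal.mem_bot).1 this
  obtain ⟨m, hm, hzm⟩ := hex
  letI := Ideal.Quotient.field m
  haveI : Algebra.FiniteType k (R ⧸ m) :=
    Algebra.FiniteType.of_surjective (Ideal.Quotient.mkₐ k m) (Ideal.Quotient.mkₐ_surjective k m)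
  haveI : Module.Finite k (R ⧸ m) := finite_of_finite_type_of_isJacobsonRing k (R ⧸ m)
  haveI : Algebra.IsIntegral k (R ⧸ m) := Algebra.IsIntegral.of_finite k (R ⧸ m)
  have hbij : Function.Bijective (algebraMap k (R ⧸ m)) :=
    IsAlgClosed.algebraMap_bijective_of_isIntegral
  let e : k ≃ₐ[k] (R ⧸ m) := AlgEquiv.ofBijective (Algebra.ofId k (R ⧸ m)) hbij
  refine ⟨(e.symm : (R ⧸ m) →ₐ[k] k).comp (Ideal.Quotient.mkₐ k m), ?_⟩
  rw [AlgHom.comp_apply]
  intro h0
  have : Ideal.Quotient.mkₐ k m z = 0 := by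
    have := congrArg e h0
    simpa using this
  rw [Ideal.Quotient.mkₐ_eq_mk, Ideal.Quotient.eq_zero_iff_mem] at this
  exact hzm this

end Aux

end Groth.Agent.Lib.Helper6.GradedOrbit
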