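import Groth.Prelude.Def_GSzCSA
import Mathlib.FieldTheory.Galois.Basic
import Mathlib.LinearAlgebra.Matrix.GeneralLinearGroup.Defs
import Mathlib.LinearAlgebra.Matrix.NonsingularInverse
import Mathlib.LinearAlgebra.Basis.VectorSpace
import Mathlib.FieldTheory.Fixed
import Mathlib.Tactic

set_option autoImplicit false
universe u v

namespace Groth.Agent.Helper6.H90

open scoped MatrixGroups
attribute [local instance] CSAGal.matrixAction GpH1.unitsAction

variable {k : Type u} [Field k] {K : Type v} [Field K] [Algebra k K] [FiniteDimensional k K] {n : ℕ}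

/-- Dedekind independence in the form we need. -/
theorem dedekind (f : (K ≃ₐ[k] K) → K) (h : ∀ x : K, ∑ τ : K ≃ₐ[k] K, f τ * τ x = 0) : f = 0 := by
  have hli : LinearIndependent K (fun (f : K ≃ₐ[k] K) => (f : K → K)) :=
    LinearIndependent.comp (ι' := K ≃ₐ[k] K)
      (linearIndependent_monoidHom K K) (fun f => f)
      (fun x y h => by ext; exact DFunLike.ext_iff.1 h _)
  have h2 := Fintype.linearIndependent_iff.1 hli f (by
    funext x
    simp only [Finset.sum_apply, Pi.smul_apply, smul_eq_mul, Pi.zero_apply]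
    exact h x)
  exact funext h2

/-- the twisted averaging operator on vectors -/
noncomputable def beta (a : (K ≃ₐ[k] K) → GL (Fin n) K) (v : Fin n → K) : Fin n → K :=
  ∑ τ : K ≃ₐ[k] K, (a τ : Matrix (Fin n) (Fin n) K).mulVec (fun i => τ (v i))

theorem span_range_beta (a : (K ≃ₐ[k] K) → GL (Fin n) K) (ha1 : a 1 = 1) :
    Submodule.span K (Set.range (beta a)) = ⊤ := by
  by_contra hne
  obtain ⟨φ, hφ0, hφ⟩ := Submodule.exists_le_ker_of_lt_top _ (lt_top_iff_ne_top.2 hne)
  apply hφ0
  have key : ∀ v : Fin n → K, φ v = 0 := by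
    intro v
    have hf := dedekind (k := k)
      (fun τ => φ ((a τ : Matrix (Fin n) (Fin n) K).mulVec (fun i => τ (v i)))) (by
      intro x
      have h1 : beta a (x • v) ∈ LinearMap.ker φ := hφ (Submodule.subset_span ⟨_, rfl⟩)
      rw [LinearMap.mem_ker] at h1
      rw [← h1]
      unfold beta
      rw [map_sum]
      refine Finset.sum_congr rfl fun τ _ => ?_
      have : (fun i => τ ((x • v) i)) = τ x • (fun i => τ (v i)) := by
        funext i
        simp only [Pi.smul_apply, smul_eq_mul, map_mul]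
      rw [this, Matrix.mulVec_smul, map_smul, smul_eq_mul, mul_comm])
    have := congrFun hf 1
    simpa [ha1] using this
  exact LinearMap.ext key

theorem exists_isUnit_sum (a : (K ≃ₐ[k] K) → GL (Fin n) K) (ha1 : a 1 = 1) :
    ∃ X : Matrix (Fin n) (Fin n) K,
      IsUnit (∑ τ : K ≃ₐ[k] K, (a τ : Matrix (Fin n) (Fin n) K) * τ • X) := by
  have hs : ⊤ ≤ Submodule.span K (Set.range (beta a)) := (span_range_beta a ha1).ge
  let B := Module.Basis.ofSpan hs
  let e := (Pi.basisFun K (Fin n)).indexEquiv B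
  let w : Fin n → (Fin n → K) := fun j => ((e j : _) : Fin n → K)
  have hw : LinearIndependent K w := by
    have h1 := B.linearIndependent.comp e e.injective
    rw [Module.Basis.coe_ofSpan] at h1
    exact h1
  have hmem : ∀ j, w j ∈ Set.range (beta a) := by
    intro j
    apply Module.Basis.ofSpan_subset hs
    rw [Module.Basis.coe_ofSpan]
    exact ⟨e j, rfl⟩
  choose v hv using hmem
  refine ⟨Matrix.of (fun i j => v j i), ?_⟩
  have : (∑ τ : K ≃ₐ[k] K, (a τ : Matrix (Fin n) (Fin n) K) * τ • Matrix.of (fun i j => v j i))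
      = Matrix.of (fun i j => w j i) := by
    ext i j
    rw [Matrix.of_apply, ← hv j]
    unfold beta
    rw [Matrix.sum_apply, Finset.sum_apply]
    refine Finset.sum_congr rfl fun τ _ => ?_
    rw [Matrix.mul_apply, Matrix.mulVec, dotProduct]
    rfl
  rw [this, ← Matrix.linearIndependent_cols_iff_isUnit]
  exact hw

theorem h1_trivial (k : Type u) [Field k] (K : Type v) [Field K] [Algebra k K]
    [FiniteDimensional k K] (n : ℕ) :
    GpH1.H1.IsTrivial (K ≃ₐ[k] K) (GL (Fin n) K) := by
  intro x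
  obtain ⟨a, rfl⟩ := GpH1.OneCocycle.cl_surjective x
  unfold GpH1.H1.pt
  rw [GpH1.OneCocycle.cl_eq_cl_iff]
  have ha1 : a.1 1 = 1 := by
    have := a.2 1 1
    rw [one_smul, mul_one] at this
    exact (mul_eq_left.mp this.symm)
  obtain ⟨X, hX⟩ := exists_isUnit_sum a.1 ha1
  obtain ⟨u, hu⟩ := hX
  refine ⟨u⁻¹, fun σ => ?_⟩
  show a.1 σ = (u⁻¹)⁻¹ * 1 * σ • u⁻¹
  rw [inv_inv, mul_one, smul_inv', eq_mul_inv_iff_mul_eq]
  apply Units.ext
  show (a.1 σ : Matrix (Fin n) (Fin n) K) * σ • (u : Matrix (Fin n) (Fin n) K) = u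
  rw [hu, Finset.smul_sum, Finset.mul_sum]
  have : ∀ τ : K ≃ₐ[k] K, (a.1 σ : Matrix (Fin n) (Fin n) K) * σ • ((a.1 τ : Matrix (Fin n) (Fin n) K) * τ • X)
      = (a.1 (σ * τ) : Matrix (Fin n) (Fin n) K) * (σ * τ) • X := by
    intro τ
    rw [smul_mul', ← mul_assoc, mul_smul, a.2 σ τ]
    rfl
  simp_rw [this]
  exact Fintype.sum_bijective (fun i => σ * i) (Group.mulLeft_bijective σ) _ _ (fun i => rfl)

end Groth.Agent.Helper6.H90
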