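import Mathlib

set_option autoImplicit false
set_option linter.style.haveILetI false
set_option linter.unusedSimpArgs false

namespace Groth.Agent.Lib.Helper6.HenselDecomp

open Polynomial IsLocalRing

/-- The Hensel property for the pair `(A, Q)`, for a monic polynomial. -/
def PairHensel {A : Type*} [CommRing A] (Q : Ideal A) (f : A[X]) : Prop :=
  ∀ a₀ : A, f.eval a₀ ∈ Q → f.derivative.eval a₀ ∉ Q → ∃ a : A, f.eval a = 0 ∧ a - a₀ ∈ Q

theorem henselian_of_pairHensel {A : Type*} [CommRing A] (Q : Ideal A) [Q.IsPrime]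
    (h : ∀ f : A[X], f.Monic → PairHensel Q f) :
    HenselianLocalRing (Localization.AtPrime Q) := by
  classical
  refine ⟨fun f hf a₀ h0 hu => ?_⟩
  let φ : A →+* Localization.AtPrime Q := algebraMap A (Localization.AtPrime Q)
  -- common denominator
  obtain ⟨v, hv⟩ := IsLocalization.exist_integer_multiples_of_finset Q.primeCompl
    (insert a₀ ((Finset.range (f.natDegree + 1)).image f.coeff))
  have hs : IsUnit (φ (v : A)) := IsLocalization.map_units (Localization.AtPrime Q) v
  set s : Localization.AtPrime Q := φ (v : A) with hsdef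
  have hva : ∃ a' : A, φ a' = s * a₀ := by
    obtain ⟨a', ha'⟩ := hv a₀ (Finset.mem_insert_self _ _)
    exact ⟨a', by rw [ha', Algebra.smul_def]⟩
  have hvc : ∀ i, ∃ c : A, φ c = s * f.coeff i := by
    intro i
    by_cases hi : i < f.natDegree + 1
    · obtain ⟨c, hc⟩ := hv (f.coeff i) (Finset.mem_insert_of_mem
        (Finset.mem_image.2 ⟨i, Finset.mem_range.2 hi, rfl⟩))
      exact ⟨c, by rw [hc, Algebra.smul_def]⟩
    · refine ⟨0, ?_⟩
      rw [coeff_eq_zero_of_natDegree_lt (by omega), mul_zero, map_zero]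
  obtain ⟨ã₀, hã₀⟩ := hva
  have hlift : scaleRoots f s ∈ lifts φ := by
    rw [lifts_iff_coeff_lifts]
    intro i
    rw [coeff_scaleRoots]
    rcases lt_trichotomy i f.natDegree with hi | hi | hi
    · obtain ⟨c, hc⟩ := hvc i
      refine ⟨c * (v : A) ^ (f.natDegree - i - 1), ?_⟩
      rw [map_mul, map_pow, hc]
      have : s ^ (f.natDegree - i) = s ^ (f.natDegree - i - 1) * s := by
        rw [← pow_succ]; congr 1; omega
      rw [this]
      show s * f.coeff i * s ^ _ = _
      ring
    · subst hi
      refine ⟨1, ?_⟩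
      rw [map_one, Nat.sub_self, pow_zero, mul_one]
      exact hf.coeff_natDegree.symm
    · refine ⟨0, ?_⟩
      rw [coeff_eq_zero_of_natDegree_lt hi, zero_mul, map_zero]
  have hmonic : (scaleRoots f s).Monic := (monic_scaleRoots_iff s).2 hf
  obtain ⟨F, hF, -, hFmonic⟩ := lifts_and_natDegree_eq_and_monic hlift hmonic
  -- evaluation identities
  have hev : ∀ x : Localization.AtPrime Q, eval (s * x) (scaleRoots f s) = s ^ f.natDegree * eval x f :=
    fun x => scaleRoots_eval_mul f x s
  have hcomp : (scaleRoots f s).comp (C s * X) = C (s ^ f.natDegree) * f := by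
    have := scaleRoots_eval₂_mul (p := f) (C : Localization.AtPrime Q →+* (Localization.AtPrime Q)[X]) X s
    rw [eval₂_C_X] at this
    rw [comp, this, map_pow]
  have hder : ∀ x : Localization.AtPrime Q, eval (s * x) (derivative (scaleRoots f s)) * s =
      s ^ f.natDegree * eval x (derivative f) := by
    intro x
    have h1 := congrArg (fun p => eval x (derivative p)) hcomp
    simp only [derivative_comp, derivative_mul, derivative_C, derivative_X, zero_mul, zero_add,
      mul_one, eval_mul, eval_comp, eval_C, eval_X, add_zero] at h1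
    rw [← h1]; ring
  have hφev : ∀ x : A, φ (eval x F) = eval (φ x) (scaleRoots f s) := by
    intro x; rw [← hF, eval_map, eval₂_hom]
  have hφder : ∀ x : A, φ (eval x (derivative F)) = eval (φ x) (derivative (scaleRoots f s)) := by
    intro x; rw [← hF, derivative_map, eval_map, eval₂_hom]
  have hmem : ∀ x : A, φ x ∈ maximalIdeal (Localization.AtPrime Q) ↔ x ∈ Q :=
    fun x => IsLocalization.AtPrime.to_map_mem_maximal_iff (Localization.AtPrime Q) Q x
  have hF0 : F.eval ã₀ ∈ Q := by
    rw [← hmem, hφev, hã₀, hev]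
    exact Ideal.mul_mem_left _ _ h0
  have hF1 : F.derivative.eval ã₀ ∉ Q := by
    rw [← hmem, hφder, hã₀, IsLocalRing.notMem_maximalIdeal]
    have h2 : IsUnit (eval (s * a₀) (derivative (scaleRoots f s)) * s) := by
      rw [hder]; exact (hs.pow _).mul hu
    exact isUnit_of_mul_isUnit_left h2
  obtain ⟨ã, hã, hãQ⟩ := h F hFmonic ã₀ hF0 hF1
  obtain ⟨t, ht⟩ := hs.exists_left_inv
  refine ⟨t * φ ã, ?_, ?_⟩
  · have h3 : s * (t * φ ã) = φ ã := by rw [← mul_assoc, mul_comm s t, ht, one_mul]
    have h4 := hev (t * φ ã)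
    rw [h3, ← hφev, hã, map_zero] at h4
    exact ((hs.pow _).mul_right_eq_zero).1 h4.symm
  · have h5 : t * φ ã - a₀ = t * φ (ã - ã₀) := by
      rw [map_sub, hã₀, mul_sub, ← mul_assoc, ht, one_mul]
    rw [h5]
    exact Ideal.mul_mem_left _ _ ((hmem _).2 hãQ)

/-- a factor of `f` which is `PairHensel`, and vanishes at `a₀` mod `Q`, gives a root of `f`. -/
theorem pairHensel_aux {A : Type*} [CommRing A] (Q : Ideal A) [Q.IsPrime] (G H : A[X])
    (hG : PairHensel Q G) (a₀ : A) (h0 : G.eval a₀ ∈ Q)
    (h1 : (G * H).derivative.eval a₀ ∉ Q) : ∃ a : A, (G * H).eval a = 0 ∧ a - a₀ ∈ Q := by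
  have h2 : G.derivative.eval a₀ ∉ Q := by
    intro h
    apply h1
    rw [derivative_mul, eval_add, eval_mul, eval_mul]
    exact Q.add_mem (Q.mul_mem_right _ h) (Q.mul_mem_right _ h0)
  obtain ⟨a, ha, haQ⟩ := hG a₀ h0 h2
  exact ⟨a, by rw [eval_mul, ha, zero_mul], haQ⟩

theorem pairHensel_of_separable {A L : Type*} [CommRing A] [IsDomain A] [Field L] [Algebra A L]
    [IsFractionRing A L] [IsIntegrallyClosed A] (Q : Ideal A) [Q.IsPrime]
    (h : ∀ f : A[X], f.Monic → (f.map (algebraMap A L)).Separable → PairHensel Q f) :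
    ∀ f : A[X], f.Monic → PairHensel Q f := by
  have hinj : Function.Injective (algebraMap A L) := IsFractionRing.injective A L
  suffices H : ∀ n : ℕ, ∀ f : A[X], f.natDegree = n → f.Monic → PairHensel Q f from
    fun f hf => H _ f rfl hf
  intro n
  induction n using Nat.strong_induction_on with
  | _ n ih =>
    intro f hn hf
    by_cases hirr : Irreducible (f.map (algebraMap A L))
    · by_cases hsep : (f.map (algebraMap A L)).Separable
      · exact h f hf hsep
      · -- the derivative vanishes
        have hd : derivative (f.map (algebraMap A L)) = 0 := by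
          by_contra hne
          exact hsep ((separable_iff_derivative_ne_zero hirr).2 hne)
        have hd' : derivative f = 0 := by
          apply map_injective _ hinj
          rw [← derivative_map, hd, Polynomial.map_zero]
        intro a₀ _ h1
        rw [hd', eval_zero] at h1
        exact absurd Q.zero_mem h1
    · intro a₀ h0 h1
      have hmonL : (f.map (algebraMap A L)).Monic := hf.map _
      have hnu : ¬ IsUnit (f.map (algebraMap A L)) := by
        intro hu
        have h2 : f.natDegree = 0 := by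
          have := natDegree_eq_zero_of_isUnit hu
          rwa [hf.natDegree_map] at this
        have h3 : f = 1 := hf.natDegree_eq_zero.1 h2
        rw [h3, eval_one] at h0
        exact (Ideal.IsPrime.ne_top inferInstance) ((Ideal.eq_top_iff_one Q).2 h0)
      rw [irreducible_iff] at hirr
      push Not at hirr
      obtain ⟨g, k, hgk, hgu, hku⟩ := hirr hnu
      obtain ⟨g', hg'⟩ := IsIntegrallyClosed.eq_map_mul_C_of_dvd L hf (Dvd.intro k hgk.symm)
      obtain ⟨k', hk'⟩ := IsIntegrallyClosed.eq_map_mul_C_of_dvd L hf (Dvd.intro_left g hgk.symm)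
      have hf0 : f.map (algebraMap A L) ≠ 0 := hmonL.ne_zero
      have hg0 : g ≠ 0 := fun h => hf0 (by rw [hgk, h, zero_mul])
      have hk0 : k ≠ 0 := fun h => hf0 (by rw [hgk, h, mul_zero])
      have hlc : g.leadingCoeff * k.leadingCoeff = 1 := by
        rw [← leadingCoeff_mul, ← hgk]; exact hmonL
      have hfac : f = g' * k' := by
        apply map_injective _ hinj
        rw [Polynomial.map_mul, hgk]
        conv_lhs => rw [← hg', ← hk']
        have : C g.leadingCoeff * C k.leadingCoeff = (1 : L[X]) := by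
          rw [← C_mul, hlc, C_1]
        linear_combination (map (algebraMap A L) g' * map (algebraMap A L) k') * this
      have hmon : ∀ (p : L[X]) (p' : A[X]), p ≠ 0 → p'.map (algebraMap A L) * C p.leadingCoeff = p →
          p'.Monic ∧ p'.natDegree = p.natDegree := by
        intro p p' hp0 hp
        have hlc0 : p.leadingCoeff ≠ 0 := leadingCoeff_ne_zero.2 hp0
        constructor
        · have h2 := congrArg leadingCoeff hp
          rw [leadingCoeff_mul, leadingCoeff_C] at h2
          have h3 : (p'.map (algebraMap A L)).leadingCoeff = 1 :=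
            mul_right_cancel₀ hlc0 (h2.trans (one_mul _).symm)
          rw [leadingCoeff_map_of_injective hinj] at h3
          exact hinj (h3.trans (map_one _).symm)
        · have h2 := congrArg natDegree hp
          rw [natDegree_mul_C hlc0, natDegree_map_eq_of_injective hinj] at h2
          exact h2
      obtain ⟨hg'm, hg'd⟩ := hmon g g' hg0 hg'
      obtain ⟨hk'm, hk'd⟩ := hmon k k' hk0 hk'
      have hgpos : 0 < g.natDegree :=
        natDegree_pos_iff_degree_pos.2 (degree_pos_of_ne_zero_of_nonunit hg0 hgu)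
      have hkpos : 0 < k.natDegree :=
        natDegree_pos_iff_degree_pos.2 (degree_pos_of_ne_zero_of_nonunit hk0 hku)
      have hdeg : f.natDegree = g'.natDegree + k'.natDegree := by
        rw [hfac, hg'm.natDegree_mul hk'm]
      have hev : g'.eval a₀ * k'.eval a₀ ∈ Q := by
        rw [← eval_mul, ← hfac]; exact h0
      rcases (Ideal.IsPrime.mem_or_mem inferInstance hev) with hc | hc
      · have := pairHensel_aux Q g' k' (ih g'.natDegree (by omega) g' rfl hg'm) a₀ hc
          (by rw [← hfac]; exact h1)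
        rwa [← hfac] at this
      · have hfac' : f = k' * g' := by rw [hfac, mul_comm]
        have := pairHensel_aux Q k' g' (ih k'.natDegree (by omega) k' rfl hk'm) a₀ hc
          (by rw [← hfac']; exact h1)
        rwa [← hfac'] at this

/-- The root argument. -/
theorem pairHensel_of_splits {A S : Type*} [CommRing A] [CommRing S] [IsDomain S]
    (ι : A →+* S) (hι : Function.Injective ι) (P : Ideal S) [P.IsPrime]
    (Ψ : Set (S →+* S)) (hΨP : ∀ ψ ∈ Ψ, ∀ x ∈ P, ψ x ∈ P) (hΨι : ∀ ψ ∈ Ψ, ∀ a, ψ (ι a) = ι a)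
    (hfix : ∀ s : S, (∀ ψ ∈ Ψ, ψ s = s) → s ∈ ι.range)
    (f : A[X]) (hf : f.Monic) (hsplit : (f.map ι).Splits) :
    PairHensel (P.comap ι) f := by
  classical
  intro a₀ h0 h1
  have hmon : (f.map ι).Monic := hf.map ι
  have hne : f.map ι ≠ 0 := hmon.ne_zero
  have hev : ∀ x : A, ι (f.eval x) = (f.map ι).eval (ι x) := by
    intro x; rw [eval_map, eval₂_hom]
  have hevd : ∀ x : A, ι (f.derivative.eval x) = (f.map ι).derivative.eval (ι x) := by
    intro x; rw [derivative_map, eval_map, eval₂_hom]
  -- a root congruent to `a₀`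
  have h0' : ((f.map ι).roots.map (ι a₀ - ·)).prod ∈ P := by
    rw [← hsplit.eval_eq_prod_roots_of_monic hmon, ← hev]
    exact h0
  obtain ⟨y, hy, hyP⟩ := (Ideal.IsPrime.multiset_prod_mem_iff_exists_mem inferInstance _).1 h0'
  obtain ⟨a₁, ha₁, rfl⟩ := Multiset.mem_map.1 hy
  -- the other roots are not congruent to `a₀`
  have hprod : (f.map ι) = (X - C a₁) * (((f.map ι).roots.erase a₁).map (X - C ·)).prod := by
    conv_lhs => rw [hsplit.eq_prod_roots_of_monic hmon, ← Multiset.cons_erase ha₁,
      Multiset.map_cons, Multiset.prod_cons]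
  set h := (((f.map ι).roots.erase a₁).map (X - C ·)).prod with hh
  have h1' : h.eval (ι a₀) ∉ P := by
    intro hc
    apply h1
    show ι _ ∈ P
    rw [hevd, hprod, derivative_mul, eval_add, eval_mul, eval_mul]
    refine P.add_mem (P.mul_mem_left _ hc) (P.mul_mem_right _ ?_)
    simpa using hyP
  have hother : ∀ b ∈ (f.map ι).roots.erase a₁, ι a₀ - b ∉ P := by
    intro b hb hbP
    apply h1'
    rw [hh, eval_multiset_prod, Multiset.map_map]
    refine (Ideal.IsPrime.multiset_prod_mem_iff_exists_mem inferInstance _).2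
      ⟨ι a₀ - b, Multiset.mem_map.2 ⟨b, hb, by simp⟩, hbP⟩
  -- `a₁` is fixed by `Ψ`
  have hfixed : ∀ ψ ∈ Ψ, ψ a₁ = a₁ := by
    intro ψ hψ
    by_contra hne1
    have hroot : ψ a₁ ∈ (f.map ι).roots := by
      rw [mem_roots hne, IsRoot.def, eval_map]
      have h2 : f.eval₂ ι a₁ = 0 := by
        rw [← eval_map]; exact (mem_roots hne).1 ha₁
      have h3 := congrArg ψ h2
      rw [hom_eval₂, map_zero] at h3
      have h4 : ψ.comp ι = ι := RingHom.ext fun a => hΨι ψ hψ a
      rwa [h4] at h3
    have hmem : ψ a₁ ∈ (f.map ι).roots.erase a₁ := (Multiset.mem_erase_of_ne hne1).2 hroot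
    apply hother _ hmem
    have : ι a₀ - ψ a₁ = ψ (ι a₀ - a₁) := by rw [map_sub, hΨι ψ hψ]
    rw [this]
    exact hΨP ψ hψ _ hyP
  obtain ⟨a, ha⟩ := hfix a₁ hfixed
  refine ⟨a, ?_, ?_⟩
  · apply hι
    rw [hev, ha, map_zero]
    exact (mem_roots hne).1 ha₁
  · show ι (a - a₀) ∈ P
    rw [map_sub, ha]
    have := P.neg_mem hyP
    simpa using this

theorem henselian_fixedField (R K Ks : Type*) [CommRing R] [IsDomain R]
    [Field K] [Algebra R K] [IsFractionRing R K]
    [Field Ks] [Algebra K Ks] [IsSepClosure K Ks] [Algebra R Ks] [IsScalarTower R K Ks]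
    (Ps : Ideal (integralClosure R Ks)) [Ps.IsMaximal]
    (L : IntermediateField K Ks)
    (T : Set (Ks ≃ₐ[K] Ks))
    (hT : ∀ σ ∈ T, ∀ x : integralClosure R Ks, x ∈ Ps →
        ∃ h : σ (x : Ks) ∈ integralClosure R Ks, (⟨σ (x : Ks), h⟩ : integralClosure R Ks) ∈ Ps)
    (hL : L = IntermediateField.fixedField (Subgroup.closure T))
    (Q : Ideal (integralClosure R L)) [Q.IsPrime]
    (hQ : ∀ y : integralClosure R L, y ∈ Q ↔
      ∃ x : integralClosure R Ks, x ∈ Ps ∧ (x : Ks) = ((y : L) : Ks)) :
    HenselianLocalRing (Localization.AtPrime Q) := by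
  classical
  haveI : IsScalarTower R L Ks := IsScalarTower.of_algebraMap_eq fun r => rfl
  haveI : IsSepClosed Ks := IsSepClosure.sep_closed K
  haveI : Algebra.IsAlgebraic R L := (IsFractionRing.comap_isAlgebraic_iff (A := R) (K := K)).2
    inferInstance
  let j : L →ₐ[R] Ks := IsScalarTower.toAlgHom R L Ks
  have hj : Function.Injective j := (algebraMap L Ks).injective
  let ι : integralClosure R L →+* integralClosure R Ks := (AlgHom.mapIntegralClosure j).toRingHom
  have hιv : ∀ x, ((ι x : integralClosure R Ks) : Ks) = ((x : L) : Ks) := fun x => rfl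
  have hι : Function.Injective ι := by
    intro x y hxy
    apply Subtype.ext
    apply hj
    have := congrArg Subtype.val hxy
    rwa [hιv, hιv] at this
  -- `Q` is the contraction of `Ps`
  have hQeq : Q = Ps.comap ι := by
    ext y
    rw [hQ, Ideal.mem_comap]
    constructor
    · rintro ⟨x, hx, hxy⟩
      have : x = ι y := Subtype.ext hxy
      rw [← this]; exact hx
    · intro h
      exact ⟨ι y, h, rfl⟩
  -- the integral closure in `L`
  haveI : IsFractionRing (integralClosure R L) L :=
    integralClosure.isFractionRing_of_algebraic (A := R) (L := L) (fun x hx => by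
      have h1 : Function.Injective (algebraMap R L) := by
        rw [IsScalarTower.algebraMap_eq R K L]
        exact (algebraMap K L).injective.comp (IsFractionRing.injective R K)
      exact h1 (hx.trans (map_zero _).symm))
  haveI : IsIntegrallyClosed (integralClosure R L) := by
    refine (isIntegrallyClosed_iff L).2 fun {x} hx => ?_
    exact ⟨⟨x, isIntegral_trans x hx⟩, rfl⟩
  -- the set of endomorphisms
  let res : (Ks ≃ₐ[K] Ks) → (integralClosure R Ks →+* integralClosure R Ks) := fun σ =>
    (AlgEquiv.mapIntegralClosure (σ.restrictScalars R)).toAlgHom.toRingHom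
  have hres : ∀ σ x, ((res σ x : integralClosure R Ks) : Ks) = σ (x : Ks) := fun σ x => rfl
  let Ψ : Set (integralClosure R Ks →+* integralClosure R Ks) := res '' T
  have hΨP : ∀ ψ ∈ Ψ, ∀ x ∈ Ps, ψ x ∈ Ps := by
    rintro _ ⟨σ, hσ, rfl⟩ x hx
    obtain ⟨h, hmem⟩ := hT σ hσ x hx
    have : res σ x = ⟨σ (x : Ks), h⟩ := Subtype.ext (hres σ x)
    rw [this]; exact hmem
  have hLmem : ∀ z : Ks, z ∈ L ↔ ∀ σ ∈ T, σ z = z := by
    intro z
    rw [hL, IntermediateField.mem_fixedField_iff]
    constructor
    · intro h σ hσ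
      exact h σ (Subgroup.subset_closure hσ)
    · intro h σ hσ
      have hle : Subgroup.closure T ≤ MulAction.stabilizer (Ks ≃ₐ[K] Ks) z := by
        rw [Subgroup.closure_le]
        intro τ hτ
        exact h τ hτ
      exact hle hσ
  have hΨι : ∀ ψ ∈ Ψ, ∀ a, ψ (ι a) = ι a := by
    rintro _ ⟨σ, hσ, rfl⟩ a
    apply Subtype.ext
    rw [hres, hιv]
    exact (hLmem _).1 (a : L).2 σ hσ
  have hfix : ∀ s : integralClosure R Ks, (∀ ψ ∈ Ψ, ψ s = s) → s ∈ ι.range := by
    intro s hs
    have hsL : (s : Ks) ∈ L := by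
      rw [hLmem]
      intro σ hσ
      have := congrArg Subtype.val (hs _ ⟨σ, hσ, rfl⟩)
      rwa [hres] at this
    have hint : IsIntegral R (⟨(s : Ks), hsL⟩ : L) :=
      (isIntegral_algHom_iff j hj).1 s.2
    exact ⟨⟨⟨(s : Ks), hsL⟩, hint⟩, Subtype.ext rfl⟩
  -- splitting
  have hsplit : ∀ f : (integralClosure R L)[X], f.Monic →
      (f.map (algebraMap (integralClosure R L) L)).Separable → (f.map ι).Splits := by
    intro f hf hsep
    have hcomp : (algebraMap (integralClosure R Ks) Ks).comp ι =
        (algebraMap L Ks).comp (algebraMap (integralClosure R L) L) := RingHom.ext fun x => rfl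
    have h1 : ((f.map ι).map (algebraMap (integralClosure R Ks) Ks)).Splits := by
      rw [Polynomial.map_map, hcomp, ← Polynomial.map_map]
      exact IsSepClosed.splits_of_separable _ (hsep.map)
    refine Splits.of_splits_map_of_injective (i := algebraMap (integralClosure R Ks) Ks)
      Subtype.val_injective h1 fun α hα => ?_
    have hmon : (f.map ι).Monic := hf.map ι
    have hα0 : eval₂ (algebraMap (integralClosure R Ks) Ks) α (f.map ι) = 0 := by
      rw [← eval_map]
      exact (mem_roots (hmon.map _).ne_zero).1 hα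
    have hintS : IsIntegral (integralClosure R Ks) α := ⟨f.map ι, hmon, hα0⟩
    exact ⟨⟨α, isIntegral_trans α hintS⟩, rfl⟩
  refine henselian_of_pairHensel Q (pairHensel_of_separable (L := L) Q fun f hf hsep => ?_)
  rw [hQeq]
  exact pairHensel_of_splits ι hι Ps Ψ hΨP hΨι hfix f hf (hsplit f hf hsep)

end Groth.Agent.Lib.Helper6.HenselDecomp
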