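import Mathlib
import Groth.Prelude.Def_W4c2azumayainvolQEt

set_option linter.unusedSectionVars false
set_option autoImplicit false
set_option maxHeartbeats 400000

noncomputable section

namespace Groth.Agent.Lib.Helper6.HermDiag

universe u v

section RingLemmas

variable {B : Type u} {A : Type v} [CommRing B] [CommRing A] [Algebra B A]
  (lam : A →+* A) (hlam : ∀ a, lam (lam a) = a)
  (hfix : ∀ r : A, lam r = r → r ∈ Set.range (algebraMap B A)) [IsLocalRing B]

lemma mem_J_iff {a : A} : a ∈ Ring.jacobson A ↔ ∀ y, IsUnit (a * y + 1) := by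
  rw [← Ideal.jacobson_bot, Ideal.mem_jacobson_bot]

lemma isUnit_add_of_mem_J {u j : A} (hu : IsUnit u) (hj : j ∈ Ring.jacobson A) :
    IsUnit (u + j) := by
  obtain ⟨u, rfl⟩ := hu
  have h1 := (mem_J_iff.mp hj) (↑u⁻¹ : A)
  have : (u : A) + j = u * (j * ↑u⁻¹ + 1) := by
    rw [mul_add, mul_one, mul_comm j, ← mul_assoc, Units.mul_inv, one_mul, add_comm]
  rw [this]
  exact u.isUnit.mul h1

lemma not_isUnit_of_mem_J [Nontrivial A] {a : A} (ha : a ∈ Ring.jacobson A) : ¬ IsUnit a := by
  intro hu
  obtain ⟨u, rfl⟩ := hu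
  have h1 := (mem_J_iff.mp ha) (-↑u⁻¹ : A)
  rw [mul_neg, Units.mul_inv, neg_add_cancel] at h1
  exact not_isUnit_zero h1

include hlam hfix in
/-- hermitian-type non-units lie in the Jacobson radical -/
lemma mem_jacobson_of_not_isUnit (a δ : A) (ha : lam a = δ * a) (hnu : ¬ IsUnit a) :
    a ∈ Ring.jacobson A := by
  rw [mem_J_iff]
  intro y
  set z := a * y + 1 with hz
  have hfixz : lam (z * lam z) = z * lam z := by rw [map_mul, hlam z, mul_comm]
  obtain ⟨b, hb⟩ := hfix _ hfixz
  have hw : z * lam z = 1 + a * (y + δ * lam y + δ * a * y * lam y) := by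
    simp only [hz, map_add, map_mul, map_one, ha]
    ring
  rcases IsLocalRing.isUnit_or_isUnit_one_sub_self b with h1 | h1
  · have h2 : IsUnit (z * lam z) := hb ▸ h1.map (algebraMap B A)
    exact isUnit_of_mul_isUnit_left h2
  · exfalso
    apply hnu
    have h2 : a * (y + δ * lam y + δ * a * y * lam y) = - algebraMap B A (1 - b) := by
      rw [map_sub, map_one, hb, hw]; ring
    have h3 : IsUnit (a * (y + δ * lam y + δ * a * y * lam y)) := by
      rw [h2]; exact (h1.map (algebraMap B A)).neg
    exact isUnit_of_mul_isUnit_left h3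

include hlam in
lemma lam_mem_jacobson {a : A} (ha : a ∈ Ring.jacobson A) : lam a ∈ Ring.jacobson A := by
  rw [mem_J_iff] at ha ⊢
  intro y
  have := (ha (lam y)).map lam
  simpa [map_add, map_mul, hlam y] using this

include hlam hfix in
/-- when `lam` is the identity modulo the radical, `A` is local: non-radical elements are units -/
lemma isUnit_of_not_mem (hid : ∀ a, lam a - a ∈ Ring.jacobson A) {t : A}
    (ht : t ∉ Ring.jacobson A) : IsUnit t := by
  by_contra hnu
  apply ht
  have hN : t * lam t ∈ Ring.jacobson A := by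
    apply mem_jacobson_of_not_isUnit lam hlam hfix (t * lam t) 1
    · rw [map_mul, hlam, one_mul, mul_comm]
    · intro h
      exact hnu (isUnit_of_mul_isUnit_left h)
  have hsq : t ^ 2 ∈ Ring.jacobson A := by
    have : t ^ 2 = t * lam t - t * (lam t - t) := by ring
    rw [this]
    exact sub_mem hN (Ideal.mul_mem_left _ _ (hid t))
  have hrad := Ideal.isRadical_jacobson (⊥ : Ideal A)
  rw [Ideal.jacobson_bot] at hrad
  exact hrad ⟨2, hsq⟩

/-- the key property used for finding anisotropic vectors -/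
def PropP (ε : A) : Prop :=
  ∀ t : A, t ∉ Ring.jacobson A → ∃ c : A, IsUnit (t * c + ε * lam (t * c))

include hlam hfix in
lemma propP_of (ε : A) (hε : ε = 1 ∨ ε = -1)
    (h : (∃ a : A, lam a - a ∉ Ring.jacobson A) ∨ ε + 1 ∉ Ring.jacobson A) :
    PropP lam ε := by
  have hεε : ε * ε = 1 := by rcases hε with rfl | rfl <;> simp
  have hlε : lam ε = ε := by rcases hε with rfl | rfl <;> simp
  intro t ht
  by_contra hno
  push Not at hno
  apply ht
  have hφ : ∀ c, t * c + ε * lam (t * c) ∈ Ring.jacobson A := by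
    intro c
    apply mem_jacobson_of_not_isUnit lam hlam hfix _ ε _ (hno c)
    rw [map_add, map_mul lam ε, hlam, hlε]
    linear_combination (-(lam (t * c))) * hεε
  have hT : ∀ d, t * (d - lam d) ∈ Ring.jacobson A := by
    intro d
    have h1 : ε * (lam t * (lam d - d)) ∈ Ring.jacobson A := by
      have h2 := sub_mem (hφ d) (Ideal.mul_mem_left _ d (hφ 1))
      have h3 : t * d + ε * lam (t * d) - d * (t * 1 + ε * lam (t * 1))
          = ε * (lam t * (lam d - d)) := by
        simp only [map_mul, mul_one]; ring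
      rwa [h3] at h2
    have h4 : lam t * (lam d - d) ∈ Ring.jacobson A := by
      have := Ideal.mul_mem_left _ ε h1
      rwa [← mul_assoc, hεε, one_mul] at this
    have h5 := lam_mem_jacobson lam hlam h4
    simpa [map_mul, map_sub, hlam] using h5
  by_cases hA : ∃ a : A, lam a - a ∉ Ring.jacobson A
  · obtain ⟨a, ha⟩ := hA
    have hunit : IsUnit (lam a - a) := by
      by_contra hnu
      apply ha
      apply mem_jacobson_of_not_isUnit lam hlam hfix _ (-1) _ hnu
      rw [map_sub, hlam]; ring
    have h1 := hT a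
    have h2 : t * (lam a - a) ∈ Ring.jacobson A := by
      have := neg_mem h1
      rwa [← mul_neg, neg_sub] at this
    obtain ⟨w, hw⟩ := hunit
    have h3 := Ideal.mul_mem_right (↑w⁻¹ : A) _ h2
    rwa [← hw, mul_assoc, Units.mul_inv, mul_one] at h3
  · push Not at hA
    have hε1 : ε + 1 ∉ Ring.jacobson A := by
      rcases h with ⟨a, ha⟩ | h
      · exact absurd (hA a) ha
      · exact h
    have hε' : ε = 1 := by
      rcases hε with rfl | rfl
      · rfl
      · exfalso; apply hε1; simp
    subst hε'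
    have h2unit : IsUnit (1 + 1 : A) := by
      by_contra hnu
      apply hε1
      apply mem_jacobson_of_not_isUnit lam hlam hfix _ 1 _ hnu
      simp
    have h1 := hφ 1
    simp only [mul_one, one_mul] at h1
    have h2 : (1 + 1) * t ∈ Ring.jacobson A := by
      have := sub_mem h1 (hA t)
      have e : t + lam t - (lam t - t) = (1 + 1) * t := by ring
      rwa [e] at this
    obtain ⟨w, hw⟩ := h2unit
    have h3 := Ideal.mul_mem_left _ (↑w⁻¹ : A) h2
    rwa [← hw, ← mul_assoc, Units.inv_mul, one_mul] at h3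

end RingLemmas

section AltDet

/-- generic skew matrix -/
def genSkew (n : ℕ) : Matrix (Fin n) (Fin n) (MvPolynomial (Fin n × Fin n) ℤ) :=
  fun i j => MvPolynomial.X (i, j) - MvPolynomial.X (j, i)

lemma genSkew_det (n : ℕ) (hodd : Odd n) : (genSkew n).det = 0 := by
  have hG : (genSkew n).transpose = -(genSkew n) := by
    ext i j
    simp [genSkew]
  have h1 : (genSkew n).det = -(genSkew n).det := by
    conv_lhs => rw [← Matrix.det_transpose, hG, Matrix.det_neg, Fintype.card_fin,
      hodd.neg_one_pow, neg_one_mul]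
  have h2 : (2 : MvPolynomial (Fin n × Fin n) ℤ) * (genSkew n).det = 0 := by
    linear_combination h1
  rcases mul_eq_zero.mp h2 with h3 | h3
  · exfalso
    have h4 : (MvPolynomial.C (2 : ℤ) : MvPolynomial (Fin n × Fin n) ℤ) = 0 := by
      rw [← h3]; simp
    rw [map_eq_zero_iff _ (MvPolynomial.C_injective _ _)] at h4
    exact absurd h4 (by norm_num)
  · exact h3

/-- the specialisation map -/
def specMap {R : Type*} [CommRing R] {n : ℕ} (M : Matrix (Fin n) (Fin n) R) :
    MvPolynomial (Fin n × Fin n) ℤ →+* R :=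
  MvPolynomial.eval₂Hom (Int.castRingHom R)
    (fun p : Fin n × Fin n => if p.1 < p.2 then M p.1 p.2 else 0)

lemma specMap_X {R : Type*} [CommRing R] {n : ℕ} (M : Matrix (Fin n) (Fin n) R) (i j : Fin n) :
    specMap M (MvPolynomial.X (i, j)) = if i < j then M i j else 0 := by
  simp [specMap]

/-- an alternating matrix of odd size has determinant zero (over any commutative ring) -/
lemma det_eq_zero_of_alt_fin {R : Type*} [CommRing R] {n : ℕ} (M : Matrix (Fin n) (Fin n) R)
    (hT : M.transpose = -M) (hdiag : ∀ i, M i i = 0) (hodd : Odd n) : M.det = 0 := by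
  have hfG : (specMap M).mapMatrix (genSkew n) = M := by
    ext i j
    rw [RingHom.mapMatrix_apply, Matrix.map_apply, genSkew, map_sub, specMap_X, specMap_X]
    have hji : M j i = - M i j := by
      have := congrFun (congrFun hT i) j
      simpa using this
    rcases lt_trichotomy i j with hlt | heq | hgt
    · simp [hlt, not_lt.mpr hlt.le]
    · subst heq; simp [hdiag]
    · simp [hgt, not_lt.mpr hgt.le, hji]
  rw [← hfG, ← RingHom.map_det, genSkew_det n hodd, map_zero]

lemma det_eq_zero_of_alt {R : Type*} [CommRing R] {ι : Type*} [Fintype ι] [DecidableEq ι]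
    (M : Matrix ι ι R) (hT : M.transpose = -M) (hdiag : ∀ i, M i i = 0)
    (hodd : Odd (Fintype.card ι)) : M.det = 0 := by
  let e := Fintype.equivFin ι
  rw [← Matrix.det_submatrix_equiv_self e.symm M]
  apply det_eq_zero_of_alt_fin _ _ _ hodd
  · ext i j
    have := congrFun (congrFun hT (e.symm i)) (e.symm j)
    simpa using this
  · intro i; simp [hdiag]

end AltDet

section Mat

variable {A : Type v} [CommRing A] (lam : A →+* A) (hlam : ∀ a, lam (lam a) = a) (ε : A)

variable {ι κ : Type} [Fintype ι] [DecidableEq ι] [Fintype κ] [DecidableEq κ]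

/-- change of basis for a sesquilinear form -/
def conj (h v : Matrix ι ι A) : Matrix ι ι A := (v.map lam).transpose * h * v

/-- `ε`-hermitian -/
def IsHerm (h : Matrix ι ι A) : Prop := ε • (h.map lam).transpose = h

/-- diagonalisable by congruence -/
def Diag (h : Matrix ι ι A) : Prop :=
  ∃ v : Matrix ι ι A, IsUnit v ∧ ∃ d : ι → A, conj lam h v = Matrix.diagonal d

lemma conj_mul (h v w : Matrix ι ι A) : conj lam (conj lam h v) w = conj lam h (v * w) := by
  simp only [conj, Matrix.map_mul, Matrix.transpose_mul, Matrix.mul_assoc]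

lemma conj_one (h : Matrix ι ι A) : conj lam h 1 = h := by
  simp [conj, Matrix.map_one]

include hlam in
lemma map_map_lam (v : Matrix ι ι A) : (v.map lam).map lam = v := by
  ext i j; simp [hlam]

include hlam in
lemma IsHerm.conj {h : Matrix ι ι A} (hh : IsHerm lam ε h) (v : Matrix ι ι A) :
    IsHerm lam ε (conj lam h v) := by
  unfold IsHerm at *
  have e1 : ((HermDiag.conj lam h v).map lam).transpose
      = (v.map lam).transpose * ((h.map lam).transpose * v) := by
    unfold HermDiag.conj
    rw [Matrix.map_mul, Matrix.map_mul, Matrix.transpose_mul, Matrix.transpose_mul,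
      ← Matrix.transpose_map, map_map_lam lam hlam, Matrix.transpose_transpose]
  calc ε • ((HermDiag.conj lam h v).map lam).transpose
      = ε • ((v.map lam).transpose * ((h.map lam).transpose * v)) := by rw [e1]
    _ = (v.map lam).transpose * ((ε • (h.map lam).transpose) * v) := by
        rw [Matrix.smul_mul, Matrix.mul_smul]
    _ = (v.map lam).transpose * (h * v) := by rw [hh]
    _ = HermDiag.conj lam h v := by unfold HermDiag.conj; rw [Matrix.mul_assoc]

lemma isUnit_conj {h v : Matrix ι ι A} (hh : IsUnit h) (hv : IsUnit v) :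
    IsUnit (conj lam h v) := by
  unfold conj
  refine (IsUnit.mul ?_ hh).mul hv
  rw [Matrix.isUnit_transpose]
  exact hv.map lam.mapMatrix

lemma Diag.of_conj {h w : Matrix ι ι A} (hw : IsUnit w) (hd : Diag lam (conj lam h w)) :
    Diag lam h := by
  obtain ⟨v, hv, d, hd⟩ := hd
  exact ⟨w * v, hw.mul hv, d, by rw [← conj_mul]; exact hd⟩

lemma conj_submatrix (e : κ ≃ ι) (h v : Matrix ι ι A) :
    conj lam (h.submatrix e e) (v.submatrix e e) = (conj lam h v).submatrix e e := by
  unfold conj
  rw [← Matrix.submatrix_mul_equiv _ _ e e e, ← Matrix.submatrix_mul_equiv _ _ e e e]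
  rfl

lemma Diag.of_submatrix (e : κ ≃ ι) {h : Matrix ι ι A} (hd : Diag lam (h.submatrix e e)) :
    Diag lam h := by
  obtain ⟨v, hv, d, hd⟩ := hd
  refine ⟨v.submatrix e.symm e.symm, (Matrix.isUnit_submatrix_equiv e.symm e.symm).mpr hv,
    d ∘ e.symm, ?_⟩
  have h1 := conj_submatrix lam e.symm (h.submatrix e e) v
  rw [hd, Matrix.submatrix_diagonal_equiv] at h1
  rw [← h1]
  congr 1
  ext i j; simp

lemma IsHerm.submatrix (e : κ ≃ ι) {h : Matrix ι ι A} (hh : IsHerm lam ε h) :
    IsHerm lam ε (h.submatrix e e) := by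
  unfold IsHerm at *
  ext i j
  have := congrFun (congrFun hh (e i)) (e j)
  simpa using this

lemma diag_of_subsingleton [Subsingleton ι] (h : Matrix ι ι A) : Diag lam h := by
  refine ⟨1, isUnit_one, fun i => h i i, ?_⟩
  rw [conj_one]
  ext i j
  rw [Subsingleton.elim j i, Matrix.diagonal_apply_eq]

section Blocks

variable {m n : Type} [Fintype m] [DecidableEq m] [Fintype n] [DecidableEq n]

lemma conj_fromBlocks_diag (a va : Matrix m m A) (d vd : Matrix n n A) :
    conj lam (Matrix.fromBlocks a 0 0 d) (Matrix.fromBlocks va 0 0 vd)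
      = Matrix.fromBlocks (conj lam a va) 0 0 (conj lam d vd) := by
  unfold conj
  rw [Matrix.fromBlocks_map, Matrix.fromBlocks_transpose, Matrix.fromBlocks_multiply,
    Matrix.fromBlocks_multiply]
  simp [Matrix.map_zero]

lemma Diag.fromBlocks {a : Matrix m m A} {d : Matrix n n A} (ha : Diag lam a) (hd : Diag lam d) :
    Diag lam (Matrix.fromBlocks a 0 0 d) := by
  obtain ⟨va, hva, da, ea⟩ := ha
  obtain ⟨vd, hvd, dd, ed⟩ := hd
  refine ⟨Matrix.fromBlocks va 0 0 vd, Matrix.isUnit_fromBlocks_zero₂₁.mpr ⟨hva, hvd⟩,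
    Sum.elim da dd, ?_⟩
  rw [conj_fromBlocks_diag, ea, ed, Matrix.fromBlocks_diagonal]

lemma IsHerm.blocks {a : Matrix m m A} {b : Matrix m n A} {c : Matrix n m A} {d : Matrix n n A}
    (h : IsHerm lam ε (Matrix.fromBlocks a b c d)) :
    ε • (a.map lam).transpose = a ∧ ε • (c.map lam).transpose = b ∧
      ε • (b.map lam).transpose = c ∧ ε • (d.map lam).transpose = d := by
  unfold IsHerm at h
  rw [Matrix.fromBlocks_map, Matrix.fromBlocks_transpose, Matrix.fromBlocks_smul,
    Matrix.fromBlocks_inj] at h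
  exact h

include hlam in
lemma schur (a : Matrix m m A) (b : Matrix m n A) (c : Matrix n m A) (d : Matrix n n A)
    (ha : IsUnit a) (herm : IsHerm lam ε (Matrix.fromBlocks a b c d)) :
    ∃ V : Matrix (m ⊕ n) (m ⊕ n) A, IsUnit V ∧
      conj lam (Matrix.fromBlocks a b c d) V = Matrix.fromBlocks a 0 0 (d - c * a⁻¹ * b) := by
  have hdet : IsUnit a.det := (Matrix.isUnit_iff_isUnit_det a).mp ha
  refine ⟨Matrix.fromBlocks 1 (-(a⁻¹ * b)) 0 1,
    Matrix.isUnit_fromBlocks_zero₂₁.mpr ⟨isUnit_one, isUnit_one⟩, ?_⟩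
  have hherm := herm.conj lam hlam ε (Matrix.fromBlocks 1 (-(a⁻¹ * b)) 0 1)
  have hform : ∃ Z : Matrix n m A,
      conj lam (Matrix.fromBlocks a b c d) (Matrix.fromBlocks 1 (-(a⁻¹ * b)) 0 1)
        = Matrix.fromBlocks a 0 Z (d - c * a⁻¹ * b) := by
    refine ⟨((-(a⁻¹ * b)).map lam).transpose * a + c, ?_⟩
    unfold conj
    rw [Matrix.fromBlocks_map, Matrix.fromBlocks_transpose, Matrix.fromBlocks_multiply,
      Matrix.fromBlocks_multiply]
    have h1 : a * -(a⁻¹ * b) + b = 0 := by
      rw [Matrix.mul_neg, ← Matrix.mul_assoc, Matrix.mul_nonsing_inv a hdet, Matrix.one_mul,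
        neg_add_cancel]
    congr 1
    · simp [Matrix.map_one, Matrix.map_zero]
    · simp only [Matrix.map_one _ (map_zero lam) (map_one lam), Matrix.map_zero _ (map_zero lam),
        Matrix.transpose_one, Matrix.transpose_zero, Matrix.one_mul, Matrix.zero_mul, add_zero,
        Matrix.mul_one]
      exact h1
    · simp [Matrix.map_one, Matrix.map_zero]
    · simp only [Matrix.map_one _ (map_zero lam) (map_one lam), Matrix.map_zero _ (map_zero lam),
        Matrix.transpose_one, Matrix.transpose_zero, Matrix.one_mul, Matrix.mul_one]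
      set X := ((-(a⁻¹ * b)).map lam).transpose with hX
      calc (X * a + c) * -(a⁻¹ * b) + (X * b + d)
          = X * (a * -(a⁻¹ * b) + b) + (d - c * a⁻¹ * b) := by
            simp only [Matrix.add_mul, Matrix.mul_add, Matrix.mul_neg, Matrix.mul_assoc]
            abel
        _ = d - c * a⁻¹ * b := by rw [h1, Matrix.mul_zero, zero_add]
  obtain ⟨Z, hZ⟩ := hform
  rw [hZ] at hherm ⊢
  have hb := (IsHerm.blocks lam ε hherm).2.2.1
  have : Z = 0 := by
    rw [← hb]; simp [Matrix.map_zero]
  rw [this]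

include hlam in
lemma split_blocks (a : Matrix m m A) (b : Matrix m n A) (c : Matrix n m A) (d : Matrix n n A)
    (ha : IsUnit a) (hU : IsUnit (Matrix.fromBlocks a b c d))
    (herm : IsHerm lam ε (Matrix.fromBlocks a b c d)) :
    IsUnit (d - c * a⁻¹ * b) ∧ IsHerm lam ε (d - c * a⁻¹ * b) ∧
      (Diag lam a → Diag lam (d - c * a⁻¹ * b) → Diag lam (Matrix.fromBlocks a b c d)) := by
  obtain ⟨V, hV, hconj⟩ := schur lam hlam ε a b c d ha herm
  have h1 : IsUnit (Matrix.fromBlocks a 0 0 (d - c * a⁻¹ * b)) := by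
    rw [← hconj]; exact isUnit_conj lam hU hV
  have h2 : IsHerm lam ε (Matrix.fromBlocks a 0 0 (d - c * a⁻¹ * b)) := by
    rw [← hconj]; exact herm.conj lam hlam ε V
  refine ⟨(Matrix.isUnit_fromBlocks_zero₂₁.mp h1).2, (IsHerm.blocks lam ε h2).2.2.2, ?_⟩
  intro hda hdd
  apply Diag.of_conj lam hV
  rw [hconj]
  exact Diag.fromBlocks lam hda hdd

end Blocks

section SplitAt

include hlam in
lemma split_at (h : Matrix ι ι A) (i₀ : ι) (hu : IsUnit (h i₀ i₀)) (hh : IsUnit h)
    (herm : IsHerm lam ε h) :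
    ∃ (d' : Matrix {i // ¬ i = i₀} {i // ¬ i = i₀} A) (w : A), h i₀ i₀ * w = 1 ∧
      (∀ k l, d' k l = h k l - h k i₀ * w * h i₀ l) ∧ IsUnit d' ∧ IsHerm lam ε d' ∧
      (Diag lam d' → Diag lam h) := by
  classical
  set e : {i // i = i₀} ⊕ {i // ¬ i = i₀} ≃ ι := Equiv.sumCompl (· = i₀) with he
  set h' := h.submatrix e e with hh'
  have hblocks : h' = Matrix.fromBlocks h'.toBlocks₁₁ h'.toBlocks₁₂ h'.toBlocks₂₁ h'.toBlocks₂₂ :=
    (Matrix.fromBlocks_toBlocks h').symm
  set a := h'.toBlocks₁₁ with ha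
  set b := h'.toBlocks₁₂ with hb
  set c := h'.toBlocks₂₁ with hc
  set d := h'.toBlocks₂₂ with hd
  have hU' : IsUnit h' := (Matrix.isUnit_submatrix_equiv e e).mpr hh
  have herm' : IsHerm lam ε h' := herm.submatrix lam ε e
  have haunit : IsUnit a := by
    rw [Matrix.isUnit_iff_isUnit_det, Matrix.det_unique]
    exact hu
  rw [hblocks] at hU' herm'
  obtain ⟨h1, h2, h3⟩ := split_blocks lam hlam ε a b c d haunit hU' herm'
  refine ⟨d - c * a⁻¹ * b, a⁻¹ default default, ?_, ?_, h1, h2, ?_⟩
  · have := congrFun (congrFun (Matrix.mul_nonsing_inv a ((Matrix.isUnit_iff_isUnit_det a).mp haunit))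
      default) default
    have hadd : a default default = h i₀ i₀ := rfl
    rw [← hadd]
    simpa [Matrix.mul_apply] using this
  · intro k l
    simp only [Matrix.sub_apply, Matrix.mul_apply, Fintype.sum_unique]
    rfl
  · intro hdiag
    apply Diag.of_submatrix lam e
    rw [← hh', hblocks]
    exact h3 (diag_of_subsingleton lam a) hdiag

end SplitAt

section ClearAt

include hlam in
lemma clear_at (h : Matrix ι ι A) (i₀ : ι) (hu : IsUnit (h i₀ i₀)) (herm : IsHerm lam ε h) :
    ∃ V : Matrix ι ι A, IsUnit V ∧ conj lam h V i₀ i₀ = h i₀ i₀ ∧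
      ∀ k, k ≠ i₀ → conj lam h V i₀ k = 0 ∧ conj lam h V k i₀ = 0 := by
  classical
  set e : {i // i = i₀} ⊕ {i // ¬ i = i₀} ≃ ι := Equiv.sumCompl (· = i₀) with he
  set h' := h.submatrix e e with hh'
  have hblocks : h' = Matrix.fromBlocks h'.toBlocks₁₁ h'.toBlocks₁₂ h'.toBlocks₂₁ h'.toBlocks₂₂ :=
    (Matrix.fromBlocks_toBlocks h').symm
  set a := h'.toBlocks₁₁ with ha
  set b := h'.toBlocks₁₂ with hb
  set c := h'.toBlocks₂₁ with hc
  set d := h'.toBlocks₂₂ with hd
  have herm' : IsHerm lam ε h' := herm.submatrix lam ε e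
  have haunit : IsUnit a := by
    rw [Matrix.isUnit_iff_isUnit_det, Matrix.det_unique]
    exact hu
  rw [hblocks] at herm'
  obtain ⟨V', hV', hconj⟩ := schur lam hlam ε a b c d haunit herm'
  rw [← hblocks] at hconj
  have hback : h'.submatrix e.symm e.symm = h := by
    rw [hh', Matrix.submatrix_submatrix]
    simp
  have hc2 : conj lam h (V'.submatrix e.symm e.symm)
      = (Matrix.fromBlocks a 0 0 (d - c * a⁻¹ * b)).submatrix e.symm e.symm := by
    rw [← hconj, ← conj_submatrix, hback]
  refine ⟨V'.submatrix e.symm e.symm, (Matrix.isUnit_submatrix_equiv e.symm e.symm).mpr hV', ?_, ?_⟩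
  · rw [hc2, Matrix.submatrix_apply, he,
      Equiv.sumCompl_symm_apply_of_pos (p := (· = i₀)) (a := i₀) rfl]
    rfl
  · intro k hk
    rw [hc2, Matrix.submatrix_apply, Matrix.submatrix_apply, he,
      Equiv.sumCompl_symm_apply_of_pos (p := (· = i₀)) (a := i₀) rfl,
      Equiv.sumCompl_symm_apply_of_neg (p := (· = i₀)) (a := k) hk]
    exact ⟨rfl, rfl⟩

end ClearAt

section Transv

lemma map_transvection_transpose (i j : ι) (c : A) :
    ((Matrix.transvection j i c).map lam).transpose = Matrix.transvection i j (lam c) := by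
  ext a b
  simp only [Matrix.transpose_apply, Matrix.map_apply, Matrix.transvection, Matrix.add_apply,
    Matrix.one_apply, Matrix.single_apply, map_add]
  by_cases hab : a = b
  · subst hab; simp [apply_ite lam, and_comm]
  · have hba : ¬ b = a := fun h => hab h.symm
    simp [hab, hba, apply_ite lam, and_comm]

lemma conj_transvection (h : Matrix ι ι A) (i j : ι) (c : A) :
    conj lam h (Matrix.transvection j i c)
      = Matrix.transvection i j (lam c) * h * Matrix.transvection j i c := by
  unfold conj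
  rw [map_transvection_transpose]

lemma conj_transv_same (h : Matrix ι ι A) (i j : ι) (c : A) :
    conj lam h (Matrix.transvection j i c) i i
      = h i i + lam c * h j i + c * (h i j + lam c * h j j) := by
  rw [conj_transvection, Matrix.mul_transvection_apply_same, Matrix.transvection_mul_apply_same,
    Matrix.transvection_mul_apply_same]

lemma conj_transv_row (h : Matrix ι ι A) (i j : ι) (c : A) (l : ι) (hl : l ≠ i) :
    conj lam h (Matrix.transvection j i c) i l = h i l + lam c * h j l := by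
  rw [conj_transvection, Matrix.mul_transvection_apply_of_ne _ _ _ _ hl,
    Matrix.transvection_mul_apply_same]

lemma conj_transv_col (h : Matrix ι ι A) (i j : ι) (c : A) (k : ι) (hk : k ≠ i) :
    conj lam h (Matrix.transvection j i c) k i = h k i + c * h k j := by
  rw [conj_transvection, Matrix.mul_transvection_apply_same,
    Matrix.transvection_mul_apply_of_ne _ _ _ _ hk, Matrix.transvection_mul_apply_of_ne _ _ _ _ hk]

lemma conj_transv_of_ne (h : Matrix ι ι A) (i j : ι) (c : A) (k l : ι) (hk : k ≠ i) (hl : l ≠ i) :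
    conj lam h (Matrix.transvection j i c) k l = h k l := by
  rw [conj_transvection, Matrix.mul_transvection_apply_of_ne _ _ _ _ hl,
    Matrix.transvection_mul_apply_of_ne _ _ _ _ hk]

lemma isUnit_transvection (i j : ι) (hij : i ≠ j) (c : A) :
    IsUnit (Matrix.transvection j i c) := by
  rw [Matrix.isUnit_iff_isUnit_det, Matrix.det_transvection_of_ne _ _ hij.symm]
  exact isUnit_one

end Transv

end Mat

section Main

variable {B : Type u} {A : Type v} [CommRing B] [CommRing A] [Algebra B A]
  (lam : A →+* A) (hlam : ∀ a, lam (lam a) = a)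
  (hfix : ∀ r : A, lam r = r → r ∈ Set.range (algebraMap B A)) [IsLocalRing B]
  (ε : A) (hε : ε = 1 ∨ ε = -1)

variable {ι : Type} [Fintype ι] [DecidableEq ι]

lemma exists_entry_not_mem [Nontrivial A] [Nonempty ι] (h : Matrix ι ι A) (hh : IsUnit h) :
    ∃ i j, h i j ∉ Ring.jacobson A := by
  by_contra hall
  push Not at hall
  have hdet : IsUnit h.det := (Matrix.isUnit_iff_isUnit_det h).mp hh
  apply not_isUnit_of_mem_J _ hdet
  have h0 : (Ideal.Quotient.mk (Ring.jacobson A)).mapMatrix h = 0 := by
    ext i j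
    simp only [RingHom.mapMatrix_apply, Matrix.map_apply, Matrix.zero_apply]
    exact Ideal.Quotient.eq_zero_iff_mem.mpr (hall i j)
  have h1 : Ideal.Quotient.mk (Ring.jacobson A) h.det = 0 := by
    rw [RingHom.map_det, h0, Matrix.det_zero]
  exact Ideal.Quotient.eq_zero_iff_mem.mp h1

include hε in
lemma eps_sq : ε * ε = 1 := by rcases hε with rfl | rfl <;> simp

include hε in
lemma herm_entry {h : Matrix ι ι A} (herm : IsHerm lam ε h) (i j : ι) :
    h j i = ε * lam (h i j) := by
  have := congrFun (congrFun herm j) i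
  simp only [Matrix.smul_apply, Matrix.transpose_apply, Matrix.map_apply, smul_eq_mul] at this
  exact this.symm

include hε in
lemma lam_diag {h : Matrix ι ι A} (herm : IsHerm lam ε h) (i : ι) :
    lam (h i i) = ε * h i i := by
  have h1 := herm_entry lam ε hε herm i i
  have h2 := eps_sq ε hε
  calc lam (h i i) = (ε * ε) * lam (h i i) := by rw [h2, one_mul]
    _ = ε * (ε * lam (h i i)) := by ring
    _ = ε * h i i := by rw [← h1]

include hε hlam hfix in
lemma diag_mem_J {h : Matrix ι ι A} (herm : IsHerm lam ε h) (i : ι) (hnu : ¬ IsUnit (h i i)) :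
    h i i ∈ Ring.jacobson A :=
  mem_jacobson_of_not_isUnit lam hlam hfix _ ε (lam_diag lam ε hε herm i) hnu

include hε hlam hfix in
theorem diag_of_P [Nontrivial A] (hP : PropP lam ε) :
    ∀ (N : ℕ) (ι : Type) [Fintype ι] [DecidableEq ι], Fintype.card ι = N →
      ∀ h : Matrix ι ι A, IsUnit h → IsHerm lam ε h → Diag lam h := by
  intro N
  induction N with
  | zero =>
    intro ι _ _ hcard h _ _
    have : IsEmpty ι := Fintype.card_eq_zero_iff.mp hcard
    exact diag_of_subsingleton lam h
  | succ N ih =>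
    intro ι _ _ hcard h hU herm
    have : Nonempty ι := Fintype.card_pos_iff.mp (by omega)
    have key : ∃ V : Matrix ι ι A, IsUnit V ∧ ∃ i₀, IsUnit (conj lam h V i₀ i₀) := by
      by_cases hex : ∃ i, IsUnit (h i i)
      · obtain ⟨i, hi⟩ := hex
        exact ⟨1, isUnit_one, i, by rwa [conj_one]⟩
      · push Not at hex
        have hJ : ∀ i, h i i ∈ Ring.jacobson A := fun i =>
          diag_mem_J lam hlam hfix ε hε herm i (hex i)
        obtain ⟨i, j, hij⟩ := exists_entry_not_mem h hU
        have hne : i ≠ j := by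
          rintro rfl
          exact hij (hJ i)
        obtain ⟨c, hc⟩ := hP _ hij
        refine ⟨Matrix.transvection j i c, isUnit_transvection i j hne c, i, ?_⟩
        rw [conj_transv_same, herm_entry lam ε hε herm i j]
        have e1 : h i i + lam c * (ε * lam (h i j)) + c * (h i j + lam c * h j j)
            = (h i j * c + ε * lam (h i j * c)) + (h i i + c * lam c * h j j) := by
          rw [map_mul]; ring
        rw [e1]
        exact isUnit_add_of_mem_J hc
          (add_mem (hJ i) (Ideal.mul_mem_left _ _ (hJ j)))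
    obtain ⟨V, hV, i₀, hi₀⟩ := key
    have hU₁ := isUnit_conj lam hU hV
    have herm₁ := herm.conj lam hlam ε V
    obtain ⟨d', w, _, _, hd'U, hd'H, hback⟩ :=
      split_at lam hlam ε (conj lam h V) i₀ hi₀ hU₁ herm₁
    have hcard' : Fintype.card {i // ¬ i = i₀} = N := by
      rw [Fintype.card_subtype_compl, Fintype.card_subtype_eq, hcard]
      simp
    exact Diag.of_conj lam hV (hback (ih _ hcard' d' hd'U hd'H))

include hε hlam hfix in
theorem diag_of_L [Nontrivial A] (hL : ∀ t : A, t ∉ Ring.jacobson A → IsUnit t) :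
    ∀ (N : ℕ) (ι : Type) [Fintype ι] [DecidableEq ι], Fintype.card ι = N →
      ∀ h : Matrix ι ι A, IsUnit h → IsHerm lam ε h → (∃ i, IsUnit (h i i)) → Diag lam h := by
  intro N
  induction N with
  | zero =>
    intro ι _ _ hcard h _ _ _
    have : IsEmpty ι := Fintype.card_eq_zero_iff.mp hcard
    exact diag_of_subsingleton lam h
  | succ N ih =>
    intro ι _ _ hcard h hU herm hex
    obtain ⟨i₀, hi₀⟩ := hex
    obtain ⟨V, hV, hg00, hg0⟩ := clear_at lam hlam ε h i₀ hi₀ herm
    set g := conj lam h V with hg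
    have hgU : IsUnit g := isUnit_conj lam hU hV
    have hgH : IsHerm lam ε g := herm.conj lam hlam ε V
    have hgu : IsUnit (g i₀ i₀) := by rw [hg00]; exact hi₀
    apply Diag.of_conj lam hV
    obtain ⟨d', w, hw, hd'e, hd'U, hd'H, hback⟩ := split_at lam hlam ε g i₀ hgu hgU hgH
    have hd'eq : ∀ k l, d' k l = g k l := by
      intro k l
      rw [hd'e, (hg0 k k.2).2, zero_mul, zero_mul, sub_zero]
    have hcard' : Fintype.card {i // ¬ i = i₀} = N := by
      rw [Fintype.card_subtype_compl, Fintype.card_subtype_eq, hcard]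
      simp
    by_cases hex' : ∃ k, IsUnit (d' k k)
    · exact hback (ih _ hcard' d' hd'U hd'H hex')
    · push Not at hex'
      by_cases hemp : IsEmpty {i // ¬ i = i₀}
      · exact hback (diag_of_subsingleton lam d')
      · rw [not_isEmpty_iff] at hemp
        have hJ : ∀ k : {i // ¬ i = i₀}, g k k ∈ Ring.jacobson A := fun k => by
          rw [← hd'eq]
          exact diag_mem_J lam hlam hfix ε hε hd'H k (hex' k)
        obtain ⟨j, k, hjk⟩ := exists_entry_not_mem d' hd'U
        rw [hd'eq] at hjk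
        have hjku : IsUnit (g j k) := hL _ hjk
        have hne : j ≠ k := by
          rintro rfl
          exact hjk (hJ j)
        -- transvection: new `e_{i₀} = e_{i₀} + e_j`
        set T := Matrix.transvection (j : ι) i₀ (1 : A) with hT
        have hTU : IsUnit T := isUnit_transvection i₀ j (fun h => j.2 h.symm) 1
        set g₁ := conj lam g T with hg₁
        have hg₁U : IsUnit g₁ := isUnit_conj lam hgU hTU
        have hg₁H : IsHerm lam ε g₁ := hgH.conj lam hlam ε T
        have h00 : g₁ i₀ i₀ = g i₀ i₀ + g j j := by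
          rw [hg₁, hT, conj_transv_same, (hg0 j j.2).1, (hg0 j j.2).2]
          simp
        have h0k : g₁ i₀ k = g j k := by
          rw [hg₁, hT, conj_transv_row _ _ _ _ _ _ k.2, (hg0 k k.2).1]
          simp
        have hk0 : g₁ k i₀ = g k j := by
          rw [hg₁, hT, conj_transv_col _ _ _ _ _ _ k.2, (hg0 k k.2).2]
          simp
        have hkk : g₁ k k = g k k := by
          rw [hg₁, hT, conj_transv_of_ne _ _ _ _ _ _ _ k.2 k.2]
        have hg₁u : IsUnit (g₁ i₀ i₀) := by
          rw [h00]; exact isUnit_add_of_mem_J hgu (hJ j)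
        obtain ⟨d'', w₁, hw₁, hd''e, hd''U, hd''H, hback₁⟩ :=
          split_at lam hlam ε g₁ i₀ hg₁u hg₁U hg₁H
        have hkju : IsUnit (g k j) := by
          rw [herm_entry lam ε hε hgH j k]
          have hεu : IsUnit ε := IsUnit.of_mul_eq_one _ (eps_sq ε hε)
          exact hεu.mul (hjku.map lam)
        have hw₁u : IsUnit w₁ := IsUnit.of_mul_eq_one _ (by rw [mul_comm]; exact hw₁)
        have hunit : IsUnit (d'' k k) := by
          rw [hd''e, hkk, hk0, h0k, sub_eq_add_neg, add_comm]
          exact isUnit_add_of_mem_J ((hkju.mul hw₁u).mul hjku).neg (hJ k)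
        have := ih _ hcard' d'' hd''U hd''H ⟨k, hunit⟩
        exact Diag.of_conj lam hTU (hback₁ this)

include hε hlam hfix in
theorem main (n : ℕ) (h : Matrix (Fin n) (Fin n) A) (hh : IsUnit h) (herm : IsHerm lam ε h)
    (hcase : (∃ a : A, lam a - a ∉ Ring.jacobson A) ∨ ε + 1 ∉ Ring.jacobson A ∨ Odd n) :
    Diag lam h := by
  rcases subsingleton_or_nontrivial A with hA | hA
  · exact ⟨1, isUnit_one, 0, Subsingleton.elim _ _⟩
  by_cases hAB : (∃ a : A, lam a - a ∉ Ring.jacobson A) ∨ ε + 1 ∉ Ring.jacobson A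
  · exact diag_of_P lam hlam hfix ε hε (propP_of lam hlam hfix ε hε hAB) n (Fin n)
      (Fintype.card_fin n) h hh herm
  · push Not at hAB
    obtain ⟨hid, hε1⟩ := hAB
    have hodd : Odd n := by
      rcases hcase with ⟨a, ha⟩ | h2 | h3
      · exact absurd (hid a) ha
      · exact absurd hε1 h2
      · exact h3
    have hL : ∀ t : A, t ∉ Ring.jacobson A → IsUnit t := fun t ht =>
      isUnit_of_not_mem lam hlam hfix hid ht
    refine diag_of_L lam hlam hfix ε hε hL n (Fin n) (Fintype.card_fin n) h hh herm ?_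
    by_contra hex
    push Not at hex
    have hJ : ∀ i, h i i ∈ Ring.jacobson A := fun i =>
      diag_mem_J lam hlam hfix ε hε herm i (hex i)
    have hdet : IsUnit h.det := (Matrix.isUnit_iff_isUnit_det h).mp hh
    apply not_isUnit_of_mem_J _ hdet
    set q := Ideal.Quotient.mk (Ring.jacobson A) with hq
    have hqε : q ε = -1 := by
      have : q (ε + 1) = 0 := Ideal.Quotient.eq_zero_iff_mem.mpr hε1
      rw [map_add, map_one] at this
      exact eq_neg_of_add_eq_zero_left this
    have hqlam : ∀ a, q (lam a) = q a := by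
      intro a
      have : q (lam a - a) = 0 := Ideal.Quotient.eq_zero_iff_mem.mpr (hid a)
      rw [map_sub, sub_eq_zero] at this
      exact this
    have h0 : (q.mapMatrix h).det = 0 := by
      apply det_eq_zero_of_alt
      · ext i j
        simp only [RingHom.mapMatrix_apply, Matrix.transpose_apply, Matrix.map_apply,
          Matrix.neg_apply]
        rw [herm_entry lam ε hε herm i j, map_mul, hqε, hqlam]
        ring
      · intro i
        simp only [RingHom.mapMatrix_apply, Matrix.map_apply]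
        exact Ideal.Quotient.eq_zero_iff_mem.mpr (hJ i)
      · rw [Fintype.card_fin]; exact hodd
    rw [← RingHom.map_det] at h0
    exact Ideal.Quotient.eq_zero_iff_mem.mp h0

end Main

section Sympl

variable {B : Type u} {A : Type v} [CommRing B] [CommRing A] [Algebra B A]
  (lam : A →+* A) (hlam : ∀ a, lam (lam a) = a)
  (hfix : ∀ r : A, lam r = r → r ∈ Set.range (algebraMap B A)) [IsLocalRing B]

/-- split a finite type at two distinct points -/
def pairEquiv {ι : Type} [DecidableEq ι] (i j : ι) (hij : i ≠ j) :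
    Fin 2 ⊕ {x : ι // x ≠ i ∧ x ≠ j} ≃ ι where
  toFun := Sum.elim ![i, j] Subtype.val
  invFun x := if hi : x = i then Sum.inl 0 else if hj : x = j then Sum.inl 1
    else Sum.inr ⟨x, hi, hj⟩
  left_inv := by
    rintro (p | ⟨x, hxi, hxj⟩)
    · fin_cases p
      · simp
      · simp [hij.symm]
    · simp [hxi, hxj]
  right_inv := by
    intro x
    by_cases hi : x = i
    · simp [hi]
    · by_cases hj : x = j
      · subst hj
        simp [hi]
      · simp [hi, hj]

/-- glue a new pair in front -/
def glue (k : ℕ) : Fin 2 ⊕ (Fin k × Fin 2) ≃ Fin (k + 1) × Fin 2 where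
  toFun := Sum.elim (fun b => (0, b)) (fun p => (p.1.succ, p.2))
  invFun p := Fin.cases (motive := fun _ => Fin 2 ⊕ (Fin k × Fin 2)) (Sum.inl p.2)
    (fun q => Sum.inr (q, p.2)) p.1
  left_inv := by
    rintro (b | ⟨q, b⟩) <;> simp
  right_inv := by
    rintro ⟨q, b⟩
    refine Fin.cases ?_ (fun q' => ?_) q <;> simp

/-- the standard symplectic 2×2 block -/
def Jm : Fin 2 → Fin 2 → A := ![![0, 1], ![-1, 0]]

/-- block form relative to a pairing -/
def GoodE {ι : Type} {k : ℕ} (e : ι ≃ Fin k × Fin 2) (g : Matrix ι ι A) : Prop :=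
  ∀ x y, ((e x).1 ≠ (e y).1 → g x y = 0) ∧
    ((e x).1 = (e y).1 → g x y - Jm (e x).2 (e y).2 ∈ Ring.jacobson A)

lemma neg_one_cases : (-1 : A) = 1 ∨ (-1 : A) = -1 := Or.inr rfl

include hlam in
lemma two_by_two (a : Matrix (Fin 2) (Fin 2) A) (herm : IsHerm lam (-1) a)
    (h00 : a 0 0 ∈ Ring.jacobson A) (h11 : a 1 1 ∈ Ring.jacobson A) (hu : IsUnit (a 0 1)) :
    IsUnit a ∧ ∃ va : Matrix (Fin 2) (Fin 2) A, IsUnit va ∧
      ∀ p q, conj lam a va p q - Jm p q ∈ Ring.jacobson A := by
  have h10 : a 1 0 = -1 * lam (a 0 1) := herm_entry lam (-1) neg_one_cases herm 0 1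
  constructor
  · rw [Matrix.isUnit_iff_isUnit_det, Matrix.det_fin_two, h10]
    have : a 0 0 * a 1 1 - a 0 1 * (-1 * lam (a 0 1)) = a 0 1 * lam (a 0 1) + a 0 0 * a 1 1 := by
      ring
    rw [this]
    exact isUnit_add_of_mem_J (hu.mul (hu.map lam)) (Ideal.mul_mem_left _ _ h11)
  · obtain ⟨u, hu'⟩ := hu
    set w : A := ↑u⁻¹ with hw
    have huw : a 0 1 * w = 1 := by rw [← hu', hw, Units.mul_inv]
    refine ⟨Matrix.diagonal ![1, w], ?_, ?_⟩
    · rw [Matrix.isUnit_iff_isUnit_det, Matrix.det_diagonal, Fin.prod_univ_two]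
      simp only [Matrix.cons_val_zero, Matrix.cons_val_one, one_mul]
      exact (u⁻¹).isUnit
    · have hconj : ∀ p q, conj lam a (Matrix.diagonal ![1, w]) p q
          = lam (![1, w] p) * a p q * ![1, w] q := by
        intro p q
        unfold conj
        rw [Matrix.diagonal_map (map_zero lam), Matrix.diagonal_transpose, Matrix.mul_diagonal,
          Matrix.diagonal_mul]
      intro p q
      rw [hconj]
      fin_cases p <;> fin_cases q
      · simpa [Jm] using h00
      · simp [Jm, huw]
      · simp only [Jm, Fin.mk_one, Fin.isValue, Matrix.cons_val_one, Matrix.cons_val_fin_one,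
          Fin.zero_eta, Matrix.cons_val_zero, mul_one, sub_neg_eq_add, h10]
        have : lam w * (-1 * lam (a 0 1)) + 1 = 0 := by
          have h1 : lam w * lam (a 0 1) = 1 := by rw [← map_mul, mul_comm, huw, map_one]
          linear_combination -h1
        rw [this]
        exact zero_mem _
      · simp only [Jm, Fin.mk_one, Fin.isValue, Matrix.cons_val_one, Matrix.cons_val_fin_one,
          sub_zero]
        exact Ideal.mul_mem_right _ _ (Ideal.mul_mem_left _ _ h11)

include hlam in
lemma diag_mem_J_neg (hid : ∀ a, lam a - a ∈ Ring.jacobson A) (h2 : IsUnit (2 : A))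
    {ι : Type} [Fintype ι] [DecidableEq ι] {g : Matrix ι ι A} (herm : IsHerm lam (-1) g) (x : ι) :
    g x x ∈ Ring.jacobson A := by
  have h1 := lam_diag lam (-1) neg_one_cases herm x
  have h3 := hid (g x x)
  rw [h1] at h3
  have h4 : (2 : A) * g x x ∈ Ring.jacobson A := by
    have := neg_mem h3
    have e : -(-1 * g x x - g x x) = 2 * g x x := by ring
    rwa [e] at this
  obtain ⟨u, hu⟩ := h2
  have h5 := Ideal.mul_mem_left _ (↑u⁻¹ : A) h4
  rwa [← hu, ← mul_assoc, Units.inv_mul, one_mul] at h5

include hlam hfix in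
theorem sympl [Nontrivial A] (hid : ∀ a, lam a - a ∈ Ring.jacobson A) (h2 : IsUnit (2 : A)) :
    ∀ (N : ℕ) (ι : Type) [Fintype ι] [DecidableEq ι], Fintype.card ι = N →
      ∀ h : Matrix ι ι A, IsUnit h → IsHerm lam (-1) h →
        ∃ (k : ℕ) (e : ι ≃ Fin k × Fin 2) (v : Matrix ι ι A),
          IsUnit v ∧ GoodE e (conj lam h v) := by
  intro N
  induction N using Nat.strong_induction_on with
  | _ N ih =>
    intro ι _ _ hcard h hU herm
    by_cases hemp : IsEmpty ι
    · exact ⟨0, Equiv.equivOfIsEmpty _ _, 1, isUnit_one, fun x => (IsEmpty.false x).elim⟩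
    rw [not_isEmpty_iff] at hemp
    have hL : ∀ t : A, t ∉ Ring.jacobson A → IsUnit t := fun t ht =>
      isUnit_of_not_mem lam hlam hfix hid ht
    obtain ⟨i, j, hij⟩ := exists_entry_not_mem h hU
    have hu : IsUnit (h i j) := hL _ hij
    have hne : i ≠ j := by
      rintro rfl
      exact hij (diag_mem_J_neg lam hlam hid h2 herm i)
    set eq := pairEquiv i j hne with heq
    set h' := h.submatrix eq eq with hh'
    have hblocks : h' = Matrix.fromBlocks h'.toBlocks₁₁ h'.toBlocks₁₂ h'.toBlocks₂₁ h'.toBlocks₂₂ :=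
      (Matrix.fromBlocks_toBlocks h').symm
    set a := h'.toBlocks₁₁ with ha
    set b := h'.toBlocks₁₂ with hb
    set c := h'.toBlocks₂₁ with hc
    set d := h'.toBlocks₂₂ with hd
    have hU' : IsUnit h' := (Matrix.isUnit_submatrix_equiv eq eq).mpr hU
    have herm' : IsHerm lam (-1) h' := herm.submatrix lam (-1) eq
    have ha00 : a 0 0 = h i i := rfl
    have ha11 : a 1 1 = h j j := rfl
    have ha01 : a 0 1 = h i j := rfl
    have hermblocks := herm'
    rw [hblocks] at hermblocks hU'
    have haherm : IsHerm lam (-1) a := (IsHerm.blocks lam (-1) hermblocks).1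
    obtain ⟨haU, va, hvaU, hva⟩ := two_by_two lam hlam a haherm
      (by rw [ha00]; exact diag_mem_J_neg lam hlam hid h2 herm i)
      (by rw [ha11]; exact diag_mem_J_neg lam hlam hid h2 herm j)
      (by rw [ha01]; exact hu)
    obtain ⟨hd'U, hd'H, _⟩ := split_blocks lam hlam (-1) a b c d haU hU' hermblocks
    obtain ⟨V', hV', hconj⟩ := schur lam hlam (-1) a b c d haU hermblocks
    rw [← hblocks] at hconj
    have hcard2 : Fintype.card ι = 2 + Fintype.card {x : ι // x ≠ i ∧ x ≠ j} := by
      rw [← Fintype.card_congr eq, Fintype.card_sum, Fintype.card_fin]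
    obtain ⟨k', e', v', hv'U, hgood'⟩ := ih (Fintype.card {x : ι // x ≠ i ∧ x ≠ j}) (by omega)
      {x : ι // x ≠ i ∧ x ≠ j} rfl (d - c * a⁻¹ * b) hd'U hd'H
    set W := Matrix.fromBlocks va 0 0 v' with hW
    have hWU : IsUnit W := Matrix.isUnit_fromBlocks_zero₂₁.mpr ⟨hvaU, hv'U⟩
    have hG : conj lam h' (V' * W)
        = Matrix.fromBlocks (conj lam a va) 0 0 (conj lam (d - c * a⁻¹ * b) v') := by
      rw [← conj_mul, hconj, hW, conj_fromBlocks_diag]
    have hback : h'.submatrix eq.symm eq.symm = h := by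
      rw [hh', Matrix.submatrix_submatrix]
      simp
    have hc2 : conj lam h ((V' * W).submatrix eq.symm eq.symm)
        = (Matrix.fromBlocks (conj lam a va) 0 0
            (conj lam (d - c * a⁻¹ * b) v')).submatrix eq.symm eq.symm := by
      rw [← hG, ← conj_submatrix, hback]
    refine ⟨k' + 1, eq.symm.trans ((Equiv.sumCongr (Equiv.refl _) e').trans (glue k')),
      (V' * W).submatrix eq.symm eq.symm,
      (Matrix.isUnit_submatrix_equiv eq.symm eq.symm).mpr (hV'.mul hWU), ?_⟩
    rw [hc2]
    intro x y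
    obtain ⟨x', rfl⟩ := eq.surjective x
    obtain ⟨y', rfl⟩ := eq.surjective y
    simp only [Equiv.trans_apply, Equiv.symm_apply_apply, Matrix.submatrix_apply]
    rcases x' with p | x' <;> rcases y' with q | y'
    · simp only [Equiv.sumCongr_apply, Sum.map_inl, Equiv.refl_apply, glue, Equiv.coe_fn_mk,
        Sum.elim_inl, Matrix.fromBlocks_apply₁₁]
      exact ⟨fun h => absurd rfl h, fun _ => hva p q⟩
    · simp only [Equiv.sumCongr_apply, Sum.map_inl, Sum.map_inr, Equiv.refl_apply, glue,
        Equiv.coe_fn_mk, Sum.elim_inl, Sum.elim_inr, Matrix.fromBlocks_apply₁₂,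
        Matrix.zero_apply]
      exact ⟨fun _ => trivial, fun h => absurd h (Fin.succ_ne_zero _).symm⟩
    · simp only [Equiv.sumCongr_apply, Sum.map_inl, Sum.map_inr, Equiv.refl_apply, glue,
        Equiv.coe_fn_mk, Sum.elim_inl, Sum.elim_inr, Matrix.fromBlocks_apply₂₁,
        Matrix.zero_apply]
      exact ⟨fun _ => trivial, fun h => absurd h (Fin.succ_ne_zero _)⟩
    · simp only [Equiv.sumCongr_apply, Sum.map_inr, glue, Equiv.coe_fn_mk, Sum.elim_inr,
        Matrix.fromBlocks_apply₂₂]
      obtain ⟨g1, g2⟩ := hgood' x' y'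
      exact ⟨fun h => g1 fun h' => h (by rw [h']), fun h => g2 (Fin.succ_injective _ h)⟩

lemma modNat_eq_zero_of_even {k : ℕ} (i : Fin (k * 2)) (h : Even i.val) :
    (Fin.modNat i : Fin 2) = 0 := by
  apply Fin.ext
  rw [Fin.coe_modNat]
  exact Nat.even_iff.mp h

lemma modNat_eq_one_of_not_even {k : ℕ} (i : Fin (k * 2)) (h : ¬ Even i.val) :
    (Fin.modNat i : Fin 2) = 1 := by
  apply Fin.ext
  rw [Fin.coe_modNat]
  have := Nat.not_even_iff.mp h
  simpa using this

include hlam hfix in
theorem sympl_fin [Nontrivial A] (hid : ∀ a, lam a - a ∈ Ring.jacobson A) (h2 : IsUnit (2 : A))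
    (n : ℕ) (h : Matrix (Fin n) (Fin n) A) (hU : IsUnit h) (herm : IsHerm lam (-1) h) :
    Even n ∧ ∃ v : Matrix (Fin n) (Fin n) A, IsUnit v ∧ ∀ i j : Fin n,
      (i.val / 2 ≠ j.val / 2 → conj lam h v i j = 0) ∧
      (i.val / 2 = j.val / 2 → (Even i.val ↔ Even j.val) →
        conj lam h v i j ∈ Ring.jacobson A) ∧
      (i.val / 2 = j.val / 2 → Even i.val → ¬ Even j.val →
        conj lam h v i j - 1 ∈ Ring.jacobson A) ∧
      (i.val / 2 = j.val / 2 → ¬ Even i.val → Even j.val →
        conj lam h v i j + 1 ∈ Ring.jacobson A) := by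
  obtain ⟨k, e, v, hv, hgood⟩ :=
    sympl lam hlam hfix hid h2 n (Fin n) (Fintype.card_fin n) h hU herm
  have hn : n = k * 2 := by
    have := Fintype.card_congr e
    simpa using this
  subst hn
  refine ⟨⟨k, by ring⟩, ?_⟩
  set π : Fin (k * 2) ≃ Fin (k * 2) := e.trans finProdFinEquiv with hπ
  refine ⟨v.submatrix id π.symm, (Matrix.isUnit_submatrix_equiv (Equiv.refl _) π.symm).mpr hv, ?_⟩
  have hc : ∀ i j, conj lam h (v.submatrix id π.symm) i j = conj lam h v (π.symm i) (π.symm j) :=
    fun i j => rfl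
  intro i j
  rw [hc]
  have hei : e (π.symm i) = (Fin.divNat i, Fin.modNat i) := by
    rw [hπ, Equiv.symm_trans_apply, Equiv.apply_symm_apply]
    rfl
  have hej : e (π.symm j) = (Fin.divNat j, Fin.modNat j) := by
    rw [hπ, Equiv.symm_trans_apply, Equiv.apply_symm_apply]
    rfl
  obtain ⟨g1, g2⟩ := hgood (π.symm i) (π.symm j)
  rw [hei, hej] at g1 g2
  simp only at g1 g2
  have hdiv : Fin.divNat i = Fin.divNat j ↔ i.val / 2 = j.val / 2 := by
    rw [Fin.ext_iff, Fin.coe_divNat, Fin.coe_divNat]
  refine ⟨fun hne => g1 fun h => hne (hdiv.mp h), ?_, ?_, ?_⟩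
  · intro hq hpar
    have := g2 (hdiv.mpr hq)
    by_cases hi : Even i.val
    · rw [modNat_eq_zero_of_even i hi, modNat_eq_zero_of_even j (hpar.mp hi)] at this
      simpa [Jm] using this
    · have hj : ¬ Even j.val := fun hj => hi (hpar.mpr hj)
      rw [modNat_eq_one_of_not_even i hi, modNat_eq_one_of_not_even j hj] at this
      simpa [Jm] using this
  · intro hq hi hj
    have := g2 (hdiv.mpr hq)
    rw [modNat_eq_zero_of_even i hi, modNat_eq_one_of_not_even j hj] at this
    simpa [Jm] using this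
  · intro hq hi hj
    have := g2 (hdiv.mpr hq)
    rw [modNat_eq_one_of_not_even i hi, modNat_eq_zero_of_even j hj] at this
    simpa [Jm] using this

end Sympl

end Groth.Agent.Lib.Helper6.HermDiag
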