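import Groth.Agent.Lib.Helper6.HypSmooth

set_option linter.unusedSectionVars false
set_option linter.unusedVariables false
set_option autoImplicit false
set_option maxHeartbeats 400000

noncomputable section

namespace Groth.Agent.Helper6.Hirz

open Groth.Agent.Helper6.HypSmooth

universe u

variable {k : Type u} [Field k]

/-- the embedding `k[t] → k[t,w]` -/
def iota : Polynomial k →ₐ[k] MvPolynomial (Fin 2) k :=
  Polynomial.aeval (MvPolynomial.X 0 : MvPolynomial (Fin 2) k)

lemma iota_X : iota (k := k) Polynomial.X = MvPolynomial.X 0 := by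
  unfold iota; simp

lemma iota_C (c : k) : iota (k := k) (Polynomial.C c) = MvPolynomial.C c := by
  unfold iota; simp [MvPolynomial.algebraMap_eq]

lemma pderiv_one_iota (a : Polynomial k) : MvPolynomial.pderiv (1 : Fin 2) (iota a) = 0 := by
  induction a using Polynomial.induction_on' with
  | add p q hp hq => rw [map_add, map_add, hp, hq, add_zero]
  | monomial n c =>
    rw [← Polynomial.C_mul_X_pow_eq_monomial, map_mul, map_pow, iota_X, iota_C,
      Derivation.leibniz, Derivation.leibniz_pow]
    simp [MvPolynomial.pderiv_X_of_ne]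

lemma pderiv_zero_iota (a : Polynomial k) :
    MvPolynomial.pderiv (0 : Fin 2) (iota a) = iota (Polynomial.derivative a) := by
  induction a using Polynomial.induction_on' with
  | add p q hp hq => rw [map_add, map_add, hp, hq, map_add, map_add]
  | monomial n c =>
    rw [← Polynomial.C_mul_X_pow_eq_monomial, map_mul, map_pow, iota_X, iota_C,
      Derivation.leibniz, Derivation.leibniz_pow, Polynomial.derivative_C_mul_X_pow]
    simp only [MvPolynomial.pderiv_C, MvPolynomial.pderiv_X_self, smul_zero, add_zero,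
      smul_eq_mul, mul_one, map_mul, map_pow, iota_X, iota_C, map_natCast]
    simp only [nsmul_eq_mul]
    ring

/-- chart polynomial `a + b w` -/
def f1 (a b : Polynomial k) : MvPolynomial (Fin 2) k := iota a + iota b * MvPolynomial.X 1
/-- chart polynomial `a w + b` -/
def f2 (a b : Polynomial k) : MvPolynomial (Fin 2) k := iota a * MvPolynomial.X 1 + iota b

lemma pderiv_one_f1 (a b : Polynomial k) : MvPolynomial.pderiv (1 : Fin 2) (f1 a b) = iota b := by
  unfold f1
  rw [map_add, Derivation.leibniz, pderiv_one_iota, pderiv_one_iota]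
  simp

lemma pderiv_one_f2 (a b : Polynomial k) : MvPolynomial.pderiv (1 : Fin 2) (f2 a b) = iota a := by
  unfold f2
  rw [map_add, Derivation.leibniz, pderiv_one_iota, pderiv_one_iota]
  simp

lemma pderiv_zero_f1 (a b : Polynomial k) : MvPolynomial.pderiv (0 : Fin 2) (f1 a b) =
    f1 (Polynomial.derivative a) (Polynomial.derivative b) := by
  unfold f1
  rw [map_add, Derivation.leibniz, pderiv_zero_iota, pderiv_zero_iota,
    MvPolynomial.pderiv_X_of_ne (by decide)]
  simp [mul_comm]

lemma pderiv_zero_f2 (a b : Polynomial k) : MvPolynomial.pderiv (0 : Fin 2) (f2 a b) =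
    f2 (Polynomial.derivative a) (Polynomial.derivative b) := by
  unfold f2
  rw [map_add, Derivation.leibniz, pderiv_zero_iota, pderiv_zero_iota,
    MvPolynomial.pderiv_X_of_ne (by decide)]
  simp [mul_comm]

lemma jac_top_of_coprime (a b : Polynomial k) (h : IsCoprime a b) :
    jac (f1 a b) = ⊤ ∧ jac (f2 a b) = ⊤ := by
  obtain ⟨u, v, huv⟩ := h
  constructor
  · rw [Ideal.eq_top_iff_one]
    have hb : iota b ∈ jac (f1 a b) := by
      rw [← pderiv_one_f1 a b]; exact pderiv_mem_jac _ _
    have ha : iota a ∈ jac (f1 a b) := by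
      have : iota a = f1 a b - iota b * MvPolynomial.X 1 := by unfold f1; ring
      rw [this]
      exact (jac _).sub_mem (mem_jac_self _) ((jac _).mul_mem_right _ hb)
    have : (1 : MvPolynomial (Fin 2) k) = iota u * iota a + iota v * iota b := by
      rw [← map_mul, ← map_mul, ← map_add, huv, map_one]
    rw [this]
    exact (jac _).add_mem ((jac _).mul_mem_left _ ha) ((jac _).mul_mem_left _ hb)
  · rw [Ideal.eq_top_iff_one]
    have ha : iota a ∈ jac (f2 a b) := by
      rw [← pderiv_one_f2 a b]; exact pderiv_mem_jac _ _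
    have hb : iota b ∈ jac (f2 a b) := by
      have : iota b = f2 a b - iota a * MvPolynomial.X 1 := by unfold f2; ring
      rw [this]
      exact (jac _).sub_mem (mem_jac_self _) ((jac _).mul_mem_right _ ha)
    have : (1 : MvPolynomial (Fin 2) k) = iota u * iota a + iota v * iota b := by
      rw [← map_mul, ← map_mul, ← map_add, huv, map_one]
    rw [this]
    exact (jac _).add_mem ((jac _).mul_mem_left _ ha) ((jac _).mul_mem_left _ hb)

lemma iota_injective : Function.Injective (iota (k := k)) := by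
  -- evaluate back: X 0 ↦ X, X 1 ↦ 0
  let ρ : MvPolynomial (Fin 2) k →ₐ[k] Polynomial k :=
    MvPolynomial.aeval (fun i : Fin 2 => if i = 0 then (Polynomial.X : Polynomial k) else 0)
  have h : ρ.comp iota = AlgHom.id k _ := by
    apply Polynomial.algHom_ext
    simp [ρ, iota_X]
  intro a b hab
  have := congrArg ρ hab
  have e : ∀ c, ρ (iota c) = c := fun c => congrArg (fun φ => φ c) h
  rw [e, e] at this
  exact this

/-- set `w = 0` -/
def rho0 : MvPolynomial (Fin 2) k →ₐ[k] Polynomial k :=
  MvPolynomial.aeval (fun i : Fin 2 => if i = 0 then (Polynomial.X : Polynomial k) else 0)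
/-- set `w = 1` -/
def rho1 : MvPolynomial (Fin 2) k →ₐ[k] Polynomial k :=
  MvPolynomial.aeval (fun i : Fin 2 => if i = 0 then (Polynomial.X : Polynomial k) else 1)

lemma rho0_iota (a : Polynomial k) : rho0 (iota a) = a := by
  have h : (rho0 (k := k)).comp iota = AlgHom.id k _ := by
    apply Polynomial.algHom_ext
    simp [rho0, iota_X]
  exact congrArg (fun φ => φ a) h

lemma rho1_iota (a : Polynomial k) : rho1 (iota a) = a := by
  have h : (rho1 (k := k)).comp iota = AlgHom.id k _ := by
    apply Polynomial.algHom_ext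
    simp [rho1, iota_X]
  exact congrArg (fun φ => φ a) h

lemma f1_ne_zero (a b : Polynomial k) (h : ¬ (a = 0 ∧ b = 0)) : f1 a b ≠ 0 := by
  intro h0
  apply h
  have h1 := congrArg rho0 h0
  have h2 := congrArg rho1 h0
  unfold f1 at h1 h2
  simp only [map_add, map_mul, rho0_iota, rho1_iota, map_zero] at h1 h2
  have e0 : rho0 (MvPolynomial.X 1 : MvPolynomial (Fin 2) k) = 0 := by simp [rho0]
  have e1 : rho1 (MvPolynomial.X 1 : MvPolynomial (Fin 2) k) = 1 := by simp [rho1]
  rw [e0, mul_zero, add_zero] at h1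
  rw [e1, mul_one, h1, zero_add] at h2
  exact ⟨h1, h2⟩

lemma f2_ne_zero (a b : Polynomial k) (h : ¬ (a = 0 ∧ b = 0)) : f2 a b ≠ 0 := by
  intro h0
  apply h
  have h1 := congrArg rho0 h0
  have h2 := congrArg rho1 h0
  unfold f2 at h1 h2
  simp only [map_add, map_mul, rho0_iota, rho1_iota, map_zero] at h1 h2
  have e0 : rho0 (MvPolynomial.X 1 : MvPolynomial (Fin 2) k) = 0 := by simp [rho0]
  have e1 : rho1 (MvPolynomial.X 1 : MvPolynomial (Fin 2) k) = 1 := by simp [rho1]
  rw [e0, mul_zero, zero_add] at h1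
  rw [e1, mul_one, h1, add_zero] at h2
  exact ⟨h2, h1⟩

section eval

variable {K : Type u} [Field K] [Algebra k K] (θ : K)

/-- evaluation `t ↦ θ` into `K[w]` -/
def Phi : MvPolynomial (Fin 2) k →ₐ[k] Polynomial K :=
  MvPolynomial.aeval (fun i : Fin 2 => if i = 0 then Polynomial.C θ else (Polynomial.X : Polynomial K))

lemma Phi_iota (a : Polynomial k) : Phi θ (iota a) = Polynomial.C (Polynomial.aeval θ a) := by
  have h : (Phi θ).comp iota = (IsScalarTower.toAlgHom k K (Polynomial K)).comp
      (Polynomial.aeval θ) := by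
    apply Polynomial.algHom_ext
    simp [Phi, iota_X, Polynomial.algebraMap_apply]
  exact congrArg (fun φ => φ a) h

lemma Phi_X1 : Phi θ (MvPolynomial.X 1 : MvPolynomial (Fin 2) k) = Polynomial.X := by
  simp [Phi]

lemma Phi_f1 (a b : Polynomial k) : Phi θ (f1 a b) =
    Polynomial.C (Polynomial.aeval θ a) + Polynomial.C (Polynomial.aeval θ b) * Polynomial.X := by
  unfold f1
  rw [map_add, map_mul, Phi_iota, Phi_iota, Phi_X1]

lemma Phi_f2 (a b : Polynomial k) : Phi θ (f2 a b) =
    Polynomial.C (Polynomial.aeval θ a) * Polynomial.X + Polynomial.C (Polynomial.aeval θ b) := by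
  unfold f2
  rw [map_add, map_mul, Phi_iota, Phi_iota, Phi_X1]

lemma unit_lin (α β : K) (h : IsUnit (Polynomial.C α + Polynomial.C β * Polynomial.X)) :
    β = 0 ∧ α ≠ 0 := by
  have hd := Polynomial.natDegree_eq_zero_of_isUnit h
  have hb : β = 0 := by
    have : (Polynomial.C α + Polynomial.C β * Polynomial.X).coeff 1 = 0 :=
      Polynomial.coeff_eq_zero_of_natDegree_lt (by omega)
    simpa using this
  refine ⟨hb, ?_⟩
  intro ha
  rw [ha, hb] at h
  simp at h

lemma jac_image (f : MvPolynomial (Fin 2) k) (h : jac f = ⊤)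
    (h0 : Phi θ f = 0) (h1 : Phi θ (MvPolynomial.pderiv 1 f) = 0) :
    IsUnit (Phi θ (MvPolynomial.pderiv 0 f)) := by
  have h1' : (1 : MvPolynomial (Fin 2) k) ∈ jac f := by rw [h]; trivial
  have hle : jac f ≤ Ideal.comap (Phi θ).toRingHom (Ideal.span {Phi θ (MvPolynomial.pderiv 0 f)}) := by
    unfold jac
    rw [Ideal.span_le]
    rintro x (hx | ⟨i, rfl⟩)
    · rw [Set.mem_singleton_iff] at hx
      subst hx
      show Phi θ x ∈ Ideal.span {Phi θ (MvPolynomial.pderiv 0 x)}
      rw [h0]; exact Ideal.zero_mem _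
    · show Phi θ (MvPolynomial.pderiv i f) ∈ Ideal.span {Phi θ (MvPolynomial.pderiv 0 f)}
      fin_cases i
      · exact Ideal.mem_span_singleton_self _
      · show Phi θ (MvPolynomial.pderiv 1 f) ∈ Ideal.span {Phi θ (MvPolynomial.pderiv 0 f)}
        rw [h1]; exact Ideal.zero_mem _
  have := hle h1'
  have h2 : (1 : Polynomial K) ∈ Ideal.span {Phi θ (MvPolynomial.pderiv 0 f)} := by
    have h3 : Phi θ 1 ∈ Ideal.span {Phi θ (MvPolynomial.pderiv 0 f)} := this
    rwa [map_one] at h3
  rw [← Ideal.span_singleton_eq_top, Ideal.eq_top_iff_one]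
  exact h2

end eval

lemma not_both_jac_top (a b : Polynomial k) (h0 : ¬ (a = 0 ∧ b = 0)) (hc : ¬ IsCoprime a b) :
    ¬ (jac (f1 a b) = ⊤ ∧ jac (f2 a b) = ⊤) := by
  rintro ⟨hj1, hj2⟩
  have hex : ∃ z : Polynomial k, Irreducible z ∧ z ∣ a ∧ z ∣ b := by
    by_contra hne
    push Not at hne
    exact hc (isCoprime_of_irreducible_dvd h0 (fun z hz hza hzb => hne z hz hza hzb))
  obtain ⟨z, hz, hza, hzb⟩ := hex
  haveI : Fact (Irreducible z) := ⟨hz⟩
  let K := AdjoinRoot z
  let θ : K := AdjoinRoot.root z
  have ha : Polynomial.aeval θ a = 0 := by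
    rw [AdjoinRoot.aeval_eq, AdjoinRoot.mk_eq_zero]; exact hza
  have hb : Polynomial.aeval θ b = 0 := by
    rw [AdjoinRoot.aeval_eq, AdjoinRoot.mk_eq_zero]; exact hzb
  have u1 := jac_image θ (f1 a b) hj1 (by rw [Phi_f1, ha, hb]; simp)
    (by rw [pderiv_one_f1, Phi_iota, hb]; simp)
  have u2 := jac_image θ (f2 a b) hj2 (by rw [Phi_f2, ha, hb]; simp)
    (by rw [pderiv_one_f2, Phi_iota, ha]; simp)
  rw [pderiv_zero_f1, Phi_f1] at u1
  rw [pderiv_zero_f2, Phi_f2, add_comm, mul_comm] at u2
  have v1 := unit_lin _ _ u1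
  have u2' : IsUnit (Polynomial.C (Polynomial.aeval θ (Polynomial.derivative b)) +
      Polynomial.C (Polynomial.aeval θ (Polynomial.derivative a)) * Polynomial.X) := by
    convert u2 using 2
    ring
  have v2 := unit_lin _ _ u2'
  exact v1.2 v2.1

/-- the pair criterion -/
theorem pair_smooth_iff (a b : Polynomial k) (h0 : ¬ (a = 0 ∧ b = 0)) :
    (Algebra.Smooth k (MvPolynomial (Fin 2) k ⧸ Ideal.span ({f1 a b} : Set (MvPolynomial (Fin 2) k))) ∧
      Algebra.Smooth k (MvPolynomial (Fin 2) k ⧸ Ideal.span ({f2 a b} : Set (MvPolynomial (Fin 2) k))))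
      ↔ IsCoprime a b := by
  constructor
  · rintro ⟨s1, s2⟩
    by_contra hc
    apply not_both_jac_top a b h0 hc
    exact ⟨jac_eq_top_of_formallySmooth _ (f1_ne_zero a b h0) s1.formallySmooth,
      jac_eq_top_of_formallySmooth _ (f2_ne_zero a b h0) s2.formallySmooth⟩
  · intro hc
    obtain ⟨j1, j2⟩ := jac_top_of_coprime a b hc
    exact ⟨smooth_of_jac_eq_top _ j1, smooth_of_jac_eq_top _ j2⟩

section res

open Polynomial

/-- polynomial from a coefficient vector -/
def poly {N : ℕ} (a : Fin (N + 1) → k) : Polynomial k := ∑ j : Fin (N + 1), C (a j) * X ^ (j : ℕ)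
/-- reversed polynomial from a coefficient vector -/
def polyr {N : ℕ} (a : Fin (N + 1) → k) : Polynomial k :=
  ∑ j : Fin (N + 1), C (a j) * X ^ (N - (j : ℕ))

lemma natDegree_poly {N : ℕ} (a : Fin (N + 1) → k) : (poly a).natDegree ≤ N := by
  unfold poly
  apply natDegree_sum_le_of_forall_le
  intro j _
  exact (natDegree_C_mul_X_pow_le _ _).trans (by have := j.2; omega)

lemma coeff_poly {N : ℕ} (a : Fin (N + 1) → k) (j : Fin (N + 1)) : (poly a).coeff j = a j := by
  unfold poly
  rw [finsetSum_coeff, Finset.sum_eq_single j]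
  · simp
  · intro i _ hij
    rw [coeff_C_mul_X_pow, if_neg]
    intro h
    exact hij (Fin.ext h.symm)
  · intro h; exact absurd (Finset.mem_univ _) h

lemma reflect_sum {ι : Type*} (s : Finset ι) (g : ι → Polynomial k) (N : ℕ) :
    reflect N (∑ i ∈ s, g i) = ∑ i ∈ s, reflect N (g i) := by
  classical
  induction s using Finset.induction_on with
  | empty => simp
  | insert a s ha ih => rw [Finset.sum_insert ha, Finset.sum_insert ha, reflect_add, ih]

lemma polyr_eq {N : ℕ} (a : Fin (N + 1) → k) : polyr a = reflect N (poly a) := by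
  unfold polyr poly
  rw [reflect_sum]
  apply Finset.sum_congr rfl
  intro j _
  rw [reflect_C_mul_X_pow, revAt_le (by have := j.2; omega)]

lemma poly_eq_zero {N : ℕ} (a : Fin (N + 1) → k) (h : poly a = 0) : a = 0 := by
  funext j
  rw [← coeff_poly a j, h]
  simp

lemma natDegree_lt_of_coeff {M : ℕ} (hM : 1 ≤ M) (A : Polynomial k) (hA : A.natDegree ≤ M)
    (hc : A.coeff M = 0) : A.natDegree < M := by
  rcases Nat.lt_or_ge A.natDegree M with h | h
  · exact h
  · exfalso
    have he : A.natDegree = M := le_antisymm hA h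
    have hl : A.leadingCoeff = 0 := by
      unfold leadingCoeff; rw [he]; exact hc
    rw [leadingCoeff_eq_zero] at hl
    rw [hl, natDegree_zero] at he
    omega

theorem res_ne_zero_iff {M N : ℕ} (hM : 1 ≤ M) (hN : 1 ≤ N) (a : Fin (M + 1) → k)
    (b : Fin (N + 1) → k) :
    resultant (poly a) (poly b) M N ≠ 0 ↔
      IsCoprime (poly a) (poly b) ∧ IsCoprime (polyr a) (polyr b) := by
  set A := poly a with hAdef
  set B := poly b with hBdef
  have hA : A.natDegree ≤ M := natDegree_poly a
  have hB : B.natDegree ≤ N := natDegree_poly b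
  rw [polyr_eq, polyr_eq, ← hAdef, ← hBdef]
  constructor
  · intro hR
    obtain ⟨p, q', hp, hq', e⟩ := exists_mul_add_mul_eq_C_resultant A B hA hB (Or.inl (by omega))
    set R := resultant A B M N with hRdef
    have hCR : C R⁻¹ * C R = (1 : Polynomial k) := by
      rw [← C_mul, inv_mul_cancel₀ hR, C_1]
    constructor
    · refine ⟨C R⁻¹ * p, C R⁻¹ * q', ?_⟩
      calc C R⁻¹ * p * A + C R⁻¹ * q' * B = C R⁻¹ * (A * p + B * q') := by ring
        _ = 1 := by rw [e, hCR]
    · have hpd : p.natDegree ≤ N - 1 := by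
        by_cases hp0 : p = 0
        · rw [hp0]; simp
        · have := (natDegree_lt_iff_degree_lt hp0).2 hp
          omega
      have hqd : q'.natDegree ≤ M - 1 := by
        by_cases hq0 : q' = 0
        · rw [hq0]; simp
        · have := (natDegree_lt_iff_degree_lt hq0).2 hq'
          omega
      have hT : N + (M - 1) = M + (N - 1) := by omega
      have e2 : reflect M A * reflect (N - 1) p + reflect N B * reflect (M - 1) q' =
          C R * X ^ (M + (N - 1)) := by
        rw [← reflect_mul A p hA hpd, ← reflect_mul B q' hB hqd, hT, ← reflect_add, e, reflect_C]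
      apply isCoprime_of_prime_dvd
      · rintro ⟨h1, h2⟩
        rw [h1, h2, zero_mul, zero_mul, add_zero] at e2
        have := congrArg (fun f => coeff f (M + (N - 1))) e2
        simp only [coeff_zero, coeff_C_mul, coeff_X_pow, if_true, mul_one] at this
        exact hR this.symm
      · intro z hz hzA hzB
        have h1 : z ∣ C R * X ^ (M + (N - 1)) := by
          rw [← e2]
          exact dvd_add (Dvd.dvd.mul_right hzA _) (Dvd.dvd.mul_right hzB _)
        have hu : IsUnit (C R : Polynomial k) := isUnit_C.2 (isUnit_iff_ne_zero.2 hR)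
        rw [hu.dvd_mul_left] at h1
        have h2 : z ∣ X := hz.dvd_of_dvd_pow h1
        have h3 : Associated z X := hz.irreducible.associated_of_dvd irreducible_X h2
        have hXA : X ∣ reflect M A := h3.symm.dvd.trans hzA
        have hXB : X ∣ reflect N B := h3.symm.dvd.trans hzB
        rw [X_dvd_iff, coeff_reflect, revAt_le (Nat.zero_le _), Nat.sub_zero] at hXA hXB
        have := resultant_eq_zero_of_lt_lt A B M N (natDegree_lt_of_coeff hM A hA hXA)
          (natDegree_lt_of_coeff hN B hB hXB)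
        exact hR this
  · rintro ⟨c1, c2⟩ hR
    by_cases hAM : A.coeff M = 0
    · by_cases hBN : B.coeff N = 0
      · have hXA : X ∣ reflect M A := by
          rw [X_dvd_iff, coeff_reflect, revAt_le (Nat.zero_le _), Nat.sub_zero]; exact hAM
        have hXB : X ∣ reflect N B := by
          rw [X_dvd_iff, coeff_reflect, revAt_le (Nat.zero_le _), Nat.sub_zero]; exact hBN
        exact not_isUnit_X (c2.isUnit_of_dvd' hXA hXB)
      · have hdB : B.natDegree = N := by
          apply le_antisymm hB
          exact le_natDegree_of_ne_zero hBN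
        have hk : A.natDegree + (M - A.natDegree) = M := by omega
        have := resultant_add_left_deg A B A.natDegree N (M - A.natDegree) le_rfl
        rw [hk, hR] at this
        have h0 : resultant A B A.natDegree N = 0 := by
          rcases mul_eq_zero.1 this.symm with h | h
          · rcases mul_eq_zero.1 h with h | h
            · exact absurd h (pow_ne_zero _ (by norm_num))
            · exact absurd h (pow_ne_zero _ hBN)
          · exact h
        have h1 : resultant A B = 0 := by
          have : resultant A B A.natDegree B.natDegree = 0 := by rw [hdB]; exact h0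
          exact this
        exact (resultant_eq_zero_iff.1 h1).2 c1
    · have hdA : A.natDegree = M := by
        apply le_antisymm hA
        exact le_natDegree_of_ne_zero hAM
      have hk : B.natDegree + (N - B.natDegree) = N := by omega
      have := resultant_add_right_deg A B M B.natDegree (N - B.natDegree) le_rfl
      rw [hk, hR] at this
      have h0 : resultant A B M B.natDegree = 0 := by
        rcases mul_eq_zero.1 this.symm with h | h
        · exact absurd h (pow_ne_zero _ hAM)
        · exact h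
      have h1 : resultant A B = 0 := by
        have : resultant A B A.natDegree B.natDegree = 0 := by rw [hdA]; exact h0
        exact this
      exact (resultant_eq_zero_iff.1 h1).2 c1

lemma iota_poly {N : ℕ} (a : Fin (N + 1) → k) :
    iota (poly a) = ∑ j : Fin (N + 1), MvPolynomial.C (a j) * MvPolynomial.X 0 ^ (j : ℕ) := by
  unfold poly
  simp only [map_sum, map_mul, map_pow, iota_C, iota_X]

lemma iota_polyr {N : ℕ} (a : Fin (N + 1) → k) :
    iota (polyr a) = ∑ j : Fin (N + 1), MvPolynomial.C (a j) * MvPolynomial.X 0 ^ (N - (j : ℕ)) := by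
  unfold polyr
  simp only [map_sum, map_mul, map_pow, iota_C, iota_X]

theorem main (n : ℕ) (hn : 3 ≤ n) (q : Fin (2 + 1) → k) (ξ : Fin (n + 1) → k)
    (hqξ : q ≠ 0 ∨ ξ ≠ 0) :
    (Algebra.Smooth k (MvPolynomial (Fin 2) k ⧸ Ideal.span ({f1 (poly q) (poly ξ)} : Set (MvPolynomial (Fin 2) k))) ∧
      Algebra.Smooth k (MvPolynomial (Fin 2) k ⧸ Ideal.span ({f2 (poly q) (poly ξ)} : Set (MvPolynomial (Fin 2) k))) ∧
      Algebra.Smooth k (MvPolynomial (Fin 2) k ⧸ Ideal.span ({f1 (polyr q) (polyr ξ)} : Set (MvPolynomial (Fin 2) k))) ∧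
      Algebra.Smooth k (MvPolynomial (Fin 2) k ⧸ Ideal.span ({f2 (polyr q) (polyr ξ)} : Set (MvPolynomial (Fin 2) k)))) ↔
    resultant (poly q) (poly ξ) 2 n ≠ 0 := by
  have h0 : ¬ (poly q = 0 ∧ poly ξ = 0) := by
    rintro ⟨h1, h2⟩
    rcases hqξ with h | h
    · exact h (poly_eq_zero q h1)
    · exact h (poly_eq_zero ξ h2)
  have h0r : ¬ (polyr q = 0 ∧ polyr ξ = 0) := by
    rintro ⟨h1, h2⟩
    rw [polyr_eq, reflect_eq_zero_iff] at h1 h2
    exact h0 ⟨h1, h2⟩
  have hres := res_ne_zero_iff (k := k) (M := 2) (N := n) (by norm_num) (by omega) q ξ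
  have hp1 := pair_smooth_iff (poly q) (poly ξ) h0
  have hp2 := pair_smooth_iff (polyr q) (polyr ξ) h0r
  constructor
  · rintro ⟨s1, s2, s3, s4⟩
    exact hres.2 ⟨hp1.1 ⟨s1, s2⟩, hp2.1 ⟨s3, s4⟩⟩
  · intro hR
    obtain ⟨c1, c2⟩ := hres.1 hR
    obtain ⟨s1, s2⟩ := hp1.2 c1
    obtain ⟨s3, s4⟩ := hp2.2 c2
    exact ⟨s1, s2, s3, s4⟩

end res

end Groth.Agent.Helper6.Hirz
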