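import Mathlib

/-! Homogeneous systems of parameters: the polynomial ring is finite over the subalgebra they
generate. -/

universe u
open MvPolynomial

namespace Groth.Agent.Lib.Helper6.HomSop

variable {k : Type u} [Field k] {σ : Type*}

theorem comp_mul (g z : MvPolynomial σ k) (d e : ℕ) (hz : z.IsHomogeneous d) :
    homogeneousComponent e (g * z) =
      if d ≤ e then homogeneousComponent (e - d) g * z else 0 := by
  classical
  conv_lhs => rw [← sum_homogeneousComponent g, Finset.sum_mul, map_sum]
  have h1 : ∀ j ∈ Finset.range (g.totalDegree + 1),
      homogeneousComponent e (homogeneousComponent j g * z) =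
        if e = j + d then homogeneousComponent j g * z else 0 := by
    intro j _
    exact homogeneousComponent_of_mem ((homogeneousComponent_isHomogeneous j g).mul hz)
  rw [Finset.sum_congr rfl h1]
  split_ifs with hde
  · by_cases hle : e - d ∈ Finset.range (g.totalDegree + 1)
    · rw [Finset.sum_eq_single (e - d)]
      · rw [if_pos (by omega)]
      · intro j _ hj
        rw [if_neg (by omega)]
      · intro h; exact absurd hle h
    · rw [Finset.sum_eq_zero]
      · rw [homogeneousComponent_eq_zero, zero_mul]
        rw [Finset.mem_range] at hle
        omega
      · intro j hj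
        rw [Finset.mem_range] at hle hj
        rw [if_neg (by omega)]
  · apply Finset.sum_eq_zero
    intro j _
    rw [if_neg (by omega)]

theorem finite_of_sop (n m : ℕ)
    (z : Fin m → MvPolynomial (Fin n) k) (d : Fin m → ℕ) (hd : ∀ i, 0 < d i)
    (hz : ∀ i, (z i).IsHomogeneous (d i))
    (hrad : (Ideal.span (Set.range z)).radical =
      Ideal.span (Set.range (MvPolynomial.X : Fin n → MvPolynomial (Fin n) k))) :
    Module.Finite (Algebra.adjoin k (Set.range z)) (MvPolynomial (Fin n) k) := by
  classical
  -- a power of the irrelevant ideal lies in (z)
  obtain ⟨N, hN⟩ := Ideal.exists_pow_le_of_le_radical_of_fg (le_of_eq hrad.symm)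
    (MvPolynomial.idealOfVars_fg (Fin n) k)
  -- generators of low degree pieces
  have hfg : ∀ e : ℕ, ∃ G : Finset (MvPolynomial (Fin n) k),
      Submodule.span k (G : Set (MvPolynomial (Fin n) k)) = homogeneousSubmodule (Fin n) k e :=
    fun e => homogeneousSubmodule_fg (σ := Fin n) (R := k) e
  choose G hG using hfg
  let GG : Finset (MvPolynomial (Fin n) k) := (Finset.range N).biUnion G
  refine ⟨⟨GG, ?_⟩⟩
  -- every homogeneous polynomial lies in the span
  have key : ∀ e : ℕ, ∀ f : MvPolynomial (Fin n) k, f.IsHomogeneous e →
      f ∈ Submodule.span (Algebra.adjoin k (Set.range z)) (GG : Set (MvPolynomial (Fin n) k)) := by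
    intro e
    induction e using Nat.strong_induction_on with
    | _ e ih =>
      intro f hf
      by_cases heN : e < N
      · have h1 : f ∈ Submodule.span k (G e : Set (MvPolynomial (Fin n) k)) := by
          rw [hG e]; exact hf
        have h2 : Submodule.span k (G e : Set (MvPolynomial (Fin n) k)) ≤
            (Submodule.span (Algebra.adjoin k (Set.range z))
              (GG : Set (MvPolynomial (Fin n) k))).restrictScalars k := by
          refine (Submodule.span_mono ?_).trans (Submodule.span_le_restrictScalars k _ _)
          intro g hg
          exact Finset.mem_biUnion.mpr ⟨e, Finset.mem_range.mpr heN, hg⟩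
        exact h2 h1
      · have hfJ : f ∈ Ideal.span (Set.range z) := by
          apply hN
          rw [MvPolynomial.mem_pow_idealOfVars_iff]
          intro x hx
          have := hf.coeff_eq_zero (d := x)
          by_contra hlt
          exact (MvPolynomial.mem_support_iff.mp hx) (this (by omega))
        obtain ⟨c, hc⟩ := (Ideal.mem_span_range_iff_exists_fun).mp hfJ
        have h3 : f = ∑ i, (if d i ≤ e then homogeneousComponent (e - d i) (c i) * z i else 0) := by
          conv_lhs => rw [← homogeneousComponent_eq_self hf, ← hc, map_sum]
          refine Finset.sum_congr rfl fun i _ => ?_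
          exact comp_mul (c i) (z i) (d i) e (hz i)
        rw [h3]
        refine Submodule.sum_mem _ fun i _ => ?_
        split_ifs with hdi
        · have h4 := ih (e - d i) (by have := hd i; omega) _
            (homogeneousComponent_isHomogeneous (e - d i) (c i))
          have h5 : homogeneousComponent (e - d i) (c i) * z i =
              (⟨z i, Algebra.subset_adjoin ⟨i, rfl⟩⟩ : Algebra.adjoin k (Set.range z)) •
                homogeneousComponent (e - d i) (c i) := by
            rw [mul_comm]; rfl
          rw [h5]
          exact Submodule.smul_mem _ _ h4
        · exact Submodule.zero_mem _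
  rw [eq_top_iff]
  intro f _
  rw [← sum_homogeneousComponent f]
  exact Submodule.sum_mem _ fun e _ => key e _ (homogeneousComponent_isHomogeneous e f)

end Groth.Agent.Lib.Helper6.HomSop
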