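import Mathlib

/-!
# Nagata's criterion for unique factorization (helper6)

`R` Noetherian domain, `s` prime, `R[1/s]` UFD ⟹ `R` UFD.
-/

namespace Groth.Agent.Lib.Helper6.Nagata

set_option linter.unusedSectionVars false
set_option linter.style.haveILetI false

variable {R : Type*} [CommRing R] [IsDomain R]

/-- the key step: descent of primality. -/
lemma prime_of_prime_map (s : R) (hs : Prime s) (B : Type*) [CommRing B] [Algebra R B]
    [IsLocalization.Away s B] (y : R) (hy : ¬ s ∣ y) (hyB : Prime (algebraMap R B y)) :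
    Prime y := by
  have hinj : Function.Injective (algebraMap R B) :=
    IsLocalization.injective B (powers_le_nonZeroDivisors_of_noZeroDivisors hs.ne_zero)
  refine ⟨?_, ?_, ?_⟩
  · rintro rfl
    exact hyB.ne_zero (map_zero _)
  · intro hu
    exact hyB.not_isUnit (hu.map _)
  · intro a b hab
    have key : ∀ a : R, algebraMap R B y ∣ algebraMap R B a → y ∣ a := by
      intro a ⟨c, hc⟩
      obtain ⟨⟨c₀, t⟩, hct⟩ := IsLocalization.surj (Submonoid.powers s) c
      obtain ⟨k, hk⟩ := t.2
      simp only at hct
      have h1 : a * s ^ k = y * c₀ := by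
        apply hinj
        rw [map_mul, map_mul, hc, mul_assoc, ← hct, ← hk]
      have h2 : s ^ k ∣ c₀ := hs.pow_dvd_of_dvd_mul_left k hy ⟨a, by rw [← h1, mul_comm]⟩
      obtain ⟨c₁, rfl⟩ := h2
      refine ⟨c₁, ?_⟩
      have h3 : a * s ^ k = (y * c₁) * s ^ k := by rw [h1]; ring
      exact mul_right_cancel₀ (pow_ne_zero k hs.ne_zero) h3
    have : algebraMap R B y ∣ algebraMap R B a * algebraMap R B b := by
      rw [← map_mul]; exact map_dvd _ hab
    rcases hyB.dvd_or_dvd this with h | h
    · exact Or.inl (key a h)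
    · exact Or.inr (key b h)

theorem nagata [IsNoetherianRing R] (s : R) (hs : Prime s) (B : Type*) [CommRing B] [Algebra R B]
    [IsLocalization.Away s B] [IsDomain B] [UniqueFactorizationMonoid B] :
    UniqueFactorizationMonoid R := by
  rw [UniqueFactorizationMonoid.iff_exists_prime_mem_of_isPrime]
  intro P hP0 hPp
  by_cases hsP : s ∈ P
  · exact ⟨s, hsP, hs⟩
  have hinj : Function.Injective (algebraMap R B) :=
    IsLocalization.injective B (powers_le_nonZeroDivisors_of_noZeroDivisors hs.ne_zero)
  have hdisj : Disjoint (Submonoid.powers s : Set R) (P : Set R) := by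
    rw [Set.disjoint_left]
    rintro x ⟨n, rfl⟩ hx
    exact hsP (hPp.mem_of_pow_mem n hx)
  let Q := P.map (algebraMap R B)
  have hQp : Q.IsPrime := IsLocalization.isPrime_of_isPrime_disjoint (Submonoid.powers s) B P hPp hdisj
  have hQc : Q.comap (algebraMap R B) = P :=
    IsLocalization.under_map_of_isPrime_disjoint (Submonoid.powers s) B hPp hdisj
  have hQ0 : Q ≠ ⊥ := by
    obtain ⟨x, hxP, hx0⟩ := Submodule.exists_mem_ne_zero_of_ne_bot hP0
    intro hQ
    have : algebraMap R B x ∈ Q := Ideal.mem_map_of_mem _ hxP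
    rw [hQ, Ideal.mem_bot] at this
    exact hx0 (hinj (this.trans (map_zero _).symm))
  obtain ⟨π, hπQ, hπ⟩ := (UniqueFactorizationMonoid.iff_exists_prime_mem_of_isPrime.1
    (inferInstance : UniqueFactorizationMonoid B)) Q hQ0 hQp
  obtain ⟨⟨x, t⟩, hxt⟩ := IsLocalization.surj (Submonoid.powers s) π
  simp only at hxt
  have htu : IsUnit (algebraMap R B t) := IsLocalization.map_units B t
  have hxQ : algebraMap R B x ∈ Q := by rw [← hxt]; exact Q.mul_mem_right _ hπQ
  have hxP : x ∈ P := by rw [← hQc]; exact hxQ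
  have hxprime : Prime (algebraMap R B x) := by
    rw [← hxt]
    exact (associated_mul_unit_right π _ htu).prime hπ
  have hx0 : x ≠ 0 := by
    rintro rfl
    exact hxprime.ne_zero (map_zero _)
  obtain ⟨m, y, hsy, hxy⟩ := WfDvdMonoid.max_power_factor' hx0 hs.not_isUnit
  have hyP : y ∈ P := by
    rw [hxy] at hxP
    rcases hPp.mem_or_mem hxP with h | h
    · exact absurd (hPp.mem_of_pow_mem m h) hsP
    · exact h
  have hsu : IsUnit (algebraMap R B (s ^ m)) :=
    IsLocalization.map_units B (⟨s ^ m, m, rfl⟩ : Submonoid.powers s)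
  have hyprime : Prime (algebraMap R B y) := by
    have : Associated (algebraMap R B x) (algebraMap R B y) := by
      rw [hxy, map_mul]
      exact associated_unit_mul_left _ _ hsu
    exact this.prime hxprime
  exact ⟨y, hyP, prime_of_prime_map s hs B y hsy hyprime⟩

end Groth.Agent.Lib.Helper6.Nagata
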