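import Mathlib
import Groth.Agent.Lib.Helper6.Nagata

/-!
# `R[1/s] = R_(s)[T, T⁻¹]` for `s` homogeneous of degree one (helper6; for S11278)
-/

namespace Groth.Agent.Lib.Helper6.HomogLaurent

universe u v

set_option linter.unusedSectionVars false
set_option linter.style.haveILetI false

open Polynomial

variable {K : Type u} [Field K] {R : Type v} [CommRing R] [IsDomain R] [Algebra K R]
  (𝒜 : ℕ → Submodule K R) [GradedAlgebra 𝒜] {s : R} (hs : s ∈ 𝒜 1)

local notation "A" => HomogeneousLocalization.Away 𝒜 s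
local notation "B" => Localization.Away s

/-- the fraction `r / s^i` for `r` of degree `i`. -/
noncomputable def frac (i : ℕ) (r : R) (hr : r ∈ 𝒜 i) : A :=
  HomogeneousLocalization.Away.mk 𝒜 hs i r (by simpa using hr)

lemma val_frac (i : ℕ) (r : R) (hr : r ∈ 𝒜 i) :
    (frac 𝒜 hs i r hr).val = Localization.mk r (⟨s ^ i, ⟨i, rfl⟩⟩ : Submonoid.powers s) := rfl

lemma val_frac_mul (i : ℕ) (r : R) (hr : r ∈ 𝒜 i) :
    (frac 𝒜 hs i r hr).val * (algebraMap R B s) ^ i = algebraMap R B r := by
  rw [val_frac, ← map_pow, ← Localization.mk_one_eq_algebraMap, ← Localization.mk_one_eq_algebraMap,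
    Localization.mk_mul, Localization.mk_eq_mk_iff, Localization.r_iff_exists]
  exact ⟨1, by simp; ring⟩

/-- the comparison map `A[X] → B`, `X ↦ s`. -/
noncomputable def ψ : A[X] →+* B :=
  Polynomial.eval₂RingHom (algebraMap A B) (algebraMap R B s)

lemma ψ_X : ψ 𝒜 (X : A[X]) = algebraMap R B s := by simp [ψ]

lemma ψ_C (a : A) : ψ 𝒜 (C a) = a.val := by simp [ψ]

open scoped Classical in
/-- the polynomial lifting `r`. -/
noncomputable def lift (r : R) : A[X] :=
  ∑ i ∈ (DirectSum.decompose 𝒜 r).support,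
    C (frac 𝒜 hs i (DirectSum.decompose 𝒜 r i) (SetLike.coe_mem _)) * X ^ i

open scoped Classical in
lemma ψ_lift (r : R) : ψ 𝒜 (lift 𝒜 hs r) = algebraMap R B r := by
  classical
  unfold lift
  rw [map_sum]
  simp only [map_mul, map_pow, ψ_X, ψ_C, val_frac_mul]
  rw [← map_sum, DirectSum.sum_support_decompose]


lemma algebraMap_injective (hs0 : s ≠ 0) : Function.Injective (algebraMap R B) :=
  IsLocalization.injective B (powers_le_nonZeroDivisors_of_noZeroDivisors hs0)

include hs in
lemma ψ_injective (hs0 : s ≠ 0) : Function.Injective (ψ 𝒜 (s := s)) := by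
  rw [injective_iff_map_eq_zero]
  intro p hp
  have hrep : ∀ i, ∃ (n : ℕ) (r : R) (hr : r ∈ 𝒜 n), frac 𝒜 hs n r hr = p.coeff i := by
    intro i
    obtain ⟨n, a, ha, h⟩ := HomogeneousLocalization.Away.mk_surjective 𝒜 hs (p.coeff i)
    exact ⟨n, a, by simpa using ha, h⟩
  choose n r hr hnr using hrep
  let N := p.natDegree
  let M := ∑ i ∈ Finset.range (N + 1), n i
  have hM : ∀ i ∈ Finset.range (N + 1), n i ≤ M := fun i hi =>
    Finset.single_le_sum (f := n) (fun _ _ => Nat.zero_le _) hi
  have hsum : ∑ i ∈ Finset.range (N + 1), r i * s ^ (M - n i + i) = 0 := by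
    apply algebraMap_injective hs0
    rw [map_zero, map_sum]
    have h0 : (0 : B) = ψ 𝒜 p * (algebraMap R B s) ^ M := by rw [hp, zero_mul]
    rw [h0, ψ, Polynomial.coe_eval₂RingHom, Polynomial.eval₂_eq_sum_range, Finset.sum_mul]
    apply Finset.sum_congr rfl
    intro i hi
    rw [← hnr i, map_mul, map_pow, ← val_frac_mul 𝒜 hs (n i) (r i) (hr i)]
    have hexp : n i + (M - n i + i) = i + M := by have := hM i hi; omega
    change (frac 𝒜 hs (n i) (r i) (hr i)).val * _ * _ = (frac 𝒜 hs (n i) (r i) (hr i)).val * _ * _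
    rw [mul_assoc, mul_assoc, ← pow_add, ← pow_add, hexp]
  have hdeg : ∀ i ∈ Finset.range (N + 1), r i * s ^ (M - n i + i) ∈ 𝒜 (M + i) := by
    intro i hi
    have h1 : s ^ (M - n i + i) ∈ 𝒜 ((M - n i + i) • 1) := SetLike.pow_mem_graded _ hs
    have h2 := SetLike.mul_mem_graded (hr i) h1
    have hexp : n i + (M - n i + i) • 1 = M + i := by
      have := hM i hi
      simp only [smul_eq_mul, mul_one]; omega
    rwa [hexp] at h2
  apply Polynomial.ext
  intro j
  rw [Polynomial.coeff_zero]
  by_cases hj : j ∈ Finset.range (N + 1)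
  · have h1 := congrArg (GradedRing.proj 𝒜 (M + j)) hsum
    rw [map_sum, map_zero, Finset.sum_eq_single j] at h1
    · rw [GradedRing.proj_apply, DirectSum.decompose_of_mem_same 𝒜 (hdeg j hj)] at h1
      have hrj : r j = 0 := by
        rcases mul_eq_zero.1 h1 with h | h
        · exact h
        · exact absurd h (pow_ne_zero _ hs0)
      rw [← hnr j]
      rw [HomogeneousLocalization.ext_iff_val, val_frac, hrj, HomogeneousLocalization.val_zero,
        Localization.mk_zero]
    · intro i hi hij
      rw [GradedRing.proj_apply, DirectSum.decompose_of_mem_ne 𝒜 (hdeg i hi) (by omega)]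
    · intro h; exact absurd hj h
  · rw [Finset.mem_range, not_lt] at hj
    have hN : N = p.natDegree := rfl
    have hlt : p.natDegree < j := by omega
    exact Polynomial.coeff_eq_zero_of_natDegree_lt hlt


include hs in
theorem ufd_localization (hs0 : s ≠ 0) [UniqueFactorizationMonoid A] :
    UniqueFactorizationMonoid B := by
  have hBdom : IsDomain B := IsLocalization.isDomain_localization
    (powers_le_nonZeroDivisors_of_noZeroDivisors hs0)
  have hAdom : IsDomain A := Function.Injective.isDomain (algebraMap A B)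
    (HomogeneousLocalization.val_injective _)
  letI : Algebra A[X] B := (ψ 𝒜).toAlgebra
  have hloc : IsLocalization (Submonoid.powers (X : A[X])) B := by
    rw [isLocalization_iff]
    refine ⟨?_, ?_, ?_⟩
    · rintro ⟨_, n, rfl⟩
      change IsUnit (ψ 𝒜 (X ^ n))
      rw [map_pow, ψ_X]
      exact (IsLocalization.map_units B (⟨s, 1, pow_one s⟩ : Submonoid.powers s)).pow n
    · intro z
      obtain ⟨⟨r, t⟩, hrt⟩ := IsLocalization.surj (Submonoid.powers s) z
      obtain ⟨m, hm⟩ := t.2
      refine ⟨(lift 𝒜 hs r, ⟨X ^ m, m, rfl⟩), ?_⟩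
      change z * ψ 𝒜 (X ^ m) = ψ 𝒜 (lift 𝒜 hs r)
      rw [ψ_lift, map_pow, ψ_X, ← map_pow]
      simp only at hrt
      rw [← hrt]
      congr 2
    · intro x y hxy
      exact ⟨1, by rw [ψ_injective 𝒜 hs hs0 hxy]⟩
  exact UniqueFactorizationMonoid.of_isLocalization (Submonoid.powers (X : A[X])) B

include hs in
theorem s11278 [IsNoetherianRing R] (hp : Prime s)
    (h : UniqueFactorizationMonoid (HomogeneousLocalization.Away 𝒜 s)) :
    UniqueFactorizationMonoid R := by
  have hs0 := hp.ne_zero
  have : IsDomain B := IsLocalization.isDomain_localization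
    (powers_le_nonZeroDivisors_of_noZeroDivisors hs0)
  have : UniqueFactorizationMonoid B := ufd_localization 𝒜 hs hs0
  exact Nagata.nagata s hp B

end Groth.Agent.Lib.Helper6.HomogLaurent
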