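import Mathlib

set_option linter.unusedSectionVars false
set_option linter.unusedVariables false
set_option autoImplicit false
set_option maxHeartbeats 400000

noncomputable section

namespace Groth.Agent.Helper6.HypSmooth

open MvPolynomial KaehlerDifferential TensorProduct

universe u v

variable {k : Type u} [CommRing k] {σ : Type v} [Fintype σ] [DecidableEq σ]

/-- The Jacobian ideal of a hypersurface. -/
def jac (f : MvPolynomial σ k) : Ideal (MvPolynomial σ k) :=
  Ideal.span ({f} ∪ Set.range (fun i => pderiv i f))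

lemma mem_jac_self (f : MvPolynomial σ k) : f ∈ jac f :=
  Ideal.subset_span (Or.inl rfl)

lemma pderiv_mem_jac (f : MvPolynomial σ k) (i : σ) : pderiv i f ∈ jac f :=
  Ideal.subset_span (Or.inr ⟨i, rfl⟩)

/-- the quotient ring -/
abbrev Q (f : MvPolynomial σ k) : Type (max u v) := MvPolynomial σ k ⧸ Ideal.span {f}

/-- the kernel -/
abbrev I (f : MvPolynomial σ k) : Ideal (MvPolynomial σ k) :=
  RingHom.ker (algebraMap (MvPolynomial σ k) (Q f))

lemma I_eq (f : MvPolynomial σ k) : I f = Ideal.span {f} := by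
  unfold I
  rw [Ideal.Quotient.algebraMap_eq, Ideal.mk_ker]

lemma f_mem_I (f : MvPolynomial σ k) : f ∈ I f := by
  rw [I_eq]; exact Ideal.mem_span_singleton_self f

/-- the class of `f` in the cotangent -/
def fc (f : MvPolynomial σ k) : (I f).Cotangent := (I f).toCotangent ⟨f, f_mem_I f⟩

lemma D_eq_sum (g : MvPolynomial σ k) :
    D k (MvPolynomial σ k) g = ∑ i, pderiv i g • D k (MvPolynomial σ k) (X i) := by
  have := (mvPolynomialBasis k σ).sum_repr (D k (MvPolynomial σ k) g)
  rw [← this]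
  apply Finset.sum_congr rfl
  intro i _
  rw [mvPolynomialBasis_repr_apply, mvPolynomialBasis_apply]

lemma smul_toCotangent (f : MvPolynomial σ k) (a : MvPolynomial σ k) (x : I f) :
    a • (I f).toCotangent x = (I f).toCotangent ⟨a * x.1, (I f).mul_mem_left a x.2⟩ := by
  rw [← map_smul]
  rfl

lemma toCotangent_mul_f (f : MvPolynomial σ k) (a : MvPolynomial σ k) :
    (I f).toCotangent ⟨a * f, (I f).mul_mem_left a (f_mem_I f)⟩ = a • fc f := by
  unfold fc
  rw [smul_toCotangent]

lemma exists_smul_fc (f : MvPolynomial σ k) (m : (I f).Cotangent) :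
    ∃ a : MvPolynomial σ k, m = a • fc f := by
  obtain ⟨x, rfl⟩ := (I f).toCotangent_surjective m
  have hx : x.1 ∈ Ideal.span {f} := (I_eq f) ▸ x.2
  rw [Ideal.mem_span_singleton'] at hx
  obtain ⟨a, ha⟩ := hx
  refine ⟨a, ?_⟩
  rw [← toCotangent_mul_f]
  congr 1
  exact Subtype.ext ha.symm

lemma smul_fc_eq_zero_iff (f : MvPolynomial σ k) (a : MvPolynomial σ k) :
    a • fc f = 0 ↔ a * f ∈ Ideal.span {f ^ 2} := by
  rw [← toCotangent_mul_f, Ideal.toCotangent_eq_zero]
  show a * f ∈ I f ^ 2 ↔ _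
  rw [I_eq, Ideal.span_singleton_pow]

/-- Smooth hypersurface over a domain has unit Jacobian ideal. -/
theorem jac_eq_top_of_formallySmooth [IsDomain k] (f : MvPolynomial σ k) (hf : f ≠ 0)
    (h : Algebra.FormallySmooth k (Q f)) : jac f = ⊤ := by
  have hsurj : Function.Surjective (algebraMap (MvPolynomial σ k) (Q f)) :=
    Ideal.Quotient.mk_surjective
  obtain ⟨l, hl⟩ := (Algebra.FormallySmooth.iff_split_injection (R := k)
    (P := MvPolynomial σ k) (A := Q f) hsurj).1 h
  have h1 : l (kerCotangentToTensor k (MvPolynomial σ k) (Q f) (fc f)) = fc f := by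
    have := congrArg (fun φ => φ (fc f)) hl
    simpa using this
  have h2 : kerCotangentToTensor k (MvPolynomial σ k) (Q f) (fc f) =
      ∑ i, pderiv i f • ((1 : Q f) ⊗ₜ[MvPolynomial σ k] D k (MvPolynomial σ k) (X i)) := by
    unfold fc
    rw [kerCotangentToTensor_toCotangent]
    show (1 : Q f) ⊗ₜ D k _ f = _
    rw [D_eq_sum, tmul_sum]
    apply Finset.sum_congr rfl
    intro i _
    rw [tmul_smul]
  rw [h2, map_sum] at h1
  simp_rw [map_smul] at h1
  choose a ha using fun i => exists_smul_fc f (l ((1 : Q f) ⊗ₜ D k _ (X i)))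
  simp_rw [ha, smul_smul] at h1
  rw [← Finset.sum_smul] at h1
  have h3 : (1 - ∑ i, pderiv i f * a i) • fc f = 0 := by
    rw [sub_smul, one_smul, h1, sub_self]
  rw [smul_fc_eq_zero_iff, Ideal.mem_span_singleton'] at h3
  obtain ⟨c, hc⟩ := h3
  have h4 : c * f = 1 - ∑ i, pderiv i f * a i := by
    apply mul_right_cancel₀ hf
    rw [← hc]; ring
  rw [Ideal.eq_top_iff_one]
  have : (1 : MvPolynomial σ k) = c * f + ∑ i, pderiv i f * a i := by rw [h4]; ring
  rw [this]
  exact (jac f).add_mem ((jac f).mul_mem_left c (mem_jac_self f))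
    (Ideal.sum_mem _ (fun i _ => (jac f).mul_mem_right _ (pderiv_mem_jac f i)))

lemma mem_I_smul_eq_zero (f : MvPolynomial σ k) (x : MvPolynomial σ k) (hx : x ∈ Ideal.span {f})
    (m : (I f).Cotangent) : x • m = 0 := by
  obtain ⟨y, rfl⟩ := (I f).toCotangent_surjective m
  rw [smul_toCotangent, Ideal.toCotangent_eq_zero]
  show x * y.1 ∈ I f ^ 2
  rw [pow_two]
  exact Ideal.mul_mem_mul ((I_eq f).symm ▸ hx) y.2

/-- action of `Q f` on the cotangent module -/
def act (f : MvPolynomial σ k) :
    Q f →ₗ[MvPolynomial σ k] ((I f).Cotangent →ₗ[MvPolynomial σ k] (I f).Cotangent) :=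
  Submodule.liftQ (Ideal.span {f}) (LinearMap.lsmul (MvPolynomial σ k) (I f).Cotangent) (by
    intro x hx
    rw [LinearMap.mem_ker]
    ext m
    exact mem_I_smul_eq_zero f x hx m)

lemma act_one (f : MvPolynomial σ k) (m : (I f).Cotangent) : act f 1 m = m := by
  show act f (Submodule.Quotient.mk 1) m = m
  unfold act
  rw [Submodule.liftQ_apply]
  simp

/-- the candidate retraction on differentials -/
def l0 (f : MvPolynomial σ k) (a : σ → MvPolynomial σ k) :
    Ω[MvPolynomial σ k⁄k] →ₗ[MvPolynomial σ k] (I f).Cotangent :=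
  (mvPolynomialBasis k σ).constr ℕ (fun i => a i • fc f)

lemma l0_D (f : MvPolynomial σ k) (a : σ → MvPolynomial σ k) (g : MvPolynomial σ k) :
    l0 f a (D k _ g) = (∑ i, pderiv i g * a i) • fc f := by
  unfold l0
  rw [Module.Basis.constr_apply_fintype, Finset.sum_smul]
  apply Finset.sum_congr rfl
  intro i _
  rw [Module.Basis.equivFun_apply, mvPolynomialBasis_repr_apply, smul_smul]

/-- the candidate retraction -/
def lret (f : MvPolynomial σ k) (a : σ → MvPolynomial σ k) :
    Q f ⊗[MvPolynomial σ k] Ω[MvPolynomial σ k⁄k] →ₗ[MvPolynomial σ k] (I f).Cotangent :=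
  TensorProduct.lift ((LinearMap.lcomp (MvPolynomial σ k) _ (l0 f a)) ∘ₗ act f)

lemma lret_one_tmul (f : MvPolynomial σ k) (a : σ → MvPolynomial σ k) (ω : Ω[MvPolynomial σ k⁄k]) :
    lret f a ((1 : Q f) ⊗ₜ ω) = l0 f a ω := by
  unfold lret
  rw [TensorProduct.lift.tmul]
  simp only [LinearMap.coe_comp, Function.comp_apply, LinearMap.lcomp_apply]
  exact act_one f _

/-- unit Jacobian ideal implies formally smooth -/
theorem formallySmooth_of_jac_eq_top (f : MvPolynomial σ k) (h : jac f = ⊤) :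
    Algebra.FormallySmooth k (Q f) := by
  have hsurj : Function.Surjective (algebraMap (MvPolynomial σ k) (Q f)) :=
    Ideal.Quotient.mk_surjective
  rw [Algebra.FormallySmooth.iff_split_injection (R := k)
    (P := MvPolynomial σ k) (A := Q f) hsurj]
  have h1 : (1 : MvPolynomial σ k) ∈ jac f := by rw [h]; trivial
  unfold jac at h1
  rw [Ideal.span_union, Submodule.mem_sup] at h1
  obtain ⟨y, hy, z, hz, hyz⟩ := h1
  rw [Ideal.mem_span_singleton'] at hy
  obtain ⟨c, rfl⟩ := hy
  rw [Ideal.mem_span_range_iff_exists_fun] at hz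
  obtain ⟨a, rfl⟩ := hz
  refine ⟨lret f a, ?_⟩
  ext m
  obtain ⟨x, rfl⟩ := (I f).toCotangent_surjective m
  have hx : x.1 ∈ Ideal.span {f} := (I_eq f) ▸ x.2
  rw [Ideal.mem_span_singleton'] at hx
  obtain ⟨hh, hhx⟩ := hx
  simp only [LinearMap.coe_comp, Function.comp_apply, LinearMap.id_coe, id_eq]
  rw [kerCotangentToTensor_toCotangent, lret_one_tmul, l0_D]
  have hxe : (I f).toCotangent x = hh • fc f := by
    rw [← toCotangent_mul_f]
    congr 1
    exact Subtype.ext hhx.symm
  rw [hxe, ← sub_eq_zero, ← sub_smul, smul_fc_eq_zero_iff, Ideal.mem_span_singleton']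
  refine ⟨∑ i, pderiv i hh * a i - c * hh, ?_⟩
  rw [← hhx]
  have hl : ∀ i, pderiv i (hh * f) = hh * pderiv i f + f * pderiv i hh := by
    intro i
    rw [Derivation.leibniz]
    rfl
  simp_rw [hl, add_mul, Finset.sum_add_distrib]
  have e1 : ∑ i, hh * pderiv i f * a i = hh * (1 - c * f) := by
    have hyz' : ∑ i, a i * pderiv i f = 1 - c * f := by
      rw [← hyz]; ring
    rw [← hyz', Finset.mul_sum]
    apply Finset.sum_congr rfl
    intro i _
    ring
  have e2 : ∑ i, f * pderiv i hh * a i = f * ∑ i, pderiv i hh * a i := by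
    rw [Finset.mul_sum]
    apply Finset.sum_congr rfl
    intro i _
    ring
  rw [e1, e2]
  ring

/-- unit Jacobian ideal implies smooth -/
theorem smooth_of_jac_eq_top (f : MvPolynomial σ k) (h : jac f = ⊤) :
    Algebra.Smooth k (Q f) :=
  { formallySmooth := formallySmooth_of_jac_eq_top f h
    finitePresentation := Algebra.FinitePresentation.quotient ⟨{f}, by simp⟩ }

end Groth.Agent.Helper6.HypSmooth
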