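import Mathlib

/-!
# The scheme-theoretic image of a flat scheme over a Dedekind domain is flat (helper6)
-/

set_option autoImplicit false
set_option linter.style.haveILetI false
open CategoryTheory AlgebraicGeometry TopologicalSpace
universe u
namespace Groth.Agent.Lib.Helper6.ImageFlat

variable {R : Type u} [CommRing R] {X Y : Scheme.{u}}
  (q : Y ⟶ Spec (CommRingCat.of R))

/-- the structure map `R → Γ(Y, U)` of an affine open of a scheme over `Spec R`. -/
noncomputable def rho (U : Y.affineOpens) : CommRingCat.of R ⟶ Γ(Y, U.1) :=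
  Spec.preimage (U.2.fromSpec ≫ q)

lemma specMap_rho (U : Y.affineOpens) : Spec.map (rho q U) = U.2.fromSpec ≫ q :=
  Spec.map_preimage _

lemma rho_res (U V : Y.affineOpens) (h : V.1 ≤ U.1) :
    rho q V = rho q U ≫ Y.presheaf.map (homOfLE h).op := by
  apply Spec.map_injective
  rw [Spec.map_comp, specMap_rho, specMap_rho,
    U.2.map_fromSpec_assoc V.2 (homOfLE h).op]

lemma rho_appLE (f : X ⟶ Y) (U : Y.affineOpens) (W : X.affineOpens) (h : W.1 ≤ f ⁻¹ᵁ U.1) :
    rho (f ≫ q) W = rho q U ≫ f.appLE U.1 W.1 h := by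
  apply Spec.map_injective
  rw [Spec.map_comp, specMap_rho, specMap_rho,
    IsAffineOpen.SpecMap_appLE_fromSpec_assoc f U.2 W.2 h]

lemma rho_flat (p : X ⟶ Spec (CommRingCat.of R)) [Flat p] (W : X.affineOpens) :
    (rho p W).hom.Flat := by
  rw [← Flat.SpecMap_iff, specMap_rho]
  have : IsOpenImmersion W.2.fromSpec := W.2.isOpenImmersion_fromSpec
  infer_instance

/-- sections of a flat scheme over a domain are torsion free. -/
lemma eq_zero_of_mul_eq_zero [IsDomain R] (f : X ⟶ Y) [Flat (f ≫ q)] (U : Y.affineOpens) (r : R)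
    (hr : r ≠ 0) (a : Γ(Y, U.1)) (h : (f.app U.1).hom ((rho q U).hom r * a) = 0) :
    (f.app U.1).hom a = 0 := by
  set t := (f.app U.1).hom a with ht
  let ι := {W : X.affineOpens // W.1 ≤ f ⁻¹ᵁ U.1}
  refine X.sheaf.eq_of_locally_eq' (fun W : ι => W.1.1) (f ⁻¹ᵁ U.1) (fun W => homOfLE W.2) ?_
    t 0 ?_
  · intro x hx
    obtain ⟨W, hW, hxW, hWU⟩ := exists_isAffineOpen_mem_and_subset (x := x) (U := f ⁻¹ᵁ U.1) hx
    exact Opens.mem_iSup.2 ⟨⟨⟨W, hW⟩, hWU⟩, hxW⟩
  · intro W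
    rw [map_zero]
    have hflat := rho_flat (f ≫ q) W.1
    rw [rho_appLE q f U W.1 W.2] at hflat
    -- the algebra structure
    let _ := (rho q U ≫ f.appLE U.1 W.1.1 W.2).hom.toAlgebra
    have hfl : Module.Flat R Γ(X, W.1.1) := hflat
    have htors := Module.Flat.torsion_eq_bot (R := R) (M := Γ(X, W.1.1))
    set t' : Γ(X, W.1.1) := (X.presheaf.map (homOfLE W.2).op).hom t with ht'
    have hmem : t' ∈ Submodule.torsion R Γ(X, W.1.1) := by
      refine ⟨⟨r, mem_nonZeroDivisors_of_ne_zero hr⟩, ?_⟩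
      show (rho q U ≫ f.appLE U.1 W.1.1 W.2).hom r * t' = 0
      have : (rho q U ≫ f.appLE U.1 W.1.1 W.2).hom r * t' =
          (X.presheaf.map (homOfLE W.2).op).hom ((f.app U.1).hom ((rho q U).hom r * a)) := by
        rw [map_mul, map_mul]
        rfl
      rw [this, h, map_zero]
    rw [htors] at hmem
    exact hmem

/-- the `R`-saturation of an ideal. -/
def satIdeal [IsDomain R] (I : Y.IdealSheafData) (U : Y.affineOpens) : Ideal Γ(Y, U.1) where
  carrier := {a | ∃ r : R, r ≠ 0 ∧ (rho q U).hom r * a ∈ I.ideal U}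
  add_mem' := by
    rintro a b ⟨r, hr, ha⟩ ⟨s, hs, hb⟩
    refine ⟨r * s, mul_ne_zero hr hs, ?_⟩
    rw [map_mul, mul_add]
    refine add_mem ?_ ?_
    · rw [mul_comm ((rho q U).hom r), mul_assoc]
      exact Ideal.mul_mem_left _ _ ha
    · rw [mul_assoc]
      exact Ideal.mul_mem_left _ _ hb
  zero_mem' := ⟨1, one_ne_zero, by simp⟩
  smul_mem' := by
    rintro c a ⟨r, hr, ha⟩
    refine ⟨r, hr, ?_⟩
    rw [smul_eq_mul, mul_left_comm]
    exact Ideal.mul_mem_left _ _ ha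

lemma mem_satIdeal [IsDomain R] (I : Y.IdealSheafData) (U : Y.affineOpens) (a : Γ(Y, U.1)) :
    a ∈ satIdeal q I U ↔ ∃ r : R, r ≠ 0 ∧ (rho q U).hom r * a ∈ I.ideal U := Iff.rfl

lemma satIdeal_map [IsDomain R] (I : Y.IdealSheafData) (U V : Y.affineOpens) (h : V.1 ≤ U.1)
    (s : Γ(Y, U.1))
    (hloc : letI := (Y.presheaf.map (homOfLE h).op).hom.toAlgebra
      IsLocalization (Submonoid.powers s) Γ(Y, V.1))
    (hI : (I.ideal U).map (Y.presheaf.map (homOfLE h).op).hom = I.ideal V) :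
    (satIdeal q I U).map (Y.presheaf.map (homOfLE h).op).hom = satIdeal q I V := by
  letI := (Y.presheaf.map (homOfLE h).op).hom.toAlgebra
  have hres : ∀ r : R, (rho q V).hom r = algebraMap Γ(Y, U.1) Γ(Y, V.1) ((rho q U).hom r) := by
    intro r
    rw [rho_res q U V h]
    rfl
  have halg : (Y.presheaf.map (homOfLE h).op).hom = algebraMap Γ(Y, U.1) Γ(Y, V.1) := rfl
  rw [halg] at hI ⊢
  apply le_antisymm
  · rw [Ideal.map_le_iff_le_comap]
    rintro a ⟨r, hr, ha⟩
    refine ⟨r, hr, ?_⟩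
    rw [← hI]
    have := Ideal.mem_map_of_mem (algebraMap Γ(Y, U.1) Γ(Y, V.1)) ha
    rw [map_mul] at this
    rw [hres]
    exact this
  · rintro b ⟨r, hr, hb⟩
    obtain ⟨a, t, rfl⟩ := IsLocalization.exists_mk'_eq (Submonoid.powers s) b
    rw [hres, IsLocalization.mul_mk'_eq_mk'_of_mul, ← hI,
      IsLocalization.mk'_mem_map_algebraMap_iff (Submonoid.powers s)] at hb
    obtain ⟨m, hm, hma⟩ := hb
    rw [IsLocalization.mk'_mem_map_algebraMap_iff (Submonoid.powers s)]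
    refine ⟨m, hm, r, hr, ?_⟩
    rw [mul_left_comm]
    exact hma

/-- the saturation as an ideal sheaf. -/
noncomputable def sat [IsDomain R] (I : Y.IdealSheafData) : Y.IdealSheafData where
  ideal := satIdeal q I
  map_ideal_basicOpen := by
    intro U s
    exact satIdeal_map q I U (Y.affineBasicOpen s) (Y.basicOpen_le s) s
      (U.2.isLocalization_basicOpen s) (I.map_ideal_basicOpen U s)

lemma sat_ker_le [IsDomain R] (f : X ⟶ Y) [Flat (f ≫ q)] : sat q f.ker ≤ f.ker := by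
  rw [Scheme.Hom.ker, Scheme.IdealSheafData.le_ofIdeals_iff]
  intro U a ha
  obtain ⟨r, hr, hra⟩ := ha
  have h1 := f.ideal_ker_le U hra
  rw [RingHom.mem_ker] at h1 ⊢
  exact eq_zero_of_mul_eq_zero q f U r hr a h1

lemma mem_ker_of_mul_mem [IsDomain R] (f : X ⟶ Y) [Flat (f ≫ q)] (U : Y.affineOpens) (r : R)
    (hr : r ≠ 0) (a : Γ(Y, U.1)) (h : (rho q U).hom r * a ∈ f.ker.ideal U) :
    a ∈ f.ker.ideal U :=
  sat_ker_le q f U ⟨r, hr, h⟩

lemma flat_quot [IsDedekindDomain R] (f : X ⟶ Y) [Flat (f ≫ q)] (U : Y.affineOpens) :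
    (rho q U ≫ CommRingCat.ofHom (Ideal.Quotient.mk (f.ker.ideal U))).hom.Flat := by
  let φ := (rho q U ≫ CommRingCat.ofHom (Ideal.Quotient.mk (f.ker.ideal U)))
  show φ.hom.Flat
  let _ := φ.hom.toAlgebra
  show Module.Flat R (Γ(Y, U.1) ⧸ f.ker.ideal U)
  rw [IsDedekindDomain.flat_iff_torsion_eq_bot, eq_bot_iff]
  rintro b ⟨⟨r, hr⟩, hb⟩
  obtain ⟨a, rfl⟩ := Ideal.Quotient.mk_surjective b
  have hr0 : r ≠ 0 := nonZeroDivisors.ne_zero hr
  have h1 : Ideal.Quotient.mk (f.ker.ideal U) ((rho q U).hom r * a) = 0 := by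
    rw [map_mul]
    exact hb
  have h2 := mem_ker_of_mul_mem q f U r hr0 a (Ideal.Quotient.eq_zero_iff_mem.1 h1)
  exact (Submodule.mem_bot _).2 (Ideal.Quotient.eq_zero_iff_mem.2 h2)

theorem flat_image [IsDedekindDomain R] (f : X ⟶ Y) [Flat (f ≫ q)] : Flat (f.imageι ≫ q) := by
  have hloc : IsZariskiLocalAtSource (@Flat : MorphismProperty Scheme.{u}) :=
    HasRingHomProperty.instIsZariskiLocalAtSource (P := @Flat) (Q := RingHom.Flat)
  rw [hloc.iff_of_openCover f.ker.subschemeCover.openCover]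
  intro (U : Y.affineOpens)
  show Flat (f.ker.subschemeCover.f U ≫ f.ker.subschemeι ≫ q)
  have h0 : f.ker.subschemeCover.f U ≫ f.ker.subschemeι =
      Spec.map (CommRingCat.ofHom (Ideal.Quotient.mk (f.ker.ideal U))) ≫ U.2.fromSpec :=
    (Scheme.IdealSheafData.subschemeCover_map_subschemeι _ U).trans
      (Scheme.IdealSheafData.glueDataObjι_ι _ U)
  have h2 : (Spec.map (CommRingCat.ofHom (Ideal.Quotient.mk (f.ker.ideal U))) ≫ U.2.fromSpec) ≫ q =
      Spec.map (rho q U ≫ CommRingCat.ofHom (Ideal.Quotient.mk (f.ker.ideal U))) := by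
    rw [Category.assoc, ← specMap_rho, ← Spec.map_comp]
  have h1 : f.ker.subschemeCover.f U ≫ f.ker.subschemeι ≫ q =
      Spec.map (rho q U ≫ CommRingCat.ofHom (Ideal.Quotient.mk (f.ker.ideal U))) :=
    (Category.assoc _ _ _).symm.trans ((congrArg (fun g => g ≫ q) h0).trans h2)
  have h3 : Flat (Spec.map (rho q U ≫ CommRingCat.ofHom (Ideal.Quotient.mk (f.ker.ideal U)))) :=
    Flat.SpecMap_iff.2 (flat_quot q f U)
  exact h1 ▸ h3

end Groth.Agent.Lib.Helper6.ImageFlat
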