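import Mathlib
import Groth.Prelude.Def_PBC
import Groth.Agent.Lib.Helper6.IndEtElim
import Groth.Agent.Lib.Helper6.IndEtBC

open TensorProduct

namespace Groth.Agent.Lib.Helper6.IndEtFibre

universe u

/-- The image of an element of an étale algebra over a field in a field extension is
separable. -/
theorem isSeparable_of_etale {K E L : Type u} [Field K] [CommRing E] [Field L] [Algebra K E]
    [Algebra K L] [Algebra.Etale K E] (θ : E →ₐ[K] L) (y : E) : IsSeparable K (θ y) := by
  let p : Ideal E := RingHom.ker θ.toRingHom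
  haveI : p.IsPrime := RingHom.ker_isPrime θ.toRingHom
  let θ' : E ⧸ p →ₐ[K] L := Ideal.Quotient.liftₐ p θ (fun a ha => ha)
  have hinj : Function.Injective θ' := by
    rw [injective_iff_map_eq_zero]
    intro a ha
    obtain ⟨a, rfl⟩ := Ideal.Quotient.mk_surjective a
    have : θ a = 0 := ha
    exact Ideal.Quotient.eq_zero_iff_mem.mpr this
  have h1 : IsSeparable K (Ideal.Quotient.mk p y) := Algebra.IsSeparable.isSeparable K _
  have h2 : θ y = θ' (Ideal.Quotient.mk p y) := rfl
  rw [h2]
  unfold IsSeparable at h1 ⊢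
  rwa [minpoly.algHom_eq θ' hinj]

variable {K F : Type u} [Field K] [CommRing F] [Algebra K F]

theorem isIntegral_of_indEtale (hF : EtPBC.IsIndEtale K F) : Algebra.IsIntegral K F := by
  obtain ⟨J, _, _, E, _, _, hEt, φ, τ, hcompat, hsurj, hinj⟩ :=
    Groth.Agent.Lib.Helper6.IndEt.exists_system hF
  constructor
  intro x
  obtain ⟨j, y, rfl⟩ := hsurj x
  haveI := hEt j
  haveI : Module.Finite K (E j) := Algebra.FormallyUnramified.finite_of_free K (E j)
  exact (Algebra.IsIntegral.isIntegral (R := K) y).map (φ j)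

theorem isReduced_of_indEtale (hF : EtPBC.IsIndEtale K F) : IsReduced F := by
  obtain ⟨J, _, _, E, _, _, hEt, φ, τ, hcompat, hsurj, hinj⟩ :=
    Groth.Agent.Lib.Helper6.IndEt.exists_system hF
  constructor
  intro x hx
  obtain ⟨n, hn⟩ := hx
  obtain ⟨j, y, rfl⟩ := hsurj x
  have h0 : φ j (y ^ n) = φ j 0 := by rw [map_pow, hn, map_zero]
  obtain ⟨k, f, hk⟩ := hinj j _ _ h0
  haveI := hEt k
  haveI : IsReduced (E k) := Algebra.FormallyUnramified.isReduced_of_field K (E k)
  have h1 : (τ j k f y) ^ n = 0 := by rw [← map_pow, hk, map_zero]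
  have h2 : τ j k f y = 0 := (IsNilpotent.eq_zero ⟨n, h1⟩)
  rw [← hcompat j k f y, h2, map_zero]

theorem isSeparable_of_indEtale (hF : EtPBC.IsIndEtale K F) {L : Type u} [Field L] [Algebra K L]
    (ψ : F →ₐ[K] L) (x : F) : IsSeparable K (ψ x) := by
  obtain ⟨J, _, _, E, _, _, hEt, φ, τ, hcompat, hsurj, hinj⟩ :=
    Groth.Agent.Lib.Helper6.IndEt.exists_system hF
  obtain ⟨j, y, rfl⟩ := hsurj x
  haveI := hEt j
  exact isSeparable_of_etale (ψ.comp (φ j)) y

theorem krullDimLE_zero_of_isIntegral [Algebra.IsIntegral K F] : Ring.KrullDimLE 0 F := by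
  apply Ring.KrullDimLE.mk₀
  intro P hP
  haveI := hP
  have : IsField (F ⧸ P) :=
    isField_of_isIntegral_of_isField' (R := K) (S := F ⧸ P) (Field.toIsField K)
  exact Ideal.Quotient.maximal_of_isField P this

theorem isNoetherianRing_fiber {A B : Type u} [CommRing A] [CommRing B] [Algebra A B]
    [IsNoetherianRing B] (p : Ideal A) [p.IsPrime] : IsNoetherianRing (p.Fiber B) := by
  have : IsNoetherianRing (B ⊗[A] p.ResidueField) :=
    Algebra.EssFiniteType.isNoetherianRing B _
  exact isNoetherianRing_of_ringEquiv _ (Algebra.TensorProduct.comm A B p.ResidueField).toRingEquiv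

theorem main {A B : Type u} [CommRing A] [CommRing B] [Algebra A B] (hB : EtPBC.IsIndEtale A B)
    [IsNoetherianRing B] (p : Ideal A) [p.IsPrime] :
    {q : PrimeSpectrum B | q.asIdeal.LiesOver p}.Finite ∧ IsReduced (p.Fiber B) ∧
      ringKrullDim (p.Fiber B) ≤ 0 ∧
      ∀ (q : Ideal B) [q.IsPrime] [q.LiesOver p],
        @Algebra.IsSeparable p.ResidueField q.ResidueField _ _
          (Ideal.ResidueField.mapₐ p q (Algebra.ofId A B) (q.over_def p)).toRingHom.toAlgebra := by
  have hF : EtPBC.IsIndEtale p.ResidueField (p.Fiber B) :=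
    Groth.Agent.Lib.Helper6.IndEt.baseChange A B p.ResidueField hB
  haveI hint : Algebra.IsIntegral p.ResidueField (p.Fiber B) := isIntegral_of_indEtale hF
  have hred : IsReduced (p.Fiber B) := isReduced_of_indEtale hF
  haveI hdim : Ring.KrullDimLE 0 (p.Fiber B) :=
    krullDimLE_zero_of_isIntegral (K := p.ResidueField) (F := p.Fiber B)
  haveI hnoeth : IsNoetherianRing (p.Fiber B) := isNoetherianRing_fiber p
  haveI hart : IsArtinianRing (p.Fiber B) :=
    isArtinianRing_iff_isNoetherianRing_krullDimLE_zero.mpr ⟨hnoeth, hdim⟩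
  refine ⟨?_, hred, ?_, ?_⟩
  · haveI : Finite (p.primesOver B) :=
      Finite.of_equiv _ (PrimeSpectrum.primesOverOrderIsoFiber A B p).symm.toEquiv
    rw [← Set.finite_coe_iff]
    let g : {q : PrimeSpectrum B | q.asIdeal.LiesOver p} → p.primesOver B :=
      fun q => ⟨q.1.asIdeal, q.1.isPrime, q.2⟩
    have hg : Function.Injective g := by
      intro a b h
      have : a.1.asIdeal = b.1.asIdeal := congrArg Subtype.val h
      exact Subtype.ext (PrimeSpectrum.ext this)
    exact Finite.of_injective g hg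
  · have := Ring.krullDimLE_iff.mp hdim
    simpa using this
  · intro q _ _
    letI alg : Algebra p.ResidueField q.ResidueField :=
      (Ideal.ResidueField.mapₐ p q (Algebra.ofId A B) (q.over_def p)).toRingHom.toAlgebra
    haveI : IsScalarTower A p.ResidueField q.ResidueField :=
      IsScalarTower.of_algebraMap_eq (fun a =>
        ((Ideal.ResidueField.mapₐ p q (Algebra.ofId A B) (q.over_def p)).commutes a).symm)
    let ψ : p.Fiber B →ₐ[p.ResidueField] q.ResidueField :=
      Algebra.TensorProduct.lift (Algebra.ofId p.ResidueField q.ResidueField)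
        (IsScalarTower.toAlgHom A B q.ResidueField) (fun _ _ => Commute.all _ _)
    have hψ : ∀ b : B, ψ ((1 : p.ResidueField) ⊗ₜ[A] b) = algebraMap B q.ResidueField b := by
      intro b
      simp [ψ]
    have hsepB : ∀ b : B, algebraMap B q.ResidueField b ∈
        separableClosure p.ResidueField q.ResidueField := by
      intro b
      rw [mem_separableClosure_iff, ← hψ]
      exact isSeparable_of_indEtale hF ψ _
    constructor
    intro z
    rw [← mem_separableClosure_iff]
    obtain ⟨x, y, hy, rfl⟩ := IsFractionRing.div_surjective (A := B ⧸ q) z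
    obtain ⟨x, rfl⟩ := Ideal.Quotient.mk_surjective x
    obtain ⟨y, rfl⟩ := Ideal.Quotient.mk_surjective y
    exact div_mem (hsepB x) (hsepB y)

end Groth.Agent.Lib.Helper6.IndEtFibre
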