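import Mathlib

set_option autoImplicit false
set_option linter.style.haveILetI false
set_option linter.unusedSectionVars false

namespace Groth.Agent.Lib.Helper6.InertiaComplete

open scoped Pointwise
open Polynomial IsLocalRing

theorem isMaximal_smul {S G : Type*} [CommRing S] [Group G] [MulSemiringAction G S]
    (n : Ideal S) [hn : n.IsMaximal] (σ : G) : (σ • n).IsMaximal := by
  rw [Ideal.pointwise_smul_def]
  exact (Ideal.isMaximal_map_iff_of_bijective _
    (MulSemiringAction.toRingEquiv G S σ).bijective).2 hn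

section localness

variable {R S G : Type*} [CommRing R] [CommRing S] [IsDomain S] [IsLocalRing R]
  [IsAdicComplete (maximalIdeal R) R] [Algebra R S] [Group G] [Finite G]
  [MulSemiringAction G S] [SMulCommClass G R S] [Algebra.IsInvariant R S G]

/-- an element which is `0` mod `n`, `1` mod the other conjugates, and invariant under the
decomposition group. -/
theorem exists_special (n : Ideal S) [n.IsMaximal] :
    ∃ y : S, y ∈ n ∧ (∀ τ : G, τ • n ≠ n → y - 1 ∈ τ • n) ∧
      ∀ τ : G, τ • n = n → τ • y = y := by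
  classical
  cases nonempty_fintype G
  let M : Finset (Ideal S) := Finset.univ.image (fun σ : G => σ • n)
  let J : Ideal S := (M.erase n).inf id
  have hJn : ¬ J ≤ n := by
    intro hle
    obtain ⟨P, hP, hPn⟩ := (Ideal.IsPrime.inf_le' (inferInstance : n.IsPrime)).1 hle
    rw [Finset.mem_erase, Finset.mem_image] at hP
    obtain ⟨hPne, σ, -, rfl⟩ := hP
    haveI : (σ • n).IsMaximal := isMaximal_smul n σ
    exact hPne (Ideal.IsMaximal.eq_of_le inferInstance (Ideal.IsMaximal.ne_top inferInstance) hPn)
  have hsup : n ⊔ J = ⊤ := by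
    by_contra h
    have h2 := Ideal.IsMaximal.eq_of_le (inferInstance : n.IsMaximal) h le_sup_left
    exact hJn (h2 ▸ le_sup_right)
  obtain ⟨x, hx, j, hj, hxj⟩ := Submodule.mem_sup.1 (hsup ▸ Submodule.mem_top : (1 : S) ∈ n ⊔ J)
  -- `j` lies in every other conjugate
  have hjmem : ∀ τ : G, τ • n ≠ n → j ∈ τ • n := by
    intro τ hτ
    have : J ≤ τ • n := Finset.inf_le (f := id) (Finset.mem_erase.2
      ⟨hτ, Finset.mem_image.2 ⟨τ, Finset.mem_univ _, rfl⟩⟩)
    exact this hj
  let D := MulAction.stabilizer G n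
  refine ⟨∏ σ : D, σ • x, ?_, ?_, ?_⟩
  · have : (1 : D) • x ∣ ∏ σ : D, σ • x := Finset.dvd_prod_of_mem _ (Finset.mem_univ _)
    rw [one_smul] at this
    exact Ideal.mem_of_dvd _ this hx
  · intro τ hτ
    rw [← Ideal.Quotient.eq, map_prod, map_one]
    refine Finset.prod_eq_one fun σ _ => ?_
    rw [← map_one (Ideal.Quotient.mk (τ • n)), Ideal.Quotient.eq]
    -- `σ • x - 1 = - σ • j`
    have h1 : σ • x - 1 = -((σ : G) • j) := by
      have h0 : x - 1 = -j := by rw [← hxj]; ring
      calc σ • x - 1 = (σ : G) • (x - 1) := by rw [smul_sub, smul_one]; rfl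
        _ = -((σ : G) • j) := by rw [h0, smul_neg]
    rw [h1]
    apply Ideal.neg_mem_iff _ |>.2
    -- `j ∈ σ⁻¹ τ n`
    have hne : ((σ : G)⁻¹ * τ) • n ≠ n := by
      intro h
      apply hτ
      have hσ : (σ : G) • n = n := σ.2
      rw [mul_smul, inv_smul_eq_iff, hσ] at h
      exact h
    have hj' := hjmem _ hne
    rw [mul_smul, ← Ideal.smul_mem_pointwise_smul_iff (a := (σ : G)), smul_inv_smul] at hj'
    exact hj'
  · intro τ hτ
    exact Finset.smul_prod_perm (G := D) x ⟨τ, hτ⟩

/-- A domain which is a Galois extension of a complete local ring has a unique maximal ideal. -/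
theorem eq_of_isMaximal (G : Type*) [Group G] [Finite G]
    [MulSemiringAction G S] [SMulCommClass G R S] [Algebra.IsInvariant R S G]
    (n n' : Ideal S) [hn : n.IsMaximal] [hn' : n'.IsMaximal]
    [hlo : n.LiesOver (maximalIdeal R)] : n' = n := by
  classical
  cases nonempty_fintype G
  haveI : Algebra.IsIntegral R S := Algebra.IsInvariant.isIntegral R S G
  -- `n'` lies over the maximal ideal too
  have hmax' : (n'.under R).IsMaximal := Ideal.IsMaximal.under R n'
  have hu' : n'.under R = maximalIdeal R := eq_maximalIdeal hmax'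
  have hu : n.under R = maximalIdeal R := (hlo.over).symm
  by_contra hne
  obtain ⟨g, hg⟩ := Algebra.IsInvariant.exists_smul_of_under_eq R S G n n' (hu.trans hu'.symm)
  obtain ⟨y, hyn, hy1, hyD⟩ := exists_special (G := G) n
  -- the set of conjugates of `y`
  let T : Finset S := Finset.univ.image (fun σ : G => σ • y)
  let Q : S[X] := ∏ t ∈ T, (X - C t)
  have hyT : y ∈ T := Finset.mem_image.2 ⟨1, Finset.mem_univ _, one_smul _ _⟩
  have hQmonic : Q.Monic := monic_prod_of_monic _ _ fun t _ => monic_X_sub_C t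
  have hQinv : ∀ σ : G, σ • Q = Q := by
    intro σ
    have hT : T.image (fun t => σ • t) = T := by
      ext t
      simp only [T, Finset.mem_image, Finset.mem_univ, true_and, exists_exists_eq_and]
      constructor
      · rintro ⟨τ, rfl⟩; exact ⟨σ * τ, mul_smul _ _ _⟩
      · rintro ⟨τ, rfl⟩; exact ⟨σ⁻¹ * τ, by rw [← mul_smul, mul_inv_cancel_left]⟩
    show σ • (∏ t ∈ T, (X - C t)) = ∏ t ∈ T, (X - C t)
    rw [Finset.smul_prod']
    conv_rhs => rw [← hT]
    rw [Finset.prod_image (fun a _ b _ h => smul_left_cancel σ h)]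
    refine Finset.prod_congr rfl fun t _ => ?_
    rw [smul_sub, smul_X, smul_C]
  have hQlift : Q ∈ lifts (algebraMap R S) := by
    rw [lifts_iff_coeff_lifts]
    intro i
    apply Algebra.IsInvariant.isInvariant (A := R) (G := G)
    intro σ
    rw [← coeff_smul, hQinv]
  obtain ⟨QR, hQR, -, hQRmonic⟩ := lifts_and_natDegree_eq_and_monic hQlift hQmonic
  have heval : ∀ r : R, algebraMap R S (eval r QR) = eval (algebraMap R S r) Q := by
    intro r; rw [← hQR, eval_map, eval₂_at_apply]
  have hevald : ∀ r : R, algebraMap R S (eval r (derivative QR)) =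
      eval (algebraMap R S r) (derivative Q) := by
    intro r; rw [← hQR, derivative_map, eval_map, eval₂_at_apply]
  have hmem_of : ∀ r : R, algebraMap R S r ∈ n → r ∈ maximalIdeal R := by
    intro r hr
    rw [← hu]; exact hr
  -- conjugates of `y` other than `y` are not in `n`
  have hTn : ∀ t ∈ T, t ≠ y → t ∉ n := by
    intro t ht hty htn
    obtain ⟨σ, -, rfl⟩ := Finset.mem_image.1 ht
    have hσ : σ • n ≠ n := fun h => hty (hyD σ h)
    have hσ' : σ⁻¹ • n ≠ n := by
      intro h
      apply hσ
      rw [inv_smul_eq_iff] at h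
      exact h.symm
    have h1 := hy1 σ⁻¹ hσ'
    rw [← Ideal.smul_mem_pointwise_smul_iff (a := σ), smul_inv_smul, smul_sub, smul_one] at h1
    have : (1 : S) ∈ n := by
      have := n.sub_mem htn h1
      simpa using this
    exact hn.ne_top ((Ideal.eq_top_iff_one _).2 this)
  have h0 : eval 0 QR ∈ maximalIdeal R := by
    apply hmem_of
    rw [heval, map_zero]
    show eval 0 (∏ t ∈ T, (X - C t)) ∈ n
    rw [eval_prod]
    have : eval 0 (X - C y) ∣ ∏ t ∈ T, eval 0 (X - C t) :=
      Finset.dvd_prod_of_mem (fun t => eval 0 (X - C t)) hyT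
    refine Ideal.mem_of_dvd _ this ?_
    simp only [eval_sub, eval_X, eval_C, zero_sub]
    exact n.neg_mem hyn
  have hunit : IsUnit (Ideal.Quotient.mk (maximalIdeal R) (eval 0 (derivative QR))) := by
    apply IsUnit.map
    rw [← notMem_maximalIdeal]
    intro hmem
    have h1 : eval 0 (derivative Q) ∈ n := by
      rw [← map_zero (algebraMap R S), ← hevald]
      have : eval 0 (derivative QR) ∈ n.under R := by rw [hu]; exact hmem
      exact this
    have hsplit : Q = (X - C y) * ∏ t ∈ T.erase y, (X - C t) :=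
      (Finset.mul_prod_erase T (fun t => X - C t) hyT).symm
    rw [hsplit, derivative_mul, eval_add, eval_mul, eval_mul] at h1
    simp only [derivative_sub, derivative_X, derivative_C, sub_zero, eval_one, one_mul, eval_sub,
      eval_X, eval_C, zero_sub] at h1
    have h2 : eval 0 (∏ t ∈ T.erase y, (X - C t)) ∈ n := by
      have h3 : -y * eval 0 (derivative (∏ t ∈ T.erase y, (X - C t))) ∈ n :=
        n.mul_mem_right _ (n.neg_mem hyn)
      have := n.sub_mem h1 h3
      simpa using this
    rw [eval_prod] at h2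
    obtain ⟨t, ht, htn⟩ := (Ideal.IsPrime.prod_mem_iff (hp := hn.isPrime)).1 h2
    simp only [eval_sub, eval_X, eval_C, zero_sub] at htn
    have ht' := Finset.mem_erase.1 ht
    exact hTn t ht'.2 ht'.1 (by simpa using n.neg_mem htn)
  obtain ⟨r, hr, hrm⟩ := HenselianRing.is_henselian QR hQRmonic 0 h0 hunit
  rw [sub_zero] at hrm
  have hroot : eval (algebraMap R S r) Q = 0 := by
    rw [← heval, hr.eq_zero, map_zero]
  have hroot' : ∏ t ∈ T, (algebraMap R S r - t) = 0 := by
    have : eval (algebraMap R S r) Q = ∏ t ∈ T, (algebraMap R S r - t) := by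
      show eval _ (∏ t ∈ T, (X - C t)) = _
      rw [eval_prod]
      refine Finset.prod_congr rfl fun t _ => ?_
      simp
    rw [← this, hroot]
  obtain ⟨t, ht, ht0⟩ := Finset.prod_eq_zero_iff.1 hroot'
  obtain ⟨σ, -, rfl⟩ := Finset.mem_image.1 ht
  have hy_eq : y = algebraMap R S r := by
    have : algebraMap R S r = σ • y := sub_eq_zero.1 ht0
    rw [← inv_smul_eq_iff, smul_algebraMap] at this
    exact this.symm
  have hyn' : y ∈ n' := by
    rw [hy_eq]
    have : r ∈ n'.under R := by rw [hu']; exact hrm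
    exact this
  have hgn : g • n ≠ n := fun h => hne (hg.trans h)
  have hy1' : y - 1 ∈ n' := hg ▸ hy1 g hgn
  have : (1 : S) ∈ n' := by
    have := n'.sub_mem hyn' hy1'
    simpa using this
  exact hn'.ne_top ((Ideal.eq_top_iff_one _).2 this)

end localness


/-- A finite group acting faithfully on a field has an element with trivial stabilizer. -/
theorem exists_trivial_stabilizer (H E : Type*) [Group H] [Finite H] [Field E]
    [MulSemiringAction H E] [FaithfulSMul H E] :
    ∃ x : E, ∀ h : H, h • x = x → h = 1 := by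
  classical
  cases nonempty_fintype H
  obtain ⟨α, hα⟩ := Field.exists_primitive_element (FixedPoints.subfield H E) E
  refine ⟨α, fun h hh => ?_⟩
  let K : IntermediateField (FixedPoints.subfield H E) E :=
    (FixedBy.subfield E h).toIntermediateField (fun x => x.2 h)
  have hle : IntermediateField.adjoin (FixedPoints.subfield H E) {α} ≤ K := by
    rw [IntermediateField.adjoin_simple_le_iff]
    exact hh
  rw [hα] at hle
  apply eq_of_smul_eq_smul (α := E)
  intro x
  rw [one_smul]
  exact hle (IntermediateField.mem_top : x ∈ (⊤ : IntermediateField _ E))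


/-- Lagrange interpolation with invariant coefficients. -/
theorem exists_invariant_poly {S G : Type*} [CommRing S] [Group G] [Fintype G] [DecidableEq G]
    [MulSemiringAction G S] (θ : S) (hθ : ∀ σ : G, σ ≠ 1 → IsUnit (θ - σ • θ)) (s : S) :
    ∃ F : S[X], (∀ σ : G, σ • F = F) ∧ eval θ F = s := by
  classical
  let ℓ : S[X] := ∏ τ ∈ (Finset.univ.erase (1 : G)), (X - C (τ • θ))
  have hu : IsUnit (eval θ ℓ) := by
    show IsUnit (eval θ (∏ τ ∈ (Finset.univ.erase (1 : G)), (X - C (τ • θ))))
    rw [eval_prod]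
    rw [IsUnit.prod_iff]
    intro τ hτ
    simp only [eval_sub, eval_X, eval_C]
    exact hθ τ (Finset.mem_erase.1 hτ).1
  obtain ⟨v, hv⟩ := hu.exists_right_inv
  have hsmul : ∀ σ : G, σ • (C (s * v) * ℓ) =
      C (σ • (s * v)) * ∏ τ ∈ (Finset.univ.erase (1 : G)), (X - C ((σ * τ) • θ)) := by
    intro σ
    rw [smul_mul', smul_C]
    congr 1
    show σ • (∏ τ ∈ (Finset.univ.erase (1 : G)), (X - C (τ • θ))) = _
    rw [Finset.smul_prod']
    refine Finset.prod_congr rfl fun τ _ => ?_
    rw [smul_sub, smul_X, smul_C, mul_smul]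
  refine ⟨∑ σ : G, σ • (C (s * v) * ℓ), fun τ => ?_, ?_⟩
  · rw [Finset.smul_sum]
    refine Fintype.sum_equiv (Equiv.mulLeft τ) _ _ fun σ => ?_
    rw [Equiv.coe_mulLeft, mul_smul]
  · rw [eval_finsetSum, Finset.sum_eq_single (1 : G)]
    · rw [one_smul, eval_mul, eval_C, mul_assoc, mul_comm v, hv, mul_one]
    · intro σ _ hσ
      rw [hsmul, eval_mul, eval_prod]
      have hmem : σ⁻¹ ∈ Finset.univ.erase (1 : G) :=
        Finset.mem_erase.2 ⟨inv_ne_one.2 hσ, Finset.mem_univ _⟩
      rw [Finset.prod_eq_zero hmem, mul_zero]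
      simp
    · intro h; exact absurd (Finset.mem_univ _) h


/-- every element is a polynomial of small degree in `θ`. -/
theorem exists_poly_lt {R S G : Type*} [CommRing R] [CommRing S] [Nontrivial R] [Nontrivial S] [Algebra R S]
    [Group G] [Finite G]
    [MulSemiringAction G S] [SMulCommClass G R S] [Algebra.IsInvariant R S G]
    (θ : S) (hθ : ∀ σ : G, σ ≠ 1 → IsUnit (θ - σ • θ)) (s : S) :
    ∃ g : R[X], g.degree < (Nat.card G : WithBot ℕ) ∧ g.natDegree < Nat.card G ∧
      aeval θ g = s := by
  classical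
  cases nonempty_fintype G
  obtain ⟨F, hF, hFs⟩ := exists_invariant_poly (G := G) θ hθ s
  have hFl : F ∈ lifts (algebraMap R S) := by
    rw [lifts_iff_coeff_lifts]
    intro i
    apply Algebra.IsInvariant.isInvariant (A := R) (G := G)
    intro σ
    rw [← coeff_smul, hF]
  obtain ⟨g, hg⟩ := (mem_lifts _).1 hFl
  obtain ⟨P, hP, hPdeg, hPmonic⟩ := lifts_and_natDegree_eq_and_monic
    (Algebra.IsInvariant.charpoly_mem_lifts R S G θ) (MulSemiringAction.monic_charpoly G θ)
  have hPθ : aeval θ P = 0 := by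
    rw [aeval_def, ← eval_map, hP, MulSemiringAction.eval_charpoly]
  have hdeg : P.natDegree = Nat.card G := by
    rw [hPdeg, MulSemiringAction.charpoly_eq, natDegree_prod_of_monic _ _ fun σ _ => monic_X_sub_C _]
    simp [Nat.card_eq_fintype_card]
  have hP1 : P ≠ 1 := by
    intro h
    have : P.natDegree = 0 := by rw [h, natDegree_one]
    rw [hdeg] at this
    exact Nat.card_pos.ne' this
  refine ⟨g %ₘ P, ?_, ?_, ?_⟩
  · have := degree_modByMonic_lt g hPmonic
    rwa [degree_eq_natDegree hPmonic.ne_zero, hdeg] at this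
  · have := natDegree_modByMonic_lt g hPmonic hP1
    rwa [hdeg] at this
  · have h1 : g %ₘ P = g - P * (g /ₘ P) := by
      rw [eq_sub_iff_add_eq, modByMonic_add_div g P]
    rw [h1, map_sub, map_mul, hPθ, zero_mul, sub_zero, aeval_def, ← eval_map, hg, hFs]


/-- If the inertia group is trivial there is an element whose residue class has trivial
stabilizer. -/
theorem exists_theta {R S G : Type*} [CommRing R] [CommRing S] [Algebra R S]
    [Group G] [Finite G] [MulSemiringAction G S] [SMulCommClass G R S]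
    (m : Ideal R) (n : Ideal S) [hn : n.IsMaximal] [n.LiesOver m]
    (hI : n.toAddSubgroup.inertia G = ⊥) :
    ∃ θ : S, ∀ σ : G, σ • n = n → σ • θ - θ ∈ n → σ = 1 := by
  classical
  let _ : Field (S ⧸ n) := Ideal.Quotient.field n
  let φ := Ideal.Quotient.stabilizerHom n m G
  have hker : φ.ker = ⊥ := by
    have h1 : Subgroup.map (Subgroup.subtype _) φ.ker = ⊥ :=
      (Ideal.Quotient.map_ker_stabilizer_subtype n m G).trans hI
    exact (Subgroup.map_eq_bot_iff_of_injective _ (Subgroup.subtype_injective _)).1 h1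
  have hinj : Function.Injective φ := (MonoidHom.ker_eq_bot_iff φ).1 hker
  haveI : Finite φ.range := Finite.of_surjective φ.rangeRestrict φ.rangeRestrict_surjective
  obtain ⟨x, hx⟩ := exists_trivial_stabilizer φ.range (S ⧸ n)
  obtain ⟨θ, rfl⟩ := Ideal.Quotient.mk_surjective x
  refine ⟨θ, fun σ hσ hmem => ?_⟩
  have h1 := hx ⟨φ ⟨σ, hσ⟩, ⟨_, rfl⟩⟩ (by
    show φ ⟨σ, hσ⟩ (Ideal.Quotient.mk n θ) = _
    rw [Ideal.Quotient.stabilizerHom_apply, Ideal.Quotient.eq]
    exact hmem)
  have h2 : φ ⟨σ, hσ⟩ = 1 := congrArg Subtype.val h1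
  have h3 : (⟨σ, hσ⟩ : MulAction.stabilizer G n) = 1 := hinj (h2.trans (map_one φ).symm)
  exact congrArg Subtype.val h3


theorem finrank_le_of_map_eq {R S : Type*} [CommRing R] [CommRing S] [IsLocalRing R] [Algebra R S]
    [Module.Finite R S] (n : Ideal S) [n.LiesOver (maximalIdeal R)]
    (hmap : (maximalIdeal R).map (algebraMap R S) = n)
    [Module.Finite (R ⧸ maximalIdeal R) (S ⧸ n)] :
    Module.finrank R S ≤ Module.finrank (R ⧸ maximalIdeal R) (S ⧸ n) := by
  classical
  let _ : Field (R ⧸ maximalIdeal R) := Ideal.Quotient.field _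
  let b := Module.finBasis (R ⧸ maximalIdeal R) (S ⧸ n)
  choose s hs using fun i => Ideal.Quotient.mk_surjective (b i)
  have hspan : Submodule.span R (Set.range s) = ⊤ := by
    rw [← top_le_iff]
    apply Submodule.le_of_le_smul_of_le_jacobson_bot (I := maximalIdeal R) Module.Finite.fg_top
      (IsLocalRing.maximalIdeal_le_jacobson _)
    intro x _
    choose c hc using fun i => Ideal.Quotient.mk_surjective (b.repr (Ideal.Quotient.mk n x) i)
    have hx : x - ∑ i, c i • s i ∈ n := by
      rw [← Ideal.Quotient.eq, map_sum]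
      conv_lhs => rw [← b.sum_repr (Ideal.Quotient.mk n x)]
      refine Finset.sum_congr rfl fun i _ => ?_
      rw [← hc i, ← hs i, Algebra.smul_def, Algebra.smul_def, map_mul,
        Ideal.Quotient.algebraMap_mk_of_liesOver]
    have hx' : x - ∑ i, c i • s i ∈ (maximalIdeal R) • (⊤ : Submodule R S) := by
      rw [Ideal.smul_top_eq_map, hmap]; exact hx
    have : x = ∑ i, c i • s i + (x - ∑ i, c i • s i) := by ring
    rw [this]
    exact Submodule.add_mem_sup (Submodule.sum_mem _ fun i _ =>
      Submodule.smul_mem _ _ (Submodule.subset_span ⟨i, rfl⟩)) hx'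
  calc Module.finrank R S = Module.finrank R (⊤ : Submodule R S) := (finrank_top R S).symm
    _ = (Set.range s).finrank R := by rw [← hspan]; rfl
    _ ≤ Fintype.card (Fin (Module.finrank (R ⧸ maximalIdeal R) (S ⧸ n))) := finrank_range_le_card s
    _ = _ := Fintype.card_fin _

end Groth.Agent.Lib.Helper6.InertiaComplete
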