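import Mathlib
import Groth.Agent.Lib.Helper6.InertiaComplete

set_option autoImplicit false
set_option linter.style.haveILetI false

namespace Groth.Agent.Lib.Helper6.InertiaComplete

open scoped Pointwise
open Polynomial IsLocalRing

attribute [local instance] Ideal.Quotient.field

theorem forward {R S G : Type*} [CommRing R] [CommRing S] [IsDomain S] [IsLocalRing R]
    [IsAdicComplete (maximalIdeal R) R] [Algebra R S] [Group G] [Finite G]
    [MulSemiringAction G S] [SMulCommClass G R S] [Algebra.IsInvariant R S G]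
    (n : Ideal S) [hn : n.IsMaximal] [hlo : n.LiesOver (maximalIdeal R)]
    (hI : n.toAddSubgroup.inertia G = ⊥) :
    (maximalIdeal R).map (algebraMap R S) = n ∧
      Module.Finite (R ⧸ maximalIdeal R) (S ⧸ n) ∧
      Algebra.IsSeparable (R ⧸ maximalIdeal R) (S ⧸ n) := by
  classical
  cases nonempty_fintype G
  have hstab : ∀ σ : G, σ • n = n := fun σ => by
    haveI := isMaximal_smul n σ
    exact eq_of_isMaximal (R := R) G n (σ • n)
  haveI : IsLocalRing S := IsLocalRing.of_unique_max_ideal
    ⟨n, hn, fun n' hn' => by haveI : n'.IsMaximal := hn'; exact eq_of_isMaximal (R := R) G n n'⟩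
  have hmax : maximalIdeal S = n := (IsLocalRing.eq_maximalIdeal hn).symm
  obtain ⟨θ, hθ0⟩ := exists_theta (G := G) (maximalIdeal R) n hI
  have hθ1 : ∀ σ : G, σ • θ - θ ∈ n → σ = 1 := fun σ => hθ0 σ (hstab σ)
  have hθ : ∀ σ : G, σ ≠ 1 → IsUnit (θ - σ • θ) := by
    intro σ hσ
    rw [← IsLocalRing.notMem_maximalIdeal, hmax]
    intro h
    apply hσ
    apply hθ1
    have := n.neg_mem h
    simpa using this
  have key := exists_poly_lt (R := R) (G := G) θ hθ
  have hinj : Function.Injective (fun σ : G => Ideal.Quotient.mk n (σ • θ)) := by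
    intro σ τ h
    simp only at h
    rw [Ideal.Quotient.eq] at h
    have h2 : τ⁻¹ • (σ • θ - τ • θ) ∈ n := by
      have := (Ideal.smul_mem_pointwise_smul_iff (a := τ⁻¹)).2 h
      rwa [hstab] at this
    rw [smul_sub, inv_smul_smul, ← mul_smul] at h2
    have := hθ1 _ h2
    exact (inv_mul_eq_one.1 this).symm
  have hsmul : ∀ (σ : G) (g : R[X]), σ • (aeval θ g) = aeval (σ • θ) g := by
    intro σ g
    exact (aeval_algHom_apply (MulSemiringAction.toAlgHom R S σ) θ g).symm
  -- the maximal ideal generates `n`
  have h1 : (maximalIdeal R).map (algebraMap R S) = n := by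
    apply le_antisymm
    · rw [Ideal.map_le_iff_le_comap]; exact (hlo.over).le
    · intro y hy
      obtain ⟨g, hgdeg, -, rfl⟩ := key y
      have hcoef : ∀ i, g.coeff i ∈ maximalIdeal R := by
        let gE : (S ⧸ n)[X] := g.map ((Ideal.Quotient.mk n).comp (algebraMap R S))
        have hroots : ∀ σ ∈ (Finset.univ : Finset G),
            eval (Ideal.Quotient.mk n (σ • θ)) gE = 0 := by
          intro σ _
          show eval _ (g.map _) = 0
          rw [eval_map, ← hom_eval₂, ← aeval_def, ← hsmul, Ideal.Quotient.eq_zero_iff_mem]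
          have := (Ideal.smul_mem_pointwise_smul_iff (a := σ)).2 hy
          rwa [hstab] at this
        have hz : gE = 0 := by
          refine eq_zero_of_degree_lt_of_eval_index_eq_zero (Finset.univ : Finset G)
            (v := fun σ : G => Ideal.Quotient.mk n (σ • θ)) (hinj.injOn) ?_ hroots
          refine lt_of_le_of_lt (degree_map_le) ?_
          rwa [Finset.card_univ, ← Nat.card_eq_fintype_card]
        intro i
        have : gE.coeff i = 0 := by rw [hz, coeff_zero]
        rw [coeff_map, RingHom.comp_apply, Ideal.Quotient.eq_zero_iff_mem] at this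
        rw [hlo.over]
        exact this
      rw [aeval_eq_sum_range]
      refine Ideal.sum_mem _ fun i _ => ?_
      rw [Algebra.smul_def]
      exact Ideal.mul_mem_right _ _ (Ideal.mem_map_of_mem _ (hcoef i))
  have hint : Algebra.IsIntegral R S := Algebra.IsInvariant.isIntegral R S G
  have hfinRS : Module.Finite R S := by
    have hadj : Algebra.adjoin R {θ} = ⊤ := by
      rw [eq_top_iff]
      intro s _
      obtain ⟨g, -, -, rfl⟩ := key s
      exact aeval_mem_adjoin_singleton R θ
    exact ⟨by rw [← Algebra.top_toSubmodule, ← hadj]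
              exact (Algebra.IsIntegral.isIntegral θ).fg_adjoin_singleton⟩
  have hfinRE : Module.Finite R (S ⧸ n) :=
    Module.Finite.of_surjective (Ideal.Quotient.mkₐ R n).toLinearMap
      (Ideal.Quotient.mkₐ_surjective R n)
  have hfin : Module.Finite (R ⧸ maximalIdeal R) (S ⧸ n) :=
    Module.Finite.of_restrictScalars_finite R (R ⧸ maximalIdeal R) (S ⧸ n)
  refine ⟨h1, hfin, ?_⟩
  -- the residue field is spanned by the powers of `θ`
  have hrank : Module.finrank (R ⧸ maximalIdeal R) (S ⧸ n) ≤ Nat.card G := by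
    let T : Finset (S ⧸ n) := (Finset.range (Nat.card G)).image
      (fun i => (Ideal.Quotient.mk n θ) ^ i)
    have hspan : Submodule.span (R ⧸ maximalIdeal R) (T : Set (S ⧸ n)) = ⊤ := by
      rw [eq_top_iff]
      intro e _
      obtain ⟨s, rfl⟩ := Ideal.Quotient.mk_surjective e
      obtain ⟨g, -, hgdeg, rfl⟩ := key s
      rw [aeval_eq_sum_range' hgdeg, map_sum]
      refine Submodule.sum_mem _ fun i hi => ?_
      have : Ideal.Quotient.mk n (g.coeff i • θ ^ i) =
          (Ideal.Quotient.mk (maximalIdeal R) (g.coeff i)) • (Ideal.Quotient.mk n θ) ^ i := by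
        rw [Algebra.smul_def, Algebra.smul_def, map_mul, map_pow,
          Ideal.Quotient.algebraMap_mk_of_liesOver]
      rw [this]
      exact Submodule.smul_mem _ _ (Submodule.subset_span
        (Finset.mem_coe.2 (Finset.mem_image.2 ⟨i, hi, rfl⟩)))
    calc Module.finrank (R ⧸ maximalIdeal R) (S ⧸ n)
        = Module.finrank (R ⧸ maximalIdeal R) (⊤ : Submodule (R ⧸ maximalIdeal R) (S ⧸ n)) :=
          (finrank_top _ _).symm
      _ = Module.finrank (R ⧸ maximalIdeal R)
            (Submodule.span (R ⧸ maximalIdeal R) (T : Set (S ⧸ n))) := by rw [hspan]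
      _ ≤ T.card := finrank_span_finset_le_card T
      _ ≤ (Finset.range (Nat.card G)).card := Finset.card_image_le
      _ = Nat.card G := Finset.card_range _
  -- counting automorphisms
  let φ := Ideal.Quotient.stabilizerHom n (maximalIdeal R) G
  have hker : φ.ker = ⊥ := by
    have h1 : Subgroup.map (Subgroup.subtype _) φ.ker = ⊥ :=
      (Ideal.Quotient.map_ker_stabilizer_subtype n (maximalIdeal R) G).trans hI
    exact (Subgroup.map_eq_bot_iff_of_injective _ (Subgroup.subtype_injective _)).1 h1
  have hφinj : Function.Injective φ := (MonoidHom.ker_eq_bot_iff φ).1 hker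
  have hD : Nat.card (MulAction.stabilizer G n) = Nat.card G := by
    have : MulAction.stabilizer G n = ⊤ := by
      rw [eq_top_iff]; intro σ _; exact hstab σ
    rw [this, Subgroup.card_top]
  have hle : Nat.card G ≤ Nat.card ((S ⧸ n) ≃ₐ[R ⧸ maximalIdeal R] (S ⧸ n)) := by
    rw [← hD]
    exact Nat.card_le_card_of_injective φ hφinj
  have hle2 : Nat.card ((S ⧸ n) ≃ₐ[R ⧸ maximalIdeal R] (S ⧸ n)) ≤
      Module.finrank (R ⧸ maximalIdeal R) (S ⧸ n) := by
    rw [Nat.card_eq_fintype_card]
    exact AlgEquiv.card_le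
  have hgal : IsGalois (R ⧸ maximalIdeal R) (S ⧸ n) :=
    IsGalois.of_card_aut_eq_finrank _ _ (le_antisymm hle2 (hrank.trans hle))
  exact hgal.to_isSeparable

theorem backward {R S G : Type*} [CommRing R] [CommRing S] [IsDomain R] [IsDomain S]
    [IsNoetherianRing R] [IsLocalRing R] [IsIntegrallyClosed R]
    [Algebra R S] [FaithfulSMul R S] [IsIntegrallyClosed S]
    [Group G] [Finite G] [MulSemiringAction G S] [SMulCommClass G R S] [IsGaloisGroup G R S]
    (n : Ideal S) [hn : n.IsMaximal] [hlo : n.LiesOver (maximalIdeal R)]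
    (hmap : (maximalIdeal R).map (algebraMap R S) = n)
    [hfin : Module.Finite (R ⧸ maximalIdeal R) (S ⧸ n)]
    [hsep : Algebra.IsSeparable (R ⧸ maximalIdeal R) (S ⧸ n)] :
    n.toAddSubgroup.inertia G = ⊥ := by
  classical
  haveI : Algebra.IsInvariant R S G := IsGaloisGroup.isInvariant
  haveI : Algebra.IsIntegral R S := Algebra.IsInvariant.isIntegral R S G
  -- `S` is finite over `R`
  have hfinRS : Module.Finite R S := by
    let _ := FractionRing.liftAlgebra R (FractionRing S)
    let _ := IsFractionRing.mulSemiringAction G S (FractionRing S)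
    haveI : IsGaloisGroup G (FractionRing R) (FractionRing S) := inferInstance
    haveI := IsGaloisGroup.isGalois G (FractionRing R) (FractionRing S)
    haveI := IsGaloisGroup.finiteDimensional G (FractionRing R) (FractionRing S)
    haveI : IsIntegralClosure S R (FractionRing S) :=
      IsIntegralClosure.of_isIntegrallyClosed S R (FractionRing S)
    exact IsIntegralClosure.finite R (FractionRing R) (FractionRing S) S
  have hcard : Nat.card G ≤ Module.finrank (R ⧸ maximalIdeal R) (S ⧸ n) := by
    rw [IsGaloisGroup.card_eq_finrank' G R S]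
    exact finrank_le_of_map_eq n hmap
  haveI : Normal (R ⧸ maximalIdeal R) (S ⧸ n) := Ideal.Quotient.normal G (maximalIdeal R) n
  haveI : IsGalois (R ⧸ maximalIdeal R) (S ⧸ n) := ⟨⟩
  have haut : Nat.card ((S ⧸ n) ≃ₐ[R ⧸ maximalIdeal R] (S ⧸ n)) =
      Module.finrank (R ⧸ maximalIdeal R) (S ⧸ n) := IsGalois.card_aut_eq_finrank _ _
  let φ := Ideal.Quotient.stabilizerHom n (maximalIdeal R) G
  have hsurj : Function.Surjective φ :=
    Ideal.Quotient.stabilizerHom_surjective G (maximalIdeal R) n
  have hD : Nat.card (MulAction.stabilizer G n) ≤ Nat.card G := Subgroup.card_le_card_group _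
  have hbij := hsurj.bijective_of_nat_card_le (by rw [haut]; exact hD.trans hcard)
  have hker : φ.ker = ⊥ := (MonoidHom.ker_eq_bot_iff φ).2 hbij.1
  have h1 := Ideal.Quotient.map_ker_stabilizer_subtype n (maximalIdeal R) G
  rw [hker, Subgroup.map_bot] at h1
  exact h1.symm

end Groth.Agent.Lib.Helper6.InertiaComplete
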