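import Mathlib

set_option autoImplicit false
set_option linter.style.haveILetI false

/-!
# General (inseparable residue field) versions of the decomposition/inertia cardinality formulas
-/

namespace Groth.Agent.Lib.Helper6.InertiaField

open scoped Pointwise

section general

variable {R S G : Type*} [CommRing R] [CommRing S] [Algebra R S] [Group G]
  [MulSemiringAction G S] [IsGaloisGroup G R S] [Finite G]

/-- For a normal extension, the number of automorphisms is the separable degree. -/
theorem card_aut_eq_finSepDegree (F E : Type*) [Field F] [Field E] [Algebra F E] [Normal F E] :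
    Nat.card (E ≃ₐ[F] E) = Field.finSepDegree F E := by
  rw [Field.finSepDegree]
  exact (Nat.card_congr (Normal.algHomEquivAut F (AlgebraicClosure E) E)).symm

theorem card_stabilizer_eq_card_inertia_mul_finSepDegree (p : Ideal R) [p.IsPrime]
    (P : Ideal S) [P.LiesOver p] [P.IsPrime]
    [Algebra (Localization.AtPrime p) (Localization.AtPrime P)]
    [Localization.AtPrime.IsLiesOverAlgebra p P] :
    Nat.card (MulAction.stabilizer G P) =
      Nat.card (Ideal.inertia G P) * Field.finSepDegree p.ResidueField P.ResidueField := by
  have heq : (algebraMap (S ⧸ P) P.ResidueField).comp (algebraMap (R ⧸ p) (S ⧸ P)) =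
      (algebraMap p.ResidueField P.ResidueField).comp (algebraMap (R ⧸ p) p.ResidueField) := by
    ext
    simp [← IsScalarTower.algebraMap_apply]
  let := ((algebraMap (S ⧸ P) P.ResidueField).comp (algebraMap (R ⧸ p) (S ⧸ P))).toAlgebra
  have : IsScalarTower (R ⧸ p) (S ⧸ P) P.ResidueField := .of_algebraMap_eq' rfl
  have : IsScalarTower (R ⧸ p) p.ResidueField P.ResidueField := .of_algebraMap_eq' heq
  have : Normal p.ResidueField P.ResidueField :=
    Ideal.IsFractionRing.normal G p P p.ResidueField P.ResidueField
  have : Subgroup.index _ = _ := Nat.card_congr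
    (IsFractionRing.stabilizerQuotientInertiaEquiv G p P p.ResidueField P.ResidueField).toEquiv
  rw [← card_aut_eq_finSepDegree p.ResidueField P.ResidueField, ← this,
    ← ((Ideal.inertia G P).subgroupOf (MulAction.stabilizer G P)).card_mul_index,
    Nat.card_congr (Subgroup.subgroupOfEquivOfLe (Ideal.inertia_le_stabilizer (M := G) P)).toEquiv,
    AddSubgroup.subgroupOf_inertia]

/-- The cardinality of the decomposition group is `e * f`, with no separability hypothesis. -/
theorem card_stabilizer_eq_mul [IsDomain R] [IsDomain S] [Module.Finite R S] [Module.Flat R S]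
    (p : Ideal R) (P : Ideal S) [P.LiesOver p] [p.IsPrime] [P.IsPrime] :
    Nat.card (MulAction.stabilizer G P) = P.ramificationIdx R * P.inertiaDeg R := by
  have h1 := Ideal.ncard_primesOver_mul_ramificationIdxIn_mul_inertiaDegIn p S G
  rw [Ideal.ramificationIdxIn_eq_ramificationIdx p P G, Ideal.inertiaDegIn_eq_inertiaDeg p P G] at h1
  have h2 : (p.primesOver S).ncard * Nat.card (MulAction.stabilizer G P) = Nat.card G := by
    rw [← Algebra.IsInvariant.orbit_eq_primesOver R S G p P]
    simpa using Nat.card_congr (MulAction.orbitProdStabilizerEquivGroup G P)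
  have h3 : (p.primesOver S).ncard ≠ 0 := by
    intro h0
    rw [h0, zero_mul] at h2
    exact (Nat.card_pos (α := G)).ne' h2.symm
  exact Nat.eq_of_mul_eq_mul_left (Nat.pos_of_ne_zero h3) (h2.trans h1.symm)

end general

end Groth.Agent.Lib.Helper6.InertiaField
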