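import Groth.Agent.Lib.Helper6.InertiaField

set_option autoImplicit false
set_option linter.style.haveILetI false
set_option linter.unusedSectionVars false
set_option linter.overlappingInstances false

namespace Groth.Agent.Lib.Helper6.InertiaField

open scoped Pointwise

section main

theorem inertia_eq_top_of_forall {B H : Type*} [CommRing B] [Group H] [MulSemiringAction H B]
    (m : Ideal B) (h : ∀ (σ : H) (x : B), σ • x - x ∈ m) : m.inertia H = ⊤ := by
  ext σ
  simp only [Subgroup.mem_top, iff_true]
  exact h σ

theorem stabilizer_eq_top_of_forall {B H : Type*} [CommRing B] [Group H] [MulSemiringAction H B]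
    (m : Ideal B) (h : ∀ (σ : H) (x : B), σ • x - x ∈ m) : MulAction.stabilizer H m = ⊤ := by
  rw [eq_top_iff, ← inertia_eq_top_of_forall m h]
  exact Ideal.inertia_le_stabilizer (M := H) m

variable {A B' B G : Type*} [CommRing A] [CommRing B'] [CommRing B]
  [IsDomain A] [IsDomain B'] [IsDomain B]
  [Algebra A B'] [Algebra B' B] [Algebra A B] [IsScalarTower A B' B]
  [Group G] [Finite G] [MulSemiringAction G B] [IsGaloisGroup G A B]
  [Module.Finite A B] [Module.Flat A B] [Module.Finite A B'] [Module.Finite B' B]
  [Module.Flat B' B]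

theorem main_count (m : Ideal B) [m.IsPrime] [IsGaloisGroup (m.inertia G) B' B]
    [Algebra (Localization.AtPrime (m.under A)) (Localization.AtPrime (m.under B'))]
    [(m.under B').LiesOver (m.under A)]
    [Localization.AtPrime.IsLiesOverAlgebra (m.under A) (m.under B')] :
    (m.under B').ramificationIdx A = 1 ∧
      Algebra.IsSeparable (m.under A).ResidueField (m.under B').ResidueField := by
  let := Localization.AtPrime.algebraOfLiesOver (m.under A) m
  let := Localization.AtPrime.algebraOfLiesOver (m.under B') m
  -- the four cardinality formulas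
  have H1 := card_stabilizer_eq_card_inertia_mul_finSepDegree (G := G) (m.under A) m
  have H2 := card_stabilizer_eq_card_inertia_mul_finSepDegree (G := m.inertia G) (m.under B') m
  have H3 := card_stabilizer_eq_mul (G := G) (m.under A) m
  have H4 := card_stabilizer_eq_mul (G := m.inertia G) (m.under B') m
  have hall : ∀ (σ : m.inertia G) (x : B), σ • x - x ∈ m := fun σ x => σ.2 x
  rw [stabilizer_eq_top_of_forall m hall, Subgroup.card_top] at H2 H4
  rw [inertia_eq_top_of_forall m hall, Subgroup.card_top] at H2
  have hI : 0 < Nat.card (m.inertia G) := Nat.card_pos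
  have hs1 : Field.finSepDegree (m.under B').ResidueField m.ResidueField = 1 := by
    have : Nat.card (m.inertia G) * 1 =
        Nat.card (m.inertia G) * Field.finSepDegree (m.under B').ResidueField m.ResidueField := by
      rw [mul_one]; exact H2
    exact (Nat.eq_of_mul_eq_mul_left hI this).symm
  have halg : Algebra.IsAlgebraic (m.under B').ResidueField m.ResidueField := inferInstance
  have hst := Field.finSepDegree_mul_finSepDegree_of_isAlgebraic (m.under A).ResidueField
    (m.under B').ResidueField m.ResidueField
  rw [hs1, mul_one] at hst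
  have he := Ideal.ramificationIdx_tower (R := A) (m.under B') m
  have hf := Ideal.inertiaDeg_tower (R := A) (m.under B') m
  have hfd := Ideal.inertiaDeg_eq (m.under A) (m.under B')
  have hle := Field.finSepDegree_le_finrank (m.under A).ResidueField (m.under B').ResidueField
  have hepos := Ideal.ramificationIdx_pos (m.under B') A
  have hfpos := Ideal.inertiaDeg_pos (m.under B') A
  set e' := (m.under B').ramificationIdx A with he'
  set f' := (m.under B').inertiaDeg A with hf'
  set s' := Field.finSepDegree (m.under A).ResidueField (m.under B').ResidueField with hs'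
  have key : e' * f' = s' := by
    have h5 : Nat.card (m.inertia G) * (e' * f') = Nat.card (m.inertia G) * s' := by
      rw [hst, ← H1, H3, H4, he, hf]
      ring
    exact Nat.eq_of_mul_eq_mul_left hI h5
  have hle' : e' * f' ≤ 1 * f' := by
    rw [key, one_mul, hfd]; exact hle
  have he1 : e' = 1 := by
    have := Nat.le_of_mul_le_mul_right hle' hfpos
    omega
  refine ⟨he1, ?_⟩
  rw [← Field.finSepDegree_eq_finrank_iff, ← hfd, ← hs', ← key, he1, one_mul]

end main

end Groth.Agent.Lib.Helper6.InertiaField

namespace Groth.Agent.Lib.Helper6.InertiaField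

theorem isUnramifiedAt_of_ramificationIdx_eq_one {R S : Type*} [CommRing R] [CommRing S]
    [Algebra R S] (q : Ideal S) [q.IsPrime] [Algebra.EssFiniteType R S]
    [Algebra (Localization.AtPrime (q.under R)) (Localization.AtPrime q)]
    [Localization.AtPrime.IsLiesOverAlgebra (q.under R) q]
    [Algebra.IsSeparable (q.under R).ResidueField q.ResidueField]
    (h : q.ramificationIdx R = 1) : Algebra.IsUnramifiedAt R q := by
  rw [Ideal.ramificationIdx_def, ENat.toNat_eq_iff_eq_natCast, Nat.cast_one,
    Module.length_eq_one_iff,
    isSimpleModule_iff_isCoatom, ← Ideal.isMaximal_def, IsLocalRing.isMaximal_iff] at h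
  have := Algebra.EssFiniteType.of_comp R (Localization.AtPrime (q.under R))
    (Localization.AtPrime q)
  suffices Algebra.FormallyUnramified (Localization.AtPrime (q.under R)) (Localization.AtPrime q)
    from Algebra.FormallyUnramified.comp R (Localization.AtPrime (q.under R))
      (Localization.AtPrime q)
  rw [Algebra.FormallyUnramified.iff_map_maximalIdeal_eq,
    ← Localization.AtPrime.map_eq_maximalIdeal, Ideal.map_map, ← IsScalarTower.algebraMap_eq]
  exact ⟨inferInstance, h⟩

end Groth.Agent.Lib.Helper6.InertiaField

namespace Groth.Agent.Lib.Helper6.InertiaField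


theorem exists_away_of_semilocal {R : Type*} [CommRing R] [IsDomain R]
    (hdim : ∀ P : Ideal R, P.IsPrime → P ≠ ⊥ → P.IsMaximal)
    (hfin : {P : Ideal R | P.IsMaximal}.Finite) (q : Ideal R) [hq : q.IsMaximal] :
    ∃ s : R, s ∉ q ∧ ∀ t ∉ q, ∃ k : ℕ, t ∣ s ^ k := by
  classical
  set T := hfin.toFinset.erase q with hT
  have hnle : ¬ (∏ P ∈ T, P) ≤ q := by
    intro hle
    obtain ⟨P, hPT, hPq⟩ := (Ideal.IsPrime.prod_le hq.isPrime).1 hle
    rw [hT, Finset.mem_erase, Set.Finite.mem_toFinset] at hPT
    exact hPT.1 (hPT.2.eq_of_le hq.ne_top hPq)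
  obtain ⟨s, hsT, hsq⟩ := SetLike.not_le_iff_exists.1 hnle
  refine ⟨s, hsq, fun t ht => ?_⟩
  have hmem : s ∈ (Ideal.span {t}).radical := by
    rw [Ideal.radical_eq_sInf, Ideal.mem_sInf]
    rintro J ⟨htJ, hJ⟩
    have htJ' : t ∈ J := htJ (Ideal.mem_span_singleton_self t)
    have hJ0 : J ≠ ⊥ := by
      rintro rfl
      have : t = 0 := by simpa using htJ'
      exact ht (this ▸ q.zero_mem)
    have hJmax := hdim J hJ hJ0
    have hJq : J ≠ q := by
      rintro rfl
      exact ht htJ'
    have hJT : J ∈ T := by
      rw [hT, Finset.mem_erase, Set.Finite.mem_toFinset]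
      exact ⟨hJq, hJmax⟩
    exact (Ideal.prod_le_inf.trans (Finset.inf_le hJT)) hsT
  obtain ⟨k, hk⟩ := hmem
  exact ⟨k, Ideal.mem_span_singleton.1 hk⟩

theorem isUnramifiedAt_of_ramificationIdx_eq_one' {R S : Type*} [CommRing R] [CommRing S]
    [Algebra R S] (p : Ideal R) [p.IsPrime] (q : Ideal S) [q.IsPrime] [q.LiesOver p]
    [Algebra.EssFiniteType R S]
    [Algebra (Localization.AtPrime p) (Localization.AtPrime q)]
    [Localization.AtPrime.IsLiesOverAlgebra p q]
    [Algebra.IsSeparable p.ResidueField q.ResidueField]
    (h : q.ramificationIdx R = 1) : Algebra.IsUnramifiedAt R q := by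
  have := Ideal.over_def q p
  subst this
  exact isUnramifiedAt_of_ramificationIdx_eq_one q h

theorem finitePresentation_atPrime {A R : Type*} [CommRing A] [CommRing R] [IsDomain R]
    [Algebra A R] [Algebra.FinitePresentation A R]
    (hdim : ∀ P : Ideal R, P.IsPrime → P ≠ ⊥ → P.IsMaximal)
    (hfin : {P : Ideal R | P.IsMaximal}.Finite) (q : Ideal R) [hq : q.IsMaximal] :
    Algebra.FinitePresentation A (Localization.AtPrime q) := by
  obtain ⟨s, hsq, hs⟩ := exists_away_of_semilocal hdim hfin q
  have hle : Submonoid.powers s ≤ q.primeCompl := by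
    rintro _ ⟨k, rfl⟩
    exact fun h => hsq (hq.isPrime.mem_of_pow_mem k h)
  haveI : IsLocalization q.primeCompl (Localization.Away s) :=
    IsLocalization.of_le_of_exists_dvd (Submonoid.powers s) q.primeCompl hle
      (fun t ht => by
        obtain ⟨k, hk⟩ := hs t ht
        exact ⟨s ^ k, ⟨k, rfl⟩, hk⟩)
  haveI : Algebra.FinitePresentation R (Localization.Away s) :=
    IsLocalization.Away.finitePresentation s
  haveI : Algebra.FinitePresentation A (Localization.Away s) :=
    Algebra.FinitePresentation.trans A R (Localization.Away s)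
  let e : Localization.Away s ≃ₐ[R] Localization.AtPrime q :=
    IsLocalization.algEquiv q.primeCompl _ _
  exact Algebra.FinitePresentation.equiv (e.restrictScalars A)


section etale

open scoped Pointwise

variable {A B' B G : Type*} [CommRing A] [CommRing B'] [CommRing B]
  [IsDomain A] [IsDomain B'] [IsDomain B]
  [Algebra A B'] [Algebra B' B] [Algebra A B] [IsScalarTower A B' B]
  [Group G] [Finite G] [MulSemiringAction G B] [IsGaloisGroup G A B]
  [Module.Finite A B] [Module.Flat A B] [Module.Finite A B'] [Module.Finite B' B]
  [Module.Flat B' B] [Module.Flat A B'] [IsNoetherianRing A] [IsLocalRing A]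
  [IsDedekindDomain B']

theorem main_etale (m : Ideal B) [m.IsMaximal] [IsGaloisGroup (m.inertia G) B' B] :
    Algebra.Etale A (Localization.AtPrime (m.under B')) := by
  haveI : Algebra.IsIntegral B' B := Algebra.IsIntegral.of_finite B' B
  haveI : Algebra.IsIntegral A B' := Algebra.IsIntegral.of_finite A B'
  haveI hm' : (m.under B').IsMaximal := Ideal.IsMaximal.under B' m
  haveI : (m.under B').LiesOver (m.under A) := ⟨by rw [Ideal.under_under]⟩
  letI := Localization.AtPrime.algebraOfLiesOver (m.under A) (m.under B')
  obtain ⟨he1, hsep⟩ := main_count (A := A) (B' := B') (G := G) m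
  haveI : Algebra.FiniteType A B' := inferInstance
  haveI : Algebra.FinitePresentation A B' := Algebra.FinitePresentation.of_finiteType.1 inferInstance
  have hdim : ∀ P : Ideal B', P.IsPrime → P ≠ ⊥ → P.IsMaximal := fun P hP hP0 => hP.isMaximal hP0
  have hfin : {P : Ideal B' | P.IsMaximal}.Finite := by
    refine (Algebra.QuasiFinite.finite_primesOver (S := B') (IsLocalRing.maximalIdeal A)).subset ?_
    intro P hP
    have hP' : P.IsMaximal := hP
    refine ⟨hP'.isPrime, ⟨?_⟩⟩
    have : (P.under A).IsMaximal := Ideal.IsMaximal.under A P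
    exact (IsLocalRing.eq_maximalIdeal this).symm
  haveI : Algebra.FinitePresentation A (Localization.AtPrime (m.under B')) :=
    finitePresentation_atPrime hdim hfin (m.under B')
  haveI : Module.Flat A (Localization.AtPrime (m.under B')) :=
    Module.Flat.trans A B' (Localization.AtPrime (m.under B'))
  have hu : (m.under B').under A = m.under A := Ideal.under_under m
  haveI : Algebra.FormallyUnramified A (Localization.AtPrime (m.under B')) := by
    exact isUnramifiedAt_of_ramificationIdx_eq_one' (R := A) (m.under A) (m.under B') he1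
  exact Algebra.Etale.of_formallyUnramified_of_flat

end etale

end Groth.Agent.Lib.Helper6.InertiaField
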