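import Mathlib

/-! Injective resolutions mapping onto a given one by degreewise split epimorphisms. -/

open CategoryTheory CategoryTheory.Limits

namespace Groth.Agent.Lib.Helper6.InjResSplit

universe v u

variable {C : Type u} [Category.{v} C] [Abelian C]

/-- a split epi is a projection from a biproduct -/
lemma exists_biprod_of_section {X Y : C} (f : X ⟶ Y) (s : Y ⟶ X) (hs : s ≫ f = 𝟙 Y) :
    ∃ (K : C) (e : X ≅ Y ⊞ K), f = e.hom ≫ biprod.fst := by
  have h1 : (𝟙 X - f ≫ s) ≫ f = 0 := by
    rw [Preadditive.sub_comp, Category.id_comp, Category.assoc, hs, Category.comp_id, sub_self]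
  refine ⟨kernel f, ⟨biprod.lift f (kernel.lift f (𝟙 X - f ≫ s) h1),
    biprod.desc s (kernel.ι f), ?_, ?_⟩, ?_⟩
  · rw [biprod.lift_desc, kernel.lift_ι]
    abel
  · apply biprod.hom_ext'
    · rw [biprod.inl_desc_assoc, Category.comp_id]
      apply biprod.hom_ext
      · rw [Category.assoc, biprod.lift_fst, hs, biprod.inl_fst]
      · rw [Category.assoc, biprod.lift_snd, biprod.inl_snd]
        rw [← cancel_mono (kernel.ι f), Category.assoc, kernel.lift_ι, zero_comp,
          Preadditive.comp_sub, Category.comp_id, ← Category.assoc, hs, Category.id_comp, sub_self]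
    · rw [biprod.inr_desc_assoc, Category.comp_id]
      apply biprod.hom_ext
      · rw [Category.assoc, biprod.lift_fst, kernel.condition, biprod.inr_fst]
      · rw [Category.assoc, biprod.lift_snd, biprod.inr_snd]
        rw [← cancel_mono (kernel.ι f), Category.assoc, kernel.lift_ι, Category.id_comp,
          Preadditive.comp_sub, Category.comp_id, ← Category.assoc, kernel.condition, zero_comp,
          sub_zero]
  · rw [biprod.lift_fst]

variable (K : CochainComplex C ℕ)

/-- abstract "previous term" data for a cochain complex -/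
structure PrevData where
  Y : ℕ → C
  u : ∀ p, K.X p ⟶ Y (p + 1)
  w : ∀ p, Y (p + 1) ⟶ K.X p
  uw : ∀ p, u p ≫ w p = 𝟙 _
  wu : ∀ p, w p ≫ u p = 𝟙 _
  δ : ∀ p, Y p ⟶ K.X p
  hδ : ∀ p, δ (p + 1) = w p ≫ K.d p (p + 1)
  hY0 : IsZero (Y 0)

variable {K} (P : PrevData K)

namespace PrevData

lemma δ_comp_d (p : ℕ) : P.δ p ≫ K.d p (p + 1) = 0 := by
  cases p with
  | zero => exact P.hY0.eq_of_src _ _
  | succ p => rw [P.hδ, Category.assoc, K.d_comp_d, comp_zero]

lemma δ_comp_d_assoc (p : ℕ) {Z : C} (h : K.X (p + 1) ⟶ Z) :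
    P.δ p ≫ K.d p (p + 1) ≫ h = 0 := by
  rw [← Category.assoc, P.δ_comp_d, zero_comp]

lemma uw_assoc (p : ℕ) {Z : C} (h : K.X p ⟶ Z) : P.u p ≫ P.w p ≫ h = h := by
  rw [← Category.assoc, P.uw, Category.id_comp]

/-- the differential of the contractible complex `T` -/
noncomputable def Td (p : ℕ) : (K.X p ⊞ P.Y p) ⟶ (K.X (p + 1) ⊞ P.Y (p + 1)) :=
  biprod.desc (biprod.lift (K.d p (p + 1)) (P.u p)) (biprod.lift 0 (-(P.δ p ≫ P.u p)))

lemma Td_fst (p : ℕ) : P.Td p ≫ biprod.fst = biprod.fst ≫ K.d p (p + 1) := by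
  unfold Td
  apply biprod.hom_ext'
  · rw [biprod.inl_desc_assoc, biprod.lift_fst, biprod.inl_fst_assoc]
  · rw [biprod.inr_desc_assoc, biprod.lift_fst, biprod.inr_fst_assoc, zero_comp]

lemma Td_snd (p : ℕ) :
    P.Td p ≫ biprod.snd = biprod.fst ≫ P.u p - biprod.snd ≫ P.δ p ≫ P.u p := by
  unfold Td
  apply biprod.hom_ext'
  · rw [biprod.inl_desc_assoc, biprod.lift_snd, Preadditive.comp_sub, biprod.inl_fst_assoc,
      biprod.inl_snd_assoc, zero_comp, sub_zero]
  · rw [biprod.inr_desc_assoc, biprod.lift_snd, Preadditive.comp_sub, biprod.inr_fst_assoc,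
      biprod.inr_snd_assoc, zero_comp, zero_sub]

lemma Td_comp (p : ℕ) : P.Td p ≫ P.Td (p + 1) = 0 := by
  apply biprod.hom_ext
  · rw [Category.assoc, Td_fst, ← Category.assoc, Td_fst, Category.assoc, K.d_comp_d, comp_zero,
      zero_comp]
  · rw [Category.assoc, Td_snd, Preadditive.comp_sub, ← Category.assoc, Td_fst, ← Category.assoc,
      Td_snd, Preadditive.sub_comp, P.hδ, zero_comp]
    simp only [Category.assoc]
    rw [P.uw_assoc, P.δ_comp_d_assoc, comp_zero, sub_zero, sub_self]

/-- the contractible complex with a degreewise split epi to `K` -/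
noncomputable abbrev T : CochainComplex C ℕ :=
  CochainComplex.of (fun p => K.X p ⊞ P.Y p) P.Td P.Td_comp

@[simp] lemma T_X (p : ℕ) : P.T.X p = (K.X p ⊞ P.Y p) := rfl

@[simp] lemma T_d (p : ℕ) : P.T.d p (p + 1) = P.Td p :=
  CochainComplex.of_d (fun p => K.X p ⊞ P.Y p) P.Td p

/-- the projection `T ⟶ K` -/
noncomputable def proj : P.T ⟶ K where
  f p := biprod.fst
  comm' := by
    intro i j hij
    obtain rfl : i + 1 = j := hij
    rw [T_d]
    exact (P.Td_fst i).symm


/-- the contracting homotopy components -/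
noncomputable def hh (i j : ℕ) : P.T.X i ⟶ P.T.X j :=
  if h : j + 1 = i then
    eqToHom (by subst h; rfl) ≫ ((biprod.snd : K.X (j + 1) ⊞ P.Y (j + 1) ⟶ P.Y (j + 1)) ≫ P.w j ≫
      (biprod.inl : K.X j ⟶ K.X j ⊞ P.Y j))
  else 0

lemma hh_succ (j : ℕ) : P.hh (j + 1) j =
    (biprod.snd : K.X (j + 1) ⊞ P.Y (j + 1) ⟶ P.Y (j + 1)) ≫ P.w j ≫
      (biprod.inl : K.X j ⟶ K.X j ⊞ P.Y j) := by
  unfold hh
  rw [dif_pos rfl, eqToHom_refl, Category.id_comp]

lemma lift_eq (p : ℕ) : biprod.lift (K.d p (p + 1)) (P.u p) =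
    K.d p (p + 1) ≫ biprod.inl + P.u p ≫ biprod.inr := by
  apply biprod.hom_ext
  · simp
  · simp

lemma inl_Td (p : ℕ) : biprod.inl ≫ P.Td p = K.d p (p + 1) ≫ biprod.inl + P.u p ≫ biprod.inr := by
  unfold Td
  rw [biprod.inl_desc, lift_eq]

/-- `T` is contractible -/
noncomputable def contr : Homotopy (𝟙 P.T) 0 where
  hom := P.hh
  zero := by
    intro i j hij
    unfold hh
    rw [dif_neg]
    exact hij
  comm := by
    intro i
    rw [Homotopy.dNext_cochainComplex, HomologicalComplex.zero_f, add_zero, HomologicalComplex.id_f,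
      T_d, hh_succ]
    have h1 : P.Td i ≫ (biprod.snd : K.X (i + 1) ⊞ P.Y (i + 1) ⟶ P.Y (i + 1)) ≫ P.w i ≫
        (biprod.inl : K.X i ⟶ K.X i ⊞ P.Y i) =
        biprod.fst ≫ biprod.inl - biprod.snd ≫ P.δ i ≫ biprod.inl := by
      rw [← Category.assoc, Td_snd, Preadditive.sub_comp]
      simp only [Category.assoc]
      rw [P.uw_assoc]
    rw [h1]
    cases i with
    | zero =>
      rw [Homotopy.prevD_zero_cochainComplex, add_zero]
      have h2 : (biprod.snd : K.X 0 ⊞ P.Y 0 ⟶ P.Y 0) = 0 := P.hY0.eq_of_tgt _ _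
      rw [h2, zero_comp, sub_zero]
      have := biprod.total (X := K.X 0) (Y := P.Y 0)
      rw [h2, zero_comp, add_zero] at this
      exact this.symm
    | succ p =>
      rw [Homotopy.prevD_succ_cochainComplex, hh_succ, T_d, P.hδ]
      simp only [Category.assoc]
      rw [inl_Td, Preadditive.comp_add, Preadditive.comp_add]
      simp only [← Category.assoc]
      rw [Category.assoc biprod.snd (P.w p) (P.u p), P.wu, Category.comp_id]
      have := biprod.total (X := K.X (p + 1)) (Y := P.Y (p + 1))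
      simp only [Category.assoc] at this ⊢
      rw [← this]
      abel

end PrevData


variable (K)

open ZeroObject

/-- the previous term, zero in degree 0 -/
noncomputable def prevX : ℕ → C
  | 0 => 0
  | (p + 1) => K.X p

/-- the differential from the previous term -/
noncomputable def prevD : ∀ p, prevX K p ⟶ K.X p
  | 0 => 0
  | (p + 1) => K.d p (p + 1)

/-- the concrete previous-term data -/
noncomputable def prevData : PrevData K where
  Y := prevX K
  u p := 𝟙 (K.X p)
  w p := 𝟙 (K.X p)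
  uw p := Category.id_comp (𝟙 (K.X p))
  wu p := Category.id_comp (𝟙 (K.X p))
  δ := prevD K
  hδ p := (Category.id_comp (K.d p (p + 1))).symm
  hY0 := isZero_zero C

lemma prevX_injective (h : ∀ n, Injective (K.X n)) (n : ℕ) : Injective (prevX K n) := by
  cases n with
  | zero => exact (inferInstance : Injective (0 : C))
  | succ p => exact h p

variable {K}

/-- the homotopy equivalence `L ≃ L ⊞ T` -/
noncomputable def hequiv (P : PrevData K) (L : CochainComplex C ℕ) :
    HomotopyEquiv L (L ⊞ P.T) where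
  hom := biprod.inl
  inv := biprod.fst
  homotopyHomInvId := Homotopy.ofEq biprod.inl_fst
  homotopyInvHomId := by
    have h1 : Homotopy ((biprod.snd : L ⊞ P.T ⟶ P.T) ≫ 𝟙 P.T ≫ (biprod.inr : P.T ⟶ L ⊞ P.T))
        ((biprod.snd : L ⊞ P.T ⟶ P.T) ≫ 0 ≫ (biprod.inr : P.T ⟶ L ⊞ P.T)) :=
      (P.contr.compRight biprod.inr).compLeft biprod.snd
    have h2 := (Homotopy.refl ((biprod.fst : L ⊞ P.T ⟶ L) ≫ biprod.inl)).add h1
    refine (Homotopy.ofEq ?_).trans (h2.symm.trans (Homotopy.ofEq ?_))
    · simp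
    · rw [Category.id_comp, biprod.total]

theorem main {G F : C} [EnoughInjectives C] (α : G ⟶ F) (I : InjectiveResolution F) :
    ∃ (J : InjectiveResolution G) (β : J.cocomplex ⟶ I.cocomplex),
      J.ι ≫ β = (CochainComplex.single₀ C).map α ≫ I.ι ∧
      ∀ p : ℕ, ∃ (K : C) (e : J.cocomplex.X p ≅ I.cocomplex.X p ⊞ K), β.f p = e.hom ≫ biprod.fst := by
  obtain ⟨J'⟩ := (inferInstance : HasInjectiveResolution G).out
  set P := prevData I.cocomplex with hP
  have e := hequiv P J'.cocomplex
  have hq : QuasiIso (biprod.inl : J'.cocomplex ⟶ J'.cocomplex ⊞ P.T) :=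
    (hequiv P J'.cocomplex).quasiIso_hom
  have hinj : ∀ n, Injective ((J'.cocomplex ⊞ P.T).X n) := by
    intro n
    have : Injective (prevX I.cocomplex n) := prevX_injective I.cocomplex I.injective n
    have : Injective (P.T.X n) := by
      show Injective (I.cocomplex.X n ⊞ prevX I.cocomplex n)
      infer_instance
    exact Injective.of_iso (HomologicalComplex.biprodXIso J'.cocomplex P.T n).symm inferInstance
  let J : InjectiveResolution G :=
    { cocomplex := J'.cocomplex ⊞ P.T
      injective := hinj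
      ι := J'.ι ≫ biprod.inl
      quasiIso := inferInstance }
  refine ⟨J, biprod.desc (InjectiveResolution.desc α I J') P.proj, ?_, ?_⟩
  · show (J'.ι ≫ biprod.inl) ≫ _ = _
    rw [Category.assoc, biprod.inl_desc, InjectiveResolution.desc_commutes]
  · intro p
    apply exists_biprod_of_section _
      ((biprod.inl : I.cocomplex.X p ⟶ I.cocomplex.X p ⊞ P.Y p) ≫
        (biprod.inr : P.T ⟶ J'.cocomplex ⊞ P.T).f p)
    rw [Category.assoc, ← HomologicalComplex.comp_f, biprod.inr_desc]
    exact biprod.inl_fst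

end Groth.Agent.Lib.Helper6.InjResSplit
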