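import Mathlib

set_option autoImplicit false
set_option linter.style.haveILetI false
set_option linter.unusedSectionVars false
set_option linter.unusedSimpArgs false

open scoped Pointwise
open Polynomial

namespace Groth.Agent.Lib.Helper6.InvEtale

variable {R G : Type*} [CommRing R] [Group G] [Fintype G] [DecidableEq R] [MulSemiringAction G R]

/-- the orbit of `y` -/
def orbit (G : Type*) [Group G] [Fintype G] [MulSemiringAction G R] (y : R) : Finset R :=
  Finset.univ.image (fun σ : G => σ • y)

theorem mem_orbit_self (y : R) : y ∈ orbit G y :=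
  Finset.mem_image.2 ⟨1, Finset.mem_univ _, one_smul _ _⟩

theorem smul_mem_orbit (y : R) (σ : G) : σ • y ∈ orbit G y :=
  Finset.mem_image.2 ⟨σ, Finset.mem_univ _, rfl⟩

theorem image_smul_orbit (y : R) (σ : G) : (orbit G y).image (fun t => σ • t) = orbit G y := by
  ext t
  simp only [orbit, Finset.mem_image, Finset.mem_univ, true_and, exists_exists_eq_and]
  constructor
  · rintro ⟨τ, rfl⟩; exact ⟨σ * τ, mul_smul _ _ _⟩
  · rintro ⟨τ, rfl⟩; exact ⟨σ⁻¹ * τ, by rw [← mul_smul, mul_inv_cancel_left]⟩

theorem image_smul_erase (y : R) (σ : G) (t : R) :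
    ((orbit G y).erase t).image (fun u => σ • u) = (orbit G y).erase (σ • t) := by
  rw [Finset.image_erase (fun a b h => smul_left_cancel σ h), image_smul_orbit]

/-- the orbit polynomial -/
noncomputable def orbitPoly (G : Type*) [Group G] [Fintype G] [MulSemiringAction G R] (y : R) :
    R[X] := ∏ t ∈ orbit G y, (X - C t)

theorem orbitPoly_monic (y : R) : (orbitPoly G y).Monic :=
  monic_prod_of_monic _ _ fun t _ => monic_X_sub_C t

theorem smul_prod_erase (y : R) (σ : G) (t : R) :
    σ • (∏ u ∈ (orbit G y).erase t, (X - C u)) = ∏ u ∈ (orbit G y).erase (σ • t), (X - C u) := by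
  rw [Finset.smul_prod', ← image_smul_erase,
    Finset.prod_image (fun a _ b _ h => smul_left_cancel σ h)]
  refine Finset.prod_congr rfl fun u _ => ?_
  rw [smul_sub, smul_X, smul_C]

theorem smul_orbitPoly (y : R) (σ : G) : σ • orbitPoly G y = orbitPoly G y := by
  unfold orbitPoly
  rw [Finset.smul_prod']
  conv_rhs => rw [← image_smul_orbit y σ]
  rw [Finset.prod_image (fun a _ b _ h => smul_left_cancel σ h)]
  refine Finset.prod_congr rfl fun t _ => ?_
  rw [smul_sub, smul_X, smul_C]

theorem eval_orbitPoly (y : R) {t : R} (ht : t ∈ orbit G y) : (orbitPoly G y).eval t = 0 := by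
  unfold orbitPoly
  rw [eval_prod]
  exact Finset.prod_eq_zero ht (by simp)

theorem orbitPoly_eq_mul (y : R) {t : R} (ht : t ∈ orbit G y) :
    orbitPoly G y = (X - C t) * ∏ u ∈ (orbit G y).erase t, (X - C u) :=
  (Finset.mul_prod_erase _ (fun u => X - C u) ht).symm

theorem derivative_orbitPoly (y : R) :
    derivative (orbitPoly G y) = ∑ t ∈ orbit G y, ∏ u ∈ (orbit G y).erase t, (X - C u) := by
  unfold orbitPoly
  rw [derivative_prod_finset]
  refine Finset.sum_congr rfl fun t _ => ?_
  simp

/-- the "different" element `∏_{t ≠ y} (y - t)` -/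
noncomputable def diffElt (G : Type*) [Group G] [Fintype G] [MulSemiringAction G R] (y : R) : R :=
  ∏ t ∈ (orbit G y).erase y, (y - t)

theorem eval_derivative_orbitPoly (y : R) :
    (derivative (orbitPoly G y)).eval y = diffElt G y := by
  rw [derivative_orbitPoly, eval_finsetSum, Finset.sum_eq_single y]
  · rw [eval_prod]; unfold diffElt
    refine Finset.prod_congr rfl fun t _ => ?_
    simp
  · intro t _ hty
    rw [eval_prod]
    exact Finset.prod_eq_zero (Finset.mem_erase.2 ⟨hty.symm, mem_orbit_self y⟩) (by simp)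
  · intro h; exact absurd (mem_orbit_self y) h

theorem smul_diffElt (y : R) (τ : G) (hτ : τ • y = y) : τ • diffElt G y = diffElt G y := by
  unfold diffElt
  rw [Finset.smul_prod']
  have h1 := Finset.prod_image (s := (orbit G y).erase y) (g := fun t => τ • t)
    (f := fun t => y - t) (fun a _ b _ h => smul_left_cancel τ h)
  rw [image_smul_erase, hτ] at h1
  rw [h1]
  refine Finset.prod_congr rfl fun t _ => ?_
  rw [smul_sub, hτ]

theorem diffElt_notMem (y : R) (q : Ideal R) [hq : q.IsPrime]
    (h : ∀ σ : G, σ • y ≠ y → y - σ • y ∉ q) : diffElt G y ∉ q := by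
  intro hmem
  unfold diffElt at hmem
  obtain ⟨t, ht, htq⟩ := (Ideal.IsPrime.prod_mem_iff (hp := hq)).1 hmem
  obtain ⟨hty, htO⟩ := Finset.mem_erase.1 ht
  obtain ⟨σ, -, rfl⟩ := Finset.mem_image.1 htO
  exact h σ hty htq

/-- Euler's trick: `s * diffElt y` is an invariant polynomial in `y`. -/
theorem exists_invariant_poly_eval (y s : R) (hs : ∀ σ : G, σ • y = y → σ • s = s) :
    ∃ F : R[X], (∀ σ : G, σ • F = F) ∧ F.eval y = s * diffElt G y := by
  classical
  let ψ : R → R := fun t => if h : ∃ σ : G, σ • y = t then (Classical.choose h) • s else 0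
  have hψ : ∀ σ : G, ψ (σ • y) = σ • s := by
    intro σ
    have h : ∃ σ' : G, σ' • y = σ • y := ⟨σ, rfl⟩
    have h1 : ψ (σ • y) = (Classical.choose h) • s := dif_pos h
    rw [h1]
    have h2 := Classical.choose_spec h
    have h3 : (σ⁻¹ * Classical.choose h) • y = y := by
      rw [mul_smul, h2, inv_smul_smul]
    have h4 := hs _ h3
    rw [mul_smul, inv_smul_eq_iff] at h4
    exact h4
  have hψsmul : ∀ (τ : G) (t : R), t ∈ orbit G y → τ • ψ t = ψ (τ • t) := by
    intro τ t ht
    obtain ⟨σ, -, rfl⟩ := Finset.mem_image.1 ht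
    rw [hψ, ← mul_smul τ σ y, hψ, mul_smul]
  refine ⟨∑ t ∈ orbit G y, C (ψ t) * ∏ u ∈ (orbit G y).erase t, (X - C u), fun τ => ?_, ?_⟩
  · rw [Finset.smul_sum]
    have h1 := Finset.sum_image (s := orbit G y) (g := fun t => τ • t)
      (f := fun t => C (ψ t) * ∏ u ∈ (orbit G y).erase t, (X - C u))
      (fun a _ b _ h => smul_left_cancel τ h)
    rw [image_smul_orbit] at h1
    rw [h1]
    refine Finset.sum_congr rfl fun t ht => ?_
    rw [smul_mul', smul_C, smul_prod_erase, hψsmul τ t ht]
  · rw [eval_finsetSum, Finset.sum_eq_single y]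
    · rw [eval_mul, eval_C, eval_prod]
      have : ψ y = s := by
        have := hψ 1
        rwa [one_smul, one_smul] at this
      rw [this]; unfold diffElt
      congr 1
      refine Finset.prod_congr rfl fun t _ => ?_
      simp
    · intro t _ hty
      rw [eval_mul, eval_prod,
        Finset.prod_eq_zero (Finset.mem_erase.2 ⟨hty.symm, mem_orbit_self y⟩) (by simp), mul_zero]
    · intro h; exact absurd (mem_orbit_self y) h

/-- Lagrange's trick: an invariant polynomial vanishing at `y`, times the derivative of the orbit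
polynomial, is divisible by the orbit polynomial. -/
theorem orbitPoly_dvd (y : R) (h : R[X]) (hinv : ∀ σ : G, σ • h = h) (hy : h.eval y = 0) :
    orbitPoly G y ∣ derivative (orbitPoly G y) * h := by
  rw [derivative_orbitPoly, Finset.sum_mul]
  refine Finset.dvd_sum fun t ht => ?_
  have hroot : h.eval t = 0 := by
    obtain ⟨σ, -, rfl⟩ := Finset.mem_image.1 ht
    have := congrArg (fun z => σ • z) hy
    simp only [smul_zero] at this
    rw [← this, ← smul_eval_smul, hinv]
  obtain ⟨k, hk⟩ := dvd_iff_isRoot.2 hroot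
  rw [hk, orbitPoly_eq_mul y ht]
  exact ⟨k, by ring⟩

/-- A criterion for a map of localizations to be an isomorphism. -/
theorem isLocalization_away_of {E R' : Type*} [CommRing E] [CommRing R'] (ev : E →+* R') (gE : E)
    (hsurj : ∀ s : R', ∃ e : E, ev e = s * ev gE)
    (hinj : ∀ e : E, ev e = 0 → gE * e = 0) :
    letI := ((algebraMap R' (Localization.Away (ev gE))).comp ev).toAlgebra
    IsLocalization.Away gE (Localization.Away (ev gE)) := by
  let _ := ((algebraMap R' (Localization.Away (ev gE))).comp ev).toAlgebra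
  have halg : ∀ e : E, algebraMap E (Localization.Away (ev gE)) e =
      algebraMap R' (Localization.Away (ev gE)) (ev e) := fun e => rfl
  refine ⟨?_, ?_, ?_⟩
  · rintro ⟨_, n, rfl⟩
    rw [halg, map_pow, map_pow]
    exact (IsLocalization.Away.algebraMap_isUnit (ev gE)).pow n
  · intro z
    obtain ⟨⟨r', ⟨_, k, rfl⟩⟩, hz⟩ := IsLocalization.surj (Submonoid.powers (ev gE)) z
    obtain ⟨e, he⟩ := hsurj r'
    refine ⟨⟨e, ⟨gE ^ (k + 1), k + 1, rfl⟩⟩, ?_⟩
    simp only at hz ⊢
    rw [halg, halg, he, pow_succ, map_mul ev, map_mul, ← mul_assoc, map_pow ev, hz, map_mul]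
  · intro e₁ e₂ h
    rw [halg, halg] at h
    obtain ⟨⟨_, k, rfl⟩, hc⟩ := (IsLocalization.eq_iff_exists (Submonoid.powers (ev gE)) _).1 h
    simp only at hc
    have h0 : ev (gE ^ k * (e₁ - e₂)) = 0 := by
      rw [map_mul, map_pow, map_sub, mul_sub, hc, sub_self]
    have h1 := hinj _ h0
    refine ⟨⟨gE ^ (k + 1), k + 1, rfl⟩, ?_⟩
    simp only
    rw [← sub_eq_zero, ← mul_sub, pow_succ', mul_assoc]
    exact h1

theorem mem_lifts_of_invariant (p : R[X]) (hp : ∀ σ : G, σ • p = p) :
    p ∈ lifts (FixedPoints.subring R G).subtype := by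
  rw [lifts_iff_coeff_lifts]
  intro i
  refine ⟨⟨p.coeff i, fun σ => ?_⟩, rfl⟩
  rw [← coeff_smul, hp]

theorem smul_map_subtype (p : (FixedPoints.subring R G)[X]) (σ : G) :
    σ • p.map (FixedPoints.subring R G).subtype = p.map (FixedPoints.subring R G).subtype := by
  ext i
  rw [coeff_smul, coeff_map]
  exact (p.coeff i).2 σ

local notation "B" => FixedPoints.subring R G

/-- **Main structure theorem**: if the stabilizer of `y` fixes `R'` pointwise, `R'` contains `y`
and the invariants, then `R'` localized at the different element of `y` is (standard) étale over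
the ring of invariants. -/
theorem etale_away_diffElt (y : R) (R' : Subring R) [Algebra (FixedPoints.subring R G) R']
    (halg : ∀ b : FixedPoints.subring R G,
      ((algebraMap (FixedPoints.subring R G) R' b : R') : R) = b)
    (hy : y ∈ R') (hR' : ∀ s ∈ R', ∀ σ : G, σ • y = y → σ • s = s)
    (g : R') (hg : (g : R) = diffElt G y) :
    Algebra.Etale (FixedPoints.subring R G) (Localization.Away g) := by
  classical
  obtain ⟨Q, hQ, -, hQmonic⟩ := lifts_and_natDegree_eq_and_monic
    (mem_lifts_of_invariant (orbitPoly G y) (smul_orbitPoly y)) (orbitPoly_monic y)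
  let y' : R' := ⟨y, hy⟩
  have hcomp : R'.subtype.comp (algebraMap B R') = (FixedPoints.subring R G).subtype := RingHom.ext fun b => halg b
  -- evaluation of `B`-polynomials in `R'`
  have hev : ∀ p : B[X], ((aeval y' p : R') : R) = (p.map (FixedPoints.subring R G).subtype).eval y := by
    intro p
    have := hom_eval₂ p (algebraMap B R') R'.subtype y'
    rw [hcomp] at this
    rw [aeval_def, eval_map]
    exact this
  have hQy : aeval y' Q = 0 := by
    apply Subtype.ext
    rw [hev, hQ, eval_orbitPoly y (mem_orbit_self y)]; rfl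
  have hgy : aeval y' (derivative Q) = g := by
    apply Subtype.ext
    rw [hev, ← derivative_map, hQ, eval_derivative_orbitPoly, hg]
  -- the standard étale pair
  let P : StandardEtalePair B := ⟨Q, hQmonic, derivative Q, ⟨1, 0, 1, by simp⟩⟩
  let ev : AdjoinRoot Q →ₐ[B] R' := AdjoinRoot.liftAlgHom Q (Algebra.ofId B R') y' hQy
  have hevmk : ∀ p : B[X], ev (AdjoinRoot.mk Q p) = aeval y' p := by
    intro p
    simp [ev, AdjoinRoot.liftAlgHom_mk, aeval_def, Algebra.ofId]
  let gE : AdjoinRoot Q := AdjoinRoot.mk Q (derivative Q)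
  have hevg : ev gE = g := by rw [hevmk, hgy]
  have hsurj : ∀ s : R', ∃ e : AdjoinRoot Q, ev e = s * ev gE := by
    intro s
    obtain ⟨F, hFinv, hFev⟩ := exists_invariant_poly_eval (G := G) y (s : R) (hR' s s.2)
    obtain ⟨FB, hFB⟩ := (mem_lifts _).1 (mem_lifts_of_invariant F hFinv)
    refine ⟨AdjoinRoot.mk Q FB, ?_⟩
    rw [hevmk, hevg]
    apply Subtype.ext
    rw [hev, hFB, hFev, ← hg]; rfl
  have hinj : ∀ e : AdjoinRoot Q, ev e = 0 → gE * e = 0 := by
    intro e he
    obtain ⟨p, rfl⟩ := AdjoinRoot.mk_surjective e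
    rw [hevmk] at he
    have h0 : (p.map (FixedPoints.subring R G).subtype).eval y = 0 := by rw [← hev, he]; rfl
    have hdvd := orbitPoly_dvd (G := G) y (p.map (FixedPoints.subring R G).subtype)
      (smul_map_subtype p) h0
    rw [← hQ, derivative_map, ← Polynomial.map_mul] at hdvd
    have hdvd' : Q ∣ derivative Q * p :=
      (map_dvd_map _ Subtype.val_injective hQmonic).1 hdvd
    show AdjoinRoot.mk Q (derivative Q) * AdjoinRoot.mk Q p = 0
    rw [← map_mul, AdjoinRoot.mk_eq_zero]
    exact hdvd'
  subst hevg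
  letI : Algebra (AdjoinRoot Q) (Localization.Away (ev gE)) :=
    ((algebraMap R' (Localization.Away (ev gE))).comp ev.toRingHom).toAlgebra
  haveI hloc : IsLocalization.Away gE (Localization.Away (ev gE)) :=
    isLocalization_away_of ev.toRingHom gE hsurj hinj
  haveI : IsScalarTower B (AdjoinRoot Q) (Localization.Away (ev gE)) :=
    IsScalarTower.of_algebraMap_eq fun b => by
      show algebraMap R' (Localization.Away (ev gE)) (algebraMap B R' b) =
        algebraMap R' (Localization.Away (ev gE)) (ev (algebraMap B (AdjoinRoot Q) b))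
      rw [ev.commutes]
  let e1 : Localization.Away gE ≃ₐ[AdjoinRoot Q] Localization.Away (ev gE) :=
    IsLocalization.algEquiv (Submonoid.powers gE) _ _
  let e2 : Localization.Away gE ≃ₐ[B] Localization.Away (ev gE) := e1.restrictScalars B
  let e3 : P.Ring ≃ₐ[B] Localization.Away gE := P.equivAwayAdjoinRoot
  exact Algebra.Etale.of_equiv (e3.trans e2)

end Groth.Agent.Lib.Helper6.InvEtale
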