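import Mathlib
import Groth.Agent.Lib.Helper6.InertiaComplete

set_option autoImplicit false
set_option linter.style.haveILetI false
set_option linter.unusedSectionVars false

open scoped Pointwise
open Polynomial

namespace Groth.Agent.Lib.Helper6.TrivStab

open Groth.Agent.Lib.Helper6.InertiaComplete

/-- A finite group acting faithfully on a domain has an element with trivial stabilizer. -/
theorem exists_trivial_stabilizer_domain (Γ A : Type*) [Group Γ] [Finite Γ] [CommRing A]
    [IsDomain A] [MulSemiringAction Γ A] [FaithfulSMul Γ A] :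
    ∃ z : A, ∀ γ : Γ, γ • z = z → γ = 1 := by
  classical
  cases nonempty_fintype Γ
  let L := FractionRing A
  letI : MulSemiringAction Γ L := IsFractionRing.mulSemiringAction Γ A L
  haveI : FaithfulSMul Γ L := IsFractionRing.faithfulSMul Γ A L
  obtain ⟨x, hx⟩ := exists_trivial_stabilizer Γ L
  obtain ⟨a, b, hb, rfl⟩ := IsFractionRing.div_surjective A x
  have hb0 : b ≠ 0 := nonZeroDivisors.ne_zero hb
  let N : A := ∏ γ : Γ, γ • b
  have hN0 : N ≠ 0 := by
    refine Finset.prod_ne_zero_iff.2 fun γ _ => ?_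
    exact (smul_ne_zero_iff_ne γ).2 hb0
  have hNinv : ∀ γ : Γ, γ • N = N := fun γ => Finset.smul_prod_perm b γ
  let z : A := a * ∏ γ ∈ Finset.univ.erase (1 : Γ), γ • b
  have hz : algebraMap A L z = algebraMap A L a / algebraMap A L b * algebraMap A L N := by
    have hN : N = b * ∏ γ ∈ Finset.univ.erase (1 : Γ), γ • b := by
      have := Finset.mul_prod_erase Finset.univ (fun γ : Γ => γ • b) (Finset.mem_univ 1)
      rw [one_smul] at this
      exact this.symm
    have hbL : algebraMap A L b ≠ 0 := by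
      rwa [Ne, map_eq_zero_iff _ (IsFractionRing.injective A L)]
    rw [hN, map_mul, map_mul, div_mul_eq_mul_div, mul_comm (algebraMap A L b), ← mul_assoc,
      mul_div_assoc, div_self hbL, mul_one]
  refine ⟨z, fun γ hγ => hx γ ?_⟩
  have h1 := congrArg (algebraMap A L) hγ
  rw [algebraMap.smul', hz, smul_mul', ← algebraMap.smul', hNinv] at h1
  have hNL : algebraMap A L N ≠ 0 := by
    rwa [Ne, map_eq_zero_iff _ (IsFractionRing.injective A L)]
  exact mul_right_cancel₀ hNL h1

/-- For a prime `n` there is an element whose stabilizer modulo `n` is the inertia group. -/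
theorem exists_theta_prime {S G : Type*} [CommRing S]
    [Group G] [Finite G] [MulSemiringAction G S]
    (n : Ideal S) [hn : n.IsPrime] :
    ∃ θ : S, ∀ σ : G, σ • n = n → σ • θ - θ ∈ n → σ ∈ n.toAddSubgroup.inertia G := by
  classical
  let m : Ideal ℤ := n.under ℤ
  haveI : n.LiesOver m := ⟨rfl⟩
  let φ := Ideal.Quotient.stabilizerHom n m G
  haveI : Finite φ.range := Finite.of_surjective φ.rangeRestrict φ.rangeRestrict_surjective
  obtain ⟨x, hx⟩ := exists_trivial_stabilizer_domain φ.range (S ⧸ n)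
  obtain ⟨θ, rfl⟩ := Ideal.Quotient.mk_surjective x
  refine ⟨θ, fun σ hσ hmem => ?_⟩
  have h1 := hx ⟨φ ⟨σ, hσ⟩, ⟨_, rfl⟩⟩ (by
    show φ ⟨σ, hσ⟩ (Ideal.Quotient.mk n θ) = _
    rw [Ideal.Quotient.stabilizerHom_apply, Ideal.Quotient.eq]
    exact hmem)
  have h2 : φ ⟨σ, hσ⟩ = 1 := congrArg Subtype.val h1
  have h3 : (⟨σ, hσ⟩ : MulAction.stabilizer G n) ∈ φ.ker := h2
  have h4 := Ideal.Quotient.map_ker_stabilizer_subtype n m G
  have h5 : σ ∈ Subgroup.map (Subgroup.subtype _) φ.ker := ⟨⟨σ, hσ⟩, h3, rfl⟩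
  rw [h4] at h5
  exact h5

variable {R G : Type*} [CommRing R] [Group G] [Finite G] [MulSemiringAction G R]

theorem conj_mem_inertia (q : Ideal R) {σ τ : G} (hσ : σ • q = q) (hτ : τ ∈ q.inertia G) :
    σ * τ * σ⁻¹ ∈ q.inertia G := by
  intro x
  have h1 := hτ (σ⁻¹ • x)
  have h2 : σ • (τ • σ⁻¹ • x - σ⁻¹ • x) ∈ σ • q := Ideal.smul_mem_pointwise_smul _ _ _ h1
  rw [hσ, smul_sub, smul_inv_smul, ← mul_smul, ← mul_smul] at h2
  exact h2

/-- An element acting trivially on the inertia invariants modulo `q` is in the inertia group. -/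
theorem mem_inertia_of_forall_invariant (q : Ideal R) [q.IsPrime] {σ : G} (hσ : σ • q = q)
    (h : ∀ x : R, (∀ τ ∈ q.inertia G, τ • x = x) → σ • x - x ∈ q) : σ ∈ q.inertia G := by
  classical
  intro z
  haveI : Fintype ↥(q.inertia G) := Fintype.ofFinite _
  let P : R[X] := MulSemiringAction.charpoly ↥(q.inertia G) z
  let π := Ideal.Quotient.mk q
  have hcoef : ∀ i, σ • P.coeff i - P.coeff i ∈ q := by
    intro i
    apply h
    intro τ hτ
    exact MulSemiringAction.smul_coeff_charpoly z i (⟨τ, hτ⟩ : ↥(q.inertia G))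
  have h1 : P.map π = (X - C (π z)) ^ Fintype.card ↥(q.inertia G) := by
    show (∏ τ : ↥(q.inertia G), (X - C (τ • z))).map π = _
    rw [Polynomial.map_prod, ← Finset.card_univ, ← Finset.prod_const]
    refine Finset.prod_congr rfl fun τ _ => ?_
    rw [Polynomial.map_sub, map_X, map_C]
    congr 2
    exact Ideal.Quotient.eq.2 (τ.2 z)
  have h2 : (σ • P).map π = (X - C (π (σ • z))) ^ Fintype.card ↥(q.inertia G) := by
    show (σ • ∏ τ : ↥(q.inertia G), (X - C (τ • z))).map π = _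
    rw [Finset.smul_prod', Polynomial.map_prod, ← Finset.card_univ, ← Finset.prod_const]
    refine Finset.prod_congr rfl fun τ _ => ?_
    rw [smul_sub, smul_X, smul_C, Polynomial.map_sub, map_X, map_C]
    congr 2
    apply Ideal.Quotient.eq.2
    have h3 := conj_mem_inertia q hσ τ.2 (σ • z)
    rw [mul_smul, mul_smul, inv_smul_smul] at h3
    exact h3
  have h3 : (σ • P).map π = P.map π := by
    ext i
    rw [coeff_map, coeff_map, coeff_smul]
    exact Ideal.Quotient.eq.2 (hcoef i)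
  rw [h1, h2] at h3
  have h4 := congrArg (eval (π (σ • z))) h3
  rw [eval_pow, eval_pow, eval_sub, eval_sub, eval_X, eval_C, eval_C, sub_self,
    zero_pow Fintype.card_ne_zero] at h4
  have h5 := pow_eq_zero_iff Fintype.card_ne_zero |>.1 h4.symm
  rw [← map_sub, Ideal.Quotient.eq_zero_iff_mem] at h5
  exact h5

/-- an inertia-invariant element whose stabilizer modulo `q` is exactly the inertia group -/
theorem exists_y0 (q : Ideal R) [q.IsPrime] :
    ∃ y₀ : R, (∀ τ ∈ q.inertia G, τ • y₀ = y₀) ∧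
      ∀ σ : G, σ • q = q → σ • y₀ - y₀ ∈ q → σ ∈ q.inertia G := by
  classical
  let R₁ : Subring R := FixedPoints.subring R ↥(q.inertia G)
  have hmem : ∀ x : R, x ∈ R₁ ↔ ∀ τ ∈ q.inertia G, τ • x = x := by
    intro x
    constructor
    · intro hx τ hτ; exact hx ⟨τ, hτ⟩
    · intro hx τ; exact hx τ.1 τ.2
  haveI : IsInvariantSubring ↥(MulAction.stabilizer G q) R₁ := by
    refine ⟨fun σ x hx => ?_⟩
    rw [hmem] at hx ⊢
    intro τ hτ
    have hσ : (σ : G)⁻¹ • q = q := by
      have := σ.2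
      rw [MulAction.mem_stabilizer_iff] at this
      rw [inv_smul_eq_iff, this]
    have h1 := conj_mem_inertia q hσ hτ
    rw [inv_inv] at h1
    have h2 := hx _ h1
    show τ • ((σ : G) • x) = (σ : G) • x
    rw [mul_smul, mul_smul, inv_smul_eq_iff] at h2
    exact h2
  let q₁ : Ideal R₁ := q.comap R₁.subtype
  haveI : q₁.IsPrime := Ideal.IsPrime.comap _
  have hstab : ∀ σ : ↥(MulAction.stabilizer G q), σ • q₁ = q₁ := by
    intro σ
    ext x
    rw [Ideal.mem_pointwise_smul_iff_inv_smul_mem, Ideal.mem_comap, Ideal.mem_comap]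
    show ((σ⁻¹ : ↥(MulAction.stabilizer G q)) : G) • (x : R) ∈ q ↔ (x : R) ∈ q
    have hσ := σ.2
    rw [MulAction.mem_stabilizer_iff] at hσ
    conv_rhs => rw [← hσ]
    rw [Ideal.mem_pointwise_smul_iff_inv_smul_mem]
    rfl
  obtain ⟨θ, hθ⟩ := exists_theta_prime (G := ↥(MulAction.stabilizer G q)) q₁
  refine ⟨θ.1, (hmem _).1 θ.2, fun σ hσ hσθ => ?_⟩
  have h1 := hθ ⟨σ, hσ⟩ (hstab _) hσθ
  refine mem_inertia_of_forall_invariant q hσ fun x hx => ?_
  exact h1 ⟨x, (hmem x).2 hx⟩

theorem smul_eq_of_smul_le (q : Ideal R) (σ : G) (h : σ • q ≤ q) : σ • q = q := by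
  have hpow : ∀ k : ℕ, σ ^ k • q ≤ q := by
    intro k
    induction k with
    | zero => rw [pow_zero, one_smul]
    | succ k ih =>
      rw [pow_succ', mul_smul]
      exact le_trans (Ideal.pointwise_smul_le_pointwise_smul_iff.2 ih) h
  apply le_antisymm h
  have hn : 0 < orderOf σ := orderOf_pos σ
  have h1 := hpow (orderOf σ - 1)
  have h2 : σ • (σ ^ (orderOf σ - 1) • q) ≤ σ • q :=
    Ideal.pointwise_smul_le_pointwise_smul_iff.2 h1
  rw [← mul_smul, ← pow_succ', Nat.sub_add_cancel hn, pow_orderOf_eq_one, one_smul] at h2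
  exact h2

theorem exists_w (q : Ideal R) [hq : q.IsPrime] :
    ∃ w : R, w ∉ q ∧ (∀ σ : G, σ • q = q → σ • w = w) ∧ ∀ σ : G, σ • q ≠ q → w ∈ σ • q := by
  classical
  cases nonempty_fintype G
  have hex : ∀ σ : G, σ • q ≠ q → ∃ x : R, x ∈ σ • q ∧ x ∉ q := by
    intro σ hσ
    by_contra hcon
    push Not at hcon
    exact hσ (smul_eq_of_smul_le q σ hcon)
  let x : G → R := fun σ => if h : σ • q ≠ q then Classical.choose (hex σ h) else 1
  have hx1 : ∀ σ : G, σ • q ≠ q → x σ ∈ σ • q := by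
    intro σ h
    have : x σ = Classical.choose (hex σ h) := dif_pos h
    rw [this]; exact (Classical.choose_spec (hex σ h)).1
  have hx2 : ∀ σ : G, x σ ∉ q := by
    intro σ
    by_cases h : σ • q ≠ q
    · have : x σ = Classical.choose (hex σ h) := dif_pos h
      rw [this]; exact (Classical.choose_spec (hex σ h)).2
    · have : x σ = 1 := dif_neg h
      rw [this]; exact fun h1 => hq.ne_top ((Ideal.eq_top_iff_one _).2 h1)
  let w₀ : R := ∏ σ : G, x σ
  have hw₀1 : w₀ ∉ q := by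
    intro h
    obtain ⟨σ, -, hσ⟩ := (Ideal.IsPrime.prod_mem_iff (hp := hq)).1 h
    exact hx2 σ hσ
  have hw₀2 : ∀ σ : G, σ • q ≠ q → w₀ ∈ σ • q := by
    intro σ hσ
    exact Ideal.mem_of_dvd _ (Finset.dvd_prod_of_mem x (Finset.mem_univ σ)) (hx1 σ hσ)
  let D := MulAction.stabilizer G q
  refine ⟨∏ τ : D, τ • w₀, ?_, ?_, ?_⟩
  · intro h
    obtain ⟨τ, -, hτ⟩ := (Ideal.IsPrime.prod_mem_iff (hp := hq)).1 h
    apply hw₀1
    have hτq : (τ : G) • q = q := τ.2
    have : (τ : G) • w₀ ∈ (τ : G) • q := by rw [hτq]; exact hτ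
    exact Ideal.smul_mem_pointwise_smul_iff.1 this
  · intro σ hσ
    exact Finset.smul_prod_perm (G := D) w₀ ⟨σ, hσ⟩
  · intro σ hσ
    have : (1 : D) • w₀ ∣ ∏ τ : D, τ • w₀ := Finset.dvd_prod_of_mem _ (Finset.mem_univ _)
    rw [one_smul] at this
    exact Ideal.mem_of_dvd _ this (hw₀2 σ hσ)

/-- an inertia-invariant element `y` with `y - σ y ∉ q` for all `σ` outside the inertia group. -/
theorem exists_y (q : Ideal R) [hq : q.IsPrime] :
    ∃ y : R, (∀ τ ∈ q.inertia G, τ • y = y) ∧ ∀ σ : G, σ ∉ q.inertia G → y - σ • y ∉ q := by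
  classical
  obtain ⟨y₀, hy₀1, hy₀2⟩ := exists_y0 (G := G) q
  obtain ⟨y₁, h1, h2, h3⟩ : ∃ y₁ : R, (∀ τ ∈ q.inertia G, τ • y₁ = y₁) ∧
      (∀ σ : G, σ • q = q → σ • y₁ - y₁ ∈ q → σ ∈ q.inertia G) ∧ y₁ ∉ q := by
    by_cases h : y₀ ∈ q
    · refine ⟨y₀ + 1, fun τ hτ => by rw [smul_add, smul_one, hy₀1 τ hτ], fun σ hσ hmem => ?_, ?_⟩
      · apply hy₀2 σ hσ
        have : σ • (y₀ + 1) - (y₀ + 1) = σ • y₀ - y₀ := by rw [smul_add, smul_one]; ring
        rwa [this] at hmem
      · intro h'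
        have := q.sub_mem h' h
        rw [add_sub_cancel_left] at this
        exact hq.ne_top ((Ideal.eq_top_iff_one _).2 this)
    · exact ⟨y₀, hy₀1, hy₀2, h⟩
  obtain ⟨w, hw1, hw2, hw3⟩ := exists_w (G := G) q
  refine ⟨w * y₁, fun τ hτ => ?_, fun σ hσ hmem => ?_⟩
  · have hτq : τ • q = q := Ideal.inertia_le_stabilizer q hτ
    rw [smul_mul', hw2 τ hτq, h1 τ hτ]
  · by_cases hσq : σ • q = q
    · have : w * y₁ - σ • (w * y₁) = w * (y₁ - σ • y₁) := by
        rw [smul_mul', hw2 σ hσq]; ring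
      rw [this] at hmem
      rcases hq.mem_or_mem hmem with h | h
      · exact hw1 h
      · apply hσ
        apply h2 σ hσq
        have := q.neg_mem h
        rwa [neg_sub] at this
    · have hσ' : σ⁻¹ • q ≠ q := by
        intro h
        apply hσq
        rw [inv_smul_eq_iff] at h
        exact h.symm
      have hwmem := hw3 σ⁻¹ hσ'
      rw [Ideal.mem_inv_pointwise_smul_iff] at hwmem
      have h4 : σ • (w * y₁) ∈ q := by
        rw [smul_mul']; exact q.mul_mem_right _ hwmem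
      have h5 : w * y₁ ∈ q := by
        have := q.add_mem hmem h4
        rwa [sub_add_cancel] at this
      rcases hq.mem_or_mem h5 with h | h
      · exact hw1 h
      · exact h3 h

end Groth.Agent.Lib.Helper6.TrivStab
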