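import Mathlib
import Groth.Agent.Lib.Helper6.TrivStab
import Groth.Agent.Lib.Helper6.InvEtale

set_option autoImplicit false
set_option linter.style.haveILetI false
set_option linter.unusedSectionVars false

open scoped Pointwise
open Polynomial IsLocalRing

namespace Groth.Agent.Lib.Helper6.InvFormal

open Groth.Agent.Lib.Helper6.TrivStab Groth.Agent.Lib.Helper6.InvEtale

theorem formal_iso {A S : Type*} [CommRing A] [CommRing S] [IsLocalRing A] [IsLocalRing S]
    [Algebra A S] [IsLocalHom (algebraMap A S)] [Module.Flat A S]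
    (hmap : (maximalIdeal A).map (algebraMap A S) = maximalIdeal S)
    (hres : ∀ s : S, ∃ a : A, s - algebraMap A S a ∈ maximalIdeal S) (n : ℕ) :
    Function.Surjective ((Ideal.Quotient.mk (maximalIdeal S ^ n)).comp (algebraMap A S)) ∧
      Ideal.comap (algebraMap A S) (maximalIdeal S ^ n) = maximalIdeal A ^ n := by
  have hpow : ∀ k, maximalIdeal S ^ k = (maximalIdeal A ^ k).map (algebraMap A S) := by
    intro k; rw [Ideal.map_pow, hmap]
  have hff : Module.FaithfullyFlat A S := Module.FaithfullyFlat.of_flat_of_isLocalHom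
  refine ⟨?_, ?_⟩
  · have key : ∀ k : ℕ, ∀ s : S, ∃ a : A, s - algebraMap A S a ∈ maximalIdeal S ^ k := by
      intro k
      induction k with
      | zero => intro s; exact ⟨0, by rw [pow_zero, Ideal.one_eq_top]; trivial⟩
      | succ k ih =>
        intro s
        obtain ⟨a, ha⟩ := ih s
        have hP : ∀ d ∈ (maximalIdeal A ^ k).map (algebraMap A S),
            ∃ a' : A, d - algebraMap A S a' ∈ maximalIdeal S ^ (k + 1) := by
          intro d hd
          unfold Ideal.map at hd
          induction hd using Submodule.span_induction with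
          | mem x hx =>
            obtain ⟨c, -, rfl⟩ := hx
            exact ⟨c, by rw [sub_self]; exact Ideal.zero_mem _⟩
          | zero => exact ⟨0, by rw [map_zero, sub_self]; exact Ideal.zero_mem _⟩
          | add x y _ _ hx hy =>
            obtain ⟨a₁, h₁⟩ := hx
            obtain ⟨a₂, h₂⟩ := hy
            refine ⟨a₁ + a₂, ?_⟩
            have : x + y - algebraMap A S (a₁ + a₂) =
                (x - algebraMap A S a₁) + (y - algebraMap A S a₂) := by rw [map_add]; ring
            rw [this]; exact Ideal.add_mem _ h₁ h₂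
          | smul r x hxmem hx =>
            obtain ⟨a', h'⟩ := hx
            obtain ⟨b, hb⟩ := hres r
            refine ⟨b * a', ?_⟩
            have hxk : x ∈ maximalIdeal S ^ k := by rw [hpow]; exact hxmem
            have : r • x - algebraMap A S (b * a') =
                (r - algebraMap A S b) * x + algebraMap A S b * (x - algebraMap A S a') := by
              rw [map_mul, smul_eq_mul]; ring
            rw [this]
            refine Ideal.add_mem _ ?_ (Ideal.mul_mem_left _ _ h')
            rw [pow_succ']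
            exact Ideal.mul_mem_mul hb hxk
        rw [hpow] at ha
        obtain ⟨a', ha'⟩ := hP _ ha
        refine ⟨a + a', ?_⟩
        have : s - algebraMap A S (a + a') = s - algebraMap A S a - algebraMap A S a' := by
          rw [map_add]; ring
        rw [this]; exact ha'
    intro z
    obtain ⟨s, rfl⟩ := Ideal.Quotient.mk_surjective z
    obtain ⟨a, ha⟩ := key n s
    refine ⟨a, ?_⟩
    rw [RingHom.comp_apply, Ideal.Quotient.eq]
    have := (maximalIdeal S ^ n).neg_mem ha
    rwa [neg_sub] at this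
  · rw [hpow, Ideal.comap_map_eq_self_of_faithfullyFlat]

section
variable {R G : Type*} [CommRing R] [Group G] [Finite G] [MulSemiringAction G R]

theorem exists_yH (q : Ideal R) [hq : q.IsPrime] (H : Subgroup G)
    (hD : MulAction.stabilizer G q ≤ H) :
    ∃ y : R, y ∉ q ∧ (∀ τ ∈ H, τ • y = y) ∧ ∀ σ : G, σ ∉ H → σ • y ∈ q := by
  classical
  cases nonempty_fintype G
  have hex : ∀ σ : G, σ ∉ H → ∃ x : R, x ∈ σ⁻¹ • q ∧ ∀ τ ∈ H, x ∉ τ • q := by
    intro σ hσ
    by_contra hcon
    push Not at hcon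
    have hsub : ((σ⁻¹ • q : Ideal R) : Set R) ⊆
        ⋃ τ ∈ ((Finset.univ.filter (· ∈ H) : Finset G) : Set G), ((τ • q : Ideal R) : Set R) := by
      intro x hx
      obtain ⟨τ, hτ, hxτ⟩ := hcon x hx
      exact Set.mem_biUnion (by simpa using hτ) hxτ
    rw [Ideal.subset_union_prime (1 : G) (1 : G) (fun τ _ _ _ => inferInstance)] at hsub
    obtain ⟨τ, hτ, hle⟩ := hsub
    have hτH : τ ∈ H := by simpa using hτ
    have h1 : (τ⁻¹ * σ⁻¹) • q ≤ q := by
      rw [mul_smul]
      exact Ideal.pointwise_smul_subset_iff.2 (by rwa [inv_inv])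
    have h2 := smul_eq_of_smul_le q _ h1
    have h3 : τ⁻¹ * σ⁻¹ ∈ H := hD h2
    have h4 : σ⁻¹ ∈ H := by
      have := H.mul_mem hτH h3
      rwa [mul_inv_cancel_left] at this
    exact hσ (by simpa using H.inv_mem h4)
  let x : G → R := fun σ => if h : σ ∉ H then Classical.choose (hex σ h) else 1
  have hx1 : ∀ σ : G, σ ∉ H → x σ ∈ σ⁻¹ • q := by
    intro σ h
    have : x σ = Classical.choose (hex σ h) := dif_pos h
    rw [this]; exact (Classical.choose_spec (hex σ h)).1
  have hx2 : ∀ σ : G, ∀ τ ∈ H, x σ ∉ τ • q := by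
    intro σ τ hτ
    by_cases h : σ ∉ H
    · have : x σ = Classical.choose (hex σ h) := dif_pos h
      rw [this]; exact (Classical.choose_spec (hex σ h)).2 τ hτ
    · have : x σ = 1 := dif_neg h
      rw [this]
      exact fun h1 => (Ideal.IsPrime.ne_top inferInstance) ((Ideal.eq_top_iff_one _).2 h1)
  let w₀ : R := ∏ σ : G, x σ
  have hw₀1 : ∀ τ ∈ H, w₀ ∉ τ • q := by
    intro τ hτ h
    obtain ⟨σ, -, hσ⟩ := (Ideal.IsPrime.prod_mem_iff (hp := (inferInstance : (τ • q).IsPrime))).1 h
    exact hx2 σ τ hτ hσ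
  have hw₀2 : ∀ σ : G, σ ∉ H → w₀ ∈ σ⁻¹ • q := by
    intro σ hσ
    exact Ideal.mem_of_dvd _ (Finset.dvd_prod_of_mem x (Finset.mem_univ σ)) (hx1 σ hσ)
  refine ⟨∏ τ : H, τ • w₀, ?_, ?_, ?_⟩
  · intro h
    obtain ⟨τ, -, hτ⟩ := (Ideal.IsPrime.prod_mem_iff (hp := hq)).1 h
    apply hw₀1 (τ⁻¹ : H) (H.inv_mem τ.2)
    rw [Ideal.mem_pointwise_smul_iff_inv_smul_mem]
    have h2 : ((τ⁻¹ : H) : G)⁻¹ • w₀ = τ • w₀ := by
      rw [Subgroup.coe_inv, inv_inv]; rfl
    rw [h2]; exact hτ
  · intro τ hτ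
    exact Finset.smul_prod_perm (G := H) w₀ ⟨τ, hτ⟩
  · intro σ hσ
    have : (1 : H) • w₀ ∣ ∏ τ : H, τ • w₀ := Finset.dvd_prod_of_mem _ (Finset.mem_univ _)
    rw [one_smul] at this
    have h1 := Ideal.mem_of_dvd _ this (hw₀2 σ hσ)
    rwa [Ideal.mem_inv_pointwise_smul_iff] at h1

end

section
variable {R G : Type*} [CommRing R] [Group G] [Fintype G] [DecidableEq R] [MulSemiringAction G R]

theorem exists_residue (q : Ideal R) [hq : q.IsPrime] (y : R) (hyq : y ∉ q)
    (hy : ∀ σ : G, σ • y = y ∨ σ • y ∈ q) (s : R) (hs : ∀ σ : G, σ • y = y → σ • s = s) :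
    ∃ c b : R, (∀ σ : G, σ • c = c) ∧ (∀ σ : G, σ • b = b) ∧ c ∉ q ∧ c * s - b ∈ q := by
  let e₁ : R := ∑ t ∈ orbit G y, t
  have he₁inv : ∀ σ : G, σ • e₁ = e₁ := by
    intro σ
    show σ • (∑ t ∈ orbit G y, t) = ∑ t ∈ orbit G y, t
    rw [Finset.smul_sum]
    have h1 := Finset.sum_image (s := orbit G y) (g := fun t => σ • t) (f := fun t => t)
      (fun a _ b _ h => smul_left_cancel σ h)
    rw [image_smul_orbit] at h1
    exact h1.symm
  have hother : ∀ t ∈ (orbit G y).erase y, t ∈ q := by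
    intro t ht
    obtain ⟨hty, htO⟩ := Finset.mem_erase.1 ht
    obtain ⟨σ, -, rfl⟩ := Finset.mem_image.1 htO
    exact (hy σ).resolve_left hty
  have he₁y : e₁ - y ∈ q := by
    have : e₁ = y + ∑ t ∈ (orbit G y).erase y, t :=
      (Finset.add_sum_erase _ (fun t => t) (mem_orbit_self y)).symm
    rw [this, add_sub_cancel_left]
    exact q.sum_mem hother
  let m := ((orbit G y).erase y).card
  have hg : diffElt G y - y ^ m ∈ q := by
    rw [← Ideal.Quotient.eq]
    unfold diffElt
    rw [map_prod, map_pow, ← Finset.prod_const]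
    refine Finset.prod_congr rfl fun t ht => ?_
    rw [Ideal.Quotient.eq, sub_sub_cancel_left]
    exact q.neg_mem (hother t ht)
  obtain ⟨F, hFinv, hFev⟩ := exists_invariant_poly_eval (G := G) y s hs
  have hFe : F.eval y - F.eval e₁ ∈ q := by
    have h1 : y - e₁ ∣ F.eval y - F.eval e₁ := sub_dvd_eval_sub y e₁ F
    have h2 : y - e₁ ∈ q := by
      have := q.neg_mem he₁y
      rwa [neg_sub] at this
    exact Ideal.mem_of_dvd _ h1 h2
  refine ⟨e₁ ^ m, F.eval e₁, fun σ => by rw [smul_pow', he₁inv], fun σ => ?_, ?_, ?_⟩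
  · rw [← smul_eval_smul, hFinv, he₁inv]
  · intro h
    have h1 := hq.mem_of_pow_mem _ h
    apply hyq
    have := q.sub_mem h1 he₁y
    rwa [sub_sub_cancel] at this
  · -- e₁^m * s - F(e₁) ≡ y^m s - F(y) ≡ g s - F(y) = 0
    have h1 : e₁ ^ m - y ^ m ∈ q :=
      Ideal.mem_of_dvd _ (sub_dvd_pow_sub_pow e₁ y m) he₁y
    have h2 : e₁ ^ m * s - F.eval e₁ =
        (e₁ ^ m - y ^ m) * s - (diffElt G y - y ^ m) * s + (F.eval y - F.eval e₁) := by
      rw [hFev]; ring
    rw [h2]
    exact q.add_mem (q.sub_mem (q.mul_mem_right _ h1) (q.mul_mem_right _ hg)) hFe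

end

end Groth.Agent.Lib.Helper6.InvFormal
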