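import Mathlib
import Groth.Agent.Lib.Helper6.InvFormal

set_option autoImplicit false
set_option linter.style.haveILetI false
set_option linter.unusedSectionVars false

open IsLocalRing

namespace Groth.Agent.Lib.Helper6.InvFormal

theorem formal_of_etale_away {B R' : Type*} [CommRing B] [CommRing R'] [Algebra B R']
    (q' : Ideal R') [q'.IsPrime] (g' : R') (hg' : g' ∉ q')
    [Algebra.Etale B (Localization.Away g')]
    (hres : ∀ r' : R', ∃ c b : B, c ∉ q'.comap (algebraMap B R') ∧
      algebraMap B R' c * r' - algebraMap B R' b ∈ q')
    (n : ℕ) :
    Function.Surjective ((Ideal.Quotient.mk (maximalIdeal (Localization.AtPrime q') ^ n)).comp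
      (Localization.localRingHom (q'.comap (algebraMap B R')) q' (algebraMap B R') rfl)) ∧
      Ideal.comap (Localization.localRingHom (q'.comap (algebraMap B R')) q' (algebraMap B R') rfl)
        (maximalIdeal (Localization.AtPrime q') ^ n) =
        maximalIdeal (Localization.AtPrime (q'.comap (algebraMap B R'))) ^ n := by
  letI algAS : Algebra (Localization.AtPrime (q'.comap (algebraMap B R')))
      (Localization.AtPrime q') :=
    (Localization.localRingHom (q'.comap (algebraMap B R')) q' (algebraMap B R') rfl).toAlgebra
  haveI hloc : IsLocalHom (algebraMap (Localization.AtPrime (q'.comap (algebraMap B R')))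
      (Localization.AtPrime q')) :=
    Localization.isLocalHom_localRingHom _ _ _ rfl
  have hunit : IsUnit (algebraMap R' (Localization.AtPrime q') g') :=
    IsLocalization.map_units (Localization.AtPrime q') (⟨g', hg'⟩ : q'.primeCompl)
  letI algCS : Algebra (Localization.Away g') (Localization.AtPrime q') :=
    (IsLocalization.Away.lift g' hunit).toAlgebra
  haveI tow1 : IsScalarTower R' (Localization.Away g') (Localization.AtPrime q') :=
    IsScalarTower.of_algebraMap_eq fun x => (IsLocalization.Away.lift_eq g' hunit x).symm
  haveI tow2 : IsScalarTower B (Localization.Away g') (Localization.AtPrime q') :=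
    IsScalarTower.of_algebraMap_eq fun x => by
      rw [IsScalarTower.algebraMap_apply B R' (Localization.AtPrime q'),
        IsScalarTower.algebraMap_apply B R' (Localization.Away g'),
        ← IsScalarTower.algebraMap_apply R' (Localization.Away g') (Localization.AtPrime q')]
  haveI tow3 : IsScalarTower B (Localization.AtPrime (q'.comap (algebraMap B R')))
      (Localization.AtPrime q') :=
    IsScalarTower.of_algebraMap_eq fun x => by
      rw [IsScalarTower.algebraMap_apply B R' (Localization.AtPrime q')]
      exact (Localization.localRingHom_to_map _ _ _ rfl x).symm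
  haveI hlocCS : IsLocalization (q'.primeCompl.map (algebraMap R' (Localization.Away g')))
      (Localization.AtPrime q') :=
    IsLocalization.isLocalization_of_submonoid_le (Localization.Away g') (Localization.AtPrime q')
      (Submonoid.powers g') q'.primeCompl ((Submonoid.powers_le).2 hg')
  haveI : Module.Flat (Localization.Away g') (Localization.AtPrime q') :=
    IsLocalization.flat _ (q'.primeCompl.map (algebraMap R' (Localization.Away g')))
  haveI : Module.Flat B (Localization.AtPrime q') :=
    Module.Flat.trans B (Localization.Away g') (Localization.AtPrime q')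
  haveI : Module.Flat (Localization.AtPrime (q'.comap (algebraMap B R')))
      (Localization.AtPrime q') :=
    (Module.flat_iff_of_isLocalization (Localization.AtPrime (q'.comap (algebraMap B R')))
      (q'.comap (algebraMap B R')).primeCompl (Localization.AtPrime q')).2 inferInstance
  haveI : Algebra.FormallyUnramified (Localization.Away g') (Localization.AtPrime q') :=
    Algebra.FormallyUnramified.of_isLocalization
      (q'.primeCompl.map (algebraMap R' (Localization.Away g')))
  haveI : Algebra.FormallyUnramified B (Localization.AtPrime q') :=
    Algebra.FormallyUnramified.comp B (Localization.Away g') (Localization.AtPrime q')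
  haveI : Algebra.FormallyUnramified (Localization.AtPrime (q'.comap (algebraMap B R')))
      (Localization.AtPrime q') :=
    Algebra.FormallyUnramified.of_restrictScalars B _ _
  haveI : Algebra.EssFiniteType (Localization.Away g') (Localization.AtPrime q') :=
    Algebra.EssFiniteType.of_isLocalization _
      (q'.primeCompl.map (algebraMap R' (Localization.Away g')))
  haveI : Algebra.EssFiniteType B (Localization.AtPrime q') :=
    Algebra.EssFiniteType.comp B (Localization.Away g') (Localization.AtPrime q')
  haveI : Algebra.EssFiniteType (Localization.AtPrime (q'.comap (algebraMap B R')))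
      (Localization.AtPrime q') :=
    Algebra.EssFiniteType.of_comp B _ _
  have hmap : (maximalIdeal (Localization.AtPrime (q'.comap (algebraMap B R')))).map
      (algebraMap (Localization.AtPrime (q'.comap (algebraMap B R'))) (Localization.AtPrime q')) =
      maximalIdeal (Localization.AtPrime q') :=
    Algebra.FormallyUnramified.map_maximalIdeal
  have hres' : ∀ s : Localization.AtPrime q',
      ∃ a : Localization.AtPrime (q'.comap (algebraMap B R')),
        s - algebraMap (Localization.AtPrime (q'.comap (algebraMap B R')))
          (Localization.AtPrime q') a ∈ maximalIdeal (Localization.AtPrime q') := by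
    intro s
    obtain ⟨r', d, rfl⟩ := IsLocalization.exists_mk'_eq q'.primeCompl s
    obtain ⟨c₁, b₁, hc₁, h₁⟩ := hres r'
    obtain ⟨c₂, b₂, hc₂, h₂⟩ := hres d.1
    have hb₂ : b₂ ∉ q'.comap (algebraMap B R') := by
      intro hb
      have : algebraMap B R' c₂ * d.1 ∈ q' := by
        have := q'.add_mem h₂ hb
        rwa [sub_add_cancel] at this
      rcases (Ideal.IsPrime.mem_or_mem inferInstance this) with h | h
      · exact hc₂ h
      · exact d.2 h
    have hcb : c₁ * b₂ ∈ (q'.comap (algebraMap B R')).primeCompl := by
      intro h
      rcases (Ideal.IsPrime.mem_or_mem inferInstance h) with h | h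
      · exact hc₁ h
      · exact hb₂ h
    refine ⟨IsLocalization.mk' _ (b₁ * c₂) ⟨c₁ * b₂, hcb⟩, ?_⟩
    have hu : IsUnit (algebraMap R' (Localization.AtPrime q')
        (d.1 * algebraMap B R' (c₁ * b₂))) := by
      refine IsLocalization.map_units (Localization.AtPrime q')
        (⟨d.1 * algebraMap B R' (c₁ * b₂), ?_⟩ : q'.primeCompl)
      intro h
      rcases (Ideal.IsPrime.mem_or_mem inferInstance h) with h | h
      · exact d.2 h
      · exact hcb h
    rw [← Ideal.unit_mul_mem_iff_mem _ hu]
    have e1 : algebraMap R' (Localization.AtPrime q') d.1 *
        IsLocalization.mk' (Localization.AtPrime q') r' d = algebraMap R' _ r' := by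
      rw [mul_comm]; exact IsLocalization.mk'_spec _ _ _
    have e2 : algebraMap R' (Localization.AtPrime q') (algebraMap B R' (c₁ * b₂)) *
        algebraMap (Localization.AtPrime (q'.comap (algebraMap B R'))) (Localization.AtPrime q')
          (IsLocalization.mk' _ (b₁ * c₂) ⟨c₁ * b₂, hcb⟩) =
        algebraMap R' _ (algebraMap B R' (b₁ * c₂)) := by
      rw [← IsScalarTower.algebraMap_apply B R' (Localization.AtPrime q'),
        ← IsScalarTower.algebraMap_apply B R' (Localization.AtPrime q'),
        IsScalarTower.algebraMap_apply B (Localization.AtPrime (q'.comap (algebraMap B R')))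
          (Localization.AtPrime q'),
        IsScalarTower.algebraMap_apply B (Localization.AtPrime (q'.comap (algebraMap B R')))
          (Localization.AtPrime q') (b₁ * c₂), ← map_mul, mul_comm]
      congr 1
      exact IsLocalization.mk'_spec _ _ _
    have e3 : ∀ (X Y : R') (M N : Localization.AtPrime q'),
        algebraMap R' (Localization.AtPrime q') d.1 * M = algebraMap R' _ r' →
        algebraMap R' (Localization.AtPrime q') X * N = algebraMap R' _ Y →
        algebraMap R' (Localization.AtPrime q') (d.1 * X) * (M - N) =
          algebraMap R' _ (r' * X - d.1 * Y) := by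
      intro X Y M N h1 h2
      rw [map_sub, map_mul, map_mul, map_mul, ← h1, ← h2]; ring
    rw [e3 _ _ _ _ e1 e2, IsLocalization.AtPrime.to_map_mem_maximal_iff _ q']
    have : r' * algebraMap B R' (c₁ * b₂) - d.1 * algebraMap B R' (b₁ * c₂) =
        algebraMap B R' b₂ * (algebraMap B R' c₁ * r' - algebraMap B R' b₁) -
        algebraMap B R' b₁ * (algebraMap B R' c₂ * d.1 - algebraMap B R' b₂) := by
      rw [map_mul, map_mul]; ring
    rw [this]
    exact q'.sub_mem (q'.mul_mem_left _ h₁) (q'.mul_mem_left _ h₂)
  exact formal_iso hmap hres' n

end Groth.Agent.Lib.Helper6.InvFormal
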