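import Mathlib

/-!
# Substitutions `X s ↦ X s * U s` with unit `U s` are bijective (helper6)

For a finite index type `σ` and power series `U s` with invertible constant coefficient, the
substitution `X s ↦ X s * U s` is a bijective endomorphism of `MvPowerSeries σ R`: its matrix in
the monomial "basis" is triangular with invertible diagonal.
-/

namespace Groth.Agent.Lib.Helper6.UnitSubst

open MvPowerSeries
open Finset.HasAntidiagonal (antidiagonal mem_antidiagonal)

variable {σ : Type*} {R : Type*} [CommRing R]

/-- the family `X s * U s` -/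
noncomputable def fam (U : σ → MvPowerSeries σ R) : σ → MvPowerSeries σ R := fun s => X s * U s

lemma hasSubst_fam [Finite σ] (U : σ → MvPowerSeries σ R) : HasSubst (fam U) := by
  apply hasSubst_of_constantCoeff_zero
  intro s
  simp [fam]

/-- `U ^ d` -/
noncomputable def Upow (U : σ → MvPowerSeries σ R) (d : σ →₀ ℕ) : MvPowerSeries σ R :=
  d.prod fun s k => U s ^ k

lemma prod_fam (U : σ → MvPowerSeries σ R) (d : σ →₀ ℕ) :
    (d.prod fun s k => fam U s ^ k) = monomial d (1 : R) * Upow U d := by
  unfold fam Upow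
  simp only [mul_pow]
  rw [Finsupp.prod_mul, MvPowerSeries.monomial_one_eq]

lemma constantCoeff_Upow (U : σ → MvPowerSeries σ R) (d : σ →₀ ℕ) :
    constantCoeff (Upow U d) = d.prod fun s k => constantCoeff (U s) ^ k := by
  unfold Upow
  rw [map_finsuppProd]
  simp only [map_pow]

lemma isUnit_constantCoeff_Upow (U : σ → MvPowerSeries σ R)
    (hU : ∀ s, IsUnit (constantCoeff (U s))) (d : σ →₀ ℕ) :
    IsUnit (constantCoeff (Upow U d)) := by
  rw [constantCoeff_Upow]
  unfold Finsupp.prod
  rw [IsUnit.prod_iff]
  intro s _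
  exact (hU s).pow _

/-- coefficient formula for the substitution: triangular shape -/
lemma coeff_subst_fam [Finite σ] [DecidableEq σ] (U : σ → MvPowerSeries σ R) (f : MvPowerSeries σ R)
    (e : σ →₀ ℕ) :
    coeff e (subst (fam U) f) =
      ∑ p ∈ antidiagonal e, coeff p.1 f * coeff p.2 (Upow U p.1) := by
  rw [coeff_subst (hasSubst_fam U)]
  simp only [prod_fam, coeff_monomial_mul, one_mul, smul_eq_mul]
  rw [finsum_eq_sum_of_support_subset (s := (antidiagonal e).image Prod.fst)]
  · rw [Finset.sum_image]
    · apply Finset.sum_congr rfl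
      intro p hp
      rw [mem_antidiagonal] at hp
      have h1 : p.1 ≤ e := by rw [← hp]; exact le_self_add
      have h2 : e - p.1 = p.2 := by rw [← hp]; exact add_tsub_cancel_left _ _
      rw [if_pos h1, h2]
    · intro p hp q hq hpq
      rw [Finset.mem_coe, mem_antidiagonal] at hp hq
      ext1
      · exact hpq
      · have : p.1 + p.2 = q.1 + q.2 := by rw [hp, hq]
        rw [hpq] at this
        exact add_left_cancel this
  · intro d hd
    rw [Function.mem_support] at hd
    rw [Finset.mem_coe, Finset.mem_image]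
    by_cases hde : d ≤ e
    · exact ⟨(d, e - d), by rw [mem_antidiagonal]; exact add_tsub_cancel_of_le hde, rfl⟩
    · rw [if_neg hde, mul_zero] at hd
      exact absurd rfl hd

lemma fst_lt_of_mem_erase [DecidableEq σ] {e : σ →₀ ℕ} {p : (σ →₀ ℕ) × (σ →₀ ℕ)}
    (hp : p ∈ (antidiagonal e).erase (e, 0)) : p.1 < e := by
  rw [Finset.mem_erase, mem_antidiagonal] at hp
  obtain ⟨hne, hsum⟩ := hp
  have hle : p.1 ≤ e := by rw [← hsum]; exact le_self_add
  refine lt_of_le_of_ne hle ?_
  intro heq
  apply hne
  ext1
  · exact heq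
  · have : p.1 + p.2 = p.1 + 0 := by rw [hsum, add_zero, heq]
    exact add_left_cancel this

lemma subst_fam_injective [Finite σ] (U : σ → MvPowerSeries σ R)
    (hU : ∀ s, IsUnit (constantCoeff (U s))) :
    Function.Injective (subst (fam U) : MvPowerSeries σ R → MvPowerSeries σ R) := by
  classical
  intro f g hfg
  have h0 : subst (fam U) (f - g) = 0 := by
    rw [subst_sub (hasSubst_fam U), hfg, sub_self]
  suffices hk : f - g = 0 from sub_eq_zero.mp hk
  generalize f - g = k at h0
  ext e
  rw [map_zero]
  induction e using WellFoundedLT.induction with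
  | _ e ih =>
    have h1 := congrArg (coeff e) h0
    rw [coeff_subst_fam, map_zero] at h1
    have hmem : (e, 0) ∈ antidiagonal e := by rw [mem_antidiagonal]; exact add_zero e
    rw [← Finset.add_sum_erase _ _ hmem] at h1
    have hrest : ∑ p ∈ (antidiagonal e).erase (e, 0), coeff p.1 k * coeff p.2 (Upow U p.1) = 0 := by
      apply Finset.sum_eq_zero
      intro p hp
      rw [ih p.1 (fst_lt_of_mem_erase hp), zero_mul]
    rw [hrest, add_zero] at h1
    have hu := isUnit_constantCoeff_Upow U hU e
    rw [coeff_zero_eq_constantCoeff_apply] at h1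
    exact (hu.mul_left_eq_zero).mp h1

/-- the preimage of `g`, defined by recursion on the exponent -/
noncomputable def pre (U : σ → MvPowerSeries σ R) (cinv : (σ →₀ ℕ) → R) (g : MvPowerSeries σ R) :
    MvPowerSeries σ R
  | n =>
    letI := Classical.decEq σ
    cinv n * (coeff n g - ∑ x ∈ antidiagonal n,
      if _ : x.1 < n then pre U cinv g x.1 * coeff x.2 (Upow U x.1) else 0)
termination_by n => n

lemma coeff_pre [DecidableEq σ] (U : σ → MvPowerSeries σ R) (cinv : (σ →₀ ℕ) → R)
    (g : MvPowerSeries σ R) (n : σ →₀ ℕ) :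
    coeff n (pre U cinv g) = cinv n * (coeff n g - ∑ x ∈ antidiagonal n,
      if x.1 < n then coeff x.1 (pre U cinv g) * coeff x.2 (Upow U x.1) else 0) :=
  show pre U cinv g n = _ by
    cases Subsingleton.elim ‹DecidableEq σ› (Classical.decEq σ)
    rw [pre]
    rfl

lemma subst_fam_surjective [Finite σ] (U : σ → MvPowerSeries σ R)
    (hU : ∀ s, IsUnit (constantCoeff (U s))) :
    Function.Surjective (subst (fam U) : MvPowerSeries σ R → MvPowerSeries σ R) := by
  classical
  intro g
  have hu := isUnit_constantCoeff_Upow U hU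
  let cinv : (σ →₀ ℕ) → R := fun n => ((hu n).unit⁻¹ : Rˣ)
  have hcinv : ∀ n, constantCoeff (Upow U n) * cinv n = 1 := fun n => by
    change ((hu n).unit : R) * (((hu n).unit⁻¹ : Rˣ) : R) = 1
    rw [← Units.val_mul, mul_inv_cancel, Units.val_one]
  refine ⟨pre U cinv g, ?_⟩
  ext e
  rw [coeff_subst_fam]
  have hmem : (e, 0) ∈ antidiagonal e := by rw [mem_antidiagonal]; exact add_zero e
  rw [← Finset.add_sum_erase _ _ hmem]
  have hrest : ∑ p ∈ (antidiagonal e).erase (e, 0),
      coeff p.1 (pre U cinv g) * coeff p.2 (Upow U p.1) =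
      ∑ x ∈ antidiagonal e,
        if x.1 < e then coeff x.1 (pre U cinv g) * coeff x.2 (Upow U x.1) else 0 := by
    rw [← Finset.add_sum_erase _ _ hmem, if_neg (lt_irrefl e), zero_add]
    apply Finset.sum_congr rfl
    intro p hp
    rw [if_pos (fst_lt_of_mem_erase hp)]
  rw [hrest]
  conv_lhs => rw [coeff_pre]
  rw [coeff_zero_eq_constantCoeff_apply]
  set T := ∑ x ∈ antidiagonal e,
        if x.1 < e then coeff x.1 (pre U cinv g) * coeff x.2 (Upow U x.1) else 0 with hT
  have := hcinv e
  calc cinv e * (coeff e g - T) * constantCoeff (Upow U e) + T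
      = (constantCoeff (Upow U e) * cinv e) * (coeff e g - T) + T := by ring
    _ = coeff e g := by rw [this]; ring

theorem subst_fam_bijective [Finite σ] (U : σ → MvPowerSeries σ R)
    (hU : ∀ s, IsUnit (constantCoeff (U s))) :
    Function.Bijective (subst (fam U) : MvPowerSeries σ R → MvPowerSeries σ R) :=
  ⟨subst_fam_injective U hU, subst_fam_surjective U hU⟩

/-- the substitution `X s ↦ X s * U s` as an algebra automorphism -/
noncomputable def equiv [Finite σ] (U : σ → MvPowerSeries σ R)
    (hU : ∀ s, IsUnit (constantCoeff (U s))) : MvPowerSeries σ R ≃ₐ[R] MvPowerSeries σ R :=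
  AlgEquiv.ofBijective (substAlgHom (hasSubst_fam U)) (by
    rw [coe_substAlgHom]
    exact subst_fam_bijective U hU)

lemma equiv_apply [Finite σ] (U : σ → MvPowerSeries σ R)
    (hU : ∀ s, IsUnit (constantCoeff (U s))) (f : MvPowerSeries σ R) :
    equiv U hU f = subst (fam U) f := by
  unfold equiv
  rw [AlgEquiv.ofBijective_apply, substAlgHom_apply]

end Groth.Agent.Lib.Helper6.UnitSubst
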