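import Mathlib
import Groth.Agent.Lib.Helper6.UnitSubst

namespace Groth.Agent.Lib.Helper6.KumNF

open MvPowerSeries
open Groth.Agent.Lib.Helper6

variable {R : Type*} [CommRing R] {τ : Type*}

lemma two_eq_zero (h2 : (2 : R) = 0) : (2 : MvPowerSeries (Fin 3) R) = 0 := by
  have h : (2 : MvPowerSeries (Fin 3) R) = C (2 : R) := (map_ofNat C 2).symm
  rw [h, h2, map_zero]

/-- the shift family `X 2 ↦ X 2 + p` on three variables -/
noncomputable def shiftFam (p : MvPowerSeries (Fin 3) R) : Fin 3 → MvPowerSeries (Fin 3) R :=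
  ![X 0, X 1, X 2 + p]

lemma hasSubst_shiftFam (p : MvPowerSeries (Fin 3) R) (hp : constantCoeff p = 0) :
    HasSubst (shiftFam p) := by
  apply hasSubst_of_constantCoeff_zero
  intro s
  fin_cases s <;> simp [shiftFam, hp]

lemma shift_comp (h2 : (2 : R) = 0) (p : MvPowerSeries (Fin 3) R)
    (hp : constantCoeff p = 0) (hfix : subst (shiftFam p) p = p) :
    (fun s => subst (shiftFam p) (shiftFam p s)) = (X : Fin 3 → MvPowerSeries (Fin 3) R) := by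
  have hb := hasSubst_shiftFam p hp
  funext s
  fin_cases s
  · change subst (shiftFam p) (X 0) = X 0
    rw [subst_X hb]; rfl
  · change subst (shiftFam p) (X 1) = X 1
    rw [subst_X hb]; rfl
  · change subst (shiftFam p) (X 2 + p) = X 2
    rw [subst_add hb, subst_X hb, hfix]
    change X 2 + p + p = X 2
    linear_combination p * two_eq_zero h2

/-- in characteristic two, a shift by a series fixed by the shift is an involution -/
noncomputable def shiftEquiv (h2 : (2 : R) = 0) (p : MvPowerSeries (Fin 3) R)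
    (hp : constantCoeff p = 0) (hfix : subst (shiftFam p) p = p) :
    MvPowerSeries (Fin 3) R ≃ₐ[R] MvPowerSeries (Fin 3) R :=
  AlgEquiv.ofAlgHom (substAlgHom (hasSubst_shiftFam p hp)) (substAlgHom (hasSubst_shiftFam p hp))
    (by
      have hb := hasSubst_shiftFam p hp
      apply AlgHom.ext
      intro f
      rw [AlgHom.comp_apply, substAlgHom_apply, substAlgHom_apply, subst_comp_subst_apply hb hb,
        shift_comp h2 p hp hfix, subst_self]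
      rfl)
    (by
      have hb := hasSubst_shiftFam p hp
      apply AlgHom.ext
      intro f
      rw [AlgHom.comp_apply, substAlgHom_apply, substAlgHom_apply, subst_comp_subst_apply hb hb,
        shift_comp h2 p hp hfix, subst_self]
      rfl)

lemma shiftEquiv_apply (h2 : (2 : R) = 0) (p : MvPowerSeries (Fin 3) R)
    (hp : constantCoeff p = 0) (hfix : subst (shiftFam p) p = p) (f : MvPowerSeries (Fin 3) R) :
    shiftEquiv h2 p hp hfix f = subst (shiftFam p) f := by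
  unfold shiftEquiv
  rw [AlgEquiv.ofAlgHom_apply, substAlgHom_apply]

theorem main13128 [CharP R 2] (l0 l2 l4 s0 s2 s4 τ α β : R) (hτ : IsUnit τ)
    (hα : l4 ^ 2 * α ^ 4 + l2 ^ 2 * α ^ 2 + τ ^ 2 * α + l0 ^ 2 = 0)
    (hβ : s4 ^ 2 * β ^ 4 + s2 ^ 2 * β ^ 2 + τ ^ 2 * β + s0 ^ 2 = 0) :
    ∃ φ : MvPowerSeries (Fin 3) R ≃ₐ[R] MvPowerSeries (Fin 3) R,
      φ ((X 2 ^ 2 + C (τ ^ 2) * X 0 * X 1 + (C (s4 ^ 2) * X 1 ^ 4 + C (s2 ^ 2) * X 1 ^ 2) * X 0 +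
          (C (l4 ^ 2) * X 0 ^ 4 + C (l2 ^ 2) * X 0 ^ 2) * X 1 + C (l4 ^ 2 * β) * X 0 ^ 4 +
          C (l2 ^ 2 * β) * X 0 ^ 2 + C (s4 ^ 2 * α) * X 1 ^ 4 + C (s2 ^ 2 * α) * X 1 ^ 2 :
          MvPowerSeries (Fin 3) R)) =
        (X 2 ^ 2 + X 0 * X 1 : MvPowerSeries (Fin 3) R) := by
  have h2 : (2 : R) = 0 := by
    have := CharP.cast_eq_zero R 2
    exact_mod_cast this
  obtain ⟨τi, hτi⟩ := hτ.exists_right_inv
  obtain ⟨α', rfl⟩ : ∃ α', α = α' ^ 2 := ⟨(l4 * α ^ 2 + l2 * α + l0) * τi, by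
    linear_combination (α * (τ * τi + 1)) * hτi +
      (α - (l4 * l2 * α ^ 3 + l4 * l0 * α ^ 2 + l2 * l0 * α) * τi ^ 2) * h2 - τi ^ 2 * hα⟩
  obtain ⟨β', rfl⟩ : ∃ β', β = β' ^ 2 := ⟨(s4 * β ^ 2 + s2 * β + s0) * τi, by
    linear_combination (β * (τ * τi + 1)) * hτi +
      (β - (s4 * s2 * β ^ 3 + s4 * s0 * β ^ 2 + s2 * s0 * β) * τi ^ 2) * h2 - τi ^ 2 * hβ⟩
  clear hα hβ
  have h2' := two_eq_zero h2
  have hττ : (C τ : MvPowerSeries (Fin 3) R) * C τi = 1 := by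
    rw [← map_mul, hτi, map_one]
  set p : MvPowerSeries (Fin 3) R := C β' * (X 0 * (C l4 * X 0 + C l2)) +
    C α' * (X 1 * (C s4 * X 1 + C s2)) +
    C τi * (X 0 * (C l4 * X 0 + C l2)) * (X 1 * (C s4 * X 1 + C s2)) with hp
  let U : Fin 3 → MvPowerSeries (Fin 3) R :=
    ![C τ + C τi * X 0 * (C l4 * X 0 + C l2) ^ 2, C τ + C τi * X 1 * (C s4 * X 1 + C s2) ^ 2, 1]
  have hU : ∀ s, IsUnit (constantCoeff (U s)) := by
    intro s
    fin_cases s <;> simp [U, hτ]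
  have hp0 : constantCoeff p = 0 := by simp [hp]
  have hb := hasSubst_shiftFam p hp0
  have hb0 : shiftFam p 0 = X 0 := rfl
  have hb1 : shiftFam p 1 = X 1 := rfl
  have hb2 : shiftFam p 2 = X 2 + p := rfl
  have hfix : subst (shiftFam p) p = p := by
    generalize shiftFam p = bb at hb hb0 hb1
    rw [hp]
    simp only [subst_add hb, subst_mul hb, subst_C, subst_X hb, hb0, hb1]
  refine ⟨((UnitSubst.equiv U hU).trans (shiftEquiv h2 p hp0 hfix)).symm, ?_⟩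
  rw [AlgEquiv.symm_apply_eq, AlgEquiv.trans_apply, UnitSubst.equiv_apply, shiftEquiv_apply]
  have hf := UnitSubst.hasSubst_fam U
  have e1 : subst (UnitSubst.fam U) (X 2 ^ 2 + X 0 * X 1 : MvPowerSeries (Fin 3) R) =
      (X 2 * 1) ^ 2 + (X 0 * (C τ + C τi * X 0 * (C l4 * X 0 + C l2) ^ 2)) *
        (X 1 * (C τ + C τi * X 1 * (C s4 * X 1 + C s2) ^ 2)) := by
    rw [subst_add hf, subst_mul hf, subst_pow hf, subst_X hf, subst_X hf, subst_X hf]
    rfl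
  rw [e1]
  have e2 : subst (shiftFam p) ((X 2 * 1) ^ 2 + (X 0 * (C τ + C τi * X 0 * (C l4 * X 0 + C l2) ^ 2)) *
        (X 1 * (C τ + C τi * X 1 * (C s4 * X 1 + C s2) ^ 2)) : MvPowerSeries (Fin 3) R) =
      ((X 2 + p) * 1) ^ 2 + (X 0 * (C τ + C τi * X 0 * (C l4 * X 0 + C l2) ^ 2)) *
        (X 1 * (C τ + C τi * X 1 * (C s4 * X 1 + C s2) ^ 2)) := by
    generalize shiftFam p = bb at hb hb0 hb1 hb2
    have h1 : subst bb (1 : MvPowerSeries (Fin 3) R) = 1 := by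
      rw [← coe_substAlgHom hb, map_one]
    simp only [subst_add hb, subst_mul hb, subst_pow hb, subst_C, subst_X hb, hb0, hb1, hb2, h1]
  rw [e2]
  simp only [map_mul, map_pow]
  rw [hp]
  linear_combination
    (-(X 2 * (C β' * (X 0 * (C l4 * X 0 + C l2)) + C α' * (X 1 * (C s4 * X 1 + C s2)) +
        C τi * (X 0 * (C l4 * X 0 + C l2)) * (X 1 * (C s4 * X 1 + C s2))) +
      C β' * C α' * (X 0 * (C l4 * X 0 + C l2)) * (X 1 * (C s4 * X 1 + C s2)) +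
      C β' * C τi * (X 0 * (C l4 * X 0 + C l2)) ^ 2 * (X 1 * (C s4 * X 1 + C s2)) +
      C α' * C τi * (X 0 * (C l4 * X 0 + C l2)) * (X 1 * (C s4 * X 1 + C s2)) ^ 2 +
      C τi ^ 2 * (X 0 * (C l4 * X 0 + C l2)) ^ 2 * (X 1 * (C s4 * X 1 + C s2)) ^ 2 +
      C s4 * C s2 * X 0 * X 1 ^ 3 + C l4 * C l2 * X 0 ^ 3 * X 1 +
      C β' ^ 2 * C l4 * C l2 * X 0 ^ 3 + C α' ^ 2 * C s4 * C s2 * X 1 ^ 3)) * h2' -
    (X 0 * (X 1 * (C s4 * X 1 + C s2)) ^ 2 + X 1 * (X 0 * (C l4 * X 0 + C l2)) ^ 2) * hττ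

lemma exists_cube_root (h3 : IsUnit (3 : R)) (w : MvPowerSeries τ R) (hw : constantCoeff w = 0) :
    ∃ T : MvPowerSeries τ R, T ^ 3 = 1 + w ∧ constantCoeff T = 1 := by
  let P : PowerSeries R := PowerSeries.C 3 * PowerSeries.X + PowerSeries.C 3 * PowerSeries.X ^ 2 +
    PowerSeries.X ^ 3
  have hPeq : P = (1 + PowerSeries.X) ^ 3 - 1 := by
    have : (PowerSeries.C (3 : R)) = 3 := map_ofNat _ 3
    simp only [P, this]
    ring
  have hP0 : PowerSeries.constantCoeff P = 0 := by simp [P]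
  have hP1 : IsUnit (PowerSeries.coeff 1 P) := by
    have : PowerSeries.coeff 1 P = 3 := by
      simp [P, PowerSeries.coeff_X_pow, PowerSeries.coeff_C_mul]
    rw [this]; exact h3
  let θ := P.substInvOfIsUnit hP1
  have hθ : P.subst θ = PowerSeries.X := PowerSeries.subst_substInvOfIsUnit_right P hP0 hP1
  have hθs : PowerSeries.HasSubst θ := PowerSeries.HasSubst.substInvOfIsUnit P hP1
  have one_θ : PowerSeries.subst θ (1 : PowerSeries R) = 1 := by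
    rw [← PowerSeries.coe_substAlgHom hθs, map_one]
  have key : (1 + θ) ^ 3 = 1 + PowerSeries.X := by
    rw [hPeq, PowerSeries.subst_sub hθs, PowerSeries.subst_pow hθs, PowerSeries.subst_add hθs,
      PowerSeries.subst_X hθs, one_θ] at hθ
    linear_combination hθ
  have hws : PowerSeries.HasSubst w := PowerSeries.HasSubst.of_constantCoeff_zero hw
  have one_w : PowerSeries.subst w (1 : PowerSeries R) = 1 := by
    rw [← PowerSeries.coe_substAlgHom hws, map_one]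
  refine ⟨1 + θ.subst w, ?_, ?_⟩
  · have := congrArg (PowerSeries.subst w) key
    rw [PowerSeries.subst_pow hws, PowerSeries.subst_add hws, PowerSeries.subst_add hws, one_w,
      PowerSeries.subst_X hws] at this
    exact this
  · rw [map_add, map_one, PowerSeries.constantCoeff_subst_eq_zero hw θ
      (PowerSeries.constantCoeff_substInvOfIsUnit P hP1), add_zero]


theorem main13127 [CharP R 2]
    (l0 l2 l4 s0 s2 s4 τ lam sig κ₁ κ₂ : R) (hl4 : IsUnit l4) (hs4 : IsUnit s4) (hlam : IsUnit lam)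
    (hsig : IsUnit sig) (h₁ : s4 ^ 2 * κ₁ ^ 3 = sig ^ 2) (h₂ : l4 ^ 2 * κ₂ ^ 3 = lam ^ 2) :
    ∃ φ : MvPowerSeries (Fin 3) R ≃ₐ[R] MvPowerSeries (Fin 3) R,
      φ ((X 2 ^ 2 + C (s0 ^ 2) * X 0 ^ 3 * X 1 ^ 4 + C (s2 ^ 2) * X 0 ^ 3 * X 1 ^ 2 +
          C (s4 ^ 2) * X 0 ^ 3 + C (l0 ^ 2) * X 0 ^ 4 * X 1 ^ 3 + C (l2 ^ 2) * X 0 ^ 2 * X 1 ^ 3 +
          C (l4 ^ 2) * X 1 ^ 3 + C (τ ^ 2) * X 0 ^ 3 * X 1 ^ 3 : MvPowerSeries (Fin 3) R)) =
        (X 2 ^ 2 + C (sig ^ 2) * X 0 ^ 3 + C (lam ^ 2) * X 1 ^ 3 : MvPowerSeries (Fin 3) R) := by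
  have h2 : (2 : R) = 0 := by
    have := CharP.cast_eq_zero R 2
    exact_mod_cast this
  have h3 : IsUnit (3 : R) := by
    have : (3 : R) = 1 := by linear_combination h2
    rw [this]; exact isUnit_one
  obtain ⟨s4i, hs4i⟩ := hs4.exists_right_inv
  obtain ⟨l4i, hl4i⟩ := hl4.exists_right_inv
  obtain ⟨sigi, hsigi⟩ := hsig.exists_right_inv
  obtain ⟨lami, hlami⟩ := hlam.exists_right_inv
  -- inverses of κ₁, κ₂
  set κ₁i : R := κ₁ ^ 2 * s4 ^ 2 * sigi ^ 2 with hκ₁i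
  set κ₂i : R := κ₂ ^ 2 * l4 ^ 2 * lami ^ 2 with hκ₂i
  have hk1 : κ₁ * κ₁i = 1 := by
    rw [hκ₁i]
    linear_combination sigi ^ 2 * h₁ + (sig * sigi + 1) * hsigi
  have hk2 : κ₂ * κ₂i = 1 := by
    rw [hκ₂i]
    linear_combination lami ^ 2 * h₂ + (lam * lami + 1) * hlami
  have r1 : sig ^ 2 * κ₁i ^ 3 = s4 ^ 2 := by
    linear_combination (-(κ₁i ^ 3)) * h₁ + (s4 ^ 2 * ((κ₁ * κ₁i) ^ 2 + κ₁ * κ₁i + 1)) * hk1
  have r2 : lam ^ 2 * κ₂i ^ 3 = l4 ^ 2 := by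
    linear_combination (-(κ₂i ^ 3)) * h₂ + (l4 ^ 2 * ((κ₂ * κ₂i) ^ 2 + κ₂ * κ₂i + 1)) * hk2
  have r1' : s4 ^ 2 * s4i ^ 2 = 1 := by
    linear_combination (s4 * s4i + 1) * hs4i
  have r2' : l4 ^ 2 * l4i ^ 2 = 1 := by
    linear_combination (l4 * l4i + 1) * hl4i
  -- the series
  set V₁ : MvPowerSeries (Fin 3) R := C s2 ^ 2 * X 1 ^ 2 + C s0 ^ 2 * X 1 ^ 4 + C τ ^ 2 * X 1 ^ 3
    with hV₁
  set V₂ : MvPowerSeries (Fin 3) R := C l2 ^ 2 * X 0 ^ 2 + C l0 ^ 2 * X 0 ^ 4 with hV₂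
  have hw1 : constantCoeff (C (s4i ^ 2) * V₁) = 0 := by simp [hV₁]
  have hw2 : constantCoeff (C (l4i ^ 2) * V₂) = 0 := by simp [hV₂]
  obtain ⟨T₁, hT₁, hT₁c⟩ := exists_cube_root h3 _ hw1
  obtain ⟨T₂, hT₂, hT₂c⟩ := exists_cube_root h3 _ hw2
  let U : Fin 3 → MvPowerSeries (Fin 3) R := ![C κ₁i * T₁, C κ₂i * T₂, 1]
  have hU : ∀ s, IsUnit (constantCoeff (U s)) := by
    intro s
    fin_cases s
    · change IsUnit (constantCoeff (C κ₁i * T₁))
      rw [map_mul, hT₁c, mul_one, constantCoeff_C]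
      exact IsUnit.of_mul_eq_one κ₁ (by rw [mul_comm]; exact hk1)
    · change IsUnit (constantCoeff (C κ₂i * T₂))
      rw [map_mul, hT₂c, mul_one, constantCoeff_C]
      exact IsUnit.of_mul_eq_one κ₂ (by rw [mul_comm]; exact hk2)
    · change IsUnit (constantCoeff (1 : MvPowerSeries (Fin 3) R))
      rw [map_one]; exact isUnit_one
  refine ⟨(UnitSubst.equiv U hU).symm, ?_⟩
  rw [AlgEquiv.symm_apply_eq, UnitSubst.equiv_apply]
  have hf := UnitSubst.hasSubst_fam U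
  have e1 : subst (UnitSubst.fam U)
      (X 2 ^ 2 + C (sig ^ 2) * X 0 ^ 3 + C (lam ^ 2) * X 1 ^ 3 : MvPowerSeries (Fin 3) R) =
      (X 2 * 1) ^ 2 + C (sig ^ 2) * (X 0 * (C κ₁i * T₁)) ^ 3 +
        C (lam ^ 2) * (X 1 * (C κ₂i * T₂)) ^ 3 := by
    simp only [subst_add hf, subst_mul hf, subst_pow hf, subst_X hf, subst_C]
    rfl
  rw [e1]
  have R1 := congrArg (C (σ := Fin 3) (R := R)) r1
  have R2 := congrArg (C (σ := Fin 3) (R := R)) r2
  have R1' := congrArg (C (σ := Fin 3) (R := R)) r1'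
  have R2' := congrArg (C (σ := Fin 3) (R := R)) r2'
  simp only [map_mul, map_pow, map_one] at R1 R2 R1' R2' hT₁ hT₂
  simp only [map_pow]
  linear_combination (-(C sig ^ 2 * C κ₁i ^ 3 * X 0 ^ 3)) * hT₁ -
    (X 0 ^ 3 * (1 + C s4i ^ 2 * V₁)) * R1 - (X 0 ^ 3 * V₁) * R1' -
    (C lam ^ 2 * C κ₂i ^ 3 * X 1 ^ 3) * hT₂ -
    (X 1 ^ 3 * (1 + C l4i ^ 2 * V₂)) * R2 - (X 1 ^ 3 * V₂) * R2'

end Groth.Agent.Lib.Helper6.KumNF
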