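import Mathlib

set_option autoImplicit false
set_option linter.style.haveILetI false
set_option linter.unusedSectionVars false

open Polynomial

namespace Groth.Agent.Lib.Helper6.LambdaJ

variable {k : Type*} [Field k]

/-- the `j`-function (as in the statement). -/
noncomputable def jj (k : Type*) [Field k] : RatFunc k :=
  (256 : RatFunc k) * ((RatFunc.X : RatFunc k) ^ 2 - RatFunc.X + 1) ^ 3 /
    ((RatFunc.X : RatFunc k) ^ 2 * ((RatFunc.X : RatFunc k) - 1) ^ 2)

theorem X_sub_one_ne_zero : (RatFunc.X : RatFunc k) - 1 ≠ 0 := by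
  have h : (RatFunc.X : RatFunc k) - 1 = algebraMap k[X] (RatFunc k) (X - C 1) := by simp
  rw [h]
  exact (map_ne_zero_iff _ (RatFunc.algebraMap_injective k)).2 (X_sub_C_ne_zero 1)

theorem one_sub_X_ne_zero : 1 - (RatFunc.X : RatFunc k) ≠ 0 := by
  intro h
  apply X_sub_one_ne_zero (k := k)
  rw [← neg_sub, h, neg_zero]

theorem sigma_j (σ : RatFunc k ≃ₐ[k] RatFunc k) (hσ : σ RatFunc.X = (RatFunc.X : RatFunc k)⁻¹) :
    σ (jj k) = jj k := by
  have h0 : (RatFunc.X : RatFunc k) ≠ 0 := RatFunc.X_ne_zero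
  have h1 := X_sub_one_ne_zero (k := k)
  have h2 := one_sub_X_ne_zero (k := k)
  unfold jj
  simp only [map_div₀, map_mul, map_pow, map_sub, map_add, map_one, map_ofNat, hσ]
  have h3 : (RatFunc.X : RatFunc k)⁻¹ - 1 ≠ 0 := by
    intro h
    apply h2
    have : (RatFunc.X : RatFunc k)⁻¹ = 1 := by rwa [sub_eq_zero] at h
    rw [inv_eq_one] at this
    rw [this, sub_self]
  field_simp
  ring

theorem tau_j (τ : RatFunc k ≃ₐ[k] RatFunc k) (hτ : τ RatFunc.X = 1 - (RatFunc.X : RatFunc k)) :
    τ (jj k) = jj k := by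
  have h0 : (RatFunc.X : RatFunc k) ≠ 0 := RatFunc.X_ne_zero
  have h1 := X_sub_one_ne_zero (k := k)
  have h2 := one_sub_X_ne_zero (k := k)
  unfold jj
  simp only [map_div₀, map_mul, map_pow, map_sub, map_add, map_one, map_ofNat, hτ]
  have h3 : (1 : RatFunc k) - RatFunc.X - 1 ≠ 0 := by
    intro h
    apply h0
    have : (1 : RatFunc k) - RatFunc.X - 1 = - RatFunc.X := by ring
    rw [this, neg_eq_zero] at h
    exact h
  field_simp
  ring

/-- numerator polynomial -/
noncomputable def NN (k : Type*) [Field k] : k[X] := C 256 * (X ^ 2 - X + 1) ^ 3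
/-- denominator polynomial -/
noncomputable def DD (k : Type*) [Field k] : k[X] := X ^ 2 * (X - 1) ^ 2

theorem jj_eq : jj k = algebraMap k[X] (RatFunc k) (NN k) / algebraMap k[X] (RatFunc k) (DD k) := by
  unfold jj NN DD
  simp only [map_mul, map_pow, map_sub, map_add, map_one, RatFunc.algebraMap_X]
  congr 2
  rw [← map_ofNat (algebraMap k[X] (RatFunc k)) 256, ← map_ofNat (C : k →+* k[X]) 256]

theorem DD_ne_zero : DD k ≠ 0 := by
  unfold DD
  have : (X - 1 : k[X]) ≠ 0 := X_sub_C_ne_zero 1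
  exact mul_ne_zero (pow_ne_zero _ X_ne_zero) (pow_ne_zero _ this)

theorem natDegree_NN_le : (NN k).natDegree ≤ 6 := by
  unfold NN
  refine (natDegree_C_mul_le _ _).trans ?_
  refine (natDegree_pow_le).trans ?_
  have : (X ^ 2 - X + 1 : k[X]).natDegree ≤ 2 := by
    compute_degree
  omega

theorem natDegree_DD_le : (DD k).natDegree ≤ 4 := by
  unfold DD
  compute_degree

theorem jj_ne_C (h2 : (2 : k) ≠ 0) : ¬ ∃ c : k, jj k = RatFunc.C c := by
  rintro ⟨c, hc⟩
  rw [jj_eq, div_eq_iff ((map_ne_zero_iff _ (RatFunc.algebraMap_injective k)).2 DD_ne_zero),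
    ← RatFunc.algebraMap_C, ← map_mul] at hc
  have := RatFunc.algebraMap_injective k hc
  have h0 := congrArg (Polynomial.eval 0) this
  unfold NN DD at h0
  simp at h0
  have h256 : (256 : k) = 2 ^ 8 := by norm_num
  rw [h256] at h0
  exact h2 (pow_eq_zero_iff (by norm_num) |>.1 h0)

theorem NN_ne_zero (h2 : (2 : k) ≠ 0) : NN k ≠ 0 := by
  intro h
  have h0 := congrArg (Polynomial.eval 0) h
  unfold NN at h0
  simp at h0
  have h256 : (256 : k) = 2 ^ 8 := by norm_num
  rw [h256] at h0
  exact h2 (pow_eq_zero_iff (by norm_num) |>.1 h0)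

theorem finrank_le (h2 : (2 : k) ≠ 0) :
    Module.finrank (IntermediateField.adjoin k {jj k}) (RatFunc k) ≤ 6 := by
  rw [RatFunc.finrank_eq_max_natDegree]
  refine max_le ?_ ?_
  · have := RatFunc.num_div_dvd (NN k) (DD_ne_zero (k := k))
    rw [← jj_eq] at this
    exact (natDegree_le_of_dvd this (NN_ne_zero h2)).trans natDegree_NN_le
  · have := RatFunc.denom_div_dvd (NN k) (DD k)
    rw [← jj_eq] at this
    exact (natDegree_le_of_dvd this DD_ne_zero).trans (natDegree_DD_le.trans (by norm_num))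

theorem finrank_ne_zero (h2 : (2 : k) ≠ 0) :
    Module.finrank (IntermediateField.adjoin k {jj k}) (RatFunc k) ≠ 0 := by
  rw [RatFunc.finrank_eq_max_natDegree]
  intro h
  rw [Nat.max_eq_zero_iff, ← RatFunc.eq_C_iff] at h
  exact jj_ne_C h2 h

theorem finiteDimensional (h2 : (2 : k) ≠ 0) :
    FiniteDimensional (IntermediateField.adjoin k {jj k}) (RatFunc k) :=
  Module.finite_of_finrank_pos (Nat.pos_of_ne_zero (finrank_ne_zero h2))

section Aut

/-- equalizer of two automorphisms as an intermediate field -/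
def eqIF {K L : Type*} [Field K] [Field L] [Algebra K L] (f g : L ≃ₐ[K] L) :
    IntermediateField K L :=
  { carrier := {x | f x = g x}
    mul_mem' := fun {a b} ha hb => by
      simp only [Set.mem_ofPred_eq] at *; rw [map_mul, map_mul, ha, hb]
    one_mem' := by simp
    add_mem' := fun {a b} ha hb => by
      simp only [Set.mem_ofPred_eq] at *; rw [map_add, map_add, ha, hb]
    zero_mem' := by simp
    algebraMap_mem' := fun r => by simp
    inv_mem' := fun x hx => by
      simp only [Set.mem_ofPred_eq] at *; rw [map_inv₀, map_inv₀, hx] }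

theorem mem_eqIF {K L : Type*} [Field K] [Field L] [Algebra K L] (f g : L ≃ₐ[K] L) (x : L) :
    x ∈ eqIF f g ↔ f x = g x := Iff.rfl

theorem fixes_K (σ : RatFunc k ≃ₐ[k] RatFunc k) (hσj : σ (jj k) = jj k) :
    ∀ x ∈ IntermediateField.adjoin k {jj k}, σ x = x := by
  have hle : IntermediateField.adjoin k {jj k} ≤ eqIF σ AlgEquiv.refl :=
    IntermediateField.adjoin_simple_le_iff.2 (by rw [mem_eqIF]; exact hσj)
  intro x hx
  exact hle hx

/-- lift a `k`-automorphism fixing `j` to a `k(j)`-automorphism -/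
noncomputable def liftK (σ : RatFunc k ≃ₐ[k] RatFunc k) (hσj : σ (jj k) = jj k) :
    RatFunc k ≃ₐ[IntermediateField.adjoin k {jj k}] RatFunc k :=
  AlgEquiv.ofRingEquiv (f := σ.toRingEquiv) (fun x => fixes_K σ hσj x.1 x.2)

@[simp] theorem liftK_apply (σ : RatFunc k ≃ₐ[k] RatFunc k) (hσj : σ (jj k) = jj k)
    (x : RatFunc k) : liftK σ hσj x = σ x := rfl

theorem algEquiv_ext_X (K : IntermediateField k (RatFunc k))
    (f g : RatFunc k ≃ₐ[K] RatFunc k) (h : f RatFunc.X = g RatFunc.X) : f = g := by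
  have htop : eqIF f g = ⊤ := by
    rw [eq_top_iff, ← RatFunc.IntermediateField.adjoin_X K]
    exact IntermediateField.adjoin_simple_le_iff.2 h
  refine AlgEquiv.ext fun x => ?_
  have : x ∈ eqIF f g := htop ▸ IntermediateField.mem_top
  exact this

theorem X_inv_ne_X : (RatFunc.X : RatFunc k)⁻¹ ≠ RatFunc.X := by
  intro h
  have h0 : (RatFunc.X : RatFunc k) ≠ 0 := RatFunc.X_ne_zero
  have h1 : (RatFunc.X : RatFunc k) * RatFunc.X = 1 := by
    nth_rewrite 1 [← h]; exact inv_mul_cancel₀ h0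
  have h2 : algebraMap k[X] (RatFunc k) (X * X) = algebraMap k[X] (RatFunc k) 1 := by
    simpa using h1
  have h3 := congrArg (Polynomial.eval 0) (RatFunc.algebraMap_injective k h2)
  simp at h3

theorem one_sub_X_inv_ne_X : 1 - (RatFunc.X : RatFunc k)⁻¹ ≠ RatFunc.X := by
  intro h
  have h0 : (RatFunc.X : RatFunc k) ≠ 0 := RatFunc.X_ne_zero
  have h1 : (RatFunc.X : RatFunc k) * RatFunc.X - RatFunc.X + 1 = 0 := by
    nth_rewrite 1 [← h]
    field_simp
    ring
  have h2 : algebraMap k[X] (RatFunc k) (X * X - X + 1) = algebraMap k[X] (RatFunc k) 0 := by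
    simpa using h1
  have h3 := congrArg (Polynomial.eval 0) (RatFunc.algebraMap_injective k h2)
  simp at h3

theorem rho_cube : 1 - (1 - (1 - (RatFunc.X : RatFunc k)⁻¹)⁻¹)⁻¹ = RatFunc.X := by
  have h0 : (RatFunc.X : RatFunc k) ≠ 0 := RatFunc.X_ne_zero
  have h1 := X_sub_one_ne_zero (k := k)
  have e1 : 1 - (RatFunc.X : RatFunc k)⁻¹ = (RatFunc.X - 1) / RatFunc.X := by
    field_simp
  have e2 : 1 - (RatFunc.X : RatFunc k) / (RatFunc.X - 1) = (-1) / (RatFunc.X - 1) := by
    field_simp
    ring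
  rw [e1, inv_div, e2, inv_div]
  field_simp
  ring

theorem mem_K_of_fixed (h2 : (2 : k) ≠ 0)
    (σ τ : RatFunc k ≃ₐ[k] RatFunc k) (hσ : σ RatFunc.X = (RatFunc.X : RatFunc k)⁻¹)
    (hτ : τ RatFunc.X = 1 - (RatFunc.X : RatFunc k)) (b : RatFunc k)
    (hσb : σ b = b) (hτb : τ b = b) : b ∈ IntermediateField.adjoin k {jj k} := by
  haveI := finiteDimensional (k := k) h2
  let s := liftK σ (sigma_j σ hσ)
  let t := liftK τ (tau_j τ hτ)
  have hsX : s RatFunc.X = (RatFunc.X : RatFunc k)⁻¹ := hσ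
  have htX : t RatFunc.X = 1 - (RatFunc.X : RatFunc k) := hτ
  have hss : s ^ 2 = 1 := by
    apply algEquiv_ext_X
    rw [pow_two, AlgEquiv.mul_apply, hsX, map_inv₀, hsX, inv_inv, AlgEquiv.one_apply]
  have hs1 : s ≠ 1 := by
    intro h
    have := congrArg (fun f => f (RatFunc.X : RatFunc k)) h
    simp only [AlgEquiv.one_apply] at this
    rw [hsX] at this
    exact X_inv_ne_X this
  have hrX : (s * t) RatFunc.X = 1 - (RatFunc.X : RatFunc k)⁻¹ := by
    rw [AlgEquiv.mul_apply, htX, map_sub, map_one, hsX]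
  have hrr : (s * t) ^ 3 = 1 := by
    apply algEquiv_ext_X
    rw [pow_succ, pow_two, AlgEquiv.mul_apply, AlgEquiv.mul_apply, hrX, map_sub, map_one,
      map_inv₀, hrX, map_sub, map_one, map_inv₀, map_sub, map_one, map_inv₀, hrX,
      AlgEquiv.one_apply]
    exact rho_cube
  have hr1 : s * t ≠ 1 := by
    intro h
    have := congrArg (fun f => f (RatFunc.X : RatFunc k)) h
    simp only [AlgEquiv.one_apply] at this
    rw [hrX] at this
    exact one_sub_X_inv_ne_X this
  have hos : orderOf s = 2 := orderOf_eq_prime hss hs1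
  have hor : orderOf (s * t) = 3 := orderOf_eq_prime hrr hr1
  let H : Subgroup (RatFunc k ≃ₐ[IntermediateField.adjoin k {jj k}] RatFunc k) :=
    Subgroup.closure {s, t}
  have hsH : s ∈ H := Subgroup.subset_closure (by simp)
  have htH : t ∈ H := Subgroup.subset_closure (by simp)
  have h2H : 2 ∣ Nat.card H := hos ▸ Subgroup.orderOf_dvd_natCard H hsH
  have h3H : 3 ∣ Nat.card H := hor ▸ Subgroup.orderOf_dvd_natCard H (H.mul_mem hsH htH)
  have h6H : 6 ≤ Nat.card H := by
    have h6 : 2 * 3 ∣ Nat.card H := Nat.Coprime.mul_dvd_of_dvd_of_dvd (by norm_num) h2H h3H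
    exact Nat.le_of_dvd Nat.card_pos h6
  have hfix : Module.finrank (IntermediateField.fixedField H) (RatFunc k) = Nat.card H :=
    IntermediateField.finrank_fixedField_eq_card H
  have hmul := Module.finrank_mul_finrank (IntermediateField.adjoin k {jj k})
    (IntermediateField.fixedField H) (RatFunc k)
  have hle := finrank_le (k := k) h2
  have hpos : 0 < Module.finrank (IntermediateField.adjoin k {jj k})
      (IntermediateField.fixedField H) := Module.finrank_pos
  have hone : Module.finrank (IntermediateField.adjoin k {jj k})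
      (IntermediateField.fixedField H) = 1 := by
    rw [hfix] at hmul
    nlinarith
  have hbot : IntermediateField.fixedField H = ⊥ := IntermediateField.finrank_eq_one_iff.1 hone
  have hbH : b ∈ IntermediateField.fixedField H := by
    rw [IntermediateField.mem_fixedField_iff]
    have hcl : H ≤ MulAction.stabilizer
        (RatFunc k ≃ₐ[IntermediateField.adjoin k {jj k}] RatFunc k) b := by
      refine (Subgroup.closure_le _).2 ?_
      rintro f (rfl | rfl)
      · exact hσb
      · exact hτb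
    intro f hf
    exact hcl hf
  rw [hbot, IntermediateField.mem_bot] at hbH
  obtain ⟨y, rfl⟩ := hbH
  exact y.2

end Aut

section Integral

open scoped IntermediateField.algebraAdjoinAdjoin

theorem isIntegral_X (h2 : (2 : k) ≠ 0) :
    IsIntegral (Algebra.adjoin k {jj k}) (RatFunc.X : RatFunc k) := by
  have h256 : (256 : k) ≠ 0 := by
    have h : (256 : k) = 2 ^ 8 := by norm_num
    rw [h]; exact pow_ne_zero _ h2
  let c : Algebra.adjoin k {jj k} :=
    algebraMap k _ (256 : k)⁻¹ * ⟨jj k, Algebra.self_mem_adjoin_singleton k (jj k)⟩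
  have hc : (c : RatFunc k) = (algebraMap k (RatFunc k) (256 : k)⁻¹) * jj k := rfl
  have hm : Monic (X ^ 2 - (X - C 1) : (Algebra.adjoin k {jj k})[X]) :=
    monic_X_pow_sub (by rw [degree_X_sub_C]; norm_num)
  have hm3 := hm.pow 3
  have hd : (X ^ 2 - (X - C 1) : (Algebra.adjoin k {jj k})[X]).natDegree = 2 := by
    compute_degree!
  have hd3 : ((X ^ 2 - (X - C 1) : (Algebra.adjoin k {jj k})[X]) ^ 3).natDegree = 6 := by
    rw [hm.natDegree_pow, hd]
  have hq : (C c * (X ^ 2 * (X - C 1) ^ 2) : (Algebra.adjoin k {jj k})[X]).natDegree ≤ 4 := by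
    compute_degree
  refine ⟨(X ^ 2 - (X - C 1)) ^ 3 - C c * (X ^ 2 * (X - C 1) ^ 2), ?_, ?_⟩
  · refine hm3.sub_of_left ?_
    rw [degree_eq_natDegree hm3.ne_zero, hd3]
    refine lt_of_le_of_lt degree_le_natDegree ?_
    exact_mod_cast lt_of_le_of_lt hq (by norm_num)
  · rw [← aeval_def]
    simp only [map_sub, map_pow, map_mul, aeval_X, aeval_C, map_one]
    have hcc : algebraMap (Algebra.adjoin k {jj k}) (RatFunc k) c =
        (algebraMap k (RatFunc k) (256 : k)⁻¹) * jj k := rfl
    rw [hcc]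
    have h0 : (RatFunc.X : RatFunc k) ≠ 0 := RatFunc.X_ne_zero
    have h1 := X_sub_one_ne_zero (k := k)
    have h256' : (256 : RatFunc k) ≠ 0 := by
      have : (256 : RatFunc k) = algebraMap k (RatFunc k) 256 := (map_ofNat _ 256).symm
      rw [this]
      exact (map_ne_zero_iff _ (algebraMap k (RatFunc k)).injective).2 h256
    have hinv : algebraMap k (RatFunc k) (256 : k)⁻¹ = (256 : RatFunc k)⁻¹ := by
      rw [map_inv₀, map_ofNat]
    rw [hinv]
    unfold jj
    field_simp
    ring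

theorem fixes_A0 (σ : RatFunc k ≃ₐ[k] RatFunc k) (hσj : σ (jj k) = jj k)
    {x : RatFunc k} (hx : IsIntegral (Algebra.adjoin k {jj k}) x) :
    IsIntegral (Algebra.adjoin k {jj k}) (σ x) := by
  refine IsIntegral.map_of_comp_eq (RingHom.id _) (σ : RatFunc k →+* RatFunc k) ?_ hx
  ext y
  simp only [RingHom.coe_comp, Function.comp_apply, RingHom.id_apply, RingHom.coe_coe]
  exact (fixes_K σ hσj _ (IntermediateField.algebra_adjoin_le_adjoin k _ y.2)).symm

theorem integral_of_mem (h2 : (2 : k) ≠ 0)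
    (σ τ : RatFunc k ≃ₐ[k] RatFunc k) (hσ : σ RatFunc.X = (RatFunc.X : RatFunc k)⁻¹)
    (hτ : τ RatFunc.X = 1 - (RatFunc.X : RatFunc k)) (b : RatFunc k)
    (hb : b ∈ Algebra.adjoin k ({RatFunc.X, (RatFunc.X : RatFunc k)⁻¹,
      ((RatFunc.X : RatFunc k) - 1)⁻¹} : Set (RatFunc k))) :
    IsIntegral (Algebra.adjoin k {jj k}) b := by
  have hX := isIntegral_X (k := k) h2
  have hXinv : IsIntegral (Algebra.adjoin k {jj k}) ((RatFunc.X : RatFunc k)⁻¹) := by
    rw [← hσ]; exact fixes_A0 σ (sigma_j σ hσ) hX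
  have hX1inv : IsIntegral (Algebra.adjoin k {jj k}) (((RatFunc.X : RatFunc k) - 1)⁻¹) := by
    have e : ((RatFunc.X : RatFunc k) - 1)⁻¹ = - τ (σ RatFunc.X) := by
      rw [hσ, map_inv₀, hτ, ← neg_sub, inv_neg]
    rw [e]
    exact (fixes_A0 τ (tau_j τ hτ) (fixes_A0 σ (sigma_j σ hσ) hX)).neg
  have hle : Algebra.adjoin k ({RatFunc.X, (RatFunc.X : RatFunc k)⁻¹,
      ((RatFunc.X : RatFunc k) - 1)⁻¹} : Set (RatFunc k)) ≤
      (integralClosure (Algebra.adjoin k {jj k}) (RatFunc k)).restrictScalars k := by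
    refine Algebra.adjoin_le ?_
    rintro x (rfl | rfl | rfl)
    · exact hX
    · exact hXinv
    · exact hX1inv
  exact hle hb

theorem mem_A0 (h2 : (2 : k) ≠ 0) (b : RatFunc k)
    (hbK : b ∈ IntermediateField.adjoin k {jj k})
    (hint : IsIntegral (Algebra.adjoin k {jj k}) b) : b ∈ Algebra.adjoin k {jj k} := by
  haveI : UniqueFactorizationMonoid (Algebra.adjoin k {jj k}) :=
    (RatFunc.transcendental_of_ne_C (jj k) (jj_ne_C h2)).uniqueFactorizationMonoid_adjoin
  have hint' : IsIntegral (Algebra.adjoin k {jj k})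
      (⟨b, hbK⟩ : IntermediateField.adjoin k {jj k}) := by
    rw [← isIntegral_algebraMap_iff (B := RatFunc k)
      (algebraMap (IntermediateField.adjoin k {jj k}) (RatFunc k)).injective]
    exact hint
  obtain ⟨y, hy⟩ := (IsIntegrallyClosed.isIntegral_iff
    (R := Algebra.adjoin k {jj k}) (K := IntermediateField.adjoin k {jj k})).1 hint'
  have : (y : RatFunc k) = b := congrArg Subtype.val hy
  rw [← this]
  exact y.2

end Integral

end Groth.Agent.Lib.Helper6.LambdaJ
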