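import Mathlib

/-!
Lang's theorem for semilinear maps: a bijective additive `q`-semilinear endomorphism of a
finite-dimensional vector space over an algebraically closed field has a basis of fixed vectors.
-/

namespace Groth.Agent.Lib.Helper6.LangFix

open Polynomial

section Poly

variable {k : Type*} [Field k]

/-- The additive polynomials `X_i(Y)`: `X_0 = c_0 Y^q`, `X_{i+1} = X_i^q + c_{i+1} Y^q`. -/
noncomputable def XX (c : ℕ → k) (q : ℕ) : ℕ → k[X]
  | 0 => C (c 0) * X ^ q
  | (i+1) => (XX c q i) ^ q + C (c (i+1)) * X ^ q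

lemma XX_dvd (c : ℕ → k) {q : ℕ} (hq : 2 ≤ q) (i : ℕ) : (X : k[X]) ^ 2 ∣ XX c q i := by
  induction i with
  | zero => exact Dvd.dvd.mul_left (pow_dvd_pow X hq) _
  | succ i ih =>
    refine dvd_add ?_ (Dvd.dvd.mul_left (pow_dvd_pow X hq) _)
    exact ih.trans (dvd_pow_self _ (by omega))

lemma XX_ne_zero (c : ℕ → k) {q : ℕ} (hq : 2 ≤ q) (i : ℕ) (h : ∃ j ≤ i, c j ≠ 0) :
    XX c q i ≠ 0 := by
  induction i with
  | zero =>
    obtain ⟨j, hj, hc⟩ := h
    obtain rfl : j = 0 := by omega
    exact mul_ne_zero (C_ne_zero.2 hc) (pow_ne_zero _ X_ne_zero)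
  | succ i ih =>
    by_cases h0 : XX c q i = 0
    · have hci : c (i+1) ≠ 0 := by
        obtain ⟨j, hj, hc⟩ := h
        rcases Nat.lt_or_ge j (i+1) with hlt | hge
        · exact absurd h0 (ih ⟨j, by omega, hc⟩)
        · obtain rfl : j = i+1 := by omega
          exact hc
      simp only [XX, h0]
      rw [zero_pow (by omega), zero_add]
      exact mul_ne_zero (C_ne_zero.2 hci) (pow_ne_zero _ X_ne_zero)
    · have hd : 2 ≤ (XX c q i).natDegree := by
        have := natDegree_le_of_dvd (XX_dvd c hq i) h0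
        simpa using this
      have h1 : ((XX c q i)^q).natDegree = q * (XX c q i).natDegree := natDegree_pow _ _
      have h2 : (C (c (i+1)) * X^q : k[X]).natDegree ≤ q := natDegree_C_mul_X_pow_le _ _
      intro h3
      have h4 : (XX c q (i+1)).natDegree = ((XX c q i)^q).natDegree := by
        simp only [XX]
        exact natDegree_add_eq_left_of_natDegree_lt (by rw [h1]; nlinarith)
      rw [h3, natDegree_zero, h1] at h4
      nlinarith

lemma exists_root [IsAlgClosed k] (c : ℕ → k) {q : ℕ} (hq : 2 ≤ q) (m : ℕ)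
    (h : ∃ j ≤ m, c j ≠ 0) : ∃ y : k, y ≠ 0 ∧ eval y (XX c q m) = y := by
  obtain ⟨Q, hQ⟩ := XX_dvd c hq m
  have hQ0 : Q ≠ 0 := by
    rintro rfl
    exact XX_ne_zero c hq m h (by rw [hQ, mul_zero])
  have hdeg : (X * Q - 1 : k[X]).degree ≠ 0 := by
    intro hd
    have h1 := eq_C_of_degree_eq_zero hd
    have hc : (X * Q - 1 : k[X]).coeff 0 = -1 := by simp
    rw [hc] at h1
    have h2 : X * Q = 0 := by
      have h3 : X * Q - 1 = (-1 : k[X]) := by rw [h1]; simp
      linear_combination h3
    exact hQ0 ((mul_eq_zero.1 h2).resolve_left X_ne_zero)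
  obtain ⟨y, hy⟩ := IsAlgClosed.exists_root _ hdeg
  have hy' : y * eval y Q = 1 := by
    have h1 : eval y (X * Q - 1 : k[X]) = 0 := hy
    simp only [eval_sub, eval_mul, eval_X, eval_one] at h1
    linear_combination h1
  refine ⟨y, ?_, ?_⟩
  · rintro rfl
    simp at hy'
  · rw [hQ]
    simp only [eval_mul, eval_pow, eval_X]
    linear_combination y * hy'

lemma exists_artinSchreier [IsAlgClosed k] {q : ℕ} (hq : 2 ≤ q) (a : k) :
    ∃ b : k, b ^ q - b = a := by
  have hdeg : (X ^ q - (X + C a) : k[X]).degree ≠ 0 := by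
    have h1 : (X + C a : k[X]).degree < ((X : k[X]) ^ q).degree := by
      rw [degree_X_pow, degree_X_add_C]
      exact_mod_cast hq
    rw [degree_sub_eq_left_of_degree_lt h1, degree_X_pow]
    exact_mod_cast (by omega : q ≠ 0)
  obtain ⟨b, hb⟩ := IsAlgClosed.exists_root _ hdeg
  refine ⟨b, ?_⟩
  have h1 : eval b (X ^ q - (X + C a) : k[X]) = 0 := hb
  simp only [eval_sub, eval_pow, eval_X, eval_add, eval_C] at h1
  linear_combination h1

end Poly

lemma mem_span_image_Iio {k V : Type*} [Semiring k] [AddCommMonoid V] [Module k V]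
    (e : ℕ → V) (r : ℕ) (x : V) :
    x ∈ Submodule.span k (e '' Set.Iio r) ↔
      ∃ c : ℕ → k, x = ∑ i ∈ Finset.range r, c i • e i := by
  constructor
  · intro hx
    induction hx using Submodule.span_induction with
    | mem x h =>
      obtain ⟨i, hi, rfl⟩ := h
      refine ⟨fun j => if j = i then 1 else 0, ?_⟩
      simp only [ite_smul, one_smul, zero_smul, Finset.sum_ite_eq', Finset.mem_range]
      rw [if_pos (show i < r from hi)]
    | zero => exact ⟨0, by simp⟩
    | add x y _ _ hx hy =>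
      obtain ⟨c, rfl⟩ := hx
      obtain ⟨d, rfl⟩ := hy
      exact ⟨c + d, by simp [add_smul, Finset.sum_add_distrib]⟩
    | smul a x _ hx =>
      obtain ⟨c, rfl⟩ := hx
      exact ⟨fun i => a * c i, by simp [mul_smul, Finset.smul_sum]⟩
  · rintro ⟨c, rfl⟩
    exact Submodule.sum_mem _ fun i hi =>
      Submodule.smul_mem _ _ (Submodule.subset_span ⟨i, Finset.mem_range.1 hi, rfl⟩)

section Lang

variable {k : Type*} [Field k] [IsAlgClosed k] {q : ℕ}
  {V : Type*} [AddCommGroup V] [Module k V] [FiniteDimensional k V]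

/-- Relative Lang step: if `U` is a `φ`-stable subspace with `φ⁻¹ U ⊆ U` and `v ∉ U`, then there is
`w ∉ U` with `φ w - w ∈ U`. -/
theorem exists_fixed_mod (hq : 2 ≤ q) (φ : V →+ V) (hφ : ∀ (a : k) (v : V), φ (a • v) = a ^ q • φ v)
    (U : Submodule k V) (hU2 : ∀ x, φ x ∈ U → x ∈ U)
    (v : V) (hv : v ∉ U) : ∃ w, w ∉ U ∧ φ w - w ∈ U := by
  classical
  set e : ℕ → V := fun i => φ^[i] v with hedef
  have he : ∀ i, e (i+1) = φ (e i) := fun i => Function.iterate_succ_apply' _ _ _
  let S : ℕ → Submodule k V := fun r => U ⊔ Submodule.span k (e '' Set.Iio r)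
  have Smono : Monotone S := fun a b hab =>
    sup_le_sup_left (Submodule.span_mono (Set.image_mono (Set.Iio_subset_Iio hab))) _
  have hex : ∃ r, e r ∈ S r := by
    obtain ⟨n, hn⟩ := monotone_stabilizes_iff_noetherian.2
      (inferInstance : IsNoetherian k V) ⟨S, Smono⟩
    refine ⟨n, ?_⟩
    have h1 : S n = S (n+1) := hn (n+1) (Nat.le_succ n)
    rw [h1]
    exact (le_sup_right : _ ≤ S (n+1)) (Submodule.subset_span ⟨n, Nat.lt_succ_self n, rfl⟩)
  have hr0 : Nat.find hex ≠ 0 := by
    intro h0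
    have h1 := Nat.find_spec hex
    rw [h0] at h1
    have h2 : e '' Set.Iio 0 = ∅ := by ext z; simp
    simp only [S, h2, Submodule.span_empty, sup_bot_eq] at h1
    exact hv h1
  obtain ⟨m, hm⟩ := Nat.exists_eq_succ_of_ne_zero hr0
  have hmin : e m ∉ S m := Nat.find_min hex (by rw [hm]; exact Nat.lt_succ_self m)
  have hmem : e (m+1) ∈ S (m+1) := by
    have h1 := Nat.find_spec hex
    rwa [hm] at h1
  obtain ⟨u, hu, t, ht, hut⟩ := Submodule.mem_sup.1 hmem
  obtain ⟨c, hc⟩ := (mem_span_image_Iio e (m+1) t).1 ht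
  have hcne : ∃ j ≤ m, c j ≠ 0 := by
    by_contra hcon
    push Not at hcon
    have ht0 : t = 0 := by
      rw [hc]
      exact Finset.sum_eq_zero fun i hi => by
        rw [hcon i (by have := Finset.mem_range.1 hi; omega), zero_smul]
    rw [ht0, add_zero] at hut
    have h2 : ∀ j, e j ∈ U → v ∈ U := by
      intro j
      induction j with
      | zero => exact id
      | succ j ih => intro h; exact ih (hU2 _ (by rw [← he]; exact h))
    exact hv (h2 (m+1) (by rw [← hut]; exact hu))
  obtain ⟨y, hy0, hy⟩ := exists_root c hq m hcne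
  set x : ℕ → k := fun i => eval y (XX c q i) with hxdef
  have hx0 : x 0 = c 0 * y ^ q := by simp [hxdef, XX]
  have hxs : ∀ i, x (i+1) = (x i) ^ q + c (i+1) * y ^ q := fun i => by simp [hxdef, XX]
  have hxm : x m = y := hy
  set w : V := ∑ i ∈ Finset.range (m+1), x i • e i with hwdef
  have hφw : φ w = ∑ i ∈ Finset.range m, (x i)^q • e (i+1) + y^q • e (m+1) := by
    rw [hwdef, map_sum, Finset.sum_range_succ]
    simp only [hφ, ← he, hxm]
  have hw : w = ∑ i ∈ Finset.range m, (x i)^q • e (i+1) + y^q • t := by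
    rw [hwdef, hc, Finset.sum_range_succ' (fun i => c i • e i),
      Finset.sum_range_succ' (fun i => x i • e i)]
    simp only [hxs, hx0, add_smul, Finset.sum_add_distrib, smul_add, Finset.smul_sum, smul_smul]
    rw [add_assoc]
    congr 1
    simp only [mul_comm]
  refine ⟨w, ?_, ?_⟩
  · intro hwU
    apply hmin
    have h1 : y • e m = w - ∑ i ∈ Finset.range m, x i • e i := by
      rw [hwdef, Finset.sum_range_succ, hxm]; abel
    have h2 : y • e m ∈ S m := by
      rw [h1]
      refine Submodule.sub_mem _ ((le_sup_left : U ≤ S m) hwU) ((le_sup_right : _ ≤ S m) ?_)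
      exact (mem_span_image_Iio e m _).2 ⟨x, rfl⟩
    have h3 : e m = y⁻¹ • (y • e m) := by rw [smul_smul, inv_mul_cancel₀ hy0, one_smul]
    rw [h3]
    exact Submodule.smul_mem _ _ h2
  · have h1 : φ w - w = y ^ q • u := by
      rw [hφw, hw, ← hut]
      simp only [smul_add]; abel
    rw [h1]
    exact Submodule.smul_mem _ _ hu

/-- Lang: the fixed vectors of a bijective additive `q`-semilinear map span. -/
theorem span_fixed_eq_top (hq : 2 ≤ q) (φ : V →+ V)
    (hφ : ∀ (a : k) (v : V), φ (a • v) = a ^ q • φ v) (hinj : Function.Injective φ) :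
    Submodule.span k {v : V | φ v = v} = ⊤ := by
  set U : Submodule k V := Submodule.span k {v : V | φ v = v} with hUdef
  have hroot : ∀ a : k, ∃ b : k, b ^ q = a := fun a =>
    IsAlgClosed.exists_pow_nat_eq a (by omega)
  -- φ maps U onto U
  have hU1 : ∀ u ∈ U, ∃ u' ∈ U, φ u' = u := by
    intro u hu
    induction hu using Submodule.span_induction with
    | mem x h => exact ⟨x, Submodule.subset_span h, h⟩
    | zero => exact ⟨0, Submodule.zero_mem _, map_zero _⟩
    | add x y _ _ hx hy =>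
      obtain ⟨x', hx', rfl⟩ := hx
      obtain ⟨y', hy', rfl⟩ := hy
      exact ⟨x' + y', Submodule.add_mem _ hx' hy', map_add _ _ _⟩
    | smul a x _ hx =>
      obtain ⟨x', hx', rfl⟩ := hx
      obtain ⟨b, rfl⟩ := hroot a
      exact ⟨b • x', Submodule.smul_mem _ _ hx', hφ _ _⟩
  have hU2 : ∀ x, φ x ∈ U → x ∈ U := by
    intro x hx
    obtain ⟨u', hu', h⟩ := hU1 _ hx
    rw [← hinj h]
    exact hu'
  -- Artin–Schreier on U
  have hAS : ∀ u ∈ U, ∀ a : k, ∃ u' ∈ U, φ u' - u' = a • u := by
    intro u hu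
    induction hu using Submodule.span_induction with
    | mem x h =>
      intro a
      obtain ⟨b, hb⟩ := exists_artinSchreier hq a
      refine ⟨b • x, Submodule.smul_mem _ _ (Submodule.subset_span h), ?_⟩
      have hx : φ x = x := h
      rw [hφ, hx, ← sub_smul, hb]
    | zero => exact fun a => ⟨0, Submodule.zero_mem _, by simp⟩
    | add x y _ _ hx hy =>
      intro a
      obtain ⟨x', hx', hx''⟩ := hx a
      obtain ⟨y', hy', hy''⟩ := hy a
      refine ⟨x' + y', Submodule.add_mem _ hx' hy', ?_⟩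
      rw [map_add, smul_add, ← hx'', ← hy'']; abel
    | smul b x _ hx =>
      intro a
      obtain ⟨x', hx', hx''⟩ := hx (a * b)
      exact ⟨x', hx', by rw [hx'', mul_smul]⟩
  by_contra hne
  obtain ⟨v, hv⟩ : ∃ v, v ∉ U := by
    by_contra hcon
    push Not at hcon
    exact hne (eq_top_iff.2 fun x _ => hcon x)
  obtain ⟨w, hwU, hw⟩ := exists_fixed_mod hq φ hφ U hU2 v hv
  obtain ⟨u', hu', hu''⟩ := hAS _ hw (-1)
  have hfix : φ (w + u') = w + u' := by
    rw [map_add]
    have : φ u' = u' + (-1 : k) • (φ w - w) := by rw [← hu'']; abel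
    rw [this, neg_one_smul]; abel
  apply hwU
  have h1 : w = (w + u') - u' := by abel
  rw [h1]
  exact Submodule.sub_mem _ (Submodule.subset_span hfix) hu'

/-- Lang: a basis of fixed vectors. -/
theorem exists_fixed_basis (hq : 2 ≤ q) (φ : V →+ V)
    (hφ : ∀ (a : k) (v : V), φ (a • v) = a ^ q • φ v) (hinj : Function.Injective φ) :
    ∃ (s : Set V) (b : Module.Basis s k V), ∀ i, φ (b i) = b i := by
  obtain ⟨s, hs, hspan, hli⟩ := exists_linearIndependent k {v : V | φ v = v}
  have htop : ⊤ ≤ Submodule.span k (Set.range (fun x : s => (x : V))) := by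
    rw [Subtype.range_coe, hspan, span_fixed_eq_top hq φ hφ hinj]
  refine ⟨s, Module.Basis.mk hli htop, fun i => ?_⟩
  rw [Module.Basis.mk_apply]
  exact hs i.2

end Lang

end Groth.Agent.Lib.Helper6.LangFix
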