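import Mathlib.Tactic
import Mathlib.LinearAlgebra.BilinearForm.Orthogonal
import Mathlib.LinearAlgebra.Dual.Defs
import Mathlib.LinearAlgebra.FreeModule.Basic
import Mathlib.LinearAlgebra.FreeModule.PID
import Mathlib.LinearAlgebra.Matrix.Adjugate
import Mathlib.LinearAlgebra.Matrix.ToLin
import Mathlib.Algebra.Module.Projective
import Mathlib.RingTheory.Finiteness.Defs

/-! Lattices: double orthogonal of a saturated sublattice, extension of functionals. -/

set_option autoImplicit false

namespace Groth.Agent.Helper6.Lattice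

open Module

variable {L : Type} [AddCommGroup L] [Module.Finite ℤ L] [Module.Free ℤ L]

/-- functionals on a saturated sublattice extend -/
theorem exists_extension (S : Submodule ℤ L)
    (hS : ∀ (c : ℤ) (x : L), c ≠ 0 → c • x ∈ S → x ∈ S) (ψ : Module.Dual ℤ ↥S) :
    ∃ φ : Module.Dual ℤ L, φ ∘ₗ S.subtype = ψ := by
  haveI : Module.IsTorsionFree ℤ (L ⧸ S) := by
    refine ⟨fun r hr => ?_⟩
    have hr0 : r ≠ 0 := hr.ne_zero
    intro a b hab
    obtain ⟨x, rfl⟩ := Submodule.Quotient.mk_surjective S a
    obtain ⟨y, rfl⟩ := Submodule.Quotient.mk_surjective S b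
    simp only [← Submodule.Quotient.mk_smul] at hab
    rw [Submodule.Quotient.eq] at hab ⊢
    rw [← smul_sub] at hab
    exact hS r _ hr0 hab
  haveI : Module.Free ℤ (L ⧸ S) := Module.free_of_finite_type_torsion_free'
  obtain ⟨s, hs⟩ := Module.projective_lifting_property S.mkQ (LinearMap.id : (L ⧸ S) →ₗ[ℤ] (L ⧸ S))
    (Submodule.mkQ_surjective S)
  have hmem : ∀ x : L, x - s (S.mkQ x) ∈ S := by
    intro x
    rw [← Submodule.Quotient.mk_eq_zero, Submodule.Quotient.mk_sub]
    have := LinearMap.congr_fun hs (S.mkQ x)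
    simp only [LinearMap.comp_apply, LinearMap.id_apply] at this
    change S.mkQ x - S.mkQ (s (S.mkQ x)) = 0
    rw [this, sub_self]
  let π : L →ₗ[ℤ] S := LinearMap.codRestrict S (LinearMap.id - s ∘ₗ S.mkQ) (by
    intro x; simpa using hmem x)
  refine ⟨ψ ∘ₗ π, ?_⟩
  ext x
  simp only [LinearMap.comp_apply, Submodule.subtype_apply]
  congr 1
  apply Subtype.ext
  simp only [π, LinearMap.codRestrict_apply, LinearMap.sub_apply, LinearMap.id_apply,
    LinearMap.comp_apply, Submodule.mkQ_apply]
  rw [(Submodule.Quotient.mk_eq_zero S).mpr x.2, map_zero, sub_zero]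

/-- the double orthogonal of a saturated sublattice of a positive definite lattice -/
theorem mem_of_orthogonal_orthogonal (B : LinearMap.BilinForm ℤ L)
    (hpos : ∀ x, x ≠ 0 → 0 < B x x) (A : Submodule ℤ L)
    (htf : ∀ (c : ℤ) (x : L), c ≠ 0 → c • x ∈ A → x ∈ A)
    (y : L) (hy : ∀ b' ∈ B.orthogonal A, B y b' = 0) : y ∈ A := by
  classical
  let ι := Module.Free.ChooseBasisIndex ℤ A
  let bA : Module.Basis ι ℤ A := Module.Free.chooseBasis ℤ A
  let a : ι → L := fun i => (bA i : L)
  have ha : ∀ i, a i ∈ A := fun i => (bA i).2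
  let G : Matrix ι ι ℤ := fun i j => B (a i) (a j)
  have hdet : G.det ≠ 0 := by
    intro h0
    obtain ⟨v, hv0, hv⟩ := Matrix.exists_mulVec_eq_zero_iff.mpr h0
    apply hv0
    let z : A := ∑ i, v i • bA i
    have hzL : (z : L) = ∑ i, v i • a i := by simp [z, a]
    have hz : B (z : L) (z : L) = 0 := by
      rw [hzL]
      simp only [map_sum, map_smul, LinearMap.sum_apply, LinearMap.smul_apply, smul_eq_mul]
      simp only [Finset.mul_sum]
      rw [Finset.sum_comm]
      apply Finset.sum_eq_zero
      intro x _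
      have hx := congrFun hv x
      simp only [Matrix.mulVec, dotProduct, Pi.zero_apply] at hx
      have : ∑ i, v i * (v x * (B (a x)) (a i)) = v x * ∑ i, G x i * v i := by
        rw [Finset.mul_sum]
        apply Finset.sum_congr rfl; intro i _; simp only [G]; ring
      rw [this, hx, mul_zero]
    have hz0 : z = 0 := by
      by_contra hne
      have : (z : L) ≠ 0 := fun h => hne (Subtype.ext h)
      exact absurd hz (ne_of_gt (hpos _ this))
    have hli := bA.linearIndependent
    rw [Fintype.linearIndependent_iff] at hli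
    funext i
    exact hli v hz0 i
  let w : ι → ℤ := fun j => B (a j) y
  let c : ι → ℤ := G.adjugate.mulVec w
  let D : ℤ := G.det
  let y' : L := D • y - ∑ i, c i • a i
  have hGc : G.mulVec c = D • w := by
    simp only [c, D]
    rw [Matrix.mulVec_mulVec, Matrix.mul_adjugate, Matrix.smul_mulVec, Matrix.one_mulVec]
  have h1 : ∀ j, B (a j) y' = 0 := by
    intro j
    simp only [y', map_sub, map_smul, map_sum, smul_eq_mul]
    have hj := congrFun hGc j
    simp only [Matrix.mulVec, dotProduct, Pi.smul_apply, smul_eq_mul] at hj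
    have : ∑ x, c x * (B (a j)) (a x) = ∑ x, G j x * c x := by
      apply Finset.sum_congr rfl; intro x _; simp only [G]; ring
    rw [this, hj]
    simp only [w]; ring
  have h2 : y' ∈ B.orthogonal A := by
    intro n hn
    change B n y' = 0
    have hrepr := bA.sum_repr ⟨n, hn⟩
    have hnL : n = ∑ i, (bA.repr ⟨n, hn⟩ i) • a i := by
      have := congrArg (fun t : A => (t : L)) hrepr
      simp only [Submodule.coe_sum, Submodule.coe_smul] at this
      exact this.symm
    rw [hnL]
    simp only [map_sum, map_smul, LinearMap.sum_apply, LinearMap.smul_apply, smul_eq_mul]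
    apply Finset.sum_eq_zero
    intro i _
    rw [h1 i, mul_zero]
  have h3 : B y y' = 0 := hy y' h2
  have hS : (∑ i, c i • a i) ∈ A := Submodule.sum_mem _ (fun i _ => Submodule.smul_mem _ _ (ha i))
  have h4 : B (∑ i, c i • a i) y' = 0 := h2 _ hS
  have h5 : B y' y' = 0 := by
    have : B y' y' = D * B y y' - B (∑ i, c i • a i) y' := by
      have e : ∀ t : L, B (D • y - ∑ i, c i • a i) t = D * B y t - B (∑ i, c i • a i) t := by
        intro t
        simp only [map_sub, map_smul, LinearMap.sub_apply, LinearMap.smul_apply, smul_eq_mul]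
      exact e y'
    rw [this, h3, h4]; ring
  have hy'0 : y' = 0 := by
    by_contra hne
    exact absurd h5 (ne_of_gt (hpos _ hne))
  have hDy : D • y ∈ A := by
    have : D • y = ∑ i, c i • a i := sub_eq_zero.mp hy'0
    rw [this]; exact hS
  exact htf D y hdet hDy

end Groth.Agent.Helper6.Lattice
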