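import Mathlib
set_option autoImplicit false
open PowerSeries LaurentSeries HahnSeries
namespace Groth.Agent.Lib.Helper6.LaurentExt

variable {R R' : Type*} [CommRing R] [CommRing R']

section
variable (φ : R →+* R') (θ : R⸨X⸩ →+* R'⸨X⸩)
  (hθ : θ.comp (algebraMap R⟦X⟧ R⸨X⸩) = (algebraMap R'⟦X⟧ R'⸨X⸩).comp (PowerSeries.map φ))
include hθ

lemma theta_coe (f : R⟦X⟧) : θ (f : R⸨X⸩) = ((PowerSeries.map φ f : R'⟦X⟧) : R'⸨X⸩) := by
  have := congrArg (fun g => g f) hθ
  simpa using this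

lemma theta_single_nat (m : ℕ) :
    θ (HahnSeries.single (m : ℤ) (1 : R)) = HahnSeries.single (m : ℤ) (1 : R') := by
  rw [← HahnSeries.ofPowerSeries_X_pow, ← HahnSeries.ofPowerSeries_X_pow]
  have := theta_coe φ θ hθ (X ^ m)
  simpa using this

lemma theta_single (m : ℤ) :
    θ (HahnSeries.single m (1 : R)) = HahnSeries.single m (1 : R') := by
  rcases le_or_gt 0 m with hm | hm
  · obtain ⟨k, rfl⟩ := Int.eq_ofNat_of_zero_le hm
    exact theta_single_nat φ θ hθ k
  · obtain ⟨k, hk⟩ : ∃ k : ℕ, -m = k := ⟨(-m).toNat, (Int.toNat_of_nonneg (by omega)).symm⟩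
    have h1 : (HahnSeries.single m (1 : R) : R⸨X⸩) * HahnSeries.single (k : ℤ) (1 : R) = 1 := by
      rw [HahnSeries.single_mul_single, ← hk, add_neg_cancel, mul_one]
      rfl
    have h2 := congrArg θ h1
    rw [θ.map_mul, θ.map_one, theta_single_nat φ θ hθ k] at h2
    have h3 : (HahnSeries.single m (1 : R') : R'⸨X⸩) * HahnSeries.single (k : ℤ) (1 : R') = 1 := by
      rw [HahnSeries.single_mul_single, ← hk, add_neg_cancel, mul_one]
      rfl
    calc θ (HahnSeries.single m (1 : R))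
        = θ (HahnSeries.single m (1 : R)) * ((HahnSeries.single m (1 : R') : R'⸨X⸩) *
            HahnSeries.single (k : ℤ) (1 : R')) := by rw [h3, mul_one]
      _ = (θ (HahnSeries.single m (1 : R)) * HahnSeries.single (k : ℤ) (1 : R')) *
            HahnSeries.single m (1 : R') := by ring
      _ = HahnSeries.single m (1 : R') := by rw [h2, one_mul]

lemma theta_coeff (x : R⸨X⸩) (n : ℤ) : (θ x).coeff n = φ (x.coeff n) := by
  conv_lhs => rw [← x.single_order_mul_powerSeriesPart]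
  conv_rhs => rw [← x.single_order_mul_powerSeriesPart]
  rw [map_mul, theta_single φ θ hθ, theta_coe φ θ hθ, HahnSeries.coeff_single_mul,
    HahnSeries.coeff_single_mul, one_mul, one_mul, PowerSeries.coeff_coe, PowerSeries.coeff_coe]
  split_ifs
  · simp
  · simp

end

lemma mem_range_coe (y : R⸨X⸩) (h : ∀ n : ℤ, n < 0 → y.coeff n = 0) :
    ∃ f : R⟦X⟧, (f : R⸨X⸩) = y := by
  refine ⟨PowerSeries.mk fun i => y.coeff i, ?_⟩
  ext n
  rw [PowerSeries.coeff_coe]
  split_ifs with hn
  · exact (h n hn).symm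
  · rw [PowerSeries.coeff_mk, Int.natAbs_of_nonneg (by omega)]

end Groth.Agent.Lib.Helper6.LaurentExt
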