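import Mathlib
import Groth.Prelude.Def_Found

/-! If `R[X, 1/X]` is N-1 then `R` is N-1 (for `R` a Noetherian domain). -/

universe u
open Polynomial

namespace Groth.Agent.Lib.Helper6.LaurentN1

theorem laurent_n1 (R : Type u) [CommRing R] [IsDomain R] [IsNoetherianRing R]
    (S : Type u) [CommRing S] [IsDomain S] [Algebra R[X] S]
    [IsLocalization.Away (X : R[X]) S] (h : CAlg.IsN1 S) : CAlg.IsN1 R := by
  classical
  letI : Algebra R S := ((algebraMap R[X] S).comp C).toAlgebra
  have : IsScalarTower R R[X] S := IsScalarTower.of_algebraMap_eq (fun _ => rfl)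
  have hinjS : Function.Injective (algebraMap R[X] S) :=
    IsLocalization.injective S (powers_le_nonZeroDivisors_of_noZeroDivisors X_ne_zero)
  have hinj : Function.Injective (algebraMap R (FractionRing S)) := by
    rw [IsScalarTower.algebraMap_eq R S (FractionRing S), IsScalarTower.algebraMap_eq R R[X] S]
    exact (IsFractionRing.injective S (FractionRing S)).comp (hinjS.comp C_injective)
  have : FaithfulSMul R (FractionRing S) :=
    (faithfulSMul_iff_algebraMap_injective R (FractionRing S)).mpr hinj
  letI := FractionRing.liftAlgebra R (FractionRing S)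
  have := FractionRing.isScalarTower_liftAlgebra R (FractionRing S)
  -- the element z
  obtain ⟨z, hz⟩ : ∃ z : FractionRing S, z = algebraMap S (FractionRing S) (algebraMap R[X] S X) :=
    ⟨_, rfl⟩
  -- evaluation of polynomials with coefficients in R
  have hev : ∀ q : R[X], aeval z (q.map (algebraMap R (FractionRing R))) =
      algebraMap S (FractionRing S) (algebraMap R[X] S q) := by
    intro q
    rw [aeval_map_algebraMap, hz, aeval_algebraMap_apply]
    congr 1
    have h1 := aeval_algHom_apply (IsScalarTower.toAlgHom R R[X] S) (X : R[X]) q
    rw [aeval_X_left_apply] at h1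
    exact h1
  -- transcendence of z
  have htr : Function.Injective (aeval z : (FractionRing R)[X] →ₐ[FractionRing R] FractionRing S) := by
    rw [injective_iff_map_eq_zero]
    intro q hq
    obtain ⟨⟨d, hd⟩, hdq⟩ := IsLocalization.integerNormalization_map_to_map (nonZeroDivisors R) q
    have hdq' : (IsLocalization.integerNormalization (nonZeroDivisors R) q).map
        (algebraMap R (FractionRing R)) = d • q := hdq
    have h1 : aeval z ((IsLocalization.integerNormalization (nonZeroDivisors R) q).map
        (algebraMap R (FractionRing R))) = 0 := by
      rw [hdq', ← IsScalarTower.algebraMap_smul (FractionRing R) d q, map_smul, hq, smul_zero]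
    rw [hev] at h1
    have h2 : IsLocalization.integerNormalization (nonZeroDivisors R) q = 0 := by
      apply hinjS
      apply IsFractionRing.injective S (FractionRing S)
      rw [h1, map_zero, map_zero]
    rw [h2, Polynomial.map_zero] at hdq'
    ext n
    have h3 := congrArg (fun r => r.coeff n) hdq'
    simp only [coeff_zero, coeff_smul] at h3
    rw [Algebra.smul_def] at h3
    have hd0 : algebraMap R (FractionRing R) d ≠ 0 :=
      IsFractionRing.to_map_ne_zero_of_mem_nonZeroDivisors hd
    rcases mul_eq_zero.mp h3.symm with h4 | h4
    · exact absurd h4 hd0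
    · rw [h4, coeff_zero]
  -- Noetherianity
  have hS' : Module.Finite S (integralClosure S (FractionRing S)) := h
  have hSnoeth : IsNoetherianRing S :=
    IsLocalization.isNoetherianRing (Submonoid.powers (X : R[X])) S inferInstance
  have hS'noeth : IsNoetherian S (integralClosure S (FractionRing S)) :=
    isNoetherian_of_isNoetherianRing_of_finite S _
  have hN_le : Submodule.span S ((algebraMap (FractionRing R) (FractionRing S)) ''
      (integralClosure R (FractionRing R) : Set (FractionRing R))) ≤
      Subalgebra.toSubmodule (integralClosure S (FractionRing S)) := by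
    rw [Submodule.span_le]
    rintro _ ⟨x, hx, rfl⟩
    have hx' : IsIntegral R x := hx
    have h1 : IsIntegral R (algebraMap (FractionRing R) (FractionRing S) x) :=
      hx'.map (IsScalarTower.toAlgHom R (FractionRing R) (FractionRing S))
    exact h1.tower_top
  have hNfg : (Submodule.span S ((algebraMap (FractionRing R) (FractionRing S)) ''
      (integralClosure R (FractionRing R) : Set (FractionRing R)))).FG := by
    have h1 : IsNoetherian S (Subalgebra.toSubmodule (integralClosure S (FractionRing S))) :=
      hS'noeth
    exact (isNoetherian_submodule.mp h1) _ hN_le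
  obtain ⟨T, hTsub, hTspan⟩ := (Submodule.fg_span_iff_fg_span_finset_subset _).mp hNfg
  obtain ⟨T', hT'sub, rfl⟩ := Finset.subset_set_image_iff.mp hTsub
  have hclaim : Subalgebra.toSubmodule (integralClosure R (FractionRing R)) ≤
      Submodule.span R (T' : Set (FractionRing R)) := by
    intro x hx
    have hxN : algebraMap (FractionRing R) (FractionRing S) x ∈
        Submodule.span S ((algebraMap (FractionRing R) (FractionRing S)) ''
          (integralClosure R (FractionRing R) : Set (FractionRing R))) :=
      Submodule.subset_span ⟨x, hx, rfl⟩
    rw [hTspan, Submodule.mem_span_finset] at hxN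
    obtain ⟨g, -, hg⟩ := hxN
    rw [Finset.sum_image (fun a _ b _ hab =>
      (algebraMap (FractionRing R) (FractionRing S)).injective hab)] at hg
    obtain ⟨⟨b, n, hb⟩, hbint⟩ := IsLocalization.exist_integer_multiples
      (Submonoid.powers (X : R[X])) T'
      (fun t => g (algebraMap (FractionRing R) (FractionRing S) t))
    have hp : ∀ t ∈ T', ∃ p : R[X], algebraMap R[X] S p =
        algebraMap R[X] S (X ^ n) * g (algebraMap (FractionRing R) (FractionRing S) t) := by
      intro t ht
      obtain ⟨p, hp⟩ := hbint t ht
      refine ⟨p, ?_⟩
      rw [hp, Algebra.smul_def]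
      simp only [← hb]
    choose! p hp using hp
    -- identity of polynomials
    have hpoly : (C x * X ^ n : (FractionRing R)[X]) =
        ∑ t ∈ T', C t * (p t).map (algebraMap R (FractionRing R)) := by
      apply htr
      rw [map_mul, aeval_C, map_pow, aeval_X, map_sum]
      have h1 : ∀ t ∈ T', aeval z (C t * (p t).map (algebraMap R (FractionRing R))) =
          z ^ n * (g (algebraMap (FractionRing R) (FractionRing S) t) •
            algebraMap (FractionRing R) (FractionRing S) t) := by
        intro t ht
        rw [map_mul, aeval_C, hev, hp t ht, map_mul, map_pow, map_pow, ← hz, Algebra.smul_def]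
        ring
      rw [Finset.sum_congr rfl h1, ← Finset.mul_sum, hg]
      ring
    have hcoeff := congrArg (fun q => q.coeff n) hpoly
    simp only [coeff_C_mul, coeff_X_pow, if_true, mul_one, finset_sum_coeff, coeff_map] at hcoeff
    rw [hcoeff]
    refine Submodule.sum_mem _ fun t ht => ?_
    rw [mul_comm, ← Algebra.smul_def]
    exact Submodule.smul_mem _ _ (Submodule.subset_span ht)
  unfold CAlg.IsN1
  have hfg : (Submodule.span R (T' : Set (FractionRing R))).FG := Submodule.fg_span T'.finite_toSet
  have hno : IsNoetherian R (Submodule.span R (T' : Set (FractionRing R))) :=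
    isNoetherian_of_fg_of_noetherian _ hfg
  have h3 : (Subalgebra.toSubmodule (integralClosure R (FractionRing R))).FG :=
    (isNoetherian_submodule.mp hno) _ hclaim
  exact Module.Finite.iff_fg.mpr h3

end Groth.Agent.Lib.Helper6.LaurentN1
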