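import Mathlib

set_option linter.unusedSectionVars false
set_option linter.unusedVariables false
set_option autoImplicit false
set_option maxHeartbeats 400000

/-!
# Length lemmas for cyclic modules `R ⧸ I`
-/

noncomputable section

namespace Groth.Agent.Lib.Helper6.LenLemmas

variable {R : Type*} [CommRing R]

/-- multiplication by `x` induces `R ⧸ I → R ⧸ J` when `x I ⊆ J` -/
def mulQ (I J : Ideal R) (x : R) (h : ∀ r ∈ I, x * r ∈ J) : (R ⧸ I) →ₗ[R] (R ⧸ J) :=
  Submodule.mapQ I J (LinearMap.mulLeft R x) (fun r hr => h r hr)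

lemma mulQ_mk (I J : Ideal R) (x : R) (h : ∀ r ∈ I, x * r ∈ J) (r : R) :
    mulQ I J x h (Submodule.Quotient.mk r) = Submodule.Quotient.mk (x * r) := rfl

/-- the projection `R ⧸ I → R ⧸ J` when `I ≤ J` -/
def projQ (I J : Ideal R) (h : I ≤ J) : (R ⧸ I) →ₗ[R] (R ⧸ J) :=
  Submodule.mapQ I J LinearMap.id (fun r hr => h hr)

lemma projQ_mk (I J : Ideal R) (h : I ≤ J) (r : R) :
    projQ I J h (Submodule.Quotient.mk r) = Submodule.Quotient.mk r := rfl

/-- The basic exact sequence `0 → R/J' →x R/K → R/K' → 0`. -/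
lemma length_of_exact (J' K K' : Ideal R) (x : R)
    (h1 : ∀ r ∈ J', x * r ∈ K) (h2 : K ≤ K')
    (hinj : ∀ r, x * r ∈ K → r ∈ J')
    (hex : ∀ r ∈ K', ∃ s, r - x * s ∈ K)
    (hx : ∀ s, x * s ∈ K') :
    Module.length R (R ⧸ K) = Module.length R (R ⧸ J') + Module.length R (R ⧸ K') := by
  apply Module.length_eq_add_of_exact (mulQ J' K x h1) (projQ K K' h2)
  · rw [← LinearMap.ker_eq_bot, LinearMap.ker_eq_bot']
    intro y hy
    obtain ⟨r, rfl⟩ := Submodule.Quotient.mk_surjective _ y
    rw [mulQ_mk, Submodule.Quotient.mk_eq_zero] at hy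
    rw [Submodule.Quotient.mk_eq_zero]
    exact hinj r hy
  · intro y
    obtain ⟨r, rfl⟩ := Submodule.Quotient.mk_surjective _ y
    exact ⟨Submodule.Quotient.mk r, projQ_mk K K' h2 r⟩
  · intro y
    obtain ⟨r, rfl⟩ := Submodule.Quotient.mk_surjective _ y
    rw [projQ_mk, Submodule.Quotient.mk_eq_zero]
    constructor
    · intro hr
      obtain ⟨s, hs⟩ := hex r hr
      refine ⟨Submodule.Quotient.mk s, ?_⟩
      rw [mulQ_mk, Submodule.Quotient.eq]
      have : x * s - r = -(r - x * s) := by ring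
      rw [this]
      exact K.neg_mem hs
    · rintro ⟨z, hz⟩
      obtain ⟨s, rfl⟩ := Submodule.Quotient.mk_surjective _ z
      rw [mulQ_mk, Submodule.Quotient.eq] at hz
      have h3 : x * s - r ∈ K' := h2 hz
      have := K'.sub_mem (hx s) h3
      rwa [sub_sub_cancel] at this

/-- `length R/K = length R/(K : x) + length R/(K + (x))`. -/
lemma length_colon_add (K : Ideal R) (x : R) :
    Module.length R (R ⧸ K) =
      Module.length R (R ⧸ K.colon {x}) + Module.length R (R ⧸ (K ⊔ Ideal.span {x})) := by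
  apply length_of_exact (K.colon {x}) K (K ⊔ Ideal.span {x}) x
  · intro r hr
    rw [Submodule.mem_colon_singleton, smul_eq_mul] at hr
    rwa [mul_comm]
  · exact le_sup_left
  · intro r hr
    rw [Submodule.mem_colon_singleton, smul_eq_mul, mul_comm]
    exact hr
  · intro r hr
    rw [Submodule.mem_sup] at hr
    obtain ⟨k, hk, y, hy, rfl⟩ := hr
    rw [Ideal.mem_span_singleton'] at hy
    obtain ⟨s, rfl⟩ := hy
    refine ⟨s, ?_⟩
    have : k + s * x - x * s = k := by ring
    rwa [this]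
  · intro s
    exact Ideal.mem_sup_right (Ideal.mul_mem_right _ _ (Ideal.subset_span rfl))

/-- `a` is regular modulo `f` -/
def RegMod (a f : R) : Prop := ∀ r, a * r ∈ Ideal.span {f} → r ∈ Ideal.span {f}

lemma length_step {a f : R} (hreg : RegMod a f) (l : ℕ) :
    Module.length R (R ⧸ Ideal.span {a ^ (l + 1), f}) =
      Module.length R (R ⧸ Ideal.span {a ^ l, f}) + Module.length R (R ⧸ Ideal.span {a, f}) := by
  apply length_of_exact (Ideal.span {a ^ l, f}) (Ideal.span {a ^ (l + 1), f})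
    (Ideal.span {a, f}) a
  · intro z hz
    rw [Ideal.mem_span_pair] at hz ⊢
    obtain ⟨x, y, rfl⟩ := hz
    exact ⟨x, a * y, by ring⟩
  · intro z hz
    rw [Ideal.mem_span_pair] at hz ⊢
    obtain ⟨x, y, rfl⟩ := hz
    exact ⟨x * a ^ l, y, by ring⟩
  · intro r hr
    rw [Ideal.mem_span_pair] at hr
    obtain ⟨x, y, hxy⟩ := hr
    have h1 : a * (r - x * a ^ l) ∈ Ideal.span {f} := by
      rw [Ideal.mem_span_singleton']
      exact ⟨y, by rw [mul_sub, ← hxy]; ring⟩
    have h2 := hreg _ h1
    rw [Ideal.mem_span_singleton'] at h2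
    obtain ⟨y', hy'⟩ := h2
    rw [Ideal.mem_span_pair]
    exact ⟨x, y', by rw [hy']; ring⟩
  · intro r hr
    rw [Ideal.mem_span_pair] at hr
    obtain ⟨x, y, rfl⟩ := hr
    refine ⟨x, ?_⟩
    have : x * a + y * f - a * x = y * f := by ring
    rw [this]
    exact Ideal.mul_mem_left _ _ (Ideal.subset_span (by simp))
  · intro s
    exact Ideal.mul_mem_right _ _ (Ideal.subset_span (by simp))

lemma length_pow {a f : R} (hreg : RegMod a f) (l : ℕ) :
    Module.length R (R ⧸ Ideal.span {a ^ l, f}) =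
      (l : ℕ∞) * Module.length R (R ⧸ Ideal.span {a, f}) := by
  induction l with
  | zero =>
    rw [Nat.cast_zero, zero_mul, Module.length_eq_zero_iff]
    have : Ideal.span {a ^ 0, f} = ⊤ := by
      rw [Ideal.eq_top_iff_one]
      exact Ideal.subset_span (by simp)
    rw [this]
    infer_instance
  | succ l ih =>
    rw [length_step hreg l, ih, Nat.cast_succ, add_mul, one_mul]

/-- `length R/(a, xy) = length R/(a, y) + length R/(a, x)` for `x` regular modulo `a`. -/
lemma length_mul {a x y : R} (hreg : RegMod x a) :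
    Module.length R (R ⧸ Ideal.span {x * y, a}) =
      Module.length R (R ⧸ Ideal.span {y, a}) + Module.length R (R ⧸ Ideal.span {x, a}) := by
  apply length_of_exact (Ideal.span {y, a}) (Ideal.span {x * y, a}) (Ideal.span {x, a}) x
  · intro z hz
    rw [Ideal.mem_span_pair] at hz ⊢
    obtain ⟨p, q, rfl⟩ := hz
    exact ⟨p, x * q, by ring⟩
  · intro z hz
    rw [Ideal.mem_span_pair] at hz ⊢
    obtain ⟨p, q, rfl⟩ := hz
    exact ⟨p * y, q, by ring⟩
  · intro r hr
    rw [Ideal.mem_span_pair] at hr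
    obtain ⟨p, q, hpq⟩ := hr
    have h1 : x * (r - p * y) ∈ Ideal.span {a} := by
      rw [Ideal.mem_span_singleton']
      exact ⟨q, by rw [mul_sub, ← hpq]; ring⟩
    have h2 := hreg _ h1
    rw [Ideal.mem_span_singleton'] at h2
    obtain ⟨q', hq'⟩ := h2
    rw [Ideal.mem_span_pair]
    exact ⟨p, q', by rw [hq']; ring⟩
  · intro r hr
    rw [Ideal.mem_span_pair] at hr
    obtain ⟨p, q, rfl⟩ := hr
    refine ⟨p, ?_⟩
    have : p * x + q * a - x * p = q * a := by ring
    rw [this]
    exact Ideal.mul_mem_left _ _ (Ideal.subset_span (by simp))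
  · intro s
    exact Ideal.mul_mem_right _ _ (Ideal.subset_span (by simp))

lemma length_quot_maximal (I : Ideal R) [hI : I.IsMaximal] : Module.length R (R ⧸ I) = 1 := by
  rw [Module.length_eq_one_iff, isSimpleModule_iff_isCoatom]
  exact Ideal.isMaximal_def.mp hI

end Groth.Agent.Lib.Helper6.LenLemmas
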