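import Groth.Agent.Lib.Helper6.SemiSop
import Groth.Agent.Lib.Helper8.LD12

/-!
# Lifting a system of parameters of a Cohen–Macaulay localization (EGA 0_IV 16.5.?)

`A` Noetherian local, `p` prime with `B = A_p` Cohen–Macaulay of dimension `s`, `t` a system of
parameters of `B`.  We build `x_i ∈ p`, `a_i ∉ p` with `x_i/1 ≡ a_i t_i` modulo `(t_j, j < i)` and
`dim A/(x) + s = dim A`.
-/

set_option autoImplicit false
set_option linter.unusedSectionVars false
set_option linter.unusedVariables false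
set_option linter.unusedSimpArgs false
set_option linter.style.haveILetI false
set_option linter.overlappingInstances false
set_option maxHeartbeats 800000

namespace Groth.Agent.Lib.Helper6.LiftSop

open Groth.Agent.Lib.Helper6.SemiSop

universe u

open Classical in
/-- the ideal generated by the first `i` terms of a sequence -/
noncomputable def Sp {R : Type u} [CommRing R] (x : ℕ → R) (i : ℕ) : Ideal R :=
  Ideal.span (((Finset.range i).image x : Finset R) : Set R)

section Sp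

variable {R : Type u} [CommRing R]

lemma Sp_zero (x : ℕ → R) : Sp x 0 = ⊥ := by
  classical
  simp [Sp]

lemma Sp_succ (x : ℕ → R) (i : ℕ) : Sp x (i + 1) = Sp x i ⊔ Ideal.span {x i} := by
  classical
  unfold Sp
  rw [Finset.range_add_one, Finset.image_insert, Finset.coe_insert, Ideal.span_insert, sup_comm]

lemma Sp_congr (x x' : ℕ → R) (i : ℕ) (h : ∀ j < i, x' j = x j) : Sp x' i = Sp x i := by
  classical
  unfold Sp
  congr 2
  apply Finset.image_congr
  intro j hj
  exact h j (Finset.mem_range.mp (Finset.mem_coe.mp hj))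

lemma mem_Sp (x : ℕ → R) (i j : ℕ) (h : j < i) : x j ∈ Sp x i := by
  classical
  unfold Sp
  apply Ideal.subset_span
  simp only [Finset.coe_image, Finset.coe_range, Set.mem_image, Set.mem_Iio]
  exact ⟨j, h, rfl⟩

lemma Sp_le (x : ℕ → R) (i : ℕ) (I : Ideal R) (h : ∀ j < i, x j ∈ I) : Sp x i ≤ I := by
  classical
  unfold Sp
  rw [Ideal.span_le]
  intro b hb
  simp only [Finset.coe_image, Finset.coe_range, Set.mem_image, Set.mem_Iio] at hb
  obtain ⟨n, hn, rfl⟩ := hb
  exact h n hn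

lemma Sp_map {S : Type u} [CommRing S] (f : R →+* S) (x : ℕ → R) (i : ℕ) :
    (Sp x i).map f = Sp (fun n => f (x n)) i := by
  classical
  unfold Sp
  rw [Ideal.map_span]
  congr 1
  ext z
  simp only [Finset.coe_image, Finset.coe_range, Set.mem_image, Set.mem_Iio]
  constructor
  · rintro ⟨_, ⟨n, hn, rfl⟩, rfl⟩; exact ⟨n, hn, rfl⟩
  · rintro ⟨n, hn, rfl⟩; exact ⟨_, ⟨n, hn, rfl⟩, rfl⟩

end Sp

/-- in a Cohen–Macaulay local ring, the first `i` terms of a system of parameters generate an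
ideal of height at least `i` -/
lemma height_Sp (B : Type u) [CommRing B] [LocCoh.IsCohenMacaulayLocalRing B] (s : ℕ)
    (hs : ringKrullDim B = ((s : ℕ∞) : WithBot ℕ∞)) (τ : ℕ → B)
    (hτ : ∀ n, τ n ∈ IsLocalRing.maximalIdeal B)
    (hsop : ringKrullDim (B ⧸ Sp τ s) ≤ 0) (i : ℕ) (hi : i ≤ s) :
    (i : ℕ∞) ≤ (Sp τ i).height := by
  classical
  have hTle : Sp τ i ≤ IsLocalRing.maximalIdeal B := Sp_le τ i _ (fun j _ => hτ j)
  have hne : Sp τ i ≠ ⊤ := fun h =>
    (IsLocalRing.maximalIdeal.isMaximal B).ne_top (top_le_iff.mp (h ▸ hTle))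
  have hcm := Groth.Agent.Helper8.LD.cm_height_add_dim_quotient_ideal B (Sp τ i) hne
  let S' : Finset (B ⧸ Sp τ i) :=
    (Finset.Ico i s).image (fun n => Ideal.Quotient.mk (Sp τ i) (τ n))
  have hS'jac : (S' : Set (B ⧸ Sp τ i)) ⊆ Ring.jacobson (B ⧸ Sp τ i) := by
    intro z hz
    simp only [S', Finset.coe_image, Set.mem_image] at hz
    obtain ⟨n, _, rfl⟩ := hz
    have h1 : τ n ∈ Ring.jacobson B := by
      rw [IsLocalRing.ringJacobson_eq_maximalIdeal]; exact hτ n
    exact Ring.le_comap_jacobson (f := Ideal.Quotient.mk (Sp τ i)) h1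
  have hle1 := ringKrullDim_le_ringKrullDim_quotient_add_card S' hS'jac
  have hS'span : Ideal.span (S' : Set (B ⧸ Sp τ i)) =
      (Ideal.span (((Finset.Ico i s).image τ : Finset B) : Set B)).map
        (Ideal.Quotient.mk (Sp τ i)) := by
    rw [Ideal.map_span]
    congr 1
    ext z
    simp only [S', Finset.coe_image, Set.mem_image]
    constructor
    · rintro ⟨n, hn, rfl⟩; exact ⟨_, ⟨n, hn, rfl⟩, rfl⟩
    · rintro ⟨_, ⟨n, hn, rfl⟩, rfl⟩; exact ⟨n, hn, rfl⟩
  have hsup : Sp τ i ⊔ Ideal.span (((Finset.Ico i s).image τ : Finset B) : Set B) = Sp τ s := by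
    unfold Sp
    rw [← Ideal.span_union, ← Finset.coe_union, ← Finset.image_union]
    have : Finset.range i ∪ Finset.Ico i s = Finset.range s := by
      ext n
      simp only [Finset.mem_union, Finset.mem_range, Finset.mem_Ico]
      omega
    rw [this]
  have hdq : ringKrullDim ((B ⧸ Sp τ i) ⧸ Ideal.span (S' : Set (B ⧸ Sp τ i))) ≤ 0 := by
    rw [hS'span, ringKrullDim_eq_of_ringEquiv (DoubleQuot.quotQuotEquivQuotSup (Sp τ i) _), hsup]
    exact hsop
  have hcard : S'.card ≤ s - i := Finset.card_image_le.trans (by simp)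
  have hdimle : ringKrullDim (B ⧸ Sp τ i) ≤ (((s - i : ℕ) : ℕ∞) : WithBot ℕ∞) := by
    calc ringKrullDim (B ⧸ Sp τ i)
        ≤ ringKrullDim ((B ⧸ Sp τ i) ⧸ Ideal.span (S' : Set (B ⧸ Sp τ i))) + S'.card := hle1
      _ ≤ 0 + (((s - i : ℕ) : ℕ∞) : WithBot ℕ∞) := by
          gcongr
          exact_mod_cast hcard
      _ = _ := zero_add _
  by_contra hlt
  push Not at hlt
  obtain ⟨h', hh'⟩ := ENat.ne_top_iff_exists.mp (ne_top_of_lt hlt)
  rw [← hh'] at hlt hcm
  have hlt' : h' < i := by exact_mod_cast hlt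
  have h5 : ((s : ℕ∞) : WithBot ℕ∞) ≤
      ((h' : ℕ∞) : WithBot ℕ∞) + (((s - i : ℕ) : ℕ∞) : WithBot ℕ∞) := by
    rw [← hs, ← hcm]
    gcongr
  have h5' : (s : ℕ∞) ≤ (h' : ℕ∞) + ((s - i : ℕ) : ℕ∞) := by
    rw [← WithBot.coe_le_coe, WithBot.coe_add]; exact h5
  have h6 : s ≤ h' + (s - i) := by exact_mod_cast h5'
  omega

section elt

variable {A : Type u} [CommRing A]

/-- the key choice of the next parameter -/
lemma exists_elt [IsNoetherianRing A] (p : Ideal A) [hp : p.IsPrime] (B : Type u) [CommRing B]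
    [Algebra A B] [IsLocalization.AtPrime B p] [IsLocalRing B]
    (J : Ideal A) (T : Ideal B) (τ : B)
    (h1 : J.map (algebraMap A B) = T)
    (h3 : ∀ Q ∈ J.minimalPrimes, Q ≤ p → τ ∉ Q.map (algebraMap A B))
    (hτ : τ ∈ IsLocalRing.maximalIdeal B) (hT : T ≤ IsLocalRing.maximalIdeal B) :
    ∃ x a : A, x ∈ p ∧ a ∉ p ∧ algebraMap A B x - algebraMap A B a * τ ∈ T ∧
      ∀ Q ∈ J.minimalPrimes, x ∉ Q := by
  classical
  obtain ⟨⟨y, a⟩, hya⟩ := IsLocalization.surj p.primeCompl τ
  have hya' : τ * algebraMap A B (a : A) = algebraMap A B y := hya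
  have ha : (a : A) ∉ p := a.2
  have hfin : J.minimalPrimes.Finite := Ideal.finite_minimalPrimes_of_isNoetherianRing A J
  set N1 : Finset (Ideal A) := hfin.toFinset.filter (fun Q => Q ≤ p) with hN1
  set N2 : Finset (Ideal A) := hfin.toFinset.filter (fun Q => ¬ Q ≤ p) with hN2
  have hmemN1 : ∀ Q, Q ∈ J.minimalPrimes → Q ≤ p → Q ∈ N1 := by
    intro Q hQ hQp
    rw [hN1, Finset.mem_filter]
    exact ⟨hfin.mem_toFinset.mpr hQ, hQp⟩
  have hmemN2 : ∀ Q, Q ∈ J.minimalPrimes → ¬ Q ≤ p → Q ∈ N2 := by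
    intro Q hQ hQp
    rw [hN2, Finset.mem_filter]
    exact ⟨hfin.mem_toFinset.mpr hQ, hQp⟩
  have hU : ¬ (N2.inf id ≤ p) := by
    intro hle
    obtain ⟨Q, hQ, hQp⟩ := (Ideal.IsPrime.inf_le' hp).mp hle
    exact (Finset.mem_filter.mp hQ).2 hQp
  obtain ⟨u, huU, hup⟩ := SetLike.not_le_iff_exists.mp hU
  obtain ⟨w, hwW, hw⟩ := exists_avoid J (N1.inf id)
  have hw2 : ∀ Q ∈ J.minimalPrimes, ¬ Q ≤ p → w ∉ Q := by
    intro Q hQ hQp
    apply hw Q hQ
    intro hle
    obtain ⟨Q1, hQ1, hQ1Q⟩ := (Ideal.IsPrime.inf_le' hQ.1.1).mp hle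
    have hQ1' := Finset.mem_filter.mp hQ1
    have hQ1min : Q1 ∈ J.minimalPrimes := hfin.mem_toFinset.mp hQ1'.1
    have hQQ1 : Q ≤ Q1 := hQ.2 hQ1min.1 hQ1Q
    exact hQp (hQQ1.trans hQ1'.2)
  have huw : u * w ∈ J.radical := by
    rw [← Ideal.sInf_minimalPrimes, Ideal.mem_sInf]
    intro Q hQ
    by_cases hQp : Q ≤ p
    · apply Ideal.mul_mem_left
      have hle : N1.inf id ≤ Q := Finset.inf_le (f := id) (hmemN1 Q hQ hQp)
      exact hle hwW
    · apply Ideal.mul_mem_right
      have hle : N2.inf id ≤ Q := Finset.inf_le (f := id) (hmemN2 Q hQ hQp)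
      exact hle huU
  obtain ⟨n, hn⟩ := huw
  have hun : u ^ n ∉ p := fun h => hup (hp.mem_of_pow_mem n h)
  have hwT : algebraMap A B (w ^ n) ∈ T := by
    rw [← h1]
    have h5 : algebraMap A B ((u * w) ^ n) ∈ J.map (algebraMap A B) :=
      Ideal.mem_map_of_mem _ hn
    rw [mul_pow, map_mul] at h5
    have hunit : IsUnit (algebraMap A B (u ^ n)) :=
      (IsLocalization.AtPrime.isUnit_to_map_iff B p _).mpr hun
    exact (Ideal.unit_mul_mem_iff_mem _ hunit).mp h5
  refine ⟨u * y + w ^ n, u * a, ?_, ?_, ?_, ?_⟩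
  · rw [← IsLocalization.AtPrime.to_map_mem_maximal_iff B p _ inferInstance, map_add, map_mul]
    apply Ideal.add_mem
    · apply Ideal.mul_mem_left
      rw [← hya']; exact Ideal.mul_mem_right _ _ hτ
    · exact hT hwT
  · intro h
    rcases hp.mem_or_mem h with h | h
    · exact hup h
    · exact ha h
  · have h7 : algebraMap A B (u * y + w ^ n) - algebraMap A B (u * a) * τ =
        algebraMap A B (w ^ n) := by
      rw [map_add, map_mul, map_mul, ← hya']; ring
    rw [h7]; exact hwT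
  · intro Q hQ hxQ
    have hQprime : Q.IsPrime := hQ.1.1
    by_cases hQp : Q ≤ p
    · have huQ : u ∉ Q := fun h => hup (hQp h)
      have hwnQ : w ^ n ∈ Q := by
        have h8 : u ^ n * w ^ n ∈ Q := by rw [← mul_pow]; exact hQ.1.2 hn
        rcases hQprime.mem_or_mem h8 with h | h
        · exact absurd (hQprime.mem_of_pow_mem n h) huQ
        · exact h
      have huy : u * y ∈ Q := by
        have h9 := Q.sub_mem hxQ hwnQ
        simpa using h9
      have hyQ : y ∈ Q := (hQprime.mem_or_mem huy).resolve_left huQ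
      apply h3 Q hQ hQp
      have h6 : τ * algebraMap A B (a : A) ∈ Q.map (algebraMap A B) := by
        rw [hya']; exact Ideal.mem_map_of_mem _ hyQ
      have hunit : IsUnit (algebraMap A B (a : A)) := IsLocalization.map_units B a
      exact (Ideal.mul_unit_mem_iff_mem _ hunit).mp h6
    · have huQ : u ∈ Q := by
        have hle : N2.inf id ≤ Q := Finset.inf_le (f := id) (hmemN2 Q hQ hQp)
        exact hle huU
      have hwn : w ^ n ∈ Q := by
        have h9 := Q.sub_mem hxQ (Q.mul_mem_right y huQ)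
        simpa using h9
      exact hw2 Q hQ hQp (hQprime.mem_of_pow_mem n hwn)

lemma sup_span_singleton_eq {B : Type u} [CommRing B] (T : Ideal B) (b τ v e : B)
    (hv : IsUnit v) (he : e ∈ T) (hb : b - v * τ = e) :
    T ⊔ Ideal.span {b} = T ⊔ Ideal.span {τ} := by
  apply le_antisymm
  · rw [sup_le_iff]
    refine ⟨le_sup_left, ?_⟩
    rw [Ideal.span_singleton_le_iff_mem]
    have : b = e + v * τ := by rw [← hb]; ring
    rw [this]
    exact Ideal.add_mem _ (Ideal.mem_sup_left he)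
      (Ideal.mem_sup_right (Ideal.mul_mem_left _ _ (Ideal.mem_span_singleton_self τ)))
  · rw [sup_le_iff]
    refine ⟨le_sup_left, ?_⟩
    rw [Ideal.span_singleton_le_iff_mem]
    have h1 : v * τ ∈ T ⊔ Ideal.span {b} := by
      have : v * τ = b - e := by rw [← hb]; ring
      rw [this]
      exact Ideal.sub_mem _ (Ideal.mem_sup_right (Ideal.mem_span_singleton_self b))
        (Ideal.mem_sup_left he)
    exact (Ideal.unit_mul_mem_iff_mem _ hv).mp h1

end elt

section main

variable (A : Type u) [CommRing A] [IsNoetherianRing A] [IsLocalRing A] (p : Ideal A)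
  [hp : p.IsPrime] (B : Type u) [CommRing B] [Algebra A B] [IsLocalization.AtPrime B p]
  [LocCoh.IsCohenMacaulayLocalRing B] (s : ℕ)
  (hs : ringKrullDim B = ((s : ℕ∞) : WithBot ℕ∞)) (τ : ℕ → B)
  (hτ : ∀ n, τ n ∈ IsLocalRing.maximalIdeal B)
  (hsop : ringKrullDim (B ⧸ Sp τ s) ≤ 0)

include hs hτ hsop in
lemma tau_not_mem (x : ℕ → A) (i : ℕ) (hi : i < s)
    (hmap : (Sp x i).map (algebraMap A B) = Sp τ i) (Q : Ideal A)
    (hQ : Q ∈ (Sp x i).minimalPrimes) (hQp : Q ≤ p) : τ i ∉ Q.map (algebraMap A B) := by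
  classical
  intro hmem
  haveI := hQ.1.1
  have hdisj : Disjoint (p.primeCompl : Set A) (Q : Set A) := by
    rw [Set.disjoint_left]; intro z hz hzQ; exact hz (hQp hzQ)
  have hle : Sp τ (i + 1) ≤ Q.map (algebraMap A B) := by
    rw [Sp_succ, sup_le_iff]
    refine ⟨?_, ?_⟩
    · rw [← hmap]; exact Ideal.map_mono hQ.1.2
    · rw [Ideal.span_singleton_le_iff_mem]; exact hmem
  have h1 : ((i + 1 : ℕ) : ℕ∞) ≤ (Sp τ (i + 1)).height :=
    height_Sp B s hs τ hτ hsop (i + 1) hi
  have h2 : (Q.map (algebraMap A B)).height = Q.height :=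
    IsLocalization.height_map_of_disjoint p.primeCompl Q hdisj
  have h3 : Q.height ≤ ((Finset.range i).image x).card :=
    Ideal.height_le_card_of_mem_minimalPrimes_span_finset hQ
  have h4 : ((Finset.range i).image x).card ≤ i := Finset.card_image_le.trans (by simp)
  have h5 : ((i + 1 : ℕ) : ℕ∞) ≤ (((Finset.range i).image x).card : ℕ∞) :=
    h1.trans ((Ideal.height_mono hle).trans (h2 ▸ h3))
  have h6 : i + 1 ≤ ((Finset.range i).image x).card := by exact_mod_cast h5
  omega

include hs hτ hsop in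
theorem claim (D : ℕ) (hD : ringKrullDim A = ((D : ℕ∞) : WithBot ℕ∞)) :
    ∀ i : ℕ, i ≤ s → ∃ x a : ℕ → A,
      (∀ j < i, x j ∈ p ∧ a j ∉ p ∧
        algebraMap A B (x j) - algebraMap A B (a j) * τ j ∈ Sp τ j) ∧
      (Sp x i).map (algebraMap A B) = Sp τ i ∧
      (∀ q : PrimeSpectrum A, q.asIdeal ∈ (Sp x i).minimalPrimes →
        Order.coheight q + (i : ℕ∞) ≤ (D : ℕ∞)) := by
  intro i
  induction i with
  | zero =>
    intro _
    refine ⟨fun _ => 0, fun _ => 0, fun j hj => absurd hj (Nat.not_lt_zero j), ?_, ?_⟩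
    · rw [Sp_zero, Sp_zero, Ideal.map_bot]
    · intro q _
      simp only [Nat.cast_zero, add_zero]
      have h1 := Order.coheight_le_krullDim q
      have h3 : Order.krullDim (PrimeSpectrum A) = ((D : ℕ∞) : WithBot ℕ∞) := hD
      rw [h3] at h1; exact WithBot.coe_le_coe.mp h1
  | succ i ih =>
    intro hi
    obtain ⟨x, a, hxa, hmap, hinv⟩ := ih (Nat.le_of_succ_le hi)
    have hTle : Sp τ i ≤ IsLocalRing.maximalIdeal B := Sp_le τ i _ (fun j _ => hτ j)
    obtain ⟨xn, an, hxn, han, hcong, havoid⟩ :=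
      exists_elt p B (Sp x i) (Sp τ i) (τ i) hmap
        (fun Q hQ hQp => tau_not_mem A p B s hs τ hτ hsop x i hi hmap Q hQ hQp) (hτ i) hTle
    have hx' : ∀ j < i, Function.update x i xn j = x j :=
      fun j hj => Function.update_of_ne (Nat.ne_of_lt hj) _ _
    have ha' : ∀ j < i, Function.update a i an j = a j :=
      fun j hj => Function.update_of_ne (Nat.ne_of_lt hj) _ _
    have hSp' : Sp (Function.update x i xn) (i + 1) = Sp x i ⊔ Ideal.span {xn} := by
      rw [Sp_succ, Sp_congr x _ i hx', Function.update_self]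
    refine ⟨Function.update x i xn, Function.update a i an, ?_, ?_, ?_⟩
    · intro j hj
      rcases Nat.lt_succ_iff_lt_or_eq.mp hj with hj | rfl
      · rw [hx' j hj, ha' j hj]; exact hxa j hj
      · rw [Function.update_self, Function.update_self]; exact ⟨hxn, han, hcong⟩
    · rw [hSp', Ideal.map_sup, hmap, Ideal.map_span, Set.image_singleton, Sp_succ]
      exact sup_span_singleton_eq (Sp τ i) (algebraMap A B xn) (τ i) (algebraMap A B an) _
        ((IsLocalization.AtPrime.isUnit_to_map_iff B p _).mpr han) hcong rfl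
    · rw [hSp']
      intro q' hq'
      obtain ⟨q, hq, hle, hlt⟩ := step (Sp x i) ⊤ xn
        (fun Q hQ _ => havoid Q hQ) q' hq'
      have hlt' : q < q' := hlt (fun h => q.isPrime.ne_top (top_le_iff.mp h))
      have h1 := hinv q hq
      have h3 := Order.coheight_add_one_le hlt'
      calc Order.coheight q' + ((i + 1 : ℕ) : ℕ∞)
          = (Order.coheight q' + 1) + (i : ℕ∞) := by push_cast; ring
        _ ≤ Order.coheight q + (i : ℕ∞) := by gcongr
        _ ≤ D := h1

include hs hτ hsop in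
theorem main' : ∃ x a : ℕ → A,
    (∀ j < s, x j ∈ p ∧ a j ∉ p ∧
      algebraMap A B (x j) - algebraMap A B (a j) * τ j ∈ Sp τ j) ∧
    ringKrullDim (A ⧸ Sp x s) + (s : WithBot ℕ∞) = ringKrullDim A := by
  classical
  obtain ⟨D, hD⟩ : ∃ D : ℕ, ringKrullDim A = ((D : ℕ∞) : WithBot ℕ∞) := by
    have hbot : ringKrullDim A ≠ ⊥ := ringKrullDim_ne_bot
    have htop : ringKrullDim A ≠ ⊤ := ringKrullDim_ne_top
    obtain ⟨e, he⟩ := WithBot.ne_bot_iff_exists.mp hbot
    have : e ≠ ⊤ := by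
      intro h; apply htop; rw [← he, h]; rfl
    obtain ⟨D, hD⟩ := ENat.ne_top_iff_exists.mp this
    exact ⟨D, by rw [← he, ← hD]⟩
  obtain ⟨x, a, hxa, hmap, hinv⟩ := claim A p B s hs τ hτ hsop D hD s le_rfl
  refine ⟨x, a, hxa, ?_⟩
  have hJp : Sp x s ≤ p := Sp_le x s p (fun j hj => (hxa j hj).1)
  have hJne : Sp x s ≠ ⊤ := fun h => hp.ne_top (top_le_iff.mp (h ▸ hJp))
  -- `s ≤ D`
  obtain ⟨Q, hQ⟩ := Ideal.nonempty_minimalPrimes hJne
  have hsD : s ≤ D := by
    have h1 := hinv ⟨Q, hQ.1.1⟩ hQ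
    have h2 : (s : ℕ∞) ≤ (D : ℕ∞) := le_add_self.trans h1
    exact_mod_cast h2
  have hco : ∀ q : PrimeSpectrum A, q.asIdeal ∈ (Sp x s).minimalPrimes →
      Order.coheight q ≤ ((D - s : ℕ) : ℕ∞) := by
    intro q hq
    have h1 := hinv q hq
    have hne : Order.coheight q ≠ ⊤ :=
      ne_top_of_le_ne_top (ENat.natCast_ne_top D) (le_self_add.trans h1)
    obtain ⟨c, hc⟩ := ENat.ne_top_iff_exists.mp hne
    rw [← hc] at h1 ⊢
    have h2 : c + s ≤ D := by exact_mod_cast h1
    have h3 : c ≤ D - s := by omega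
    exact_mod_cast h3
  have hle := dim_quot_le (Sp x s) _ hco
  -- lower bound
  have hjac : (((Finset.range s).image x : Finset A) : Set A) ⊆ Ring.jacobson A := by
    intro z hz
    simp only [Finset.coe_image, Finset.coe_range, Set.mem_image, Set.mem_Iio] at hz
    obtain ⟨n, hn, rfl⟩ := hz
    rw [IsLocalRing.ringJacobson_eq_maximalIdeal]
    exact IsLocalRing.le_maximalIdeal hp.ne_top (hxa n hn).1
  have hge := ringKrullDim_le_ringKrullDim_quotient_add_card ((Finset.range s).image x) hjac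
  have hcard : ((Finset.range s).image x).card ≤ s := Finset.card_image_le.trans (by simp)
  have hge' : ringKrullDim A ≤ ringKrullDim (A ⧸ Sp x s) + (s : WithBot ℕ∞) := by
    refine hge.trans ?_
    show ringKrullDim (A ⧸ Sp x s) + _ ≤ _
    gcongr
  apply le_antisymm _ hge'
  calc ringKrullDim (A ⧸ Sp x s) + (s : WithBot ℕ∞)
      ≤ (((D - s : ℕ) : ℕ∞) : WithBot ℕ∞) + (s : WithBot ℕ∞) := by gcongr
    _ = ringKrullDim A := by
        rw [hD]
        have : D - s + s = D := Nat.sub_add_cancel hsD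
        exact_mod_cast congrArg (fun n : ℕ => ((n : ℕ∞) : WithBot ℕ∞)) this

end main

section final

lemma Sp_eq_span_range {R : Type u} [CommRing R] (s : ℕ) (x : ℕ → R) :
    Ideal.span (Set.range (fun k : Fin s => x k)) = Sp x s := by
  classical
  unfold Sp
  congr 1
  ext z
  simp only [Finset.coe_image, Finset.coe_range, Set.mem_image, Set.mem_Iio, Set.mem_range]
  constructor
  · rintro ⟨k, rfl⟩; exact ⟨k, k.2, rfl⟩
  · rintro ⟨n, hn, rfl⟩; exact ⟨⟨n, hn⟩, rfl⟩

/-- extension by zero of a finite family -/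
noncomputable def ext0 {R : Type u} [CommRing R] {s : ℕ} (t : Fin s → R) (n : ℕ) : R :=
  if h : n < s then t ⟨n, h⟩ else 0

lemma ext0_coe {R : Type u} [CommRing R] {s : ℕ} (t : Fin s → R) (k : Fin s) :
    ext0 t k = t k := by
  unfold ext0
  rw [dif_pos k.2]

lemma Sp_ext0 {R : Type u} [CommRing R] {s : ℕ} (t : Fin s → R) (i : Fin s) :
    Ideal.span (t '' {j : Fin s | j < i}) = Sp (ext0 t) i := by
  classical
  unfold Sp
  congr 1
  ext z
  simp only [Finset.coe_image, Finset.coe_range, Set.mem_image, Set.mem_Iio, Set.mem_ofPred_eq]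
  constructor
  · rintro ⟨j, hj, rfl⟩; exact ⟨j, hj, ext0_coe t j⟩
  · rintro ⟨n, hn, rfl⟩
    have hns : n < s := lt_trans hn i.2
    refine ⟨⟨n, hns⟩, hn, ?_⟩
    exact (ext0_coe t ⟨n, hns⟩).symm

lemma Sp_ext0_top {R : Type u} [CommRing R] {s : ℕ} (t : Fin s → R) :
    Ideal.span (Set.range t) = Sp (ext0 t) s := by
  rw [← Sp_eq_span_range]
  congr 2
  funext k
  exact (ext0_coe t k).symm

theorem main (A : Type u) [CommRing A]
    [IsNoetherianRing A] [IsLocalRing A] (p : Ideal A) [p.IsPrime]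
    [LocCoh.IsCohenMacaulayLocalRing (Localization.AtPrime p)] (s : ℕ)
    (hs : ringKrullDim (Localization.AtPrime p) = s) (t : Fin s → Localization.AtPrime p)
    (ht : ∀ i, t i ∈ IsLocalRing.maximalIdeal (Localization.AtPrime p))
    (hsop : ringKrullDim (Localization.AtPrime p ⧸ Ideal.span (Set.range t)) = 0) :
    ∃ x a : Fin s → A, (∀ i, x i ∈ p) ∧ (∀ i, a i ∉ p) ∧
      ringKrullDim (A ⧸ Ideal.span (Set.range x)) + (s : WithBot ℕ∞) = ringKrullDim A ∧
      ∀ i : Fin s, algebraMap A (Localization.AtPrime p) (x i) -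
          algebraMap A (Localization.AtPrime p) (a i) * t i ∈
        Ideal.span (t '' {j : Fin s | j < i}) := by
  have hs' : ringKrullDim (Localization.AtPrime p) = ((s : ℕ∞) : WithBot ℕ∞) := by
    rw [hs]; rfl
  have hτ : ∀ n, ext0 t n ∈ IsLocalRing.maximalIdeal (Localization.AtPrime p) := by
    intro n
    unfold ext0
    split_ifs with h
    · exact ht _
    · exact Ideal.zero_mem _
  have hsop' : ringKrullDim (Localization.AtPrime p ⧸ Sp (ext0 t) s) ≤ 0 := by
    rw [← Sp_ext0_top, hsop]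
  obtain ⟨x, a, hxa, hdim⟩ := main' A p (Localization.AtPrime p) s hs' (ext0 t) hτ hsop'
  refine ⟨fun k => x k, fun k => a k, fun i => (hxa i i.2).1, fun i => (hxa i i.2).2.1, ?_, ?_⟩
  · rw [Sp_eq_span_range]; exact hdim
  · intro i
    have h1 := (hxa i i.2).2.2
    rw [ext0_coe, ← Sp_ext0] at h1
    exact h1

end final

end Groth.Agent.Lib.Helper6.LiftSop
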