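import Mathlib.RingTheory.Valuation.ValuationRing
import Mathlib.RingTheory.Localization.AtPrime.Basic
import Mathlib.RingTheory.IntegralClosure.IntegrallyClosed

universe u

namespace Groth.Agent.Helper6.LocPi

open Classical in
/-- indicator idempotent -/
noncomputable def ind {ι : Type u} (R : ι → Type u) [∀ i, CommRing (R i)] (p : ι → Prop) : ∀ i, R i :=
  fun i => if p i then 1 else 0

section

variable {ι : Type u} (R : ι → Type u) [∀ i, CommRing (R i)]
  (P : Ideal (∀ i, R i)) [P.IsPrime]

lemma ind_add_ind_not (p : ι → Prop) : ind R p + ind R (fun i => ¬ p i) = 1 := by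
  classical
  funext i
  by_cases h : p i <;> simp [ind, h]

lemma ind_or (p : ι → Prop) : ind R p ∉ P ∨ ind R (fun i => ¬ p i) ∉ P := by
  by_contra hcon
  push Not at hcon
  have := P.add_mem hcon.1 hcon.2
  rw [ind_add_ind_not] at this
  exact (Ideal.IsPrime.ne_top inferInstance) ((Ideal.eq_top_iff_one _).mpr this)

/-- key lemma: an element vanishing on the support of an idempotent outside `P` dies in the
localization -/
lemma algebraMap_eq_zero_of_vanish (p : ι → Prop) (hp : ind R p ∉ P) (x : ∀ i, R i)
    (hx : ∀ i, p i → x i = 0) : algebraMap (∀ i, R i) (Localization.AtPrime P) x = 0 := by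
  classical
  rw [IsLocalization.map_eq_zero_iff P.primeCompl]
  refine ⟨⟨ind R p, hp⟩, ?_⟩
  funext i
  by_cases h : p i
  · simp [hx i h]
  · simp [ind, h]

lemma algebraMap_eq_of_agree (p : ι → Prop) (hp : ind R p ∉ P) (x y : ∀ i, R i)
    (hxy : ∀ i, p i → x i = y i) :
    algebraMap (∀ i, R i) (Localization.AtPrime P) x = algebraMap (∀ i, R i) (Localization.AtPrime P) y := by
  rw [← sub_eq_zero, ← map_sub]
  exact algebraMap_eq_zero_of_vanish R P p hp (x - y) (fun i hi => by simp [hxy i hi])

variable [∀ i, IsDomain (R i)]

theorem isDomain_loc : IsDomain (Localization.AtPrime P) := by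
  classical
  have : Nontrivial (Localization.AtPrime P) := inferInstance
  have : NoZeroDivisors (Localization.AtPrime P) := by
    constructor
    intro α β hαβ
    obtain ⟨a, s, rfl⟩ := IsLocalization.exists_mk'_eq P.primeCompl α
    obtain ⟨b, t, rfl⟩ := IsLocalization.exists_mk'_eq P.primeCompl β
    rw [← IsLocalization.mk'_mul, IsLocalization.mk'_eq_zero_iff] at hαβ
    obtain ⟨u, hu⟩ := hαβ
    rcases ind_or R P (fun i => a i = 0) with h | h
    · left
      rw [IsLocalization.mk'_eq_zero_iff]
      refine ⟨⟨_, h⟩, ?_⟩
      funext i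
      by_cases hi : a i = 0
      · simp [hi]
      · simp [ind, hi]
    · right
      rw [IsLocalization.mk'_eq_zero_iff]
      refine ⟨⟨_, h⟩ * u, ?_⟩
      funext i
      have hui := congrFun hu i
      simp only [Pi.mul_apply, Pi.zero_apply] at hui
      by_cases hi : a i = 0
      · simp [ind, hi]
      · have : (u : ∀ i, R i) i * b i = 0 := by
          rcases mul_eq_zero.mp hui with h1 | h1
          · rw [h1, zero_mul]
          · rcases mul_eq_zero.mp h1 with h2 | h2
            · exact absurd h2 hi
            · rw [h2, mul_zero]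
        simp [ind, hi, mul_assoc, this]
  exact NoZeroDivisors.to_isDomain _

theorem preValuationRing_loc [∀ i, ValuationRing (R i)] : PreValuationRing (Localization.AtPrime P) := by
  classical
  constructor
  intro α β
  obtain ⟨a, s, rfl⟩ := IsLocalization.exists_mk'_eq P.primeCompl α
  obtain ⟨b, t, rfl⟩ := IsLocalization.exists_mk'_eq P.primeCompl β
  have hdiv : ∀ i, ¬ a i ∣ b i → b i ∣ a i := by
    intro i h
    rcases ValuationRing.dvd_total (a i) (b i) with h' | h'
    · exact absurd h' h
    · exact h'
  set c : ∀ i, R i := fun i => if h : a i ∣ b i then Classical.choose h else 0 with hc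
  set d : ∀ i, R i := fun i => if h : a i ∣ b i then 0 else Classical.choose (hdiv i h) with hd
  rcases ind_or R P (fun i => a i ∣ b i) with h | h
  · have h1 := algebraMap_eq_of_agree R P _ h b (a * c) (fun i hi => by
      simp only [Pi.mul_apply, hc, dif_pos hi]
      exact Classical.choose_spec hi)
    refine ⟨IsLocalization.mk' _ (c * s) t, Or.inl ?_⟩
    rw [← IsLocalization.mk'_mul, IsLocalization.mk'_eq_iff_eq_mul]
    calc algebraMap (∀ i, R i) (Localization.AtPrime P) (a * (c * (s : ∀ i, R i)))
        = algebraMap _ (Localization.AtPrime P) (a * c) * algebraMap _ (Localization.AtPrime P) (s : ∀ i, R i) := by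
          rw [← mul_assoc, map_mul]
      _ = algebraMap _ (Localization.AtPrime P) b * algebraMap _ (Localization.AtPrime P) (s : ∀ i, R i) := by
          rw [h1]
      _ = IsLocalization.mk' (Localization.AtPrime P) b t * algebraMap _ (Localization.AtPrime P) (t : ∀ i, R i) *
            algebraMap _ (Localization.AtPrime P) (s : ∀ i, R i) := by rw [IsLocalization.mk'_spec]
      _ = _ := by rw [Submonoid.coe_mul, map_mul]; ring
  · have h1 := algebraMap_eq_of_agree R P _ h a (b * d) (fun i hi => by
      simp only [Pi.mul_apply, hd, dif_neg hi]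
      exact Classical.choose_spec (hdiv i hi))
    refine ⟨IsLocalization.mk' _ (d * t) s, Or.inr ?_⟩
    rw [← IsLocalization.mk'_mul, IsLocalization.mk'_eq_iff_eq_mul]
    calc algebraMap (∀ i, R i) (Localization.AtPrime P) (b * (d * (t : ∀ i, R i)))
        = algebraMap _ (Localization.AtPrime P) (b * d) * algebraMap _ (Localization.AtPrime P) (t : ∀ i, R i) := by
          rw [← mul_assoc, map_mul]
      _ = algebraMap _ (Localization.AtPrime P) a * algebraMap _ (Localization.AtPrime P) (t : ∀ i, R i) := by
          rw [h1]
      _ = IsLocalization.mk' (Localization.AtPrime P) a s * algebraMap _ (Localization.AtPrime P) (s : ∀ i, R i) *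
            algebraMap _ (Localization.AtPrime P) (t : ∀ i, R i) := by rw [IsLocalization.mk'_spec]
      _ = _ := by rw [Submonoid.coe_mul, map_mul]; ring

end

end Groth.Agent.Helper6.LocPi
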