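import Groth.Agent.Lib.Helper6.LocPi
import Mathlib.RingTheory.Localization.Integral
import Mathlib.RingTheory.Polynomial.ScaleRoots

universe u

open Polynomial

namespace Groth.Agent.Helper6.LocPi

section

variable {ι : Type u} (R : ι → Type u) [∀ i, CommRing (R i)]
  (P : Ideal (∀ i, R i)) [P.IsPrime] [∀ i, IsDomain (R i)]

/-- integrally closed domains: a root of `scaleRoots q b` with `q` monic is divisible by `b`. -/
lemma dvd_of_root_scaleRoots {A : Type u} [CommRing A] [IsDomain A] [IsIntegrallyClosed A]
    (q : A[X]) (hq : q.Monic) (a b : A) (hb : b ≠ 0) (h : eval a (scaleRoots q b) = 0) : b ∣ a := by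
  set K := FractionRing A
  set f := algebraMap A K
  have hfb : f b ≠ 0 := by
    intro h0
    exact hb ((map_eq_zero_iff f (IsFractionRing.injective A K)).mp h0)
  have h1 := scaleRoots_eval₂_mul (p := q) f (f a / f b) b
  rw [mul_div_cancel₀ _ hfb] at h1
  have h2 : eval₂ f (f a) (scaleRoots q b) = 0 := by
    rw [eval₂_at_apply, h, map_zero]
  rw [h2] at h1
  have h3 : eval₂ f (f a / f b) q = 0 := by
    rcases mul_eq_zero.mp h1.symm with h | h
    · exact absurd h (pow_ne_zero _ hfb)
    · exact h
  have hint : IsIntegral A (f a / f b) := ⟨q, hq, h3⟩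
  obtain ⟨c, hc⟩ := (isIntegrallyClosed_iff K).mp inferInstance hint
  refine ⟨c, ?_⟩
  apply IsFractionRing.injective A K
  rw [map_mul]
  show f a = f b * f c
  rw [show f c = f a / f b from hc, mul_div_cancel₀ _ hfb]

theorem isIntegrallyClosed_loc [∀ i, IsIntegrallyClosed (R i)] :
    IsIntegrallyClosed (Localization.AtPrime P) := by
  classical
  have hdom := isDomain_loc R P
  set Rp := ∀ i, R i with hRp
  set L := Localization.AtPrime P with hL
  set K := FractionRing L with hK
  rw [isIntegrallyClosed_iff K]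
  intro x hx
  obtain ⟨u, hu⟩ := IsIntegral.exists_multiple_integral_of_isLocalization P.primeCompl (Rₘ := L) x hx
  obtain ⟨q, hq, hqz⟩ := hu
  obtain ⟨α, β, hβ, rfl⟩ := IsFractionRing.div_surjective (A := L) x
  obtain ⟨a, s, rfl⟩ := IsLocalization.exists_mk'_eq P.primeCompl α
  obtain ⟨b, t, rfl⟩ := IsLocalization.exists_mk'_eq P.primeCompl β
  set jL := algebraMap Rp L with hjL
  set jK := algebraMap L K with hjK
  have hjKinj : Function.Injective jK := IsFractionRing.injective L K
  have hβ0 : IsLocalization.mk' L b t ≠ 0 := nonZeroDivisors.ne_zero hβ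
  have hb0 : jL b ≠ 0 := by
    intro h0
    apply hβ0
    rw [IsLocalization.mk'_eq_zero_iff]
    obtain ⟨m, hm⟩ := (IsLocalization.map_eq_zero_iff P.primeCompl L b).mp h0
    exact ⟨m, hm⟩
  have hsunit : IsUnit (jL (s : Rp)) := IsLocalization.map_units L s
  have htunit : IsUnit (jL (t : Rp)) := IsLocalization.map_units L t
  have huunit : IsUnit (jL (u : Rp)) := IsLocalization.map_units L u
  -- the element z = u • x and the relation b' z = a''
  set x := jK (IsLocalization.mk' L a s) / jK (IsLocalization.mk' L b t) with hxdef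
  set a'' : Rp := (u : Rp) * a * (t : Rp) with ha''
  set b' : Rp := b * (s : Rp) with hb'
  have hb'0 : jL b' ≠ 0 := by
    rw [hb', map_mul]
    exact mul_ne_zero hb0 hsunit.ne_zero
  have hβK : jK (IsLocalization.mk' L b t) ≠ 0 := by
    intro h0
    exact hβ0 ((map_eq_zero_iff jK hjKinj).mp h0)
  have hrel : jK (jL b') * ((u : Rp) • x) = jK (jL a'') := by
    have e1 : jK (jL a) = jK (IsLocalization.mk' L a s) * jK (jL (s : Rp)) := by
      rw [← map_mul, IsLocalization.mk'_spec]
    have e2 : jK (jL b) = jK (IsLocalization.mk' L b t) * jK (jL (t : Rp)) := by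
      rw [← map_mul, IsLocalization.mk'_spec]
    have e3 : (u : Rp) • x = jK (jL (u : Rp)) * x := by
      rw [Algebra.smul_def, IsScalarTower.algebraMap_apply Rp L K]
    rw [e3, hb', ha'', map_mul, map_mul, map_mul, map_mul, map_mul, map_mul, e1, e2, hxdef]
    have key : jK (IsLocalization.mk' L b t) *
        (jK (IsLocalization.mk' L a s) / jK (IsLocalization.mk' L b t)) =
        jK (IsLocalization.mk' L a s) := by
      rw [mul_div_assoc']
      exact mul_div_cancel_left₀ _ hβK
    linear_combination (jK (jL (t : Rp)) * jK (jL (s : Rp)) * jK (jL (u : Rp))) * key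
  -- the polynomial relation
  have h1 : Polynomial.aeval (algebraMap Rp K b' * ((u : Rp) • x)) (scaleRoots q b') = 0 :=
    scaleRoots_aeval_eq_zero hqz
  rw [IsScalarTower.algebraMap_apply Rp L K, hrel, ← IsScalarTower.algebraMap_apply Rp L K,
    Polynomial.aeval_algebraMap_apply] at h1
  set E : Rp := Polynomial.aeval a'' (scaleRoots q b') with hE
  have h2 : jL E = 0 := by
    rw [IsScalarTower.algebraMap_apply Rp L K] at h1
    exact (map_eq_zero_iff jK hjKinj).mp h1
  obtain ⟨w, hw⟩ := (IsLocalization.map_eq_zero_iff P.primeCompl L E).mp h2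
  -- componentwise divisibility
  have hdiv : ∀ i, (w : Rp) i ≠ 0 → b' i ≠ 0 → b' i ∣ a'' i := by
    intro i hwi hbi
    have hEi : E i = 0 := by
      have := congrFun hw i
      simp only [Pi.mul_apply, Pi.zero_apply] at this
      exact (mul_eq_zero.mp this).resolve_left hwi
    have hmonic : (q.map (Pi.evalRingHom R i)).Monic := hq.map _
    apply dvd_of_root_scaleRoots (q.map (Pi.evalRingHom R i)) hmonic (a'' i) (b' i) hbi
    have h3 : (Pi.evalRingHom R i) E = 0 := hEi
    rw [hE, Polynomial.coe_aeval_eq_eval, ← Polynomial.eval₂_id, Polynomial.hom_eval₂,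
      RingHom.comp_id, ← Polynomial.eval_map, map_scaleRoots] at h3
    · exact h3
    · rw [hq.leadingCoeff, map_one]
      exact one_ne_zero
  set y : Rp := fun i => if h : (w : Rp) i ≠ 0 ∧ b' i ≠ 0 then Classical.choose (hdiv i h.1 h.2) else 0
    with hy
  rcases ind_or R P (fun i => (w : Rp) i ≠ 0 ∧ b' i ≠ 0) with hp | hp
  · have h4 := algebraMap_eq_of_agree R P _ hp a'' (b' * y) (fun i hi => by
      show a'' i = b' i * y i
      have hyi : y i = Classical.choose (hdiv i hi.1 hi.2) := by
        rw [hy]; exact dif_pos hi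
      rw [hyi]
      exact Classical.choose_spec (hdiv i hi.1 hi.2))
    refine ⟨IsLocalization.mk' L y u, ?_⟩
    -- from b' z = a'' = b' y
    have h5 : jK (jL b') * ((u : Rp) • x) = jK (jL b') * jK (jL y) := by
      rw [hrel, ← map_mul, ← map_mul]
      exact congrArg jK h4
    have h6 : (u : Rp) • x = jK (jL y) :=
      mul_left_cancel₀ (fun h0 => hb'0 ((map_eq_zero_iff jK hjKinj).mp h0)) h5
    have e3 : (u : Rp) • x = jK (jL (u : Rp)) * x := by
      rw [Algebra.smul_def, IsScalarTower.algebraMap_apply Rp L K]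
    rw [e3] at h6
    have h7 : jK (jL (u : Rp)) ≠ 0 := fun h0 => huunit.ne_zero ((map_eq_zero_iff jK hjKinj).mp h0)
    have : IsLocalization.mk' L y u * jL (u : Rp) = jL y := IsLocalization.mk'_spec _ _ _
    have h8 : jK (IsLocalization.mk' L y u) * jK (jL (u : Rp)) = jK (jL y) := by
      rw [← map_mul, this]
    rw [← h6, mul_comm] at h8
    exact mul_left_cancel₀ h7 h8
  · exfalso
    apply hb'0
    have h4 := algebraMap_eq_zero_of_vanish R P _ hp ((w : Rp) * b') (fun i hi => by
      show (w : Rp) i * b' i = 0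
      by_cases h1 : (w : Rp) i = 0
      · rw [h1, zero_mul]
      · have : b' i = 0 := by
          by_contra h2
          exact hi ⟨h1, h2⟩
        rw [this, mul_zero])
    rw [map_mul] at h4
    exact (mul_eq_zero.mp h4).resolve_left (IsLocalization.map_units L w).ne_zero

end

end Groth.Agent.Helper6.LocPi
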