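import Mathlib

open IsLocalRing

namespace Groth.Agent.Lib.Helper6.LocQF

universe u

variable (R S : Type u) [CommRing R] [CommRing S] [IsLocalRing R] [IsLocalRing S] [Algebra R S]
  [IsLocalHom (algebraMap R S)]

/-- The special fibre ring `S / m_R S`. -/
abbrev Sbar : Type u := S ⧸ (maximalIdeal R).map (algebraMap R S)

theorem map_lt_top : (maximalIdeal R).map (algebraMap R S) ≠ ⊤ :=
  (IsLocalRing.map_maximalIdeal_lt_top (algebraMap R S)).ne

instance : Nontrivial (Sbar R S) := Ideal.Quotient.nontrivial_iff.mpr (map_lt_top R S)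

instance : IsLocalRing (Sbar R S) :=
  IsLocalRing.of_surjective' (Ideal.Quotient.mk _) Ideal.Quotient.mk_surjective

noncomputable instance : Algebra (ResidueField R) (Sbar R S) :=
  inferInstanceAs (Algebra (R ⧸ maximalIdeal R) (S ⧸ (maximalIdeal R).map (algebraMap R S)))

instance : IsScalarTower R (ResidueField R) (Sbar R S) :=
  inferInstanceAs (IsScalarTower R (R ⧸ maximalIdeal R)
    (S ⧸ (maximalIdeal R).map (algebraMap R S)))

/-- The map `S / m_R S → κ(S)` as a map of `κ(R)`-algebras. -/
noncomputable def resMap : Sbar R S →ₐ[ResidueField R] ResidueField S :=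
  { toRingHom := Ideal.Quotient.factor (IsLocalRing.map_maximalIdeal_le (algebraMap R S))
    commutes' := by
      intro x
      obtain ⟨r, rfl⟩ := Ideal.Quotient.mk_surjective x
      rfl }

theorem resMap_surjective : Function.Surjective (resMap R S) :=
  Ideal.Quotient.factor_surjective (IsLocalRing.map_maximalIdeal_le (algebraMap R S))

theorem finite_Sbar [Algebra.EssFiniteType R S]
    (hres : Module.Finite (ResidueField R) (ResidueField S))
    (hdim : ringKrullDim (Sbar R S) = 0) : Module.Finite (ResidueField R) (Sbar R S) := by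
  have : Algebra.EssFiniteType (ResidueField R) (Sbar R S) :=
    Algebra.EssFiniteType.of_comp R (ResidueField R) (Sbar R S)
  have : IsNoetherianRing (Sbar R S) :=
    Algebra.EssFiniteType.isNoetherianRing (ResidueField R) (Sbar R S)
  have : Ring.KrullDimLE 0 (Sbar R S) := Ring.krullDimLE_iff.mpr (by rw [hdim]; rfl)
  refine Module.finite_of_surjective_of_ker_le_nilradical (resMap R S) (resMap_surjective R S) ?_
    (IsNoetherian.noetherian _)
  intro x hx
  rw [nilradical_eq_sInf, Ideal.mem_sInf]
  intro P hP
  have : P.IsPrime := hP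
  have hPmax : P.IsMaximal := inferInstance
  have hP' : P = maximalIdeal (Sbar R S) := IsLocalRing.eq_maximalIdeal hPmax
  rw [hP']
  have hker : RingHom.ker (resMap R S).toRingHom ≠ ⊤ := RingHom.ker_ne_top _
  exact IsLocalRing.le_maximalIdeal hker hx


theorem quasiFinite_Sbar [Algebra.EssFiniteType R S]
    (hres : Module.Finite (ResidueField R) (ResidueField S))
    (hdim : ringKrullDim (Sbar R S) = 0) : Algebra.QuasiFinite R (Sbar R S) := by
  have := finite_Sbar R S hres hdim
  have : Module.Finite R (ResidueField R) :=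
    Module.Finite.of_surjective (Algebra.linearMap R (ResidueField R))
      IsLocalRing.residue_surjective
  exact Algebra.QuasiFinite.trans R (ResidueField R) (Sbar R S)

end Groth.Agent.Lib.Helper6.LocQF

namespace Groth.Agent.Lib.Helper6.LocQF

/-- General lemma: if `A → T` is injective, an isomorphism after inverting `r ∉ n`, and `S = T_n`,
then `S = A_{n ∩ A}`. -/
theorem isLocalization_of_away {A T S : Type*} [CommRing A] [CommRing T] [CommRing S]
    [Algebra A T] [Algebra T S] [Algebra A S] [IsScalarTower A T S]
    (n : Ideal T) [n.IsPrime] [IsLocalization.AtPrime S n]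
    (hinj : Function.Injective (algebraMap A T)) (r : A) (hr : algebraMap A T r ∉ n)
    (H : ∀ t : T, ∃ (b : A) (m : ℕ), algebraMap A T b = algebraMap A T r ^ m * t) :
    IsLocalization.AtPrime S (n.comap (algebraMap A T)) := by
  have hpow : ∀ k : ℕ, algebraMap A T (r ^ k) ∉ n := by
    intro k h
    rw [map_pow] at h
    exact hr (Ideal.IsPrime.mem_of_pow_mem inferInstance k h)
  refine (isLocalization_iff _ _).mpr ⟨?_, ?_, ?_⟩
  · rintro ⟨y, hy⟩
    rw [IsScalarTower.algebraMap_apply A T S]
    exact IsLocalization.map_units (M := n.primeCompl) S ⟨algebraMap A T y, hy⟩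
  · intro z
    obtain ⟨⟨t, ⟨m, hm⟩⟩, htm⟩ := IsLocalization.surj n.primeCompl z
    obtain ⟨b, k, hb⟩ := H t
    obtain ⟨c, l, hc⟩ := H m
    have hcn : algebraMap A T c ∉ n := by
      rw [hc]
      intro h
      rcases Ideal.IsPrime.mem_or_mem inferInstance h with h | h
      · rw [← map_pow] at h; exact hpow l h
      · exact hm h
    have hck : c * r ^ k ∈ (n.comap (algebraMap A T)).primeCompl := by
      show ¬ (algebraMap A T (c * r ^ k) ∈ n)
      rw [map_mul]
      intro h
      rcases Ideal.IsPrime.mem_or_mem inferInstance h with h | h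
      · exact hcn h
      · exact hpow k h
    refine ⟨⟨b * r ^ l, ⟨c * r ^ k, hck⟩⟩, ?_⟩
    show z * algebraMap A S (c * r ^ k) = algebraMap A S (b * r ^ l)
    rw [IsScalarTower.algebraMap_apply A T S, IsScalarTower.algebraMap_apply A T S (b * r ^ l)]
    simp only [map_mul, map_pow, hb, hc]
    have htm' : z * algebraMap T S m = algebraMap T S t := htm
    rw [← htm']
    ring
  · intro x y hxy
    rw [IsScalarTower.algebraMap_apply A T S, IsScalarTower.algebraMap_apply A T S y] at hxy
    obtain ⟨⟨m, hm⟩, hmxy⟩ := (IsLocalization.eq_iff_exists n.primeCompl S).mp hxy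
    obtain ⟨c, l, hc⟩ := H m
    have hcn : algebraMap A T c ∉ n := by
      rw [hc]
      intro h
      rcases Ideal.IsPrime.mem_or_mem inferInstance h with h | h
      · rw [← map_pow] at h; exact hpow l h
      · exact hm h
    refine ⟨⟨c, hcn⟩, ?_⟩
    apply hinj
    show algebraMap A T (c * x) = algebraMap A T (c * y)
    rw [map_mul, map_mul, hc, mul_assoc, mul_assoc]
    have : m * algebraMap A T x = m * algebraMap A T y := hmxy
    rw [this]

end Groth.Agent.Lib.Helper6.LocQF

namespace Groth.Agent.Lib.Helper6.LocQF

open Algebra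

universe u

variable (R S : Type u) [CommRing R] [CommRing S] [IsLocalRing R] [IsLocalRing S] [Algebra R S]
  [IsLocalHom (algebraMap R S)] [Algebra.EssFiniteType R S]

/-- The finite type subalgebra of which `S` is a localization. -/
noncomputable abbrev T₀ : Subalgebra R S := EssFiniteType.subalgebra R S

/-- The contraction of the maximal ideal of `S` to `T₀`. -/
noncomputable def nn : Ideal (T₀ R S) := (maximalIdeal S).comap (algebraMap (T₀ R S) S)

instance : (nn R S).IsPrime := by unfold nn; infer_instance

theorem submonoid_eq : EssFiniteType.submonoid R S = (nn R S).primeCompl := by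
  ext t
  show IsUnit (algebraMap _ S t) ↔ ¬ (algebraMap _ S t ∈ maximalIdeal S)
  rw [IsLocalRing.mem_maximalIdeal, mem_nonunits_iff, not_not]

instance : IsLocalization.AtPrime S (nn R S) := by
  show IsLocalization (nn R S).primeCompl S
  rw [← submonoid_eq]; infer_instance

theorem nn_under : (nn R S).under R = maximalIdeal R := by
  show Ideal.comap (algebraMap R (T₀ R S)) ((maximalIdeal S).comap (algebraMap (T₀ R S) S)) = _
  rw [Ideal.comap_comap, ← IsScalarTower.algebraMap_eq]
  exact IsLocalRing.maximalIdeal_comap (algebraMap R S)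

theorem weakly (hres : Module.Finite (ResidueField R) (ResidueField S))
    (hdim : ringKrullDim (Sbar R S) = 0) : Algebra.WeaklyQuasiFiniteAt R (nn R S) := by
  rw [Algebra.weaklyQuasiFiniteAt_iff]
  have hq := quasiFinite_Sbar R S hres hdim
  let e : S ≃ₐ[T₀ R S] Localization.AtPrime (nn R S) :=
    IsLocalization.algEquiv (nn R S).primeCompl S (Localization.AtPrime (nn R S))
  let J : Ideal (Localization.AtPrime (nn R S)) :=
    ((nn R S).under R).map (algebraMap R (Localization.AtPrime (nn R S)))
  let f : S →ₐ[R] Localization.AtPrime (nn R S) ⧸ J :=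
    (Ideal.Quotient.mkₐ R J).comp (e.restrictScalars R).toAlgHom
  have hf : Function.Surjective f :=
    Ideal.Quotient.mk_surjective.comp (e.restrictScalars R).surjective
  have hker : ∀ a ∈ (maximalIdeal R).map (algebraMap R S), f a = 0 := by
    intro a ha
    have hle : (maximalIdeal R).map (algebraMap R S) ≤ RingHom.ker f.toRingHom := by
      rw [Ideal.map_le_iff_le_comap]
      intro x hx
      show f (algebraMap R S x) = 0
      rw [f.commutes, IsScalarTower.algebraMap_apply R (Localization.AtPrime (nn R S)),
        Ideal.Quotient.algebraMap_eq, Ideal.Quotient.eq_zero_iff_mem]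
      apply Ideal.mem_map_of_mem
      rw [nn_under]
      exact hx
    exact hle ha
  let g : Sbar R S →ₐ[R] Localization.AtPrime (nn R S) ⧸ J :=
    Ideal.Quotient.liftₐ _ f hker
  refine Algebra.QuasiFinite.of_surjective_algHom g ?_
  intro y
  obtain ⟨x, rfl⟩ := hf y
  exact ⟨Ideal.Quotient.mk _ x, rfl⟩

theorem main (hres : Module.Finite (ResidueField R) (ResidueField S))
    (hdim : ringKrullDim (Sbar R S) = 0) :
    ∃ (S' : Type u) (_ : CommRing S') (_ : Algebra R S') (_ : Algebra S' S)
      (_ : IsScalarTower R S' S)
      (q : Ideal S') (_ : q.IsPrime), Module.Finite R S' ∧ IsLocalization.AtPrime S q := by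
  have := weakly R S hres hdim
  obtain ⟨S', hfg, r, hrn, hbij⟩ :=
    Algebra.QuasiFiniteAt.exists_fg_and_exists_notMem_and_awayMap_bijective (R := R) (nn R S)
  have hfin : Module.Finite R S' := ⟨(Submodule.fg_top _).mpr hfg⟩
  have hstar := Localization.awayMap_surjective_iff.mp hbij.2
  have tower1 : IsScalarTower S' (T₀ R S) S := IsScalarTower.of_algebraMap_eq fun _ => rfl
  have tower2 : IsScalarTower R S' S := IsScalarTower.of_algebraMap_eq fun _ => rfl
  exact ⟨S', inferInstance, inferInstance, inferInstance, tower2,
    (nn R S).comap (algebraMap S' (T₀ R S)), inferInstance, hfin,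
    isLocalization_of_away (A := S') (T := T₀ R S) (S := S) (nn R S)
      Subtype.val_injective r hrn hstar⟩

end Groth.Agent.Lib.Helper6.LocQF
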