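import Mathlib

/-! Pole-order reduction for a logarithmic connection on the affine line (algebraic core). -/

open Polynomial
set_option linter.unusedSectionVars false
set_option autoImplicit false
noncomputable section

namespace Groth.Agent.Lib.Helper6.LogPole

universe u
variable {R : Type u} [CommRing R] [IsDomain R] [Algebra ℂ R] {d r : ℕ} (θ : Fin r → R)
  (hθ : ∀ i k, i ≠ k → IsUnit (θ i - θ k))
  (Θ : R[X]) (hΘ : Θ = ∏ i, (X - Polynomial.C (θ i)))

/-- the unit `∏_{k ≠ i} (θ i - θ k)` -/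
def cc (i : Fin r) : R := ∏ k ∈ Finset.univ.erase i, (θ i - θ k)

include hθ in
lemma isUnit_cc (i : Fin r) : IsUnit (cc θ i) := by
  unfold cc
  rw [IsUnit.prod_iff]
  intro k hk
  exact hθ i k (Finset.ne_of_mem_erase hk).symm

include hΘ in
lemma Θ_eq_mul (i : Fin r) :
    Θ = (X - Polynomial.C (θ i)) * ∏ k ∈ Finset.univ.erase i, (X - Polynomial.C (θ k)) := by
  rw [hΘ, Finset.mul_prod_erase Finset.univ (fun k => X - Polynomial.C (θ k)) (Finset.mem_univ i)]

include hΘ in
lemma Θ_eval (i : Fin r) : Θ.eval (θ i) = 0 := by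
  rw [Θ_eq_mul θ Θ hΘ i, eval_mul, eval_sub, eval_X, eval_C, sub_self, zero_mul]

include hΘ in
lemma Θ_deriv_eval (i : Fin r) : (derivative Θ).eval (θ i) = cc θ i := by
  rw [Θ_eq_mul θ Θ hΘ i, derivative_mul, eval_add, eval_mul, eval_mul, derivative_sub,
    derivative_X, derivative_C, sub_zero, eval_one, one_mul, eval_sub, eval_X, eval_C, sub_self,
    zero_mul, add_zero, eval_prod]
  unfold cc
  refine Finset.prod_congr rfl fun k _ => ?_
  rw [eval_sub, eval_X, eval_C]

include hθ hΘ in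
lemma Θ_dvd_of_eval (p : R[X]) (hp : ∀ i, p.eval (θ i) = 0) : Θ ∣ p := by
  rw [hΘ]
  refine Finset.prod_dvd_of_coprime (fun a _ b _ hab => ?_) fun a _ => ?_
  · exact isCoprime_X_sub_C_of_isUnit_sub (hθ a b hab)
  · rw [dvd_iff_isRoot]
    exact hp a

include hΘ in
lemma Θ_ne_zero : Θ ≠ 0 := by
  rw [hΘ]
  exact (monic_prod_of_monic _ _ fun i _ => monic_X_sub_C (θ i)).ne_zero

section Res

variable (f : (Fin d → R) →ₗ[R] (Fin d → R)) (χ : ℂ[X])
  (hf : f.charpoly = χ.map (algebraMap ℂ R)) (hχ : ∀ n : ℤ, n ≠ 0 → χ.eval (n : ℂ) ≠ 0)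

include hf hχ in
lemma res_aux (N : ℕ) (hN : N ≠ 0) :
    ∃ (a : R) (q : (Fin d → R) →ₗ[R] (Fin d → R)), IsUnit a ∧
      (∀ m, q (f m - (N : R) • m) = a • m) ∧ (∀ m, f (q m) - (N : R) • q m = a • m) := by
  obtain ⟨q, hq⟩ := X_sub_C_dvd_sub_C_eval (a := (N : R)) (p := f.charpoly)
  have h1 : f.charpoly.eval (N : R) = algebraMap ℂ R (χ.eval (N : ℂ)) := by
    rw [hf, eval_map]
    have : (N : R) = algebraMap ℂ R (N : ℂ) := by simp
    rw [this, eval₂_hom]
  have hu : IsUnit (f.charpoly.eval (N : R)) := by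
    rw [h1]
    have h2 : χ.eval (N : ℂ) ≠ 0 := by
      have := hχ (N : ℤ) (by exact_mod_cast hN)
      simpa using this
    exact (IsUnit.mk0 _ h2).map (algebraMap ℂ R)
  have h3 := congrArg (aeval f) hq
  rw [map_sub, map_mul, map_sub, aeval_X, aeval_C, aeval_C, LinearMap.aeval_self_charpoly,
    zero_sub] at h3
  refine ⟨-(f.charpoly.eval (N : R)), aeval f q, hu.neg, fun m => ?_, fun m => ?_⟩
  · have h4 := LinearMap.congr_fun h3 m
    have h5 : (f - algebraMap R (Module.End R (Fin d → R)) (N : R)) * (aeval f q) =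
        (aeval f q) * (f - algebraMap R (Module.End R (Fin d → R)) (N : R)) := by
      have : (X - Polynomial.C (N : R)) * q = q * (X - Polynomial.C (N : R)) := mul_comm _ _
      have h6 := congrArg (aeval f) this
      rwa [map_mul, map_mul, map_sub, aeval_X, aeval_C] at h6
    rw [h5] at h4
    simp only [LinearMap.neg_apply, Module.algebraMap_end_apply, Module.End.mul_apply,
      LinearMap.sub_apply] at h4
    rw [neg_smul]
    exact h4.symm
  · have h4 := LinearMap.congr_fun h3 m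
    simp only [LinearMap.neg_apply, Module.algebraMap_end_apply, Module.End.mul_apply,
      LinearMap.sub_apply] at h4
    rw [neg_smul]
    exact h4.symm

include hf hχ in
lemma res_inj (N : ℕ) (hN : N ≠ 0) (m : Fin d → R) (hm : f m = (N : R) • m) : m = 0 := by
  obtain ⟨a, q, ha, h1, _⟩ := res_aux f χ hf hχ N hN
  have h2 := h1 m
  rw [hm, sub_self, map_zero] at h2
  obtain ⟨u, rfl⟩ := ha
  have h3 : (↑u⁻¹ : R) • ((u : R) • m) = 0 := by rw [← h2, smul_zero]
  rwa [smul_smul, Units.inv_mul, one_smul] at h3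

include hf hχ in
lemma res_surj (N : ℕ) (hN : N ≠ 0) (m : Fin d → R) :
    ∃ b : Fin d → R, f b - (N : R) • b = m := by
  obtain ⟨a, q, ha, _, h1⟩ := res_aux f χ hf hχ N hN
  obtain ⟨u, rfl⟩ := ha
  refine ⟨q ((↑u⁻¹ : R) • m), ?_⟩
  rw [h1, smul_smul, Units.mul_inv, one_smul]

end Res

section Ops

variable (D₀ : (Fin d → R[X]) →+ (Fin d → R[X]))
  (hD₀ : ∀ (p : R[X]) (v : Fin d → R[X]),
    D₀ (p • v) = (Θ * Polynomial.derivative p) • v + p • D₀ v)
  (D : (Fin d → Localization.Away Θ) →+ (Fin d → Localization.Away Θ))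
  (hD : ∀ (p : R[X]) (w : Fin d → Localization.Away Θ),
    D (p • w) = (Θ * Polynomial.derivative p) • w + p • D w)
  (hDD₀ : ∀ v : Fin d → R[X],
    D (fun j => algebraMap R[X] (Localization.Away Θ) (v j)) =
      fun j => algebraMap R[X] (Localization.Away Θ) (D₀ v j))
  (Res : Fin r → ((Fin d → R) →ₗ[R] (Fin d → R)))
  (hRes : ∀ (i : Fin r) (m : Fin d → R) (j : Fin d),
    (D₀ (fun j => Polynomial.C (m j)) j).eval (θ i) =
      (∏ k ∈ Finset.univ.erase i, (θ i - θ k)) * Res i m j)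

/-- the inclusion of polynomial vectors -/
def ι (v : Fin d → R[X]) : Fin d → Localization.Away Θ :=
  fun j => algebraMap R[X] (Localization.Away Θ) (v j)

lemma ι_smul (p : R[X]) (v : Fin d → R[X]) : ι Θ (p • v) = p • ι Θ v := by
  funext j
  show algebraMap R[X] (Localization.Away Θ) (p * v j) = p • algebraMap R[X] _ (v j)
  rw [map_mul, Algebra.smul_def]

lemma ι_add (v w : Fin d → R[X]) : ι Θ (v + w) = ι Θ v + ι Θ w := by
  funext j
  show algebraMap R[X] (Localization.Away Θ) (v j + w j) = _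
  rw [map_add]
  rfl

lemma ι_sub (v w : Fin d → R[X]) : ι Θ (v - w) = ι Θ v - ι Θ w := by
  funext j
  show algebraMap R[X] (Localization.Away Θ) (v j - w j) = _
  rw [map_sub]
  rfl

include hΘ in
lemma ι_injective : Function.Injective (ι (d := d) Θ) := by
  intro v w h
  funext j
  have h1 := congrFun h j
  have hinj : Function.Injective (algebraMap R[X] (Localization.Away Θ)) :=
    IsLocalization.injective (Localization.Away Θ)
      (powers_le_nonZeroDivisors_of_noZeroDivisors (Θ_ne_zero θ Θ hΘ))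
  exact hinj h1

lemma smul_cancel (x y : Fin d → Localization.Away Θ) (h : Θ • x = Θ • y) : x = y := by
  funext j
  have h1 := congrFun h j
  simp only [Pi.smul_apply, Algebra.smul_def] at h1
  exact (IsLocalization.Away.algebraMap_isUnit (S := Localization.Away Θ) Θ).mul_left_cancel h1

include hΘ hD₀ hRes in
lemma eval_D₀ (v : Fin d → R[X]) (i : Fin r) (j : Fin d) :
    (D₀ v j).eval (θ i) = cc θ i * Res i (fun j => (v j).eval (θ i)) j := by
  set m : Fin d → R := fun j => (v j).eval (θ i) with hm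
  set v₁ : Fin d → R[X] := fun j => v j /ₘ (X - Polynomial.C (θ i)) with hv₁
  have hv : v = (fun j => Polynomial.C (m j)) + (X - Polynomial.C (θ i)) • v₁ := by
    funext j
    have := modByMonic_add_div (v j) (X - Polynomial.C (θ i))
    rw [modByMonic_X_sub_C_eq_C_eval] at this
    exact this.symm
  rw [hv, map_add, hD₀]
  simp only [Pi.add_apply, Pi.smul_apply, smul_eq_mul, eval_add, eval_mul, eval_sub, eval_X,
    eval_C, sub_self, zero_mul, add_zero, Θ_eval θ Θ hΘ i]
  rw [hRes]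
  rfl

include hD hDD₀ in
lemma smul_pow_D (N : ℕ) (w : Fin d → Localization.Away Θ) (v : Fin d → R[X])
    (h : (Θ ^ N) • w = ι Θ v) :
    (Θ ^ N) • D w = ι Θ (D₀ v - (Polynomial.C (N : R) * derivative Θ) • v) := by
  have h1 := hD (Θ ^ N) w
  rw [h] at h1
  have h2 : D (ι Θ v) = ι Θ (D₀ v) := hDD₀ v
  rw [h2] at h1
  have h3 : (Θ * derivative (Θ ^ N)) • w = (Polynomial.C (N : R) * derivative Θ) • ι Θ v := by
    rw [← h, smul_smul]
    congr 1
    rw [derivative_pow]
    rcases Nat.eq_zero_or_pos N with hN | hN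
    · subst hN
      simp
    · have : Θ ^ N = Θ * Θ ^ (N - 1) := by
        rw [← pow_succ', Nat.sub_add_cancel hN]
      rw [this]
      ring
  rw [h3, ← ι_smul] at h1
  rw [ι_sub, h1]
  abel

lemma exists_clear (w : Fin d → Localization.Away Θ) :
    ∃ (N : ℕ) (v : Fin d → R[X]), (Θ ^ N) • w = ι Θ v := by
  have h1 : ∀ j, ∃ (n : ℕ) (p : R[X]), (Θ ^ n) • w j = algebraMap R[X] _ p := by
    intro j
    obtain ⟨⟨p, ⟨_, n, rfl⟩⟩, hp⟩ := IsLocalization.surj (Submonoid.powers Θ) (w j)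
    refine ⟨n, p, ?_⟩
    rw [Algebra.smul_def, mul_comm]
    exact hp
  choose n p hp using h1
  refine ⟨∑ j, n j, fun j => Θ ^ ((∑ j, n j) - n j) * p j, ?_⟩
  funext j
  show (Θ ^ (∑ j, n j)) • w j = algebraMap R[X] _ (Θ ^ ((∑ j, n j) - n j) * p j)
  have hle : n j ≤ ∑ j, n j := Finset.single_le_sum (fun _ _ => Nat.zero_le _) (Finset.mem_univ j)
  rw [map_mul, ← hp j, ← Algebra.smul_def, smul_smul, ← pow_add, Nat.sub_add_cancel hle]

variable (hχ : ∀ i : Fin r, ∃ χ : ℂ[X], (Res i).charpoly = χ.map (algebraMap ℂ R) ∧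
      ∀ n : ℤ, n ≠ 0 → χ.eval (n : ℂ) ≠ 0)

include hθ hΘ hD₀ hRes in
/-- evaluation of the pole-reduction operator at `θ i` -/
lemma eval_op (N : ℕ) (v : Fin d → R[X]) (i : Fin r) (j : Fin d) :
    ((D₀ v - (Polynomial.C (N : R) * derivative Θ) • v) j).eval (θ i) =
      cc θ i * (Res i (fun j => (v j).eval (θ i)) j - (N : R) * (v j).eval (θ i)) := by
  simp only [Pi.sub_apply, Pi.smul_apply, smul_eq_mul, eval_sub, eval_mul, eval_C]
  rw [eval_D₀ θ Θ hΘ D₀ hD₀ Res hRes v i j, Θ_deriv_eval θ Θ hΘ i]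
  ring

include hθ hΘ hD₀ hD hDD₀ hRes hχ in
theorem regular_of_D_regular (f : Fin d → Localization.Away Θ)
    (hf : ∃ v : Fin d → R[X], D f = ι Θ v) : ∃ v : Fin d → R[X], f = ι Θ v := by
  obtain ⟨u₀, hu₀⟩ := hf
  obtain ⟨N, v, hv⟩ := exists_clear Θ f
  induction N generalizing v with
  | zero => exact ⟨v, by simpa using hv⟩
  | succ N ih =>
    have h1 := smul_pow_D Θ D₀ D hD hDD₀ (N + 1) f v hv
    rw [hu₀, ← ι_smul] at h1
    have h2 := ι_injective θ Θ hΘ h1
    have h3 : ∀ i j, (v j).eval (θ i) = 0 := by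
      intro i
      obtain ⟨χ, hχ1, hχ2⟩ := hχ i
      have h4 : Res i (fun j => (v j).eval (θ i)) = ((N + 1 : ℕ) : R) • fun j => (v j).eval (θ i) := by
        funext j
        have h5 := eval_op θ hθ Θ hΘ D₀ hD₀ Res hRes (N + 1) v i j
        rw [← h2] at h5
        simp only [Pi.smul_apply, smul_eq_mul, eval_mul, eval_pow, Θ_eval θ Θ hΘ i] at h5
        rw [zero_pow (Nat.succ_ne_zero N), zero_mul] at h5
        have h6 := (isUnit_cc θ hθ i).mul_right_eq_zero.1 h5.symm
        rw [Pi.smul_apply, smul_eq_mul]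
        exact sub_eq_zero.1 h6
      have h7 := res_inj (Res i) χ hχ1 hχ2 (N + 1) (Nat.succ_ne_zero N) _ h4
      exact fun j => congrFun h7 j
    have h5 : ∀ j, Θ ∣ v j := fun j => Θ_dvd_of_eval θ hθ Θ hΘ (v j) (fun i => h3 i j)
    choose v₁ hv₁ using h5
    apply ih v₁
    apply smul_cancel Θ
    rw [smul_smul, ← pow_succ', hv, ← ι_smul]
    congr 1
    funext j
    exact hv₁ j

include hθ hΘ hD₀ hD hDD₀ hRes hχ in
theorem exists_decomp (w : Fin d → Localization.Away Θ) :
    ∃ (w' : Fin d → Localization.Away Θ) (v : Fin d → R[X]), w = D w' + ι Θ v := by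
  obtain ⟨N, v, hv⟩ := exists_clear Θ w
  induction N generalizing w v with
  | zero => exact ⟨0, v, by simpa using hv⟩
  | succ N ih =>
    have hb : ∀ i, ∃ b : Fin d → R, Res i b - ((N + 1 : ℕ) : R) • b =
        (↑(isUnit_cc θ hθ i).unit⁻¹ : R) • (fun j => (v j).eval (θ i)) := fun i => by
      obtain ⟨χ, hχ1, hχ2⟩ := hχ i
      exact res_surj (Res i) χ hχ1 hχ2 (N + 1) (Nat.succ_ne_zero N) _
    choose b hb using hb
    let a : Fin d → R[X] := fun j => ∑ i, Polynomial.C (b i j * ↑(isUnit_cc θ hθ i).unit⁻¹) *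
      ∏ k ∈ Finset.univ.erase i, (X - Polynomial.C (θ k))
    have ha : ∀ i j, (a j).eval (θ i) = b i j := by
      intro i j
      show (∑ i', Polynomial.C (b i' j * ↑(isUnit_cc θ hθ i').unit⁻¹) *
        ∏ k ∈ Finset.univ.erase i', (X - Polynomial.C (θ k))).eval (θ i) = b i j
      rw [eval_finsetSum, Finset.sum_eq_single i]
      · rw [eval_mul, eval_C, eval_prod]
        have : ∏ k ∈ Finset.univ.erase i, (X - Polynomial.C (θ k)).eval (θ i) = cc θ i := by
          unfold cc
          refine Finset.prod_congr rfl fun k _ => ?_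
          rw [eval_sub, eval_X, eval_C]
        rw [this, mul_assoc]
        have h0 : (↑(isUnit_cc θ hθ i).unit⁻¹ : R) * cc θ i = 1 := by
          have := (isUnit_cc θ hθ i).unit.inv_mul
          rwa [IsUnit.unit_spec] at this
        rw [h0, mul_one]
      · intro i' _ hi'
        rw [eval_mul, eval_prod]
        have : ∏ k ∈ Finset.univ.erase i', (X - Polynomial.C (θ k)).eval (θ i) = 0 := by
          refine Finset.prod_eq_zero (Finset.mem_erase.2 ⟨hi'.symm, Finset.mem_univ i⟩) ?_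
          rw [eval_sub, eval_X, eval_C, sub_self]
        rw [this, mul_zero]
      · intro h
        exact absurd (Finset.mem_univ i) h
    let uΘ : (Localization.Away Θ)ˣ :=
      (IsLocalization.Away.algebraMap_isUnit (S := Localization.Away Θ) Θ).unit
    have huΘ : (uΘ : Localization.Away Θ) = algebraMap R[X] _ Θ := IsUnit.unit_spec _
    let w₁ : Fin d → Localization.Away Θ :=
      fun j => ↑(uΘ⁻¹ ^ (N + 1)) * algebraMap R[X] _ (a j)
    have hw₁ : (Θ ^ (N + 1)) • w₁ = ι Θ a := by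
      funext j
      show (Θ ^ (N + 1)) • (((uΘ⁻¹ ^ (N + 1) : (Localization.Away Θ)ˣ) : Localization.Away Θ) *
        algebraMap R[X] (Localization.Away Θ) (a j)) = algebraMap R[X] (Localization.Away Θ) (a j)
      rw [Algebra.smul_def, map_pow, ← huΘ, ← mul_assoc, ← Units.val_pow_eq_pow_val,
        ← Units.val_mul, ← mul_pow, mul_inv_cancel, one_pow, Units.val_one, one_mul]
    have h1 := smul_pow_D Θ D₀ D hD hDD₀ (N + 1) w₁ a hw₁
    -- the corrected numerator vanishes at every `θ i`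
    set g : Fin d → R[X] := v - (D₀ a - (Polynomial.C ((N + 1 : ℕ) : R) * derivative Θ) • a) with hg
    have hg0 : ∀ i j, (g j).eval (θ i) = 0 := by
      intro i j
      have h5 := eval_op θ hθ Θ hΘ D₀ hD₀ Res hRes (N + 1) a i j
      rw [hg, Pi.sub_apply, eval_sub, h5]
      have h6 : (fun j => (a j).eval (θ i)) = b i := funext fun j => ha i j
      rw [h6, ha]
      have h7 := congrFun (hb i) j
      simp only [Pi.sub_apply, Pi.smul_apply, smul_eq_mul] at h7
      rw [h7, ← mul_assoc]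
      have h0 : cc θ i * (↑(isUnit_cc θ hθ i).unit⁻¹ : R) = 1 := by
        have := (isUnit_cc θ hθ i).unit.mul_inv
        rwa [IsUnit.unit_spec] at this
      rw [h0, one_mul, sub_self]
    have h5 : ∀ j, Θ ∣ g j := fun j => Θ_dvd_of_eval θ hθ Θ hΘ (g j) (fun i => hg0 i j)
    choose v₁ hv₁ using h5
    have h8 : (Θ ^ N) • (w - D w₁) = ι Θ v₁ := by
      apply smul_cancel Θ
      rw [smul_smul, ← pow_succ', smul_sub, hv, h1, ← ι_sub, ← ι_smul]
      congr 1
      funext j
      exact hv₁ j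
    obtain ⟨w₂, v₂, h9⟩ := ih (w - D w₁) v₁ h8
    refine ⟨w₁ + w₂, v₂, ?_⟩
    rw [map_add, add_assoc, ← h9]
    abel

end Ops

end Groth.Agent.Lib.Helper6.LogPole
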