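import Mathlib

/-!
# Lüroth in several variables (helper6)

A finitely generated field of transcendence degree one over an algebraically closed field `k`
which embeds in `k(t_1, …, t_n)` is purely transcendental.
-/

open Polynomial IntermediateField

universe u

namespace Groth.Agent.Lib.Helper6.LurothMv

set_option linter.unusedSectionVars false

section Place

variable {k : Type*} [Field k] {P L F K : Type*} [CommRing P] [IsDomain P] [Field L] [Field F]
  [Field K] [Algebra k P] [Algebra k L] [Algebra k F] [Algebra k K] [Algebra P L]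
  [IsScalarTower k P L] [IsFractionRing P L]

variable (e : P →ₐ[k] F)

instance kerPrime : (RingHom.ker (e : P →+* F)).IsPrime := RingHom.ker_isPrime _

/-- the local ring of the place -/
abbrev O : Type _ := Localization.AtPrime (RingHom.ker (e : P →+* F))

theorem isUnit_L (y : (RingHom.ker (e : P →+* F)).primeCompl) :
    IsUnit (IsScalarTower.toAlgHom k P L y) := by
  rw [isUnit_iff_ne_zero]
  intro h
  have h0 : (y : P) = 0 := by
    apply IsFractionRing.injective P L
    rw [map_zero]
    exact h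
  exact y.2 (by rw [h0]; exact Submodule.zero_mem _)

theorem isUnit_F (y : (RingHom.ker (e : P →+* F)).primeCompl) : IsUnit (e y) := by
  rw [isUnit_iff_ne_zero]
  intro h
  exact y.2 ((RingHom.mem_ker).mpr h)

/-- inclusion of the local ring into the fraction field -/
noncomputable def ι : O e →ₐ[k] L :=
  IsLocalization.liftAlgHom (M := (RingHom.ker (e : P →+* F)).primeCompl)
    (f := IsScalarTower.toAlgHom k P L) (isUnit_L e)

/-- the residue map -/
noncomputable def σ : O e →ₐ[k] F :=
  IsLocalization.liftAlgHom (M := (RingHom.ker (e : P →+* F)).primeCompl)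
    (f := e) (isUnit_F e)

theorem ι_mk'_eq_iff (a : P) (b : (RingHom.ker (e : P →+* F)).primeCompl) (v : L) :
    ι (k := k) (L := L) e (IsLocalization.mk' (O e) a b) = v ↔
      algebraMap P L a = algebraMap P L b * v :=
  IsLocalization.lift_mk'_spec _ _ _ _

theorem σ_mk'_eq_iff (a : P) (b : (RingHom.ker (e : P →+* F)).primeCompl) (v : F) :
    σ (k := k) e (IsLocalization.mk' (O e) a b) = v ↔ e a = e b * v :=
  IsLocalization.lift_mk'_spec _ _ _ _

theorem ι_injective : Function.Injective (ι (k := k) (L := L) e) := by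
  have h := (IsLocalization.lift_injective_iff (M := (RingHom.ker (e : P →+* F)).primeCompl)
    (S := O e) (g := (IsScalarTower.toAlgHom k P L : P →+* L)) (hg := isUnit_L e)).mpr ?_
  · exact h
  · intro x y
    have h1 : Function.Injective (algebraMap P (O e)) :=
      IsLocalization.injective (O e) (M := (RingHom.ker (e : P →+* F)).primeCompl)
        (Ideal.primeCompl_le_nonZeroDivisors _)
    have h2 : Function.Injective (algebraMap P L) := IsFractionRing.injective P L
    constructor
    · intro h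
      rw [h1 h]
    · intro h
      have : x = y := h2 h
      rw [this]

theorem isUnit_of_σ_ne_zero (o : O e) (h : σ (k := k) e o ≠ 0) : IsUnit o := by
  obtain ⟨a, b, rfl⟩ := IsLocalization.exists_mk'_eq (RingHom.ker (e : P →+* F)).primeCompl o
  rw [IsLocalization.AtPrime.isUnit_mk'_iff (O e) (RingHom.ker (e : P →+* F))]
  intro ha
  apply h
  rw [σ_mk'_eq_iff, mul_zero]
  exact RingHom.mem_ker.mp ha

theorem mem_range_ι_iff (v : L) : v ∈ (ι (k := k) (L := L) e).range ↔
    ∃ a b : P, e b ≠ 0 ∧ v * algebraMap P L b = algebraMap P L a := by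
  constructor
  · rintro ⟨o, rfl⟩
    obtain ⟨a, b, rfl⟩ := IsLocalization.exists_mk'_eq (RingHom.ker (e : P →+* F)).primeCompl o
    refine ⟨a, b, fun h => b.2 (RingHom.mem_ker.mpr h), ?_⟩
    have := (ι_mk'_eq_iff (k := k) (L := L) e a b _).mp rfl
    rw [this, mul_comm]
    rfl
  · rintro ⟨a, b, hb, h⟩
    have hb' : b ∈ (RingHom.ker (e : P →+* F)).primeCompl :=
      fun hb' => hb (RingHom.mem_ker.mp hb')
    refine ⟨IsLocalization.mk' (O e) a ⟨b, hb'⟩, ?_⟩
    show ι e (IsLocalization.mk' (O e) a ⟨b, hb'⟩) = v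
    rw [ι_mk'_eq_iff, ← h, mul_comm]

variable (φ : K →ₐ[k] L)

/-- the domain of the place inside `K`. -/
noncomputable def D : Subalgebra k K := (ι (k := k) (L := L) e).range.comap φ

theorem mem_D_iff (f : K) : f ∈ D e φ ↔ ∃ o : O e, ι (k := k) (L := L) e o = φ f := by
  simp [D, Subalgebra.mem_comap, AlgHom.mem_range]

theorem inv_aeval_mem_D (x : K) (ox : O e) (hox : ι (k := k) (L := L) e ox = φ x)
    (htr : Transcendental k (σ (k := k) e ox))
    (g : k[X]) (hg : g ≠ 0) : (aeval x g)⁻¹ ∈ D e φ := by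
  rw [mem_D_iff]
  have h1 : σ (k := k) e (aeval ox g) ≠ 0 := by
    rw [← Polynomial.aeval_algHom_apply]
    intro h
    exact hg ((transcendental_iff.mp htr) g h)
  obtain ⟨u, hu⟩ := isUnit_of_σ_ne_zero e _ h1
  refine ⟨↑u⁻¹, ?_⟩
  have h2 : ι (k := k) (L := L) e (aeval ox g) = φ (aeval x g) := by
    rw [← Polynomial.aeval_algHom_apply, hox, Polynomial.aeval_algHom_apply]
  have h3 : ι (k := k) (L := L) e (↑u⁻¹) * ι (k := k) (L := L) e (aeval ox g) = 1 := by
    rw [← map_mul, ← hu, Units.inv_mul, map_one]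
  rw [map_inv₀, ← h2]
  exact eq_inv_of_mul_eq_one_left h3

theorem adjoin_simple_le_D (x : K) (ox : O e) (hox : ι (k := k) (L := L) e ox = φ x)
    (htr : Transcendental k (σ (k := k) e ox)) (y : K) (hy : y ∈ k⟮x⟯) : y ∈ D e φ := by
  have hxD : x ∈ D e φ := (mem_D_iff e φ x).mpr ⟨ox, hox⟩
  obtain ⟨r, s, rfl⟩ := (mem_adjoin_simple_iff k y).mp hy
  by_cases hs : s = 0
  · rw [hs, map_zero, div_zero]
    exact (D e φ).zero_mem
  · rw [div_eq_mul_inv]
    refine (D e φ).mul_mem ?_ (inv_aeval_mem_D e φ x ox hox htr s hs)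
    rw [← Polynomial.aeval_subalgebra_coe r (D e φ) ⟨x, hxD⟩]
    exact (aeval (⟨x, hxD⟩ : D e φ) r).2

theorem D_eq_top (x : K) [Algebra.IsAlgebraic k⟮x⟯ K] (ox : O e)
    (hox : ι (k := k) (L := L) e ox = φ x) (htr : Transcendental k (σ (k := k) e ox))
    (s : Set K) (hs : adjoin k s = ⊤) (hsD : s ⊆ D e φ) (f : K) : f ∈ D e φ := by
  let D' : Subalgebra k⟮x⟯ K :=
    { (D e φ).toSubsemiring with
      algebraMap_mem' := fun r => adjoin_simple_le_D e φ x ox hox htr r r.2 }
  have hinv : ∀ f ∈ D e φ, f⁻¹ ∈ D e φ := fun f hf =>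
    D'.inv_mem_of_algebraic (x := ⟨f, hf⟩) (Algebra.IsAlgebraic.isAlgebraic _)
  let T : IntermediateField k K := (D e φ).toIntermediateField hinv
  have hT : adjoin k s ≤ T := adjoin_le_iff.mpr hsD
  rw [hs] at hT
  exact hT (IntermediateField.mem_top)

/-- Extending the place to an embedding of `K`. -/
theorem exists_algHom (x : K) [Algebra.IsAlgebraic k⟮x⟯ K]
    (s : Set K) (hs : adjoin k s = ⊤)
    (hdom : ∀ z ∈ s, ∃ a b : P, e b ≠ 0 ∧ φ z * algebraMap P L b = algebraMap P L a)
    (hx : ∃ a b : P, e b ≠ 0 ∧ φ x * algebraMap P L b = algebraMap P L a ∧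
      Transcendental k (e a / e b)) :
    Nonempty (K →ₐ[k] F) := by
  obtain ⟨a, b, hb, hab, htr⟩ := hx
  have hb' : b ∈ (RingHom.ker (e : P →+* F)).primeCompl :=
    fun hb' => hb (RingHom.mem_ker.mp hb')
  let ox : O e := IsLocalization.mk' (O e) a ⟨b, hb'⟩
  have hox : ι (k := k) (L := L) e ox = φ x := by
    rw [ι_mk'_eq_iff, ← hab, mul_comm]
  have hσ : σ (k := k) e ox = e a / e b := by
    rw [σ_mk'_eq_iff]
    show e a = e b * (e a / e b)
    rw [mul_div_cancel₀ _ hb]
  have hall : ∀ f : K, φ f ∈ (ι (k := k) (L := L) e).range := by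
    intro f
    have := D_eq_top e φ x ox hox (hσ ▸ htr) s hs ?_ f
    · exact this
    · intro z hz
      show φ z ∈ (ι (k := k) (L := L) e).range
      rw [mem_range_ι_iff]
      exact hdom z hz
  exact ⟨(σ (k := k) e).comp (((AlgEquiv.ofInjective (ι (k := k) (L := L) e)
    (ι_injective e)).symm : _ →ₐ[k] O e).comp (φ.codRestrict _ hall))⟩

end Place

theorem exists_line {k : Type*} [Field k] [Infinite k] {n : ℕ} (Q a b : MvPolynomial (Fin n) k)
    (hQ : Q ≠ 0) (hb : b ≠ 0) (hab : ∀ c : k, a ≠ MvPolynomial.C c * b) :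
    ∃ ev : MvPolynomial (Fin n) k →ₐ[k] k[X], ev Q ≠ 0 ∧ ev b ≠ 0 ∧
      ∀ c : k, ev a ≠ Polynomial.C c * ev b := by
  have hnz : ∀ p : MvPolynomial (Fin n) k, p ≠ 0 → ∃ u : Fin n → k, MvPolynomial.eval u p ≠ 0 := by
    intro p hp
    by_contra hcon
    apply hp
    apply MvPolynomial.funext
    intro u
    rw [map_zero]
    by_contra h
    exact hcon ⟨u, h⟩
  obtain ⟨u, hu⟩ := hnz (Q * b) (mul_ne_zero hQ hb)
  rw [map_mul] at hu
  have hQu : MvPolynomial.eval u Q ≠ 0 := left_ne_zero_of_mul hu
  have hbu : MvPolynomial.eval u b ≠ 0 := right_ne_zero_of_mul hu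
  set c0 : k := MvPolynomial.eval u a / MvPolynomial.eval u b with hc0
  have hd : a - MvPolynomial.C c0 * b ≠ 0 := sub_ne_zero.mpr (hab c0)
  obtain ⟨v, hv⟩ := hnz (a - MvPolynomial.C c0 * b) hd
  let ev : MvPolynomial (Fin n) k →ₐ[k] k[X] :=
    MvPolynomial.aeval (fun i => Polynomial.C (u i) + Polynomial.C (v i - u i) * X)
  have hev : ∀ (t : k) (p : MvPolynomial (Fin n) k),
      (ev p).eval t = MvPolynomial.eval (fun i => u i + (v i - u i) * t) p := by
    intro t p
    have h1 : (Polynomial.aeval t).comp ev =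
        MvPolynomial.aeval (fun i => u i + (v i - u i) * t) := by
      apply MvPolynomial.algHom_ext
      intro i
      simp [ev]
    have h2 := congrArg (fun ψ : MvPolynomial (Fin n) k →ₐ[k] k => ψ p) h1
    simpa [Polynomial.coe_aeval_eq_eval, MvPolynomial.coe_aeval_eq_eval] using h2
  have hev0 : ∀ p, (ev p).eval 0 = MvPolynomial.eval u p := by
    intro p
    rw [hev]
    have : (fun i => u i + (v i - u i) * 0) = u := by
      funext i
      rw [mul_zero, add_zero]
    rw [this]
  have hev1 : ∀ p, (ev p).eval 1 = MvPolynomial.eval v p := by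
    intro p
    rw [hev]
    have : (fun i => u i + (v i - u i) * 1) = v := by
      funext i
      rw [mul_one, add_sub_cancel]
    rw [this]
  refine ⟨ev, ?_, ?_, ?_⟩
  · intro h
    apply hQu
    rw [← hev0, h, Polynomial.eval_zero]
  · intro h
    apply hbu
    rw [← hev0, h, Polynomial.eval_zero]
  · intro c hc
    have e0 := congrArg (Polynomial.eval 0) hc
    have e1 := congrArg (Polynomial.eval 1) hc
    rw [Polynomial.eval_mul, Polynomial.eval_C, hev0, hev0] at e0
    rw [Polynomial.eval_mul, Polynomial.eval_C, hev1, hev1] at e1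
    have hcc : c = c0 := by
      rw [hc0, e0, mul_div_cancel_right₀ _ hbu]
    apply hv
    rw [map_sub, map_mul, MvPolynomial.eval_C, e1, hcc, sub_self]

/-- **Unirational curves are rational** (Lüroth in several variables, field form). -/
theorem luroth_mv (k : Type u) [Field k] [IsAlgClosed k]
    (K : Type u) [Field K] [Algebra k K] (hfg : (⊤ : IntermediateField k K).FG)
    (x : K) (hx : Transcendental k x) (halg : Algebra.IsAlgebraic ↥(IntermediateField.adjoin k {x}) K)
    (n : ℕ) (φ : K →ₐ[k] FractionRing (MvPolynomial (Fin n) k)) :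
    ∃ t : K, Transcendental k t ∧ IntermediateField.adjoin k {t} = ⊤ := by
  classical
  obtain ⟨S, hS⟩ := hfg
  -- numerators and denominators
  have hfrac : ∀ z : K, ∃ a b : MvPolynomial (Fin n) k, b ≠ 0 ∧
      φ z * algebraMap _ (FractionRing (MvPolynomial (Fin n) k)) b = algebraMap _ _ a := by
    intro z
    obtain ⟨a, b, hb, hab⟩ := IsFractionRing.div_surjective (A := MvPolynomial (Fin n) k) (φ z)
    have hb0 : b ≠ 0 := nonZeroDivisors.ne_zero hb
    refine ⟨a, b, hb0, ?_⟩
    rw [← hab, div_mul_cancel₀]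
    exact (map_ne_zero_iff _ (IsFractionRing.injective _ _)).mpr hb0
  choose num den hden hnd using hfrac
  have hQ : (∏ z ∈ S, den z) ≠ 0 := Finset.prod_ne_zero_iff.mpr (fun z _ => hden z)
  have hab : ∀ c : k, num x ≠ MvPolynomial.C c * den x := by
    intro c hc
    have h1 := hnd x
    rw [hc, map_mul] at h1
    have h2 : φ x = algebraMap _ (FractionRing (MvPolynomial (Fin n) k)) (MvPolynomial.C c) :=
      mul_right_cancel₀ ((map_ne_zero_iff _ (IsFractionRing.injective _ _)).mpr (hden x)) h1
    have h3 : φ x = φ (algebraMap k K c) := by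
      rw [h2, AlgHom.commutes, IsScalarTower.algebraMap_apply k (MvPolynomial (Fin n) k)]
      rfl
    have h4 : x = algebraMap k K c := φ.injective h3
    exact hx (h4 ▸ isAlgebraic_algebraMap c)
  obtain ⟨ev, hevQ, hevb, hevab⟩ := exists_line (∏ z ∈ S, den z) (num x) (den x) hQ (hden x) hab
  let e : MvPolynomial (Fin n) k →ₐ[k] RatFunc k :=
    (IsScalarTower.toAlgHom k k[X] (RatFunc k)).comp ev
  have he : ∀ p, e p = algebraMap k[X] (RatFunc k) (ev p) := fun p => rfl
  have hinj : Function.Injective (algebraMap k[X] (RatFunc k)) := IsFractionRing.injective _ _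
  have hne : ∀ p, ev p ≠ 0 → e p ≠ 0 := by
    intro p hp
    rw [he]
    exact (map_ne_zero_iff _ hinj).mpr hp
  have hψ : Nonempty (K →ₐ[k] RatFunc k) := by
    refine exists_algHom (k := k) (L := FractionRing (MvPolynomial (Fin n) k))
      e φ x (↑S : Set K) hS ?_ ?_
    · intro z hz
      refine ⟨num z, den z, hne _ ?_, hnd z⟩
      intro h0
      apply hevQ
      rw [map_prod]
      exact Finset.prod_eq_zero hz h0
    · refine ⟨num x, den x, hne _ hevb, hnd x, ?_⟩
      apply RatFunc.transcendental_of_ne_C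
      rintro ⟨c, hc⟩
      apply hevab c
      apply hinj
      rw [map_mul, ← he, ← he]
      rw [div_eq_iff (hne _ hevb)] at hc
      rw [hc]
      rfl
  obtain ⟨ψ⟩ := hψ
  -- Lüroth
  have hxtr : ∀ c : k, ψ x ≠ algebraMap k (RatFunc k) c := by
    intro c hc
    have h4 : x = algebraMap k K c := by
      apply ψ.injective
      show ψ x = ψ (algebraMap k K c)
      rw [hc, AlgHom.commutes]
    exact hx (h4 ▸ isAlgebraic_algebraMap c)
  have hE : ψ.fieldRange ≠ ⊥ := by
    intro h
    have hmem : ψ x ∈ ψ.fieldRange := ⟨x, rfl⟩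
    rw [h, IntermediateField.mem_bot] at hmem
    obtain ⟨c, hc⟩ := hmem
    exact hxtr c hc.symm
  have hgen := RatFunc.Luroth.generator_mem (E := ψ.fieldRange)
  obtain ⟨t, ht⟩ := hgen
  replace ht : ψ t = RatFunc.Luroth.generator ψ.fieldRange := ht
  refine ⟨t, ?_, ?_⟩
  · intro halg'
    apply RatFunc.Luroth.transcendental_generator hE
    have : IsAlgebraic k (ψ t) := halg'.algHom ψ
    rw [← ht]
    exact this
  · rw [eq_top_iff]
    intro y _
    have hy : ψ y ∈ ψ.fieldRange := ⟨y, rfl⟩
    rw [RatFunc.Luroth.eq_adjoin_generator (E := ψ.fieldRange), ← ht] at hy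
    have hmap : IntermediateField.adjoin k {ψ t} =
        (IntermediateField.adjoin k {t}).map ψ := by
      rw [IntermediateField.adjoin_map, Set.image_singleton]
    rw [hmap] at hy
    obtain ⟨y', hy', hyy⟩ := hy
    have : y' = y := ψ.injective hyy
    rw [← this]
    exact hy'

end Groth.Agent.Lib.Helper6.LurothMv
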