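import Mathlib
import Groth.Prelude.Def_W4c1nerontoraddGraph

/-!
# Finite multigraphs in the `LabGraph` encoding: reachability, chains, even sets, circuits, forests

Helper library (helper6).  No walks: everything goes through `Relation.ReflTransGen`, integer / ring valued
chains, mod-2 edge counts and cut functions.
-/

set_option linter.unusedSectionVars false
set_option linter.unusedVariables false
set_option autoImplicit false
set_option maxHeartbeats 400000

noncomputable section
universe u
namespace Groth.Agent.Lib.Helper6.MGraph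
open LabGraph Finset

variable {V E : Type u} [Fintype V] [Fintype E] [DecidableEq V] [DecidableEq E]
variable (ends : E → V × V)

/-! ### Reachability along a set of edges -/

/-- adjacency through an edge of `S` -/
def SAdj (S : Finset E) (v w : V) : Prop := ∃ e ∈ S, ends e = (v, w) ∨ ends e = (w, v)

/-- reachability along edges of `S` -/
def Reach (S : Finset E) : V → V → Prop := Relation.ReflTransGen (SAdj ends S)

variable {ends}

theorem SAdj.symm {S : Finset E} {v w : V} (h : SAdj ends S v w) : SAdj ends S w v := by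
  obtain ⟨e, he, h⟩ := h
  exact ⟨e, he, h.symm⟩

theorem SAdj.mono {S S' : Finset E} (hS : S ⊆ S') {v w : V} (h : SAdj ends S v w) : SAdj ends S' v w := by
  obtain ⟨e, he, h⟩ := h
  exact ⟨e, hS he, h⟩

theorem Reach.refl {S : Finset E} (v : V) : Reach ends S v v := Relation.ReflTransGen.refl

theorem Reach.trans {S : Finset E} {a b c : V} (h : Reach ends S a b) (h' : Reach ends S b c) :
    Reach ends S a c := Relation.ReflTransGen.trans h h'

theorem Reach.of_adj {S : Finset E} {a b : V} (h : SAdj ends S a b) : Reach ends S a b :=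
  Relation.ReflTransGen.single h

theorem Reach.symm {S : Finset E} {a b : V} (h : Reach ends S a b) : Reach ends S b a := by
  induction h with
  | refl => exact Reach.refl _
  | tail _ hadj ih => exact Reach.trans (Reach.of_adj hadj.symm) ih

theorem Reach.mono {S S' : Finset E} (hS : S ⊆ S') {a b : V} (h : Reach ends S a b) :
    Reach ends S' a b := by
  induction h with
  | refl => exact Reach.refl _
  | tail _ hadj ih => exact Reach.trans ih (Reach.of_adj (hadj.mono hS))

theorem Reach.of_edge {S : Finset E} {e : E} (he : e ∈ S) : Reach ends S (ends e).1 (ends e).2 :=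
  Reach.of_adj ⟨e, he, Or.inl rfl⟩

theorem adj_iff_sAdj (v w : V) : LabGraph.Adj ends v w ↔ SAdj ends univ v w := by
  constructor
  · rintro ⟨e, h⟩
    exact ⟨e, mem_univ _, h⟩
  · rintro ⟨e, -, h⟩
    exact ⟨e, h⟩

theorem reflTransGen_adj_iff (v w : V) :
    Relation.ReflTransGen (LabGraph.Adj ends) v w ↔ Reach ends univ v w := by
  have : LabGraph.Adj ends = SAdj ends univ := by
    funext v w
    exact propext (adj_iff_sAdj v w)
  rw [this]
  rfl

theorem connected_iff : LabGraph.Connected ends ↔ Nonempty V ∧ ∀ v w, Reach ends univ v w := by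
  unfold LabGraph.Connected
  simp only [reflTransGen_adj_iff]

/-! ### Boundary and coboundary with coefficients in a commutative ring -/

variable {R : Type*} [CommRing R]

variable (ends)

/-- boundary (head minus tail) -/
def bdry (γ : E → R) (v : V) : R :=
  ∑ e : E, ((if (ends e).2 = v then γ e else 0) - (if (ends e).1 = v then γ e else 0))

/-- coboundary -/
def cob (f : V → R) (e : E) : R := f (ends e).2 - f (ends e).1

theorem boundary_eq (γ : E → ℤ) (v : V) : LabGraph.boundary ends γ v = bdry ends γ v := rfl

theorem adj (γ : E → R) (f : V → R) : ∑ v, bdry ends γ v * f v = ∑ e, γ e * cob ends f e := by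
  simp only [bdry, Finset.sum_mul]
  rw [Finset.sum_comm]
  refine Finset.sum_congr rfl fun e _ => ?_
  simp only [sub_mul, ite_mul, zero_mul, Finset.sum_sub_distrib, Finset.sum_ite_eq, Finset.mem_univ,
    if_true, cob]
  ring

theorem bdry_add (γ γ' : E → R) (v : V) : bdry ends (γ + γ') v = bdry ends γ v + bdry ends γ' v := by
  simp only [bdry, Pi.add_apply, ← Finset.sum_add_distrib]
  refine Finset.sum_congr rfl fun e _ => ?_
  split_ifs <;> ring

theorem bdry_sub (γ γ' : E → R) (v : V) : bdry ends (γ - γ') v = bdry ends γ v - bdry ends γ' v := by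
  simp only [bdry, Pi.sub_apply, ← Finset.sum_sub_distrib]
  refine Finset.sum_congr rfl fun e _ => ?_
  split_ifs <;> ring

theorem bdry_smul (r : R) (γ : E → R) (v : V) : bdry ends (r • γ) v = r * bdry ends γ v := by
  simp only [bdry, Pi.smul_apply, smul_eq_mul, Finset.mul_sum]
  refine Finset.sum_congr rfl fun e _ => ?_
  split_ifs <;> ring

theorem bdry_zero (v : V) : bdry ends (0 : E → R) v = 0 := by
  simp [bdry]

theorem bdry_single (e₀ : E) (r : R) (v : V) :
    bdry ends (Pi.single e₀ r) v =
      (if (ends e₀).2 = v then r else 0) - (if (ends e₀).1 = v then r else 0) := by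
  unfold bdry
  rw [Finset.sum_eq_single e₀]
  · simp
  · intro e _ he
    simp [Pi.single_eq_of_ne he]
  · intro h
    exact absurd (mem_univ _) h

/-- a chain along a path -/
theorem exists_chain {S : Finset E} {a b : V} (h : Reach ends S a b) :
    ∃ c : E → R, (∀ e, e ∉ S → c e = 0) ∧
      ∀ v, bdry ends c v = (if b = v then 1 else 0) - (if a = v then 1 else 0) := by
  induction h with
  | refl => exact ⟨0, fun _ _ => rfl, fun v => by simp [bdry_zero]⟩
  | @tail b' b _ hadj ih =>
    obtain ⟨c, hc0, hc⟩ := ih
    obtain ⟨e, he, h | h⟩ := hadj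
    · refine ⟨c + Pi.single e 1, ?_, ?_⟩
      · intro e' he'
        have : e' ≠ e := fun h => he' (h ▸ he)
        simp [hc0 e' he', Pi.single_eq_of_ne this]
      · intro v
        rw [bdry_add, hc, bdry_single, h]
        ring
    · refine ⟨c - Pi.single e 1, ?_, ?_⟩
      · intro e' he'
        have : e' ≠ e := fun h => he' (h ▸ he)
        simp [hc0 e' he', Pi.single_eq_of_ne this]
      · intro v
        rw [bdry_sub, hc, bdry_single, h]
        ring

/-! ### Edge-end counts -/

theorem endCount_insert {F : Finset E} {e₀ : E} (h : e₀ ∉ F) (v : V) :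
    endCount ends (insert e₀ F) v =
      ((if (ends e₀).1 = v then 1 else 0) + (if (ends e₀).2 = v then 1 else 0)) + endCount ends F v := by
  unfold endCount
  rw [Finset.sum_insert h]

theorem endCount_erase {F : Finset E} {e₀ : E} (h : e₀ ∈ F) (v : V) :
    endCount ends F v =
      ((if (ends e₀).1 = v then 1 else 0) + (if (ends e₀).2 = v then 1 else 0)) +
        endCount ends (F.erase e₀) v := by
  unfold endCount
  rw [← Finset.add_sum_erase F _ h]

theorem endCount_empty (v : V) : endCount ends ∅ v = 0 := by
  simp [endCount]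

/-- double counting -/
theorem sum_endCount (F : Finset E) (S : Finset V) :
    ∑ v ∈ S, endCount ends F v =
      ∑ e ∈ F, ((if (ends e).1 ∈ S then 1 else 0) + (if (ends e).2 ∈ S then 1 else 0)) := by
  unfold endCount
  rw [Finset.sum_comm]
  refine Finset.sum_congr rfl fun e _ => ?_
  rw [Finset.sum_add_distrib, Finset.sum_ite_eq, Finset.sum_ite_eq]

/-- odd support of an integer chain -/
def oddSupp (c : E → ℤ) : Finset E := univ.filter (fun e => Odd (c e))

theorem endCount_oddSupp (c : E → ℤ) (v : V) :
    ((endCount ends (oddSupp c) v : ℕ) : ZMod 2) = ((bdry ends c v : ℤ) : ZMod 2) := by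
  unfold endCount bdry oddSupp
  rw [Finset.sum_filter]
  push_cast
  refine Finset.sum_congr rfl fun e _ => ?_
  have h2 : ∀ x : ZMod 2, x - x = x + x := by decide
  have hsub : ∀ x y : ZMod 2, x - y = x + y := by decide
  by_cases ho : Odd (c e)
  · have h1 : ((c e : ℤ) : ZMod 2) = 1 := ZMod.intCast_eq_one_iff_odd.2 ho
    rw [if_pos ho, hsub]
    split_ifs <;> simp [h1] <;> ring
  · have h1 : ((c e : ℤ) : ZMod 2) = 0 :=
      ZMod.intCast_eq_zero_iff_even.2 (Int.not_odd_iff_even.1 ho)
    rw [if_neg ho, hsub]
    split_ifs <;> simp [h1]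

/-- even edge set -/
def IsEven (F : Finset E) : Prop := ∀ v : V, Even (endCount ends F v)

theorem isCircuit_iff (C : Finset E) :
    IsCircuit ends C ↔ C.Nonempty ∧ IsEven ends C ∧
      ∀ C' : Finset E, C' ⊂ C → C'.Nonempty → ¬ IsEven ends C' := by
  unfold IsCircuit IsEven
  simp only [not_forall]

/-- a nonempty even set contains a circuit -/
theorem exists_circuit_subset : ∀ (F : Finset E), F.Nonempty → IsEven ends F →
    ∃ C, C ⊆ F ∧ IsCircuit ends C := by
  intro F
  induction F using Finset.strongInduction with
  | H F ih =>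
    intro hne hev
    by_cases hmin : ∀ C' : Finset E, C' ⊂ F → C'.Nonempty → ¬ IsEven ends C'
    · exact ⟨F, Subset.refl _, (isCircuit_iff ends F).2 ⟨hne, hev, hmin⟩⟩
    · push Not at hmin
      obtain ⟨C', hC', hne', hev'⟩ := hmin
      obtain ⟨C, hC, hcirc⟩ := ih C' hC' hne' hev'
      exact ⟨C, hC.trans hC'.subset, hcirc⟩

/-! ### Components -/

open Classical in
/-- the component of `a` along `S` -/
def comp (S : Finset E) (a : V) : Finset V := univ.filter (fun v => Reach ends S a v)

theorem mem_comp {S : Finset E} {a v : V} : v ∈ comp ends S a ↔ Reach ends S a v := by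
  simp [comp]

theorem comp_edge {S : Finset E} {a : V} {e : E} (he : e ∈ S) :
    (ends e).1 ∈ comp ends S a ↔ (ends e).2 ∈ comp ends S a := by
  rw [mem_comp, mem_comp]
  exact ⟨fun h => h.trans (Reach.of_edge he), fun h => h.trans (Reach.of_edge he).symm⟩

/-! ### Circuits -/

/-- handshake: in a circuit, removing an edge leaves its endpoints connected -/
theorem reach_of_isCircuit {C : Finset E} (hC : IsCircuit ends C) {e₀ : E} (he₀ : e₀ ∈ C) :
    Reach ends (C.erase e₀) (ends e₀).1 (ends e₀).2 := by
  by_contra hnr
  have ha : (ends e₀).1 ∈ comp ends (C.erase e₀) (ends e₀).1 := (mem_comp ends).2 (Reach.refl _)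
  have hb : (ends e₀).2 ∉ comp ends (C.erase e₀) (ends e₀).1 := fun h => hnr ((mem_comp ends).1 h)
  have h1 : ((∑ v ∈ comp ends (C.erase e₀) (ends e₀).1, endCount ends (C.erase e₀) v : ℕ) : ZMod 2) = 0 := by
    rw [sum_endCount]
    push_cast
    apply Finset.sum_eq_zero
    intro e he
    have := comp_edge ends (a := (ends e₀).1) he
    by_cases h : (ends e).1 ∈ comp ends (C.erase e₀) (ends e₀).1
    · rw [if_pos h, if_pos (this.1 h)]; decide
    · rw [if_neg h, if_neg (fun h' => h (this.2 h'))]; simp
  have h2 : ((∑ v ∈ comp ends (C.erase e₀) (ends e₀).1, endCount ends C v : ℕ) : ZMod 2) = 0 := by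
    push_cast
    apply Finset.sum_eq_zero
    intro v _
    exact ZMod.natCast_eq_zero_iff_even.2 (hC.2.1 v)
  have h3 : ∑ v ∈ comp ends (C.erase e₀) (ends e₀).1, endCount ends C v =
      1 + ∑ v ∈ comp ends (C.erase e₀) (ends e₀).1, endCount ends (C.erase e₀) v := by
    have : ∀ v ∈ comp ends (C.erase e₀) (ends e₀).1, endCount ends C v =
        (if (ends e₀).1 = v then 1 else 0) + ((if (ends e₀).2 = v then 1 else 0) +
          endCount ends (C.erase e₀) v) := by
      intro v _
      rw [endCount_erase ends he₀ v]; ring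
    rw [Finset.sum_congr rfl this, Finset.sum_add_distrib, Finset.sum_add_distrib, Finset.sum_ite_eq,
      Finset.sum_ite_eq, if_pos ha, if_neg hb, zero_add]
  rw [h3, Nat.cast_add, h1] at h2
  revert h2
  decide

/-- a circuit through `e₀` carries a cycle with value `1` at `e₀` -/
theorem exists_cycle_of_isCircuit {C : Finset E} (hC : IsCircuit ends C) {e₀ : E} (he₀ : e₀ ∈ C) :
    ∃ γ : E → R, (∀ v, bdry ends γ v = 0) ∧ (∀ e, e ∉ C → γ e = 0) ∧ γ e₀ = 1 := by
  obtain ⟨c, hc0, hc⟩ := exists_chain (R := R) ends (reach_of_isCircuit ends hC he₀)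
  refine ⟨Pi.single e₀ 1 - c, ?_, ?_, ?_⟩
  · intro v
    rw [bdry_sub, bdry_single, hc]; ring
  · intro e he
    have hne : e ≠ e₀ := fun h => he (h ▸ he₀)
    have : e ∉ C.erase e₀ := fun h => he (Finset.mem_of_mem_erase h)
    simp [Pi.single_eq_of_ne hne, hc0 e this]
  · have : e₀ ∉ C.erase e₀ := Finset.notMem_erase _ _
    simp [hc0 e₀ this]

/-- a path plus a closing edge contains a circuit -/
theorem exists_circuit_of_reach {S : Finset E} {a b : V} (h : Reach ends S a b) {e₀ : E} (he₀ : e₀ ∉ S)
    (hends : ends e₀ = (a, b) ∨ ends e₀ = (b, a)) : ∃ C, C ⊆ insert e₀ S ∧ IsCircuit ends C := by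
  obtain ⟨c, hc0, hc⟩ := exists_chain (R := ℤ) ends h
  have hFS : oddSupp c ⊆ S := by
    intro e he
    by_contra hne
    have := hc0 e hne
    simp [oddSupp, this] at he
  have he₀F : e₀ ∉ oddSupp c := fun h => he₀ (hFS h)
  have hev : IsEven ends (insert e₀ (oddSupp c)) := by
    intro v
    rw [← ZMod.natCast_eq_zero_iff_even, endCount_insert ends he₀F]
    push_cast
    rw [endCount_oddSupp, hc]
    push_cast
    rcases hends with h | h <;> rw [h] <;> simp only <;> split_ifs <;> decide
  obtain ⟨C, hC, hcirc⟩ := exists_circuit_subset ends _ ⟨e₀, mem_insert_self _ _⟩ hev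
  exact ⟨C, hC.trans (insert_subset_insert _ hFS), hcirc⟩

/-! ### Forests -/

/-- the edge set contains no circuit -/
def IsForestSet (S : Finset E) : Prop := ∀ C, C ⊆ S → ¬ IsCircuit ends C

theorem IsForestSet.mono {S S' : Finset E} (h : IsForestSet ends S') (hS : S ⊆ S') : IsForestSet ends S :=
  fun C hC => h C (hC.trans hS)

theorem IsForestSet.not_reach {S : Finset E} (hS : IsForestSet ends S) {e₀ : E} (he₀ : e₀ ∈ S) :
    ¬ Reach ends (S.erase e₀) (ends e₀).1 (ends e₀).2 := by
  intro h
  obtain ⟨C, hC, hcirc⟩ := exists_circuit_of_reach ends h (Finset.notMem_erase _ _) (Or.inl rfl)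
  rw [Finset.insert_erase he₀] at hC
  exact hS C hC hcirc

/-- a cycle supported on a forest vanishes -/
theorem IsForestSet.eq_zero {S : Finset E} (hS : IsForestSet ends S) (γ : E → R) (h0 : ∀ e, e ∉ S → γ e = 0)
    (hγ : ∀ v, bdry ends γ v = 0) : γ = 0 := by
  funext e₀
  by_cases he₀ : e₀ ∈ S
  swap
  · exact h0 e₀ he₀
  have hadj := adj ends γ
    (fun v => if v ∈ comp ends (S.erase e₀) (ends e₀).2 then (1 : R) else 0)
  rw [Finset.sum_eq_zero (fun v _ => by rw [hγ v, zero_mul])] at hadj
  rw [Finset.sum_eq_single e₀] at hadj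
  · have hb : (ends e₀).2 ∈ comp ends (S.erase e₀) (ends e₀).2 := (mem_comp ends).2 (Reach.refl _)
    have ha : (ends e₀).1 ∉ comp ends (S.erase e₀) (ends e₀).2 :=
      fun h => hS.not_reach ends he₀ ((mem_comp ends).1 h).symm
    simp only [cob, if_pos hb, if_neg ha, sub_zero, mul_one] at hadj
    simpa using hadj.symm
  · intro e _ hne
    by_cases he : e ∈ S
    · have he' : e ∈ S.erase e₀ := mem_erase.2 ⟨hne, he⟩
      have := comp_edge ends (a := (ends e₀).2) he'
      simp only [cob]
      by_cases h1 : (ends e).1 ∈ comp ends (S.erase e₀) (ends e₀).2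
      · rw [if_pos h1, if_pos (this.1 h1)]; simp
      · rw [if_neg h1, if_neg (fun h => h1 (this.2 h))]; simp
    · rw [h0 e he, zero_mul]
  · intro h
    exact absurd (mem_univ _) h

/-- the support of a nonzero cycle contains a circuit -/
theorem exists_circuit_of_cycle (γ : E → R) (hγ : ∀ v, bdry ends γ v = 0) (hne : γ ≠ 0) :
    ∃ C, IsCircuit ends C ∧ ∀ e ∈ C, γ e ≠ 0 := by
  classical
  by_contra hcon
  push Not at hcon
  apply hne
  refine IsForestSet.eq_zero ends (S := univ.filter (fun e => γ e ≠ 0)) ?_ γ ?_ hγ
  · intro C hC hcirc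
    obtain ⟨e, he, h0⟩ := hcon C hcirc
    have := hC he
    simp only [mem_filter, mem_univ, true_and] at this
    exact this h0
  · intro e he
    simpa using he

/-- maximal forests containing a given forest -/
theorem exists_maximal_forest {S₀ : Finset E} (h₀ : IsForestSet ends S₀) :
    ∃ T, S₀ ⊆ T ∧ IsForestSet ends T ∧ ∀ e, e ∉ T → ¬ IsForestSet ends (insert e T) := by
  classical
  have hne : (univ.filter (fun T : Finset E => S₀ ⊆ T ∧ IsForestSet ends T)).Nonempty :=
    ⟨S₀, by simp [h₀]⟩
  obtain ⟨T, hT⟩ := Finset.exists_maximal hne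
  have hT1 := hT.1
  simp only [mem_filter, mem_univ, true_and] at hT1
  refine ⟨T, hT1.1, hT1.2, ?_⟩
  intro e he hfor
  have hmem : insert e T ∈ univ.filter (fun T : Finset E => S₀ ⊆ T ∧ IsForestSet ends T) := by
    simp only [mem_filter, mem_univ, true_and]
    exact ⟨hT1.1.trans (subset_insert _ _), hfor⟩
  have := hT.2 hmem (subset_insert _ _)
  exact he (this (mem_insert_self _ _))

/-- a maximal forest connects whatever the whole graph connects -/
theorem reach_of_maximal_forest {T : Finset E}
    (hmax : ∀ e, e ∉ T → ¬ IsForestSet ends (insert e T)) (hT : IsForestSet ends T) {a b : V}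
    (h : Reach ends univ a b) : Reach ends T a b := by
  have hedge : ∀ e : E, Reach ends T (ends e).1 (ends e).2 := by
    intro e
    by_cases he : e ∈ T
    · exact Reach.of_edge he
    · have := hmax e he
      unfold IsForestSet at this
      push Not at this
      obtain ⟨C, hC, hcirc⟩ := this
      have heC : e ∈ C := by
        by_contra heC
        refine hT C ?_ hcirc
        intro x hx
        rcases mem_insert.1 (hC hx) with rfl | h
        · exact absurd hx heC
        · exact h
      refine (reach_of_isCircuit ends hcirc heC).mono ?_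
      intro x hx
      rcases mem_insert.1 (hC (mem_of_mem_erase hx)) with rfl | h
      · exact absurd hx (Finset.notMem_erase _ _)
      · exact h
  induction h with
  | refl => exact Reach.refl _
  | tail _ hadj ih =>
    obtain ⟨e, -, h | h⟩ := hadj
    · have := hedge e
      rw [h] at this
      exact ih.trans this
    · have := hedge e
      rw [h] at this
      exact ih.trans this.symm

/-! ### Potentials -/

theorem eq_of_cob_eq {S : Finset E} (f g : V → R) (h : ∀ e ∈ S, cob ends f e = cob ends g e) {a b : V}
    (hr : Reach ends S a b) (ha : f a = g a) : f b = g b := by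
  induction hr with
  | refl => exact ha
  | tail _ hadj ih =>
    obtain ⟨e, he, h' | h'⟩ := hadj
    · have := h e he
      simp only [cob, h'] at this
      linear_combination this + ih
    · have := h e he
      simp only [cob, h'] at this
      linear_combination ih - this

/-- a cochain orthogonal to all cycles of a connected graph is a coboundary -/
theorem exists_potential (hconn : ∀ v w, Reach ends univ v w) (v₀ : V) (c : E → R)
    (horth : ∀ γ : E → R, (∀ v, bdry ends γ v = 0) → ∑ e, γ e * c e = 0) :
    ∃ f : V → R, f v₀ = 0 ∧ ∀ e, cob ends f e = c e := by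
  choose p hp0 hp using fun v => exists_chain (R := R) ends (hconn v₀ v)
  refine ⟨fun v => ∑ e, p v e * c e, ?_, ?_⟩
  · apply horth
    intro v
    rw [hp]; ring
  · intro e
    have := horth (p (ends e).2 - p (ends e).1 - Pi.single e 1) (by
      intro v
      rw [bdry_sub, bdry_sub, hp, hp, bdry_single]; ring)
    simp only [Pi.sub_apply, sub_mul, Finset.sum_sub_distrib] at this
    have hs : ∑ x, (Pi.single e (1 : R) : E → R) x * c x = c e := by
      rw [Finset.sum_eq_single e]
      · simp
      · intro e' _ h
        simp [Pi.single_eq_of_ne h]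
      · intro h
        exact absurd (mem_univ _) h
    rw [hs] at this
    simp only [cob]
    linear_combination this

end Groth.Agent.Lib.Helper6.MGraph
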