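import Mathlib
import Groth.Agent.Lib.Helper6.MGraph

/-!
# Circuit-coprime labelled multigraphs: `ℤ^E = l·ℤ^E + δ(ℤ^V)`
-/

set_option linter.unusedSectionVars false
set_option linter.unusedVariables false
set_option autoImplicit false
set_option maxHeartbeats 400000

noncomputable section
universe u
namespace Groth.Agent.Lib.Helper6.MGraph
open LabGraph Finset

variable {V E : Type u} [Fintype V] [Fintype E] [DecidableEq V] [DecidableEq E]
variable (ends : E → V × V) (l : E → ℕ)

/-- every integer edge vector is a multiple-of-label vector plus a coboundary -/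
def P3 : Prop := ∀ x : E → ℤ, ∃ (y : E → ℤ) (f : V → ℤ), ∀ e, x e = (l e : ℤ) * y e + cob ends f e

/-- orthogonality condition of S13758 -/
def Orth : Prop := ∀ x : E → ℤ, ∃ y : E → ℤ, ∀ γ : E → ℤ, (∀ v : V, bdry ends γ v = 0) →
  ∑ e : E, γ e * (x e - (l e : ℤ) * y e) = 0

theorem orth_of_P3 (h : P3 ends l) : Orth ends l := by
  intro x
  obtain ⟨y, f, hyf⟩ := h x
  refine ⟨y, fun γ hγ => ?_⟩
  have : ∀ e, γ e * (x e - (l e : ℤ) * y e) = γ e * cob ends f e := by
    intro e
    rw [hyf e]; ring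
  rw [Finset.sum_congr rfl (fun e _ => this e), ← adj]
  exact Finset.sum_eq_zero (fun v _ => by rw [hγ v, zero_mul])

theorem coprime_of_orth (h : Orth ends l) : IsCircuitCoprime ends l := by
  intro C hC
  obtain ⟨e₀, he₀⟩ := hC.1
  obtain ⟨γ, hγ, hγ0, hγ1⟩ := exists_cycle_of_isCircuit (R := ℤ) ends hC he₀
  obtain ⟨y, hy⟩ := h (Pi.single e₀ 1)
  have h1 := hy γ hγ
  simp only [mul_sub, Finset.sum_sub_distrib] at h1
  have h2 : ∑ e, γ e * (Pi.single e₀ (1 : ℤ) : E → ℤ) e = 1 := by
    rw [Finset.sum_eq_single e₀]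
    · simp [hγ1]
    · intro e _ hne
      simp [Pi.single_eq_of_ne hne]
    · intro h
      exact absurd (mem_univ _) h
  rw [h2] at h1
  have h3 : ((C.gcd l : ℕ) : ℤ) ∣ ∑ e, γ e * ((l e : ℤ) * y e) := by
    apply Finset.dvd_sum
    intro e _
    by_cases he : e ∈ C
    · have : ((C.gcd l : ℕ) : ℤ) ∣ (l e : ℤ) := Int.natCast_dvd_natCast.2 (Finset.gcd_dvd he)
      exact Dvd.dvd.mul_left (Dvd.dvd.mul_right this _) _
    · rw [hγ0 e he, zero_mul]
      exact dvd_zero _
  have h4 : ((C.gcd l : ℕ) : ℤ) ∣ 1 := by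
    have : (1 : ℤ) = ∑ e, γ e * ((l e : ℤ) * y e) := by linarith
    rw [this]
    exact h3
  have h5 : (C.gcd l : ℕ) ∣ 1 := by exact_mod_cast h4
  exact Nat.dvd_one.1 h5

/-- the submodule `l·ℤ^E + δ(ℤ^V)` -/
def Msub : Submodule ℤ (E → ℤ) where
  carrier := {x | ∃ (y : E → ℤ) (f : V → ℤ), ∀ e, x e = (l e : ℤ) * y e + cob ends f e}
  add_mem' := by
    rintro x x' ⟨y, f, h⟩ ⟨y', f', h'⟩
    refine ⟨y + y', f + f', fun e => ?_⟩
    simp only [Pi.add_apply, h e, h' e, cob]
    ring
  zero_mem' := ⟨0, 0, fun e => by simp [cob]⟩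
  smul_mem' := by
    rintro c x ⟨y, f, h⟩
    refine ⟨c • y, c • f, fun e => ?_⟩
    simp only [Pi.smul_apply, smul_eq_mul, h e, cob]
    ring

theorem mem_Msub {x : E → ℤ} :
    x ∈ Msub ends l ↔ ∃ (y : E → ℤ) (f : V → ℤ), ∀ e, x e = (l e : ℤ) * y e + cob ends f e := Iff.rfl

/-- `M + n ℤ^E` -/
def Nsub (n : ℕ) : Submodule ℤ (E → ℤ) where
  carrier := {x | ∃ (m z : E → ℤ), m ∈ Msub ends l ∧ x = m + (n : ℤ) • z}
  add_mem' := by
    rintro x x' ⟨m, z, hm, rfl⟩ ⟨m', z', hm', rfl⟩
    refine ⟨m + m', z + z', Submodule.add_mem _ hm hm', ?_⟩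
    simp only [smul_add]
    abel
  zero_mem' := ⟨0, 0, Submodule.zero_mem _, by simp⟩
  smul_mem' := by
    rintro c x ⟨m, z, hm, rfl⟩
    refine ⟨c • m, c • z, Submodule.smul_mem _ _ hm, ?_⟩
    simp only [smul_add]
    rw [smul_comm]

theorem mem_Nsub {n : ℕ} {x : E → ℤ} :
    x ∈ Nsub ends l n ↔ ∃ (m z : E → ℤ), m ∈ Msub ends l ∧ x = m + (n : ℤ) • z := Iff.rfl

theorem Msub_le_Nsub (n : ℕ) : Msub ends l ≤ Nsub ends l n := by
  intro x hx
  exact ⟨x, 0, hx, by simp⟩

theorem eq_top_of_single (N : Submodule ℤ (E → ℤ)) (h : ∀ e, (Pi.single e 1 : E → ℤ) ∈ N) : N = ⊤ := by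
  rw [eq_top_iff]
  intro x _
  rw [← Finset.univ_sum_single x]
  apply Submodule.sum_mem
  intro e _
  have : (Pi.single e (x e) : E → ℤ) = x e • Pi.single e 1 := by
    funext e'
    by_cases h : e' = e
    · subst h; simp
    · simp [Pi.single_eq_of_ne h]
  rw [this]
  exact Submodule.smul_mem _ _ (h e)

theorem single_mem_of_not_dvd {p : ℕ} (hp : p.Prime) {e₀ : E} (h : ¬ p ∣ l e₀) :
    (Pi.single e₀ 1 : E → ℤ) ∈ Nsub ends l p := by
  have hcop : IsCoprime (l e₀ : ℤ) (p : ℤ) := by
    rw [Int.isCoprime_iff_gcd_eq_one]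
    have : Nat.Coprime p (l e₀) := (Nat.Prime.coprime_iff_not_dvd hp).2 h
    simpa [Int.gcd, Nat.coprime_comm] using this
  obtain ⟨u, v, huv⟩ := hcop
  refine ⟨Pi.single e₀ ((l e₀ : ℤ) * u), Pi.single e₀ v, ⟨Pi.single e₀ u, 0, ?_⟩, ?_⟩
  · intro e
    by_cases he : e = e₀
    · subst he; simp [cob]
    · simp [Pi.single_eq_of_ne he, cob]
  · funext e
    by_cases he : e = e₀
    · subst he
      simp only [Pi.single_eq_same, Pi.add_apply, Pi.smul_apply, smul_eq_mul]
      linarith
    · simp [Pi.single_eq_of_ne he]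

theorem Nsub_prime (hcop : IsCircuitCoprime ends l) {p : ℕ} (hp : p.Prime) : Nsub ends l p = ⊤ := by
  classical
  apply eq_top_of_single
  intro e₀
  by_cases hd : p ∣ l e₀
  swap
  · exact single_mem_of_not_dvd ends l hp hd
  -- the forest of edges with label divisible by `p`
  have hfor : IsForestSet ends (univ.filter (fun e => p ∣ l e)) := by
    intro C hC hcirc
    have h1 := hcop C hcirc
    have h2 : p ∣ C.gcd l := by
      apply Finset.dvd_gcd
      intro e he
      have := hC he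
      simpa using this
    rw [h1] at h2
    exact hp.one_lt.ne' (Nat.dvd_one.1 h2)
  have he₀ : e₀ ∈ univ.filter (fun e => p ∣ l e) := by simp [hd]
  set Ep := univ.filter (fun e => p ∣ l e) with hEp
  set T := comp ends (Ep.erase e₀) (ends e₀).2 with hT
  let f : V → ℤ := fun v => if v ∈ T then 1 else 0
  have hb : (ends e₀).2 ∈ T := (mem_comp ends).2 (Reach.refl _)
  have ha : (ends e₀).1 ∉ T := fun h => hfor.not_reach ends he₀ ((mem_comp ends).1 h).symm
  have hcobf : (cob ends f : E → ℤ) ∈ Nsub ends l p :=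
    Msub_le_Nsub ends l p ⟨0, f, fun e => by simp⟩
  have hr : (cob ends f - Pi.single e₀ 1 : E → ℤ) ∈ Nsub ends l p := by
    rw [← Finset.univ_sum_single (cob ends f - Pi.single e₀ 1 : E → ℤ)]
    apply Submodule.sum_mem
    intro e _
    by_cases he : e ∈ Ep
    · have : (cob ends f - Pi.single e₀ 1 : E → ℤ) e = 0 := by
        by_cases hee : e = e₀
        · subst hee
          simp [cob, f, hb, ha]
        · have he' : e ∈ Ep.erase e₀ := mem_erase.2 ⟨hee, he⟩
          have := comp_edge ends (a := (ends e₀).2) he'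
          simp only [Pi.sub_apply, Pi.single_eq_of_ne hee, sub_zero, cob, f]
          by_cases h1 : (ends e).1 ∈ T
          · rw [if_pos h1, if_pos (this.1 h1)]; simp
          · rw [if_neg h1, if_neg (fun h => h1 (this.2 h))]; simp
      rw [this]
      simp
    · have hnd : ¬ p ∣ l e := by simpa [hEp] using he
      have h1 := single_mem_of_not_dvd ends l hp hnd
      have : (Pi.single e ((cob ends f - Pi.single e₀ 1 : E → ℤ) e) : E → ℤ) =
          ((cob ends f - Pi.single e₀ 1 : E → ℤ) e) • Pi.single e 1 := by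
        funext e'
        by_cases h : e' = e
        · subst h; simp
        · simp [Pi.single_eq_of_ne h]
      rw [this]
      exact Submodule.smul_mem _ _ h1
  have : (Pi.single e₀ 1 : E → ℤ) = cob ends f - (cob ends f - Pi.single e₀ 1) := by abel
  rw [this]
  exact Submodule.sub_mem _ hcobf hr

theorem Nsub_all (hcop : IsCircuitCoprime ends l) : ∀ n : ℕ, 0 < n → Nsub ends l n = ⊤ := by
  intro n
  induction n using Nat.strong_induction_on with
  | _ n ih =>
    intro hn
    rcases Nat.lt_or_ge n 2 with h | h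
    · have : n = 1 := by omega
      subst this
      rw [eq_top_iff]
      intro x _
      exact ⟨0, x, Submodule.zero_mem _, by simp⟩
    · have hp : (n.minFac).Prime := Nat.minFac_prime (by omega)
      obtain ⟨k, hk⟩ := Nat.minFac_dvd n
      have hk0 : 0 < k := by
        rcases Nat.eq_zero_or_pos k with h0 | h0
        · rw [h0, mul_zero] at hk; omega
        · exact h0
      have hkn : k < n := by
        have := hp.one_lt
        nlinarith
      have h1 := ih k hkn hk0
      have h2 := Nsub_prime ends l hcop hp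
      rw [eq_top_iff]
      intro x _
      have hx : x ∈ Nsub ends l k := by rw [h1]; trivial
      obtain ⟨m, z, hm, rfl⟩ := hx
      have hz : z ∈ Nsub ends l n.minFac := by rw [h2]; trivial
      obtain ⟨m', z', hm', rfl⟩ := hz
      refine ⟨m + (k : ℤ) • m', z', Submodule.add_mem _ hm (Submodule.smul_mem _ _ hm'), ?_⟩
      have : (n : ℤ) = (k : ℤ) * (n.minFac : ℤ) := by
        have : n = k * n.minFac := by rw [mul_comm]; exact hk
        exact_mod_cast this
      rw [this, smul_add, mul_smul]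
      abel

theorem P3_of_coprime (hl : ∀ e, 0 < l e) (hcop : IsCircuitCoprime ends l) : P3 ends l := by
  intro x
  have hN : 0 < ∏ e, l e := Finset.prod_pos (fun e _ => hl e)
  have hx : x ∈ Nsub ends l (∏ e, l e) := by
    rw [Nsub_all ends l hcop _ hN]; trivial
  obtain ⟨m, z, hm, rfl⟩ := hx
  have hz : ((∏ e, l e : ℕ) : ℤ) • z ∈ Msub ends l := by
    refine ⟨fun e => ((∏ e' ∈ univ.erase e, l e' : ℕ) : ℤ) * z e, 0, fun e => ?_⟩
    have : (∏ e', l e' : ℕ) = l e * ∏ e' ∈ univ.erase e, l e' :=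
      (Finset.mul_prod_erase univ l (mem_univ e)).symm
    simp only [Pi.smul_apply, smul_eq_mul, cob, Pi.zero_apply, sub_self, add_zero]
    rw [this]
    push_cast
    ring
  exact (mem_Msub ends l).1 (Submodule.add_mem _ hm hz)

theorem P3_iff_coprime (hl : ∀ e, 0 < l e) : P3 ends l ↔ IsCircuitCoprime ends l :=
  ⟨fun h => coprime_of_orth ends l (orth_of_P3 ends l h), P3_of_coprime ends l hl⟩

end Groth.Agent.Lib.Helper6.MGraph
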