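import Mathlib
import Groth.Agent.Lib.Helper6.MGraphCop

/-!
# The total blow-up graph: multidegree at new and old vertices
-/

set_option linter.unusedSectionVars false
set_option linter.unusedVariables false
set_option autoImplicit false
set_option maxHeartbeats 400000

noncomputable section
universe u
namespace Groth.Agent.Lib.Helper6.MGraph
open LabGraph Finset

variable {V E : Type u} [Fintype V] [Fintype E] [DecidableEq V] [DecidableEq E]
variable (ends : E → V × V) (l : E → ℕ)

theorem pathVert_zero (e : E) : pathVert ends l e 0 = Sum.inl (ends e).1 := by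
  simp [pathVert]

theorem pathVert_mid (e : E) (j : Fin (l e - 1)) :
    pathVert ends l e (j.val + 1) = Sum.inr ⟨e, j⟩ := by
  have h := j.2
  unfold pathVert
  rw [dif_neg (Nat.succ_ne_zero _), dif_pos (by omega)]
  simp

theorem pathVert_end (e : E) {k : ℕ} (hk : l e ≤ k) (h0 : k ≠ 0) :
    pathVert ends l e k = Sum.inl (ends e).2 := by
  unfold pathVert
  rw [dif_neg h0, dif_neg (by omega)]

theorem pathVert_eq_inr_iff (e : E) (k : ℕ) (e₀ : E) (j : Fin (l e₀ - 1)) :
    pathVert ends l e k = Sum.inr ⟨e₀, j⟩ ↔ e = e₀ ∧ k = j.val + 1 := by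
  constructor
  · intro h
    unfold pathVert at h
    by_cases h0 : k = 0
    · rw [dif_pos h0] at h
      exact absurd h (by simp)
    · rw [dif_neg h0] at h
      by_cases h1 : k < l e
      · rw [dif_pos h1] at h
        have h2 := Sum.inr.inj h
        obtain ⟨rfl, h3⟩ := Sigma.mk.inj_iff.1 h2
        have h4 := eq_of_heq h3
        refine ⟨rfl, ?_⟩
        have h5 := congrArg Fin.val h4
        simp only at h5
        omega
      · rw [dif_neg h1] at h
        exact absurd h (by simp)
  · rintro ⟨rfl, rfl⟩
    exact pathVert_mid ends l e j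

theorem pathVert_eq_inl_iff (e : E) (k : ℕ) (v : V) :
    pathVert ends l e k = Sum.inl v ↔ (k = 0 ∧ (ends e).1 = v) ∨ (k ≠ 0 ∧ l e ≤ k ∧ (ends e).2 = v) := by
  unfold pathVert
  split_ifs with h0 h1
  · simp [h0]
  · constructor
    · intro h
      exact absurd h (by simp)
    · rintro (⟨h, -⟩ | ⟨-, h, -⟩)
      · exact absurd h h0
      · omega
  · simp only [Sum.inl.injEq]
    constructor
    · intro h
      exact Or.inr ⟨h0, by omega, h⟩
    · rintro (⟨h, -⟩ | ⟨-, -, h⟩)
      · exact absurd h h0
      · exact h

/-- multidegree of the blow-up at a new vertex: the second difference along the path -/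
theorem mdeg_bl_new (ψ : BlVert V E l → ℤ) (e₀ : E) (j : Fin (l e₀ - 1)) :
    mdeg (blEnds ends l) (fun _ => 1) ψ (Sum.inr ⟨e₀, j⟩) =
      ψ (pathVert ends l e₀ (j.val + 2)) - 2 * ψ (pathVert ends l e₀ (j.val + 1)) +
        ψ (pathVert ends l e₀ j.val) := by
  have hj := j.2
  unfold mdeg
  rw [Fintype.sum_sigma]
  rw [Finset.sum_eq_single e₀]
  · simp only [blEnds, Nat.cast_one, Int.ediv_one]
    rw [Finset.sum_add_distrib]
    rw [Finset.sum_eq_single (⟨j.val + 1, by omega⟩ : Fin (l e₀)),
      Finset.sum_eq_single (⟨j.val, by omega⟩ : Fin (l e₀))]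
    · simp only [pathVert_mid, if_true]
      ring
    · intro k _ hk
      rw [if_neg]
      rw [pathVert_eq_inr_iff]
      rintro ⟨-, h⟩
      apply hk
      apply Fin.ext
      simp only
      omega
    · intro h
      exact absurd (mem_univ _) h
    · intro k _ hk
      rw [if_neg]
      rw [pathVert_eq_inr_iff]
      rintro ⟨-, h⟩
      apply hk
      apply Fin.ext
      simp only
      omega
    · intro h
      exact absurd (mem_univ _) h
  · intro e _ he
    apply Finset.sum_eq_zero
    intro k _
    simp only [blEnds]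
    rw [if_neg, if_neg, add_zero]
    · rw [pathVert_eq_inr_iff]
      rintro ⟨h, -⟩
      exact he h
    · rw [pathVert_eq_inr_iff]
      rintro ⟨h, -⟩
      exact he h
  · intro h
    exact absurd (mem_univ _) h

/-- multidegree of the blow-up at an old vertex -/
theorem mdeg_bl_old (hl : ∀ e, 0 < l e) (ψ : BlVert V E l → ℤ) (v : V) :
    mdeg (blEnds ends l) (fun _ => 1) ψ (Sum.inl v) =
      ∑ e, ((if (ends e).1 = v then ψ (pathVert ends l e 1) - ψ (pathVert ends l e 0) else 0) +
        (if (ends e).2 = v then ψ (pathVert ends l e (l e - 1)) - ψ (pathVert ends l e (l e)) else 0)) := by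
  unfold mdeg
  rw [Fintype.sum_sigma]
  refine Finset.sum_congr rfl fun e _ => ?_
  have hle := hl e
  simp only [blEnds, Nat.cast_one, Int.ediv_one]
  rw [Finset.sum_add_distrib]
  congr 1
  · rw [Finset.sum_eq_single (⟨0, hle⟩ : Fin (l e))]
    · simp only [pathVert_eq_inl_iff]
      simp
    · intro k _ hk
      rw [if_neg]
      rw [pathVert_eq_inl_iff]
      have hk2 := k.2
      have : k.val ≠ 0 := fun h => hk (Fin.ext h)
      rintro (⟨h, -⟩ | ⟨-, h, -⟩)
      · exact this h
      · omega
    · intro h
      exact absurd (mem_univ _) h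
  · rw [Finset.sum_eq_single (⟨l e - 1, by omega⟩ : Fin (l e))]
    · simp only [pathVert_eq_inl_iff]
      have h1 : l e - 1 + 1 = l e := by omega
      have hne : l e ≠ 0 := by omega
      simp only [h1]
      simp [hne]
    · intro k _ hk
      rw [if_neg]
      rw [pathVert_eq_inl_iff]
      have hk2 := k.2
      have : k.val ≠ l e - 1 := fun h => hk (Fin.ext h)
      rintro (⟨h, -⟩ | ⟨-, h, -⟩)
      · omega
      · omega
    · intro h
      exact absurd (mem_univ _) h

/-- a sequence with vanishing second differences is affine -/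
theorem affine_of (u : ℕ → ℤ) (n : ℕ) (h : ∀ j, j + 2 ≤ n → u (j + 2) - 2 * u (j + 1) + u j = 0) :
    ∀ k, k ≤ n → u k = u 0 + k * (u 1 - u 0) := by
  intro k
  induction k using Nat.strong_induction_on with
  | _ k ih =>
    intro hk
    match k with
    | 0 => simp
    | 1 => simp
    | (k + 2) =>
      have h1 := ih (k + 1) (by omega) (by omega)
      have h2 := ih k (by omega) (by omega)
      have h3 := h k hk
      push_cast at h1 h2 ⊢
      linarith

/-- the sequence with prescribed second differences -/
def seqU (a s : ℤ) (b : ℕ → ℤ) : ℕ → ℤ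
  | 0 => a
  | 1 => a + s
  | (k + 2) => 2 * seqU a s b (k + 1) - seqU a s b k - b (k + 1)

theorem seqU_diff (a s : ℤ) (b : ℕ → ℤ) (k : ℕ) :
    seqU a s b (k + 2) - 2 * seqU a s b (k + 1) + seqU a s b k = - b (k + 1) := by
  rw [seqU]; ring

theorem seqU_eq (a s : ℤ) (b : ℕ → ℤ) (k : ℕ) : seqU a s b k = a + k * s + seqU 0 0 b k := by
  induction k using Nat.strong_induction_on with
  | _ k ih =>
    match k with
    | 0 => simp [seqU]
    | 1 => simp [seqU]
    | (k + 2) =>
      have h1 := ih (k + 1) (by omega)
      have h2 := ih k (by omega)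
      rw [seqU, h1, h2]
      conv_rhs => rw [seqU]
      push_cast
      ring

end Groth.Agent.Lib.Helper6.MGraph
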