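import Mathlib
import Groth.Agent.Lib.Helper6.MGraph

/-!
# Edge colourings constant on circuits: cycles split along colour classes
-/

set_option linter.unusedSectionVars false
set_option linter.unusedVariables false
set_option autoImplicit false
set_option maxHeartbeats 400000

noncomputable section
universe u
namespace Groth.Agent.Lib.Helper6.MGraph
open LabGraph Finset

variable {V E : Type u} [Fintype V] [Fintype E] [DecidableEq V] [DecidableEq E]
variable (ends : E → V × V)
variable {R : Type*} [CommRing R]

open Classical in
theorem bdry_restrict_aux {L : Type*} (lab : E → L)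
    (hcirc : ∀ C : Finset E, IsCircuit ends C → ∀ e ∈ C, ∀ e' ∈ C, lab e = lab e') (lam : L) :
    ∀ (k : ℕ) (γ : E → R), (univ.filter (fun e => γ e ≠ 0)).card ≤ k → (∀ v, bdry ends γ v = 0) →
      ∀ v, bdry ends (fun e => if lab e = lam then γ e else 0) v = 0 := by
  intro k
  induction k with
  | zero =>
    intro γ hk hγ v
    have : γ = 0 := by
      funext e
      by_contra h
      have hm : e ∈ univ.filter (fun e => γ e ≠ 0) := by simpa using h
      have := Finset.card_pos.2 ⟨e, hm⟩
      omega
    subst this
    simp [bdry]
  | succ k ih =>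
    intro γ hk hγ v
    by_cases h0 : γ = 0
    · subst h0
      simp [bdry]
    obtain ⟨C, hC, hsupp⟩ := exists_circuit_of_cycle ends γ hγ h0
    obtain ⟨e₀, he₀⟩ := hC.1
    obtain ⟨γC, hγC, hγC0, hγC1⟩ := exists_cycle_of_isCircuit (R := R) ends hC he₀
    have hγ' : ∀ v, bdry ends (γ - γ e₀ • γC) v = 0 := by
      intro v
      rw [bdry_sub, bdry_smul, hγ, hγC]; ring
    have hcard : (univ.filter (fun e => (γ - γ e₀ • γC) e ≠ 0)).card ≤ k := by
      have hsub : univ.filter (fun e => (γ - γ e₀ • γC) e ≠ 0) ⊆
          (univ.filter (fun e => γ e ≠ 0)).erase e₀ := by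
        intro e he
        simp only [mem_filter, mem_univ, true_and] at he
        rw [mem_erase]
        refine ⟨?_, ?_⟩
        · rintro rfl
          apply he
          simp [hγC1]
        · simp only [mem_filter, mem_univ, true_and]
          intro hz
          apply he
          have : e ∉ C := fun hc => hsupp e hc hz
          simp [hz, hγC0 e this]
      have h1 := Finset.card_le_card hsub
      have hmem : e₀ ∈ univ.filter (fun e => γ e ≠ 0) := by
        simp only [mem_filter, mem_univ, true_and]
        exact hsupp e₀ he₀
      rw [Finset.card_erase_of_mem hmem] at h1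
      have hpos := Finset.card_pos.2 ⟨e₀, hmem⟩
      omega
    have ih' := ih (γ - γ e₀ • γC) hcard hγ' v
    have hdecomp : (fun e => if lab e = lam then γ e else 0) =
        (fun e => if lab e = lam then (γ - γ e₀ • γC) e else 0) +
          γ e₀ • (fun e => if lab e = lam then γC e else 0) := by
      funext e
      simp only [Pi.add_apply, Pi.smul_apply, smul_eq_mul, Pi.sub_apply]
      split_ifs <;> ring
    rw [hdecomp, bdry_add, bdry_smul, ih']
    by_cases hl : lab e₀ = lam
    · have : (fun e => if lab e = lam then γC e else 0) = γC := by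
        funext e
        by_cases he : e ∈ C
        · rw [if_pos ((hcirc C hC e he e₀ he₀).trans hl)]
        · rw [hγC0 e he]; simp
      rw [this, hγC]; ring
    · have : (fun e => if lab e = lam then γC e else 0) = 0 := by
        funext e
        by_cases he : e ∈ C
        · rw [if_neg (fun h => hl ((hcirc C hC e₀ he₀ e he).trans h))]; rfl
        · rw [hγC0 e he]; simp
      rw [this, bdry_zero]; ring

open Classical in
/-- when every circuit is monochromatic, the restriction of a cycle to a colour class is a cycle -/
theorem bdry_restrict {L : Type*} (lab : E → L)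
    (hcirc : ∀ C : Finset E, IsCircuit ends C → ∀ e ∈ C, ∀ e' ∈ C, lab e = lab e') (lam : L)
    (γ : E → R) (hγ : ∀ v, bdry ends γ v = 0) (v : V) :
    bdry ends (fun e => if lab e = lam then γ e else 0) v = 0 :=
  bdry_restrict_aux ends lab hcirc lam _ γ le_rfl hγ v

open Classical in
/-- the colour-`lam` part of a potential -/
theorem exists_color_potential {L : Type*} (lab : E → L)
    (hcirc : ∀ C : Finset E, IsCircuit ends C → ∀ e ∈ C, ∀ e' ∈ C, lab e = lab e')
    (hconn : ∀ v w, Reach ends univ v w) (v₀ : V) (f : V → R) (lam : L) :
    ∃ g : V → R, g v₀ = 0 ∧ ∀ e, cob ends g e = if lab e = lam then cob ends f e else 0 := by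
  apply exists_potential ends hconn v₀
  intro γ hγ
  have h := adj ends (fun e => if lab e = lam then γ e else 0) f
  rw [Finset.sum_eq_zero (fun v _ => by rw [bdry_restrict ends lab hcirc lam γ hγ v, zero_mul])] at h
  refine Eq.trans ?_ h.symm
  refine Finset.sum_congr rfl fun e _ => ?_
  split_ifs <;> ring

end Groth.Agent.Lib.Helper6.MGraph
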