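import Mathlib
import Groth.Agent.Lib.Helper6.MGraph

/-!
# Subgraphs on a sub-edge-type: transfer of circuits, forests, reachability
-/

set_option linter.unusedSectionVars false
set_option linter.unusedVariables false
set_option autoImplicit false
set_option maxHeartbeats 400000

noncomputable section
universe u
namespace Groth.Agent.Lib.Helper6.MGraph
open LabGraph Finset

variable {V E E' : Type u} [Fintype V] [Fintype E] [DecidableEq V] [DecidableEq E]
  [Fintype E'] [DecidableEq E']
variable (ends : E → V × V) (ι : E' ↪ E)

theorem endCount_map (C : Finset E') (v : V) :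
    endCount (fun e => ends (ι e)) C v = endCount ends (C.map ι) v := by
  unfold endCount
  rw [Finset.sum_map]

theorem isEven_map (C : Finset E') : IsEven (fun e => ends (ι e)) C ↔ IsEven ends (C.map ι) := by
  unfold IsEven
  simp only [endCount_map]

theorem isCircuit_map (C : Finset E') :
    IsCircuit (fun e => ends (ι e)) C ↔ IsCircuit ends (C.map ι) := by
  rw [isCircuit_iff, isCircuit_iff, isEven_map, Finset.map_nonempty]
  constructor
  · rintro ⟨h1, h2, h3⟩
    refine ⟨h1, h2, ?_⟩
    intro C'' hC'' hne hev
    have hsub : C'' ⊆ C.map ι := hC''.subset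
    have hmap : (C.filter (fun x => ι x ∈ C'')).map ι = C'' := by
      ext e
      simp only [mem_map, mem_filter]
      constructor
      · rintro ⟨x, ⟨-, hx⟩, rfl⟩
        exact hx
      · intro he
        obtain ⟨x, hx, rfl⟩ := mem_map.1 (hsub he)
        exact ⟨x, ⟨hx, he⟩, rfl⟩
    refine h3 (C.filter (fun x => ι x ∈ C'')) ?_ ?_ ?_
    · refine ⟨Finset.filter_subset _ _, ?_⟩
      intro hh
      apply hC''.2
      rw [← hmap]
      exact Finset.map_subset_map.2 hh
    · rw [← hmap] at hne
      exact Finset.map_nonempty.1 hne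
    · rw [isEven_map, hmap]
      exact hev
  · rintro ⟨h1, h2, h3⟩
    refine ⟨h1, h2, ?_⟩
    intro C' hC' hne hev
    exact h3 (C'.map ι) (Finset.map_ssubset_map.2 hC') (Finset.map_nonempty.2 hne)
      ((isEven_map ends ι C').1 hev)

theorem sAdj_map (D : Finset E') (v w : V) :
    SAdj (fun e => ends (ι e)) D v w ↔ SAdj ends (D.map ι) v w := by
  constructor
  · rintro ⟨e, he, h⟩
    exact ⟨ι e, Finset.mem_map_of_mem _ he, h⟩
  · rintro ⟨e, he, h⟩
    obtain ⟨x, hx, rfl⟩ := mem_map.1 he
    exact ⟨x, hx, h⟩

theorem reach_map (D : Finset E') (v w : V) :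
    Reach (fun e => ends (ι e)) D v w ↔ Reach ends (D.map ι) v w := by
  have : SAdj (fun e => ends (ι e)) D = SAdj ends (D.map ι) := by
    funext v w
    exact propext (sAdj_map ends ι D v w)
  unfold Reach
  rw [this]

/-- forests of the subgraph on the sub-edge-type -/
theorem forest_map_iff :
    (∀ C : Finset E', ¬ IsCircuit (fun e => ends (ι e)) C) ↔ IsForestSet ends (univ.map ι) := by
  constructor
  · intro h C hC hcirc
    have hmap : (univ.filter (fun x => ι x ∈ C)).map ι = C := by
      ext e
      simp only [mem_map, mem_filter, mem_univ, true_and]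
      constructor
      · rintro ⟨x, hx, rfl⟩
        exact hx
      · intro he
        obtain ⟨x, -, rfl⟩ := mem_map.1 (hC he)
        exact ⟨x, he, rfl⟩
    apply h (univ.filter (fun x => ι x ∈ C))
    rw [isCircuit_map, hmap]
    exact hcirc
  · intro h C hcirc
    exact h (C.map ι) (Finset.map_subset_map.2 (subset_univ _)) ((isCircuit_map ends ι C).1 hcirc)

/-! ### The case of a finset of edges -/

theorem univ_map_subtype (T : Finset E) :
    (univ : Finset {e // e ∈ T}).map (Function.Embedding.subtype _) = T := by
  ext e
  simp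

theorem reflTransGen_adj_sub_iff (T : Finset E) (v w : V) :
    Relation.ReflTransGen (LabGraph.Adj (fun e : {e // e ∈ T} => ends e.1)) v w ↔ Reach ends T v w := by
  rw [reflTransGen_adj_iff]
  have := reach_map ends (Function.Embedding.subtype (fun e => e ∈ T)) univ
  simp only [Function.Embedding.coe_subtype, univ_map_subtype] at this
  exact this v w

theorem connected_sub_iff (T : Finset E) :
    LabGraph.Connected (fun e : {e // e ∈ T} => ends e.1) ↔ Nonempty V ∧ ∀ v w, Reach ends T v w := by
  rw [connected_iff]
  have := reach_map ends (Function.Embedding.subtype (fun e => e ∈ T)) univ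
  simp only [Function.Embedding.coe_subtype, univ_map_subtype] at this
  simp only [this]

theorem forest_sub_iff (T : Finset E) :
    (∀ C : Finset {e // e ∈ T}, ¬ IsCircuit (fun e : {e // e ∈ T} => ends e.1) C) ↔
      IsForestSet ends T := by
  have := forest_map_iff ends (Function.Embedding.subtype (fun e => e ∈ T))
  simp only [Function.Embedding.coe_subtype, univ_map_subtype] at this
  exact this

/-- a circuit minus an edge is a forest -/
theorem isForestSet_erase_of_isCircuit {C : Finset E} (hC : IsCircuit ends C) {e₀ : E} (he₀ : e₀ ∈ C) :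
    IsForestSet ends (C.erase e₀) := by
  intro C' hC' hcirc
  obtain ⟨v, hv⟩ := hC.2.2 C' ⟨hC'.trans (Finset.erase_subset _ _), fun h =>
    Finset.notMem_erase e₀ C (hC' (h he₀))⟩ hcirc.1
  exact hv (hcirc.2.1 v)

/-- spanning trees containing a given forest and avoiding nothing in particular -/
theorem exists_spanning_tree (hconn : ∀ v w, Reach ends univ v w) {S₀ : Finset E}
    (h₀ : IsForestSet ends S₀) :
    ∃ T, S₀ ⊆ T ∧ IsForestSet ends T ∧ ∀ v w, Reach ends T v w := by
  obtain ⟨T, hT0, hTf, hmax⟩ := exists_maximal_forest ends h₀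
  exact ⟨T, hT0, hTf, fun v w => reach_of_maximal_forest ends hmax hTf (hconn v w)⟩

end Groth.Agent.Lib.Helper6.MGraph
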