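import Mathlib
import Groth.Agent.Lib.Helper6.MGraphSub

/-!
# Trees: boundaries fill the sum-zero hyperplane; sums over sides
-/

set_option linter.unusedSectionVars false
set_option linter.unusedVariables false
set_option autoImplicit false
set_option maxHeartbeats 400000

noncomputable section
universe u
namespace Groth.Agent.Lib.Helper6.MGraph
open LabGraph Finset

variable {V E : Type u} [Fintype V] [Fintype E] [DecidableEq V] [DecidableEq E]
variable (ends : E → V × V)
variable {R : Type*} [CommRing R]

theorem bdry_sum_smul {ι : Type*} (s : Finset ι) (a : ι → R) (p : ι → E → R) (v : V) :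
    bdry ends (fun e => ∑ w ∈ s, a w * p w e) v = ∑ w ∈ s, a w * bdry ends (p w) v := by
  classical
  induction s using Finset.induction_on with
  | empty =>
    simp only [Finset.sum_empty]
    exact bdry_zero ends v
  | insert i s hi ih =>
    have : (fun e => ∑ w ∈ insert i s, a w * p w e) = a i • p i + fun e => ∑ w ∈ s, a w * p w e := by
      funext e
      rw [Finset.sum_insert hi]
      rfl
    rw [this, bdry_add, bdry_smul, ih, Finset.sum_insert hi]

/-- total boundary vanishes -/
theorem sum_bdry (g : E → R) : ∑ v, bdry ends g v = 0 := by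
  have := adj ends g (fun _ => (1 : R))
  simp only [mul_one, cob, sub_self, mul_zero, Finset.sum_const_zero] at this
  exact this

/-- in a connected graph, every vertex vector of total zero is a boundary -/
theorem exists_bdry_eq (hconn : ∀ v w, Reach ends univ v w) (ψ : V → R) (hsum : ∑ v, ψ v = 0) :
    ∃ g : E → R, ∀ v, bdry ends g v = ψ v := by
  by_cases hne : Nonempty V
  swap
  · exact ⟨0, fun v => absurd ⟨v⟩ hne⟩
  obtain ⟨v₀⟩ := hne
  choose p hp0 hp using fun v => exists_chain (R := R) ends (hconn v₀ v)
  refine ⟨fun e => ∑ w, ψ w * p w e, fun v => ?_⟩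
  rw [bdry_sum_smul]
  simp only [hp, mul_sub, Finset.sum_sub_distrib, mul_ite, mul_one, mul_zero, Finset.sum_ite_eq',
    Finset.mem_univ, if_true]
  by_cases h : v₀ = v
  · simp [h, hsum]
  · simp [h]

/-- sum of a boundary over a vertex set -/
theorem sum_bdry_on (g : E → R) (S : Finset V) :
    ∑ v ∈ S, bdry ends g v =
      ∑ e, g e * ((if (ends e).2 ∈ S then 1 else 0) - (if (ends e).1 ∈ S then 1 else 0)) := by
  have := adj ends g (fun v => if v ∈ S then (1 : R) else 0)
  simp only [cob] at this
  rw [← this]
  simp only [mul_ite, mul_one, mul_zero]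
  rw [Finset.sum_ite_mem]
  simp

/-- in a forest, the boundary summed over one side of an edge is minus the value on that edge -/
theorem sum_bdry_side (hfor : IsForestSet ends univ) (g : E → R) (e₀ : E) :
    ∑ v ∈ comp ends (univ.erase e₀) (ends e₀).1, bdry ends g v = - g e₀ := by
  rw [sum_bdry_on, Finset.sum_eq_single e₀]
  · have ha : (ends e₀).1 ∈ comp ends (univ.erase e₀) (ends e₀).1 := (mem_comp ends).2 (Reach.refl _)
    have hb : (ends e₀).2 ∉ comp ends (univ.erase e₀) (ends e₀).1 :=
      fun h => hfor.not_reach ends (mem_univ e₀) ((mem_comp ends).1 h)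
    rw [if_pos ha, if_neg hb]; ring
  · intro e _ hne
    have := comp_edge ends (a := (ends e₀).1) (mem_erase.2 ⟨hne, mem_univ e⟩)
    by_cases h1 : (ends e).1 ∈ comp ends (univ.erase e₀) (ends e₀).1
    · rw [if_pos h1, if_pos (this.1 h1)]; ring
    · rw [if_neg h1, if_neg (fun h => h1 (this.2 h))]; ring
  · intro h
    exact absurd (mem_univ _) h

/-- the side-sum system on a tree has a unique solution -/
theorem tree_side_system (hconn : ∀ v w, Reach ends univ v w) (hne : Nonempty V)
    (hfor : IsForestSet ends univ) (c : E → R) (c₀ : R) :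
    ∃! φ : V → R, (∀ e : E, (∑ v ∈ comp ends (univ.erase e) (ends e).1, φ v) = c e) ∧
      (∑ v : V, φ v) = c₀ := by
  classical
  obtain ⟨v₀⟩ := hne
  -- existence
  refine ⟨fun v => bdry ends (fun e => -(c e - if v₀ ∈ comp ends (univ.erase e) (ends e).1 then c₀ else 0)) v
      + if v = v₀ then c₀ else 0, ⟨?_, ?_⟩, ?_⟩
  · intro e
    rw [Finset.sum_add_distrib, sum_bdry_side ends hfor, Finset.sum_ite_eq']
    ring
  · rw [Finset.sum_add_distrib, sum_bdry, Finset.sum_ite_eq']
    simp
  · intro φ ⟨h1, h2⟩
    -- the difference is a boundary with all side sums zero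
    set φ₀ : V → R := fun v => bdry ends
      (fun e => -(c e - if v₀ ∈ comp ends (univ.erase e) (ends e).1 then c₀ else 0)) v
      + if v = v₀ then c₀ else 0 with hφ₀
    have h1' : ∀ e : E, (∑ v ∈ comp ends (univ.erase e) (ends e).1, φ₀ v) = c e := by
      intro e
      rw [hφ₀]
      simp only
      rw [Finset.sum_add_distrib, sum_bdry_side ends hfor, Finset.sum_ite_eq']
      ring
    have h2' : (∑ v : V, φ₀ v) = c₀ := by
      rw [hφ₀]
      simp only
      rw [Finset.sum_add_distrib, sum_bdry, Finset.sum_ite_eq']
      simp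
    obtain ⟨g, hg⟩ := exists_bdry_eq ends hconn (φ - φ₀) (by
      simp only [Pi.sub_apply, Finset.sum_sub_distrib, h2, h2', sub_self])
    have hg0 : g = 0 := by
      funext e
      have := sum_bdry_side ends hfor g e
      simp only [hg, Pi.sub_apply, Finset.sum_sub_distrib, h1 e, h1' e, sub_self] at this
      simpa using this.symm
    funext v
    have := hg v
    rw [hg0, bdry_zero] at this
    simp only [Pi.sub_apply] at this
    exact (sub_eq_zero.1 this.symm)

end Groth.Agent.Lib.Helper6.MGraph
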