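import Mathlib
import Groth.Agent.Lib.Helper6.MGraphTree
import Groth.Prelude.Def_W4c5modbuncurvesppStab

/-!
# Induced subgraphs, components of vertex sets, and the modular function behind stability
-/

set_option linter.unusedSectionVars false
set_option linter.unusedVariables false
set_option autoImplicit false
set_option maxHeartbeats 400000

noncomputable section
universe u
namespace Groth.Agent.Lib.Helper6.MGraph
open LabGraph Finset PhiStab

variable {V E : Type u} [Fintype V] [Fintype E] [DecidableEq V] [DecidableEq E]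
variable (ends : E → V × V)

theorem mem_inner {S : Finset V} {e : E} : e ∈ PhiStab.inner ends S ↔ (ends e).1 ∈ S ∧ (ends e).2 ∈ S := by
  simp [PhiStab.inner]

theorem inner_mono {S S' : Finset V} (h : S ⊆ S') : PhiStab.inner ends S ⊆ PhiStab.inner ends S' := by
  intro e he
  rw [mem_inner] at he ⊢
  exact ⟨h he.1, h he.2⟩

/-- the induced subgraph on `S` is connected (given nonemptiness) -/
def Conn (S : Finset V) : Prop := ∀ v ∈ S, ∀ w ∈ S, Reach ends (PhiStab.inner ends S) v w

/-- paths along inner edges stay inside -/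
theorem mem_of_reach_inner {S : Finset V} {v w : V} (h : Reach ends (PhiStab.inner ends S) v w) (hv : v ∈ S) :
    w ∈ S := by
  induction h with
  | refl => exact hv
  | tail _ hadj ih =>
    obtain ⟨e, he, h | h⟩ := hadj
    · have := ((mem_inner ends).1 he).2
      rw [h] at this
      exact this
    · have := ((mem_inner ends).1 he).1
      rw [h] at this
      exact this

theorem connected_ind_iff (S : Finset V) :
    LabGraph.Connected (indEnds ends S) ↔ S.Nonempty ∧ Conn ends S := by
  unfold LabGraph.Connected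
  constructor
  · rintro ⟨⟨v₀⟩, h⟩
    refine ⟨⟨v₀.1, v₀.2⟩, fun v hv w hw => ?_⟩
    have key : ∀ a b : {v // v ∈ S}, Relation.ReflTransGen (LabGraph.Adj (indEnds ends S)) a b →
        Reach ends (PhiStab.inner ends S) a.1 b.1 := by
      intro a b hab
      induction hab with
      | refl => exact Reach.refl _
      | tail _ hadj ih =>
        refine ih.trans (Reach.of_adj ?_)
        obtain ⟨e, he⟩ := hadj
        refine ⟨e.1, e.2, ?_⟩
        rcases he with he | he
        · left
          have h1 := congrArg (fun p => (p.1.1, p.2.1)) he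
          simpa [indEnds] using h1
        · right
          have h1 := congrArg (fun p => (p.1.1, p.2.1)) he
          simpa [indEnds] using h1
    exact key ⟨v, hv⟩ ⟨w, hw⟩ (h _ _)
  · rintro ⟨⟨v₀, hv₀⟩, h⟩
    refine ⟨⟨⟨v₀, hv₀⟩⟩, fun v w => ?_⟩
    have key : ∀ (a b : V) (ha : a ∈ S), Reach ends (PhiStab.inner ends S) a b →
        ∃ hb : b ∈ S, Relation.ReflTransGen (LabGraph.Adj (indEnds ends S)) ⟨a, ha⟩ ⟨b, hb⟩ := by
      intro a b ha hab
      induction hab with
      | refl => exact ⟨ha, Relation.ReflTransGen.refl⟩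
      | tail _ hadj ih =>
        obtain ⟨hb, ih⟩ := ih
        obtain ⟨e, he, h | h⟩ := hadj
        · have h2 := ((mem_inner ends).1 he).2
          rw [h] at h2
          refine ⟨h2, ih.tail ⟨⟨e, he⟩, Or.inl ?_⟩⟩
          simp only [indEnds]
          apply Prod.ext <;> apply Subtype.ext <;> simp [h]
        · have h2 := ((mem_inner ends).1 he).1
          rw [h] at h2
          refine ⟨h2, ih.tail ⟨⟨e, he⟩, Or.inr ?_⟩⟩
          simp only [indEnds]
          apply Prod.ext <;> apply Subtype.ext <;> simp [h]
    obtain ⟨_, hr⟩ := key v.1 w.1 v.2 (h v.1 v.2 w.1 w.2)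
    exact hr

theorem isElementary_iff (S : Finset V) :
    IsElementary ends S ↔ (S.Nonempty ∧ Conn ends S) ∧ (Sᶜ.Nonempty ∧ Conn ends Sᶜ) := by
  unfold IsElementary
  rw [connected_ind_iff, connected_ind_iff]

/-! ### Components of a vertex set -/

/-- the component of `v` in the subgraph induced on `S` -/
def vcomp (S : Finset V) (v : V) : Finset V := comp ends (PhiStab.inner ends S) v

theorem mem_vcomp {S : Finset V} {v w : V} : w ∈ vcomp ends S v ↔ Reach ends (PhiStab.inner ends S) v w :=
  mem_comp ends

theorem self_mem_vcomp (S : Finset V) (v : V) : v ∈ vcomp ends S v :=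
  (mem_vcomp ends).2 (Reach.refl _)

theorem vcomp_subset {S : Finset V} {v : V} (hv : v ∈ S) : vcomp ends S v ⊆ S :=
  fun w hw => mem_of_reach_inner ends ((mem_vcomp ends).1 hw) hv

/-- within the component, paths use only inner edges of the component -/
theorem reach_inner_vcomp {S : Finset V} {v w : V} (h : Reach ends (PhiStab.inner ends S) v w) :
    Reach ends (PhiStab.inner ends (vcomp ends S v)) v w := by
  induction h with
  | refl => exact Reach.refl _
  | @tail b c hb hadj ih =>
    refine ih.trans (Reach.of_adj ?_)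
    obtain ⟨e, he, h⟩ := hadj
    refine ⟨e, ?_, h⟩
    rw [mem_inner]
    have hb' : b ∈ vcomp ends S v := (mem_vcomp ends).2 hb
    have hc' : c ∈ vcomp ends S v := (mem_vcomp ends).2 (hb.trans (Reach.of_adj ⟨e, he, h⟩))
    rcases h with h | h <;> rw [h] <;> simp [hb', hc']

theorem conn_vcomp (S : Finset V) (v : V) : Conn ends (vcomp ends S v) := by
  intro a ha b hb
  exact (reach_inner_vcomp ends ((mem_vcomp ends).1 ha)).symm.trans
    (reach_inner_vcomp ends ((mem_vcomp ends).1 hb))

/-- no edge of `G[S]` leaves a component -/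
theorem vcomp_closed {S : Finset V} {v : V} {e : E} (he : e ∈ PhiStab.inner ends S) :
    (ends e).1 ∈ vcomp ends S v ↔ (ends e).2 ∈ vcomp ends S v :=
  comp_edge ends he

/-- in a connected graph, a set closed under adjacency and nonempty is everything -/
theorem eq_univ_of_closed (hconn : ∀ v w, Reach ends univ v w) {T : Finset V} (hne : T.Nonempty)
    (hcl : ∀ e, (ends e).1 ∈ T ↔ (ends e).2 ∈ T) : T = univ := by
  obtain ⟨v, hv⟩ := hne
  rw [eq_univ_iff_forall]
  intro w
  have := hconn v w
  induction this with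
  | refl => exact hv
  | tail _ hadj ih =>
    obtain ⟨e, -, h | h⟩ := hadj
    · have := (hcl e).1 (by rw [h]; exact ih)
      rw [h] at this
      exact this
    · have := (hcl e).2 (by rw [h]; exact ih)
      rw [h] at this
      exact this

/-- exit edge: a component of `G[Sᶜ]` is joined to `S` by an edge -/
theorem exists_exit_edge (hconn : ∀ v w, Reach ends univ v w) {S : Finset V} (hS : S.Nonempty)
    {v : V} (hv : v ∈ Sᶜ) :
    ∃ x y, x ∈ vcomp ends Sᶜ v ∧ y ∈ S ∧ SAdj ends univ x y := by
  by_contra hcon
  push Not at hcon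
  have hsub := vcomp_subset ends hv
  have : vcomp ends Sᶜ v = univ := by
    apply eq_univ_of_closed ends hconn ⟨v, self_mem_vcomp ends _ v⟩
    intro e
    -- if one endpoint is in the component, the other is not in S, so the edge is inner to Sᶜ
    constructor
    · intro h1
      have h2 : (ends e).2 ∉ S := fun h2 => hcon _ _ h1 h2 ⟨e, mem_univ _, Or.inl rfl⟩
      have he : e ∈ PhiStab.inner ends Sᶜ := (mem_inner ends).2 ⟨hsub h1, mem_compl.2 h2⟩
      exact (vcomp_closed ends he).1 h1
    · intro h1
      have h2 : (ends e).1 ∉ S := fun h2 => hcon _ _ h1 h2 ⟨e, mem_univ _, Or.inr rfl⟩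
      have he : e ∈ PhiStab.inner ends Sᶜ := (mem_inner ends).2 ⟨mem_compl.2 h2, hsub h1⟩
      exact (vcomp_closed ends he).2 h1
  obtain ⟨s, hs⟩ := hS
  have h1 : s ∈ vcomp ends Sᶜ v := by rw [this]; exact mem_univ _
  exact (mem_compl.1 (hsub h1)) hs

/-! ### The modular function -/

/-- the stability function `S ↦ Σ_S μ + #(N ∩ inner S) + cut S / 2` -/
def hfun (μ : V → ℝ) (N : Finset E) (S : Finset V) : ℝ :=
  ∑ v ∈ S, μ v + ((N ∩ PhiStab.inner ends S).card : ℝ) + (LabGraph.cut ends S : ℝ) / 2

theorem cut_eq_sum (S : Finset V) :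
    LabGraph.cut ends S = ∑ e : E, (if ((ends e).1 ∈ S ∧ (ends e).2 ∉ S) ∨ ((ends e).1 ∉ S ∧ (ends e).2 ∈ S)
      then 1 else 0) := by
  unfold LabGraph.cut
  rw [Finset.card_filter]

theorem hfun_empty (μ : V → ℝ) (N : Finset E) : hfun ends μ N ∅ = 0 := by
  have h1 : PhiStab.inner ends (∅ : Finset V) = ∅ := by
    ext e
    simp [mem_inner]
  have h2 : LabGraph.cut ends (∅ : Finset V) = 0 := by
    rw [cut_eq_sum]
    simp
  simp [hfun, h1, h2]

theorem hfun_univ (μ : V → ℝ) (N : Finset E) : hfun ends μ N univ = ∑ v, μ v + (N.card : ℝ) := by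
  have h1 : PhiStab.inner ends (univ : Finset V) = univ := by
    ext e
    simp [mem_inner]
  have h2 : LabGraph.cut ends (univ : Finset V) = 0 := by
    rw [cut_eq_sum]
    simp
  simp [hfun, h1, h2]

theorem cut_modular {A B : Finset V}
    (hno : ∀ x y, SAdj ends univ x y → x ∈ A → x ∉ B → y ∈ B → y ∈ A) :
    LabGraph.cut ends A + LabGraph.cut ends B = LabGraph.cut ends (A ∩ B) + LabGraph.cut ends (A ∪ B) := by
  simp only [cut_eq_sum, ← Finset.sum_add_distrib]
  refine Finset.sum_congr rfl fun e _ => ?_
  have h1 := hno (ends e).1 (ends e).2 ⟨e, mem_univ _, Or.inl rfl⟩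
  have h2 := hno (ends e).2 (ends e).1 ⟨e, mem_univ _, Or.inr rfl⟩
  by_cases a1 : (ends e).1 ∈ A <;> by_cases b1 : (ends e).1 ∈ B <;>
    by_cases a2 : (ends e).2 ∈ A <;> by_cases b2 : (ends e).2 ∈ B <;>
    simp [a1, b1, a2, b2] at h1 h2 ⊢

theorem inner_inter (A B : Finset V) :
    PhiStab.inner ends (A ∩ B) = PhiStab.inner ends A ∩ PhiStab.inner ends B := by
  ext e
  simp only [mem_inner, mem_inter]
  tauto

theorem inner_union {A B : Finset V}
    (hno : ∀ x y, SAdj ends univ x y → x ∈ A → x ∉ B → y ∈ B → y ∈ A) :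
    PhiStab.inner ends (A ∪ B) = PhiStab.inner ends A ∪ PhiStab.inner ends B := by
  ext e
  have h1 := hno (ends e).1 (ends e).2 ⟨e, mem_univ _, Or.inl rfl⟩
  have h2 := hno (ends e).2 (ends e).1 ⟨e, mem_univ _, Or.inr rfl⟩
  simp only [mem_inner, mem_union]
  by_cases a1 : (ends e).1 ∈ A <;> by_cases b1 : (ends e).1 ∈ B <;>
    by_cases a2 : (ends e).2 ∈ A <;> by_cases b2 : (ends e).2 ∈ B <;>
    simp [a1, b1, a2, b2] at h1 h2 ⊢

theorem hfun_modular (μ : V → ℝ) (N : Finset E) {A B : Finset V}
    (hno : ∀ x y, SAdj ends univ x y → x ∈ A → x ∉ B → y ∈ B → y ∈ A) :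
    hfun ends μ N A + hfun ends μ N B = hfun ends μ N (A ∩ B) + hfun ends μ N (A ∪ B) := by
  unfold hfun
  have h1 := Finset.sum_union_inter (s₁ := A) (s₂ := B) (f := μ)
  have h2 : ((N ∩ PhiStab.inner ends A).card : ℝ) + ((N ∩ PhiStab.inner ends B).card : ℝ) =
      ((N ∩ PhiStab.inner ends (A ∩ B)).card : ℝ) + ((N ∩ PhiStab.inner ends (A ∪ B)).card : ℝ) := by
    rw [inner_inter, inner_union ends hno, Finset.inter_union_distrib_left,
      Finset.inter_inter_distrib_left]
    have := Finset.card_union_add_card_inter (N ∩ PhiStab.inner ends A) (N ∩ PhiStab.inner ends B)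
    have h3 : (((N ∩ PhiStab.inner ends A ∪ N ∩ PhiStab.inner ends B).card +
      (N ∩ PhiStab.inner ends A ∩ (N ∩ PhiStab.inner ends B)).card : ℕ) : ℝ) =
      (((N ∩ PhiStab.inner ends A).card + (N ∩ PhiStab.inner ends B).card : ℕ) : ℝ) := by
      rw [this]
    push_cast at h3
    linarith
  have h3 : (LabGraph.cut ends A : ℝ) + (LabGraph.cut ends B : ℝ) =
      (LabGraph.cut ends (A ∩ B) : ℝ) + (LabGraph.cut ends (A ∪ B) : ℝ) := by
    have := cut_modular ends hno
    exact_mod_cast this
  linarith

/-! ### Reduction of the stability inequalities to elementary sets -/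

section Main

variable (hconn : ∀ v w, Reach ends univ v w) (μ : V → ℝ) (N : Finset E)
  (htot : hfun ends μ N univ = 0) (P : ℝ → Prop) (hP1 : ∀ x y, P x → 0 ≤ y → P (x + y))
  (hP2 : ∀ x, P x → 0 ≤ x)
  (Hel : ∀ S : Finset V, (S.Nonempty ∧ Conn ends S) ∧ (Sᶜ.Nonempty ∧ Conn ends Sᶜ) →
    P (hfun ends μ N S))

include hconn htot hP1 hP2 Hel

theorem stab_step1 : ∀ (k : ℕ) (S : Finset V), Sᶜ.card ≤ k → S.Nonempty → S ≠ univ → Conn ends S →
    P (hfun ends μ N S) := by
  intro k
  induction k with
  | zero =>
    intro S hk _ hne _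
    exfalso
    apply hne
    have : Sᶜ = ∅ := Finset.card_eq_zero.1 (by omega)
    rw [← compl_compl S, this, compl_empty]
  | succ k ih =>
    intro S hk hSne hSuniv hSconn
    have : ∃ v, v ∉ S := by
      by_contra h
      push Not at h
      exact hSuniv (eq_univ_iff_forall.2 h)
    obtain ⟨v, hvS⟩ := this
    have hv : v ∈ Sᶜ := mem_compl.2 hvS
    have hTsub : vcomp ends Sᶜ v ⊆ Sᶜ := vcomp_subset ends hv
    have hST : ∀ a, a ∈ S → a ∉ vcomp ends Sᶜ v := fun a ha h => mem_compl.1 (hTsub h) ha
    obtain ⟨x, y, hx, hy, hxy⟩ := exists_exit_edge ends hconn hSne hv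
    -- closedness of the component inside `Sᶜ`
    have hclosed : ∀ a b, SAdj ends univ a b → a ∈ vcomp ends Sᶜ v → b ∉ S → b ∈ vcomp ends Sᶜ v := by
      intro a b hab ha hb
      obtain ⟨e, -, h⟩ := hab
      have he : e ∈ PhiStab.inner ends Sᶜ := by
        rw [mem_inner]
        rcases h with h | h <;> rw [h] <;> exact ⟨by first | exact hTsub ha | exact mem_compl.2 hb,
          by first | exact hTsub ha | exact mem_compl.2 hb⟩
      rcases h with h | h
      · have := (vcomp_closed ends (v := v) he).1 (by rw [h]; exact ha)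
        rw [h] at this; exact this
      · have := (vcomp_closed ends (v := v) he).2 (by rw [h]; exact ha)
        rw [h] at this; exact this
    -- every vertex outside the component reaches `S` inside the complement of the component
    have hreachS : ∀ a, a ∉ vcomp ends Sᶜ v →
        ∃ s ∈ S, Reach ends (PhiStab.inner ends (vcomp ends Sᶜ v)ᶜ) a s := by
      intro a ha
      by_cases haS : a ∈ S
      · exact ⟨a, haS, Reach.refl _⟩
      · have ha' : a ∈ Sᶜ := mem_compl.2 haS
        obtain ⟨xa, ya, hxa, hya, hadj⟩ := exists_exit_edge ends hconn hSne ha'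
        have hsub : vcomp ends Sᶜ a ⊆ (vcomp ends Sᶜ v)ᶜ := by
          intro z hz
          rw [mem_compl]
          intro hz'
          apply ha
          exact (mem_vcomp ends).2 (((mem_vcomp ends).1 hz').trans ((mem_vcomp ends).1 hz).symm)
        refine ⟨ya, hya, ?_⟩
        have h1 : Reach ends (PhiStab.inner ends (vcomp ends Sᶜ v)ᶜ) a xa :=
          (reach_inner_vcomp ends ((mem_vcomp ends).1 hxa)).mono (inner_mono ends hsub)
        refine h1.trans (Reach.of_adj ?_)
        obtain ⟨e, -, h⟩ := hadj
        refine ⟨e, ?_, h⟩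
        rw [mem_inner]
        have hxa' : xa ∈ (vcomp ends Sᶜ v)ᶜ := hsub hxa
        have hya' : ya ∈ (vcomp ends Sᶜ v)ᶜ := mem_compl.2 (hST ya hya)
        rcases h with h | h <;> rw [h] <;> simp only <;> exact ⟨by assumption, by assumption⟩
    have hSsub : S ⊆ (vcomp ends Sᶜ v)ᶜ := fun a ha => mem_compl.2 (hST a ha)
    have hel : P (hfun ends μ N (vcomp ends Sᶜ v)ᶜ) := by
      apply Hel
      refine ⟨⟨hSne.mono hSsub, ?_⟩, ?_⟩
      · intro a ha b hb
        obtain ⟨s, hs, h1⟩ := hreachS a (mem_compl.1 ha)
        obtain ⟨s', hs', h2⟩ := hreachS b (mem_compl.1 hb)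
        exact h1.trans (((hSconn s hs s' hs').mono (inner_mono ends hSsub)).trans h2.symm)
      · rw [compl_compl]
        exact ⟨⟨v, self_mem_vcomp ends _ v⟩, conn_vcomp ends _ v⟩
    -- modularity
    have hmod := hfun_modular ends μ N (A := S ∪ vcomp ends Sᶜ v) (B := (vcomp ends Sᶜ v)ᶜ) (by
      intro a b hab ha hna hb
      have ha' : a ∈ vcomp ends Sᶜ v := by
        rw [mem_compl, not_not] at hna
        exact hna
      have hb' : b ∉ vcomp ends Sᶜ v := mem_compl.1 hb
      rw [mem_union]
      left
      by_contra hbS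
      exact hb' (hclosed a b hab ha' hbS))
    have e1 : (S ∪ vcomp ends Sᶜ v) ∩ (vcomp ends Sᶜ v)ᶜ = S := by
      ext a
      simp only [mem_inter, mem_union, mem_compl]
      constructor
      · rintro ⟨h | h, h'⟩
        · exact h
        · exact absurd h h'
      · intro h
        exact ⟨Or.inl h, hST a h⟩
    have e2 : (S ∪ vcomp ends Sᶜ v) ∪ (vcomp ends Sᶜ v)ᶜ = univ := by
      ext a
      simp only [mem_union, mem_compl, mem_univ, iff_true]
      by_cases h : a ∈ vcomp ends Sᶜ v
      · exact Or.inl (Or.inr h)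
      · exact Or.inr h
    rw [e1, e2, htot, add_zero] at hmod
    rw [← hmod, add_comm]
    apply hP1 _ _ hel
    by_cases huniv : S ∪ vcomp ends Sᶜ v = univ
    · rw [huniv, htot]
    · apply hP2
      apply ih
      · have hsub : (S ∪ vcomp ends Sᶜ v)ᶜ ⊆ Sᶜ.erase v := by
          intro a ha
          rw [mem_compl, mem_union, not_or] at ha
          rw [mem_erase, mem_compl]
          refine ⟨?_, ha.1⟩
          rintro rfl
          exact ha.2 (self_mem_vcomp ends _ _)
        have := Finset.card_le_card hsub
        rw [Finset.card_erase_of_mem hv] at this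
        have hpos := Finset.card_pos.2 ⟨v, hv⟩
        omega
      · exact hSne.mono subset_union_left
      · exact huniv
      · -- connectedness of `S ∪ T`
        have hy' : y ∈ S ∪ vcomp ends Sᶜ v := mem_union_left _ hy
        have hx' : x ∈ S ∪ vcomp ends Sᶜ v := mem_union_right _ hx
        have hxyadj : Reach ends (PhiStab.inner ends (S ∪ vcomp ends Sᶜ v)) x y := by
          refine Reach.of_adj ?_
          obtain ⟨e, -, h⟩ := hxy
          refine ⟨e, ?_, h⟩
          rw [mem_inner]
          rcases h with h | h <;> rw [h] <;> simp only <;> exact ⟨by assumption, by assumption⟩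
        have hto : ∀ a ∈ S ∪ vcomp ends Sᶜ v,
            Reach ends (PhiStab.inner ends (S ∪ vcomp ends Sᶜ v)) a y := by
          intro a ha
          rcases mem_union.1 ha with h | h
          · exact (hSconn a h y hy).mono (inner_mono ends subset_union_left)
          · exact ((conn_vcomp ends Sᶜ v a h x hx).mono (inner_mono ends subset_union_right)).trans hxyadj
        intro a ha b hb
        exact (hto a ha).trans (hto b hb).symm

theorem stab_step2 : ∀ (k : ℕ) (S : Finset V), S.card ≤ k → S.Nonempty → S ≠ univ →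
    P (hfun ends μ N S) := by
  intro k
  induction k with
  | zero =>
    intro S hk hne _
    exfalso
    have := Finset.card_pos.2 hne
    omega
  | succ k ih =>
    intro S hk hSne hSuniv
    obtain ⟨v, hv⟩ := hSne
    have hsub : vcomp ends S v ⊆ S := vcomp_subset ends hv
    have hmod := hfun_modular ends μ N (A := vcomp ends S v) (B := S \ vcomp ends S v) (by
      intro a b hab ha _ hb
      rw [mem_sdiff] at hb
      obtain ⟨e, -, h⟩ := hab
      have he : e ∈ PhiStab.inner ends S := by
        rw [mem_inner]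
        rcases h with h | h <;> rw [h] <;> simp only
        · exact ⟨hsub ha, hb.1⟩
        · exact ⟨hb.1, hsub ha⟩
      rcases h with h | h
      · have := (vcomp_closed ends (v := v) he).1 (by rw [h]; exact ha)
        rw [h] at this; exact this
      · have := (vcomp_closed ends (v := v) he).2 (by rw [h]; exact ha)
        rw [h] at this; exact this)
    have e1 : vcomp ends S v ∩ (S \ vcomp ends S v) = ∅ := by
      ext a
      simp only [mem_inter, mem_sdiff, notMem_empty, iff_false]
      tauto
    have e2 : vcomp ends S v ∪ (S \ vcomp ends S v) = S := Finset.union_sdiff_of_subset hsub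
    rw [e1, e2, hfun_empty, zero_add] at hmod
    rw [← hmod]
    have h1 : P (hfun ends μ N (vcomp ends S v)) := by
      refine stab_step1 ends hconn μ N htot P hP1 hP2 Hel _ _ le_rfl ⟨v, self_mem_vcomp ends _ v⟩ ?_
        (conn_vcomp ends S v)
      intro h
      apply hSuniv
      rw [eq_univ_iff_forall] at h ⊢
      exact fun a => hsub (h a)
    apply hP1 _ _ h1
    by_cases hemp : S \ vcomp ends S v = ∅
    · rw [hemp, hfun_empty]
    · apply hP2
      apply ih
      · have hlt : (S \ vcomp ends S v).card < S.card := by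
          apply Finset.card_lt_card
          refine ⟨sdiff_subset, ?_⟩
          intro h
          have := h hv
          rw [mem_sdiff] at this
          exact this.2 (self_mem_vcomp ends _ v)
        omega
      · exact Finset.nonempty_iff_ne_empty.2 hemp
      · intro h
        apply hSuniv
        rw [eq_univ_iff_forall] at h ⊢
        intro a
        have := h a
        rw [mem_sdiff] at this
        exact this.1

theorem stab_main (S : Finset V) (hne : S.Nonempty) (huniv : S ≠ univ) : P (hfun ends μ N S) :=
  stab_step2 ends hconn μ N htot P hP1 hP2 Hel _ S le_rfl hne huniv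

end Main

end Groth.Agent.Lib.Helper6.MGraph
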