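import Mathlib
import Groth.Agent.Lib.Helper6.MGraphStab

/-!
# Spanning trees inside a multigraph: side sums relative to a tree, stability of data `(m, Tᶜ)`
-/

set_option linter.unusedSectionVars false
set_option linter.unusedVariables false
set_option autoImplicit false
set_option maxHeartbeats 400000

noncomputable section
universe u
namespace Groth.Agent.Lib.Helper6.MGraph
open LabGraph Finset PhiStab

variable {V E : Type u} [Fintype V] [Fintype E] [DecidableEq V] [DecidableEq E]
variable (ends : E → V × V)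
variable {R : Type*} [CommRing R]

/-- the side of `e` in the edge set `T`: the component of the first endpoint in `T ∖ e` -/
def tside (T : Finset E) (e : E) : Finset V := comp ends (T.erase e) (ends e).1

theorem fst_mem_tside (T : Finset E) (e : E) : (ends e).1 ∈ tside ends T e :=
  (mem_comp ends).2 (Reach.refl _)

theorem snd_notMem_tside {T : Finset E} (hfor : IsForestSet ends T) {e : E} (he : e ∈ T) :
    (ends e).2 ∉ tside ends T e :=
  fun h => hfor.not_reach ends he ((mem_comp ends).1 h)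

theorem tside_closed {T : Finset E} {e₀ e : E} (he : e ∈ T) (hne : e ≠ e₀) :
    (ends e).1 ∈ tside ends T e₀ ↔ (ends e).2 ∈ tside ends T e₀ :=
  comp_edge ends (mem_erase.2 ⟨hne, he⟩)

theorem sum_bdry_side' {T : Finset E} (hfor : IsForestSet ends T) (g : E → R)
    (hg : ∀ e, e ∉ T → g e = 0) {e₀ : E} (he₀ : e₀ ∈ T) :
    ∑ v ∈ tside ends T e₀, bdry ends g v = - g e₀ := by
  rw [sum_bdry_on, Finset.sum_eq_single e₀]
  · rw [if_pos (fst_mem_tside ends T e₀), if_neg (snd_notMem_tside ends hfor he₀)]; ring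
  · intro e _ hne
    by_cases he : e ∈ T
    · have := tside_closed ends (e₀ := e₀) he hne
      by_cases h1 : (ends e).1 ∈ tside ends T e₀
      · rw [if_pos h1, if_pos (this.1 h1)]; ring
      · rw [if_neg h1, if_neg (fun h => h1 (this.2 h))]; ring
    · rw [hg e he, zero_mul]
  · intro h
    exact absurd (mem_univ _) h

theorem exists_bdry_eq' {T : Finset E} (hconn : ∀ v w, Reach ends T v w) (ψ : V → R)
    (hsum : ∑ v, ψ v = 0) :
    ∃ g : E → R, (∀ e, e ∉ T → g e = 0) ∧ ∀ v, bdry ends g v = ψ v := by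
  by_cases hne : Nonempty V
  swap
  · exact ⟨0, fun _ _ => rfl, fun v => absurd ⟨v⟩ hne⟩
  obtain ⟨v₀⟩ := hne
  choose p hp0 hp using fun v => exists_chain (R := R) ends (hconn v₀ v)
  refine ⟨fun e => ∑ w, ψ w * p w e, fun e he => ?_, fun v => ?_⟩
  · apply Finset.sum_eq_zero
    intro w _
    rw [hp0 w e he, mul_zero]
  · rw [bdry_sum_smul]
    simp only [hp, mul_sub, Finset.sum_sub_distrib, mul_ite, mul_one, mul_zero, Finset.sum_ite_eq',
      Finset.mem_univ, if_true]
    by_cases h : v₀ = v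
    · simp [h, hsum]
    · simp [h]

/-- the side-sum system relative to a spanning tree `T` -/
theorem tree_side_system' {T : Finset E} (hconn : ∀ v w, Reach ends T v w) (hne : Nonempty V)
    (hfor : IsForestSet ends T) (c : E → R) (c₀ : R) :
    ∃! φ : V → R, (∀ e ∈ T, (∑ v ∈ tside ends T e, φ v) = c e) ∧ (∑ v : V, φ v) = c₀ := by
  classical
  obtain ⟨v₀⟩ := hne
  have hg0 : ∀ e, e ∉ T → (fun e => if e ∈ T then
      -(c e - if v₀ ∈ tside ends T e then c₀ else 0) else 0) e = 0 := by
    intro e he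
    simp [he]
  have hex : (∀ e ∈ T, (∑ v ∈ tside ends T e, (bdry ends (fun e => if e ∈ T then
      -(c e - if v₀ ∈ tside ends T e then c₀ else 0) else 0) v + if v = v₀ then c₀ else 0)) = c e) ∧
      (∑ v : V, (bdry ends (fun e => if e ∈ T then
      -(c e - if v₀ ∈ tside ends T e then c₀ else 0) else 0) v + if v = v₀ then c₀ else 0)) = c₀ := by
    constructor
    · intro e he
      rw [Finset.sum_add_distrib, sum_bdry_side' ends hfor _ hg0 he, Finset.sum_ite_eq', if_pos he]
      ring
    · rw [Finset.sum_add_distrib, sum_bdry, Finset.sum_ite_eq']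
      simp
  refine ⟨_, hex, ?_⟩
  intro φ ⟨h1, h2⟩
  obtain ⟨g, hgT, hg⟩ := exists_bdry_eq' ends hconn (φ - fun v => (bdry ends (fun e => if e ∈ T then
      -(c e - if v₀ ∈ tside ends T e then c₀ else 0) else 0) v + if v = v₀ then c₀ else 0)) (by
    simp only [Pi.sub_apply, Finset.sum_sub_distrib, h2, hex.2, sub_self])
  have hgz : g = 0 := by
    funext e
    by_cases he : e ∈ T
    · have := sum_bdry_side' ends hfor g hgT he
      simp only [hg, Pi.sub_apply, Finset.sum_sub_distrib, h1 e he, hex.1 e he, sub_self] at this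
      simpa using this.symm
    · exact hgT e he
  funext v
  have := hg v
  rw [hgz, bdry_zero] at this
  simp only [Pi.sub_apply] at this
  exact (sub_eq_zero.1 this.symm)

/-- a vertex vector of total zero is recovered from its side sums -/
theorem sum_on_eq_side {T : Finset E} (hconn : ∀ v w, Reach ends T v w)
    (hfor : IsForestSet ends T) (μ : V → R) (hμ : ∑ v, μ v = 0) (S : Finset V) :
    ∑ v ∈ S, μ v = ∑ e ∈ T, (∑ v ∈ tside ends T e, μ v) *
      ((if (ends e).1 ∈ S then 1 else 0) - (if (ends e).2 ∈ S then 1 else 0)) := by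
  classical
  by_cases hne : Nonempty V
  swap
  · have hS : S = ∅ := by
      ext v
      exact absurd ⟨v⟩ hne
    have hT : T = ∅ := by
      ext e
      exact absurd ⟨(ends e).1⟩ hne
    simp [hS, hT]
  -- `μ` is the boundary of `g e = - μ(S_e)`
  have hg0 : ∀ e, e ∉ T → (fun e => if e ∈ T then -(∑ v ∈ tside ends T e, μ v) else 0) e = 0 := by
    intro e he
    simp [he]
  have hbd : ∀ v, bdry ends (fun e => if e ∈ T then -(∑ v ∈ tside ends T e, μ v) else 0) v = μ v := by
    obtain ⟨φ, -, huniq⟩ := tree_side_system' ends hconn hne hfor (fun e => ∑ v ∈ tside ends T e, μ v) 0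
    have e1 := huniq μ ⟨fun e _ => rfl, hμ⟩
    have e2 := huniq (bdry ends (fun e => if e ∈ T then -(∑ v ∈ tside ends T e, μ v) else 0)) ⟨by
      intro e he
      rw [sum_bdry_side' ends hfor _ hg0 he, if_pos he]
      ring, sum_bdry ends _⟩
    intro v
    exact congrFun (e2.trans e1.symm) v
  rw [← Finset.sum_congr rfl (fun v _ => hbd v), sum_bdry_on, ← Finset.sum_subset (subset_univ T)]
  · refine Finset.sum_congr rfl fun e he => ?_
    rw [if_pos he]
    ring
  · intro e _ he
    rw [if_neg he, zero_mul]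

theorem eq_univ_of_closed' {T : Finset E} (hconn : ∀ v w, Reach ends T v w) {S : Finset V}
    (hne : S.Nonempty) (hcl : ∀ e ∈ T, (ends e).1 ∈ S ↔ (ends e).2 ∈ S) : S = univ := by
  obtain ⟨v, hv⟩ := hne
  rw [eq_univ_iff_forall]
  intro w
  have := hconn v w
  induction this with
  | refl => exact hv
  | tail _ hadj ih =>
    obtain ⟨e, he, h | h⟩ := hadj
    · have := (hcl e he).1 (by rw [h]; exact ih)
      rw [h] at this
      exact this
    · have := (hcl e he).2 (by rw [h]; exact ih)
      rw [h] at this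
      exact this

/-! ### Stability of the datum `(m, Tᶜ)` for a spanning tree `T` -/

/-- the edge `e` has exactly one endpoint in `S` -/
def Cross (S : Finset V) (e : E) : Prop :=
  ((ends e).1 ∈ S ∧ (ends e).2 ∉ S) ∨ ((ends e).1 ∉ S ∧ (ends e).2 ∈ S)

instance (S : Finset V) : DecidablePred (Cross ends S) := fun e => by
  unfold Cross
  infer_instance

theorem cut_eq_cross (S : Finset V) : LabGraph.cut ends S = (univ.filter (Cross ends S)).card := rfl

theorem cut_split (T : Finset E) (S : Finset V) :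
    LabGraph.cut ends S = (T.filter (Cross ends S)).card + (Tᶜ.filter (Cross ends S)).card := by
  rw [cut_eq_cross, Finset.card_filter, Finset.card_filter, Finset.card_filter,
    Finset.sum_add_sum_compl]

theorem sum_endCount_compl (D : Finset E) (S : Finset V) :
    ∑ v ∈ S, endCount ends D v = 2 * (D ∩ PhiStab.inner ends S).card + (D.filter (Cross ends S)).card := by
  rw [sum_endCount]
  have h1 : (D ∩ PhiStab.inner ends S) = D.filter (fun e => (ends e).1 ∈ S ∧ (ends e).2 ∈ S) := by
    ext e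
    simp [mem_inner]
  rw [h1, Finset.card_filter, Finset.card_filter, Finset.mul_sum, ← Finset.sum_add_distrib]
  refine Finset.sum_congr rfl fun e _ => ?_
  unfold Cross
  by_cases a1 : (ends e).1 ∈ S <;> by_cases a2 : (ends e).2 ∈ S <;> simp [a1, a2]

theorem sum_endCount_univ (D : Finset E) : ∑ v, endCount ends D v = 2 * D.card := by
  rw [sum_endCount]
  simp only [mem_univ, if_true]
  rw [Finset.sum_const, smul_eq_mul, mul_comm]

/-- the shifted weight `m - φ + (edge-ends outside T)/2` -/
def muT (T : Finset E) (φ : V → ℝ) (m : V → ℤ) (v : V) : ℝ :=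
  (m v : ℝ) - φ v + (endCount ends Tᶜ v : ℝ) / 2

theorem sum_muT (T : Finset E) (φ : V → ℝ) (m : V → ℤ) :
    ∑ v, muT ends T φ m v = (totDeg m Tᶜ : ℝ) - ∑ v, φ v := by
  unfold muT totDeg
  rw [Finset.sum_add_distrib, Finset.sum_sub_distrib, ← Finset.sum_div]
  have := sum_endCount_univ ends Tᶜ
  have h2 : (∑ v, (endCount ends Tᶜ v : ℝ)) = 2 * (Tᶜ.card : ℝ) := by
    exact_mod_cast this
  rw [h2]
  push_cast
  ring

theorem hfun_eq_degOn (φ : V → ℝ) (m : V → ℤ) (N : Finset E) (S : Finset V) :
    hfun ends (fun v => (m v : ℝ) - φ v) N S =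
      (degOn ends m N S : ℝ) - ((∑ v ∈ S, φ v) - (LabGraph.cut ends S : ℝ) / 2) := by
  unfold hfun degOn
  rw [Finset.sum_sub_distrib]
  push_cast
  ring

theorem hfun_eq_muT (T : Finset E) (φ : V → ℝ) (m : V → ℤ) (S : Finset V) :
    hfun ends (fun v => (m v : ℝ) - φ v) Tᶜ S =
      ∑ v ∈ S, muT ends T φ m v + ((T.filter (Cross ends S)).card : ℝ) / 2 := by
  unfold hfun muT
  rw [Finset.sum_add_distrib, ← Finset.sum_div]
  have h1 := sum_endCount_compl ends Tᶜ S
  have h1' : (∑ v ∈ S, (endCount ends Tᶜ v : ℝ)) =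
      2 * ((Tᶜ ∩ PhiStab.inner ends S).card : ℝ) + ((Tᶜ.filter (Cross ends S)).card : ℝ) := by
    exact_mod_cast h1
  have h2 := cut_split ends T S
  have h2' : (LabGraph.cut ends S : ℝ) =
      ((T.filter (Cross ends S)).card : ℝ) + ((Tᶜ.filter (Cross ends S)).card : ℝ) := by
    exact_mod_cast h2
  rw [h1', h2']
  ring

/-- the contribution of a tree edge -/
def tterm (T : Finset E) (μ : V → ℝ) (S : Finset V) (e : E) : ℝ :=
  (∑ v ∈ tside ends T e, μ v) * ((if (ends e).1 ∈ S then 1 else 0) - (if (ends e).2 ∈ S then 1 else 0)) +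
    (if Cross ends S e then 1 / 2 else 0)

theorem hfun_eq_sum_tterm {T : Finset E} (hconn : ∀ v w, Reach ends T v w)
    (hfor : IsForestSet ends T) (φ : V → ℝ) (m : V → ℤ) (htot : (∑ v, φ v) = (totDeg m Tᶜ : ℝ))
    (S : Finset V) :
    hfun ends (fun v => (m v : ℝ) - φ v) Tᶜ S = ∑ e ∈ T, tterm ends T (muT ends T φ m) S e := by
  rw [hfun_eq_muT, sum_on_eq_side ends hconn hfor (muT ends T φ m)
    (by rw [sum_muT, htot, sub_self]) S]
  unfold tterm
  rw [Finset.sum_add_distrib]
  congr 1
  rw [Finset.card_filter]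
  push_cast
  rw [Finset.sum_div]
  refine Finset.sum_congr rfl fun e _ => ?_
  split_ifs <;> simp

theorem tterm_nonneg {T : Finset E} {μ : V → ℝ} {S : Finset V} {e : E}
    (h : |∑ v ∈ tside ends T e, μ v| ≤ 1 / 2) : 0 ≤ tterm ends T μ S e := by
  have := abs_le.1 h
  unfold tterm Cross
  by_cases a1 : (ends e).1 ∈ S <;> by_cases a2 : (ends e).2 ∈ S <;> simp [a1, a2] <;> linarith

theorem tterm_pos {T : Finset E} {μ : V → ℝ} {S : Finset V} {e : E}
    (h : |∑ v ∈ tside ends T e, μ v| < 1 / 2) (hc : Cross ends S e) : 0 < tterm ends T μ S e := by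
  have := abs_lt.1 h
  unfold tterm
  rw [if_pos hc]
  unfold Cross at hc
  rcases hc with ⟨a1, a2⟩ | ⟨a1, a2⟩ <;> simp [a1, a2] <;> linarith

theorem semistable_of_tree {T : Finset E} (hconn : ∀ v w, Reach ends T v w)
    (hfor : IsForestSet ends T) (φ : V → ℝ) (m : V → ℤ) (htot : (∑ v, φ v) = (totDeg m Tᶜ : ℝ))
    (h : ∀ e ∈ T, |∑ v ∈ tside ends T e, muT ends T φ m v| ≤ 1 / 2) :
    IsSemistable ends φ m Tᶜ := by
  intro S _ _
  have h1 := hfun_eq_sum_tterm ends hconn hfor φ m htot S
  rw [hfun_eq_degOn] at h1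
  have h2 : 0 ≤ ∑ e ∈ T, tterm ends T (muT ends T φ m) S e :=
    Finset.sum_nonneg fun e he => tterm_nonneg ends (h e he)
  linarith

theorem stable_of_tree {T : Finset E} (hconn : ∀ v w, Reach ends T v w)
    (hfor : IsForestSet ends T) (φ : V → ℝ) (m : V → ℤ) (htot : (∑ v, φ v) = (totDeg m Tᶜ : ℝ))
    (h : ∀ e ∈ T, |∑ v ∈ tside ends T e, muT ends T φ m v| < 1 / 2) :
    IsStable ends φ m Tᶜ := by
  intro S hne huniv
  have h1 := hfun_eq_sum_tterm ends hconn hfor φ m htot S
  rw [hfun_eq_degOn] at h1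
  have hex : ∃ e ∈ T, Cross ends S e := by
    by_contra hcon
    push Not at hcon
    apply huniv
    apply eq_univ_of_closed' ends hconn hne
    intro e he
    have := hcon e he
    unfold Cross at this
    tauto
  obtain ⟨e₀, he₀, hc⟩ := hex
  have h2 : 0 < ∑ e ∈ T, tterm ends T (muT ends T φ m) S e :=
    Finset.sum_pos' (fun e he => tterm_nonneg ends (le_of_lt (h e he)))
      ⟨e₀, he₀, tterm_pos ends (h e₀ he₀) hc⟩
  linarith

theorem tree_of_stable {T : Finset E} (hconn : ∀ v w, Reach ends T v w)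
    (hfor : IsForestSet ends T) (φ : V → ℝ) (m : V → ℤ) (htot : (∑ v, φ v) = (totDeg m Tᶜ : ℝ))
    (h : IsStable ends φ m Tᶜ) :
    ∀ e ∈ T, |∑ v ∈ tside ends T e, muT ends T φ m v| < 1 / 2 := by
  intro e he
  have ha := fst_mem_tside ends T e
  have hb := snd_notMem_tside ends hfor he
  -- only `e` crosses its own side
  have hsingle : ∀ S : Finset V, (∀ e' ∈ T, e' ≠ e → ((ends e').1 ∈ S ↔ (ends e').2 ∈ S)) →
      ∑ e' ∈ T, tterm ends T (muT ends T φ m) S e' = tterm ends T (muT ends T φ m) S e := by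
    intro S hS
    apply Finset.sum_eq_single_of_mem e he
    intro e' he' hne
    have := hS e' he' hne
    unfold tterm Cross
    by_cases a1 : (ends e').1 ∈ S
    · simp [a1, this.1 a1]
    · have a2 : (ends e').2 ∉ S := fun h => a1 (this.2 h)
      simp [a1, a2]
  rw [abs_lt]
  constructor
  · -- the side itself
    have h1 := h (tside ends T e) ⟨_, ha⟩ (fun hu => hb (hu ▸ mem_univ _))
    have h2 := hfun_eq_sum_tterm ends hconn hfor φ m htot (tside ends T e)
    rw [hfun_eq_degOn, hsingle _ (fun e' he' hne => tside_closed ends he' hne)] at h2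
    unfold tterm Cross at h2
    simp only [ha, hb, if_true, if_false] at h2
    simp at h2
    linarith
  · have h1 := h (tside ends T e)ᶜ ⟨_, mem_compl.2 hb⟩ (fun hu => by
      have := hu ▸ mem_univ (ends e).1
      exact (mem_compl.1 this) ha)
    have h2 := hfun_eq_sum_tterm ends hconn hfor φ m htot (tside ends T e)ᶜ
    rw [hfun_eq_degOn, hsingle _ (fun e' he' hne => by
      rw [mem_compl, mem_compl, tside_closed ends he' hne])] at h2
    unfold tterm Cross at h2
    simp only [mem_compl, ha, hb, not_true, not_false_iff, if_true, if_false] at h2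
    simp at h2
    linarith

/-- existence of a stable datum `(m, Tᶜ)` of total degree `b` for nondegenerate `φ` -/
theorem exists_stable_tree {T : Finset E} (hconn : ∀ v w, Reach ends T v w) (hne : Nonempty V)
    (hfor : IsForestSet ends T) (b : ℤ) (φ : V → ℝ) (hφ : (∑ v : V, φ v) = (b : ℝ))
    (hnd : Nondegenerate ends φ) :
    ∃ m : V → ℤ, totDeg m Tᶜ = b ∧ IsStable ends φ m Tᶜ := by
  obtain ⟨m, ⟨hm1, hm2⟩, -⟩ := tree_side_system' (R := ℤ) ends hconn hne hfor
    (fun e => round (∑ v ∈ tside ends T e, (φ v - (endCount ends Tᶜ v : ℝ) / 2))) (b - (Tᶜ.card : ℤ))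
  have htd : totDeg m Tᶜ = b := by
    unfold totDeg
    rw [hm2]; ring
  have htot : (∑ v, φ v) = (totDeg m Tᶜ : ℝ) := by rw [htd, hφ]
  refine ⟨m, htd, hnd m Tᶜ htot (semistable_of_tree ends hconn hfor φ m htot ?_)⟩
  intro e he
  have h1 : ∑ v ∈ tside ends T e, muT ends T φ m v =
      ((∑ v ∈ tside ends T e, m v : ℤ) : ℝ) - ∑ v ∈ tside ends T e, (φ v - (endCount ends Tᶜ v : ℝ) / 2) := by
    unfold muT
    push_cast
    rw [← Finset.sum_sub_distrib]
    refine Finset.sum_congr rfl fun v _ => ?_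
    ring
  rw [h1, hm1 e he, abs_sub_comm]
  exact abs_sub_round _

/-- uniqueness of the stable multidegree -/
theorem unique_stable_tree {T : Finset E} (hconn : ∀ v w, Reach ends T v w) (hne : Nonempty V)
    (hfor : IsForestSet ends T) (b : ℤ) (φ : V → ℝ) (hφ : (∑ v : V, φ v) = (b : ℝ))
    (m m' : V → ℤ) (hm : totDeg m Tᶜ = b) (hs : IsStable ends φ m Tᶜ)
    (hm' : totDeg m' Tᶜ = b) (hs' : IsStable ends φ m' Tᶜ) : m = m' := by
  have h1 := tree_of_stable ends hconn hfor φ m (by rw [hm, hφ]) hs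
  have h2 := tree_of_stable ends hconn hfor φ m' (by rw [hm', hφ]) hs'
  obtain ⟨ψ, -, huniq⟩ := tree_side_system' (R := ℤ) ends hconn hne hfor (fun _ => 0) 0
  have e0 : (0 : V → ℤ) = ψ := huniq 0 ⟨fun e _ => by simp, by simp⟩
  have e1 : m - m' = ψ := by
    apply huniq
    constructor
    · intro e he
      have ha := abs_lt.1 (h1 e he)
      have hb := abs_lt.1 (h2 e he)
      have hdiff : (∑ v ∈ tside ends T e, muT ends T φ m v) - (∑ v ∈ tside ends T e, muT ends T φ m' v) =
          ((∑ v ∈ tside ends T e, (m - m') v : ℤ) : ℝ) := by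
        unfold muT
        push_cast
        rw [← Finset.sum_sub_distrib]
        refine Finset.sum_congr rfl fun v _ => ?_
        simp only [Pi.sub_apply]
        push_cast
        ring
      have hlt : |((∑ v ∈ tside ends T e, (m - m') v : ℤ) : ℝ)| < 1 := by
        rw [← hdiff, abs_lt]
        constructor <;> linarith [ha.1, ha.2, hb.1, hb.2]
      have : |(∑ v ∈ tside ends T e, (m - m') v : ℤ)| < 1 := by
        exact_mod_cast hlt
      exact Int.abs_lt_one_iff.1 this
    · simp only [Pi.sub_apply, Finset.sum_sub_distrib]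
      unfold totDeg at hm hm'
      omega
  funext v
  have := congrFun (e1.trans e0.symm) v
  simp only [Pi.sub_apply, Pi.zero_apply] at this
  omega

end Groth.Agent.Lib.Helper6.MGraph
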