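import Mathlib
import Groth.Agent.Lib.Helper6.MGraphTree2

/-!
# Spanning trees crossing an elementary vertex set exactly once
-/

set_option linter.unusedSectionVars false
set_option linter.unusedVariables false
set_option autoImplicit false
set_option maxHeartbeats 400000

noncomputable section
universe u
namespace Groth.Agent.Lib.Helper6.MGraph
open LabGraph Finset PhiStab

variable {V E : Type u} [Fintype V] [Fintype E] [DecidableEq V] [DecidableEq E]
variable (ends : E → V × V)

theorem isForestSet_empty : IsForestSet ends (∅ : Finset E) := by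
  intro C hC hcirc
  have := hcirc.1
  rw [Finset.subset_empty.1 hC] at this
  exact Finset.not_nonempty_empty this

/-- maximal forests inside an edge set `D` -/
theorem exists_maximal_forest_in (D : Finset E) :
    ∃ F, F ⊆ D ∧ IsForestSet ends F ∧ ∀ e ∈ D, e ∉ F → ¬ IsForestSet ends (insert e F) := by
  classical
  have hne : (D.powerset.filter (fun F : Finset E => IsForestSet ends F)).Nonempty :=
    ⟨∅, by simp [isForestSet_empty]⟩
  obtain ⟨F, hF⟩ := Finset.exists_maximal hne
  have hF1 := hF.1
  simp only [mem_filter, mem_powerset] at hF1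
  refine ⟨F, hF1.1, hF1.2, ?_⟩
  intro e heD he hfor
  have hmem : insert e F ∈ D.powerset.filter (fun F : Finset E => IsForestSet ends F) := by
    simp only [mem_filter, mem_powerset]
    exact ⟨Finset.insert_subset heD hF1.1, hfor⟩
  have := hF.2 hmem (subset_insert _ _)
  exact he (this (mem_insert_self _ _))

theorem reach_of_maximal_forest_in {D F : Finset E}
    (hmax : ∀ e ∈ D, e ∉ F → ¬ IsForestSet ends (insert e F)) (hF : IsForestSet ends F) {a b : V}
    (h : Reach ends D a b) : Reach ends F a b := by
  have hedge : ∀ e ∈ D, Reach ends F (ends e).1 (ends e).2 := by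
    intro e heD
    by_cases he : e ∈ F
    · exact Reach.of_edge he
    · have := hmax e heD he
      unfold IsForestSet at this
      push Not at this
      obtain ⟨C, hC, hcirc⟩ := this
      have heC : e ∈ C := by
        by_contra heC
        refine hF C ?_ hcirc
        intro x hx
        rcases mem_insert.1 (hC hx) with rfl | h
        · exact absurd hx heC
        · exact h
      refine (reach_of_isCircuit ends hcirc heC).mono ?_
      intro x hx
      rcases mem_insert.1 (hC (mem_of_mem_erase hx)) with rfl | h
      · exact absurd hx (Finset.notMem_erase _ _)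
      · exact h
  induction h with
  | refl => exact Reach.refl _
  | tail _ hadj ih =>
    obtain ⟨e, he, h | h⟩ := hadj
    · have := hedge e he
      rw [h] at this
      exact ih.trans this
    · have := hedge e he
      rw [h] at this
      exact ih.trans this.symm

/-- a spanning tree crossing an elementary set exactly once -/
theorem exists_tree_one_cross (hconn : ∀ v w, Reach ends univ v w) {S : Finset V}
    (hS : S.Nonempty ∧ Conn ends S) (hSc : Sᶜ.Nonempty ∧ Conn ends Sᶜ) :
    ∃ (T : Finset E) (e₀ : E), e₀ ∈ T ∧ (∀ v w, Reach ends T v w) ∧ IsForestSet ends T ∧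
      Cross ends S e₀ ∧ ∀ e ∈ T, e ≠ e₀ → ((ends e).1 ∈ S ↔ (ends e).2 ∈ S) := by
  classical
  obtain ⟨F, hFD, hFfor, hFmax⟩ := exists_maximal_forest_in ends
    (PhiStab.inner ends S ∪ PhiStab.inner ends Sᶜ)
  have hD : ∀ e ∈ PhiStab.inner ends S ∪ PhiStab.inner ends Sᶜ, ((ends e).1 ∈ S ↔ (ends e).2 ∈ S) := by
    intro e he
    rcases mem_union.1 he with h | h
    · rw [mem_inner] at h
      exact ⟨fun _ => h.2, fun _ => h.1⟩
    · rw [mem_inner, mem_compl, mem_compl] at h
      exact ⟨fun h' => absurd h' h.1, fun h' => absurd h' h.2⟩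
  -- a crossing edge
  have hex : ∃ e₀, Cross ends S e₀ := by
    by_contra hcon
    push Not at hcon
    have : S = univ := by
      apply eq_univ_of_closed ends hconn hS.1
      intro e
      have := hcon e
      unfold Cross at this
      tauto
    obtain ⟨v, hv⟩ := hSc.1
    rw [this] at hv
    simp at hv
  obtain ⟨e₀, he₀⟩ := hex
  have hreachD : ∀ a b, Reach ends (PhiStab.inner ends S ∪ PhiStab.inner ends Sᶜ) a b → (a ∈ S ↔ b ∈ S) := by
    intro a b hab
    induction hab with
    | refl => exact Iff.rfl
    | tail _ hadj ih =>
      obtain ⟨e, he, h | h⟩ := hadj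
      · have := hD e he
        rw [h] at this
        exact ih.trans this
      · have := hD e he
        rw [h] at this
        exact ih.trans this.symm
  have he₀D : e₀ ∉ PhiStab.inner ends S ∪ PhiStab.inner ends Sᶜ := by
    intro h
    have := hD e₀ h
    unfold Cross at he₀
    tauto
  have he₀F : e₀ ∉ F := fun h => he₀D (hFD h)
  have hFS : ∀ a ∈ S, ∀ b ∈ S, Reach ends F a b := fun a ha b hb =>
    reach_of_maximal_forest_in ends hFmax hFfor ((hS.2 a ha b hb).mono subset_union_left)
  have hFSc : ∀ a ∈ Sᶜ, ∀ b ∈ Sᶜ, Reach ends F a b := fun a ha b hb =>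
    reach_of_maximal_forest_in ends hFmax hFfor ((hSc.2 a ha b hb).mono subset_union_right)
  refine ⟨insert e₀ F, e₀, mem_insert_self _ _, ?_, ?_, he₀, ?_⟩
  · -- connected
    have hadj : Reach ends (insert e₀ F) (ends e₀).1 (ends e₀).2 := Reach.of_edge (mem_insert_self _ _)
    have hto : ∀ a, Reach ends (insert e₀ F) a (ends e₀).1 := by
      intro a
      unfold Cross at he₀
      rcases he₀ with ⟨h1, h2⟩ | ⟨h1, h2⟩
      · by_cases ha : a ∈ S
        · exact (hFS a ha _ h1).mono (subset_insert _ _)
        · exact ((hFSc a (mem_compl.2 ha) _ (mem_compl.2 h2)).mono (subset_insert _ _)).trans hadj.symm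
      · by_cases ha : a ∈ S
        · exact ((hFS a ha _ h2).mono (subset_insert _ _)).trans hadj.symm
        · exact (hFSc a (mem_compl.2 ha) _ (mem_compl.2 h1)).mono (subset_insert _ _)
    intro v w
    exact (hto v).trans (hto w).symm
  · -- forest
    intro C hC hcirc
    have heC : e₀ ∈ C := by
      by_contra heC
      refine hFfor C ?_ hcirc
      intro x hx
      rcases mem_insert.1 (hC hx) with rfl | h
      · exact absurd hx heC
      · exact h
    have hr := reach_of_isCircuit ends hcirc heC
    have hsub : C.erase e₀ ⊆ PhiStab.inner ends S ∪ PhiStab.inner ends Sᶜ := by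
      intro x hx
      rcases mem_insert.1 (hC (mem_of_mem_erase hx)) with rfl | h
      · exact absurd hx (Finset.notMem_erase _ _)
      · exact hFD h
    have := hreachD _ _ (hr.mono hsub)
    unfold Cross at he₀
    tauto
  · intro e he hne
    rcases mem_insert.1 he with rfl | h
    · exact absurd rfl hne
    · exact hD e (hFD h)

end Groth.Agent.Lib.Helper6.MGraph
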