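import Mathlib

/-! Inverse systems of abelian groups over `ℕ` with eventually surjective transition maps. -/

universe u
open CategoryTheory Opposite

namespace Groth.Agent.Lib.Helper6.MLSys

variable (G : ℕᵒᵖ ⥤ AddCommGrpCat.{u})

/-- transition map -/
def T (i j : ℕ) (h : j ≤ i) : G.obj (op i) → G.obj (op j) := fun x => (G.map (homOfLE h).op).hom x

lemma T_comp (i j k : ℕ) (h : j ≤ i) (h' : k ≤ j) (x : G.obj (op i)) :
    T G j k h' (T G i j h x) = T G i k (h'.trans h) x := by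
  unfold T
  rw [← AddCommGrpCat.comp_apply, ← G.map_comp]
  rfl

lemma T_self (i : ℕ) (x : G.obj (op i)) : T G i i le_rfl x = x := by
  unfold T
  have : (homOfLE (le_refl i)).op = 𝟙 (op i) := rfl
  rw [this, G.map_id]
  rfl

lemma F_map (i j : ℕ) (f : op i ⟶ op j) (x : (G ⋙ forget AddCommGrpCat.{u}).obj (op i)) :
    (G ⋙ forget AddCommGrpCat.{u}).map f x = T G i j (leOfHom f.unop) x := by
  have : f = (homOfLE (leOfHom f.unop)).op := rfl
  rw [this]
  rfl

variable {G} (j₀ : ℕ)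

lemma T_surj (hs : ∀ j : ℕ, j₀ ≤ j → Function.Surjective (T G (j+1) j (Nat.le_succ j)))
    (j : ℕ) (hj : j₀ ≤ j) : ∀ (n : ℕ), Function.Surjective (T G (j + n) j (Nat.le_add_right j n)) := by
  intro n
  induction n with
  | zero =>
    intro x
    exact ⟨x, T_self G j x⟩
  | succ n ih =>
    intro x
    obtain ⟨y, hy⟩ := ih x
    obtain ⟨z, hz⟩ := hs (j + n) (hj.trans (Nat.le_add_right j n)) y
    refine ⟨z, ?_⟩
    rw [← hy, ← hz]
    exact (T_comp G _ _ _ _ _ z).symm

lemma T_surj' (hs : ∀ j : ℕ, j₀ ≤ j → Function.Surjective (T G (j+1) j (Nat.le_succ j)))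
    (i j : ℕ) (hj : j₀ ≤ j) (h : j ≤ i) : Function.Surjective (T G i j h) := by
  obtain ⟨n, rfl⟩ := Nat.exists_eq_add_of_le h
  exact T_surj j₀ hs j hj n

lemma T_inj (hi : ∀ j : ℕ, j₀ ≤ j → Function.Injective (T G (j+1) j (Nat.le_succ j)))
    (j : ℕ) (hj : j₀ ≤ j) : ∀ (n : ℕ), Function.Injective (T G (j + n) j (Nat.le_add_right j n)) := by
  intro n
  induction n with
  | zero =>
    intro x y hxy
    have h1 := T_self G j x
    have h2 := T_self G j y
    exact h1.symm.trans (hxy.trans h2)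
  | succ n ih =>
    intro x y hxy
    have h1 : T G (j+n) j (Nat.le_add_right j n) (T G (j+n+1) (j+n) (Nat.le_succ _) x) =
        T G (j+n) j (Nat.le_add_right j n) (T G (j+n+1) (j+n) (Nat.le_succ _) y) := by
      rw [T_comp, T_comp]; exact hxy
    exact hi (j+n) (hj.trans (Nat.le_add_right j n)) (ih h1)

lemma T_inj' (hi : ∀ j : ℕ, j₀ ≤ j → Function.Injective (T G (j+1) j (Nat.le_succ j)))
    (i j : ℕ) (hj : j₀ ≤ j) (h : j ≤ i) : Function.Injective (T G i j h) := by
  obtain ⟨n, rfl⟩ := Nat.exists_eq_add_of_le h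
  exact T_inj j₀ hi j hj n

theorem mittagLeffler (hs : ∀ j : ℕ, j₀ ≤ j → Function.Surjective (T G (j+1) j (Nat.le_succ j))) :
    (G ⋙ forget AddCommGrpCat.{u}).IsMittagLeffler := by
  intro j
  induction j using Opposite.rec with | _ n => ?_
  refine ⟨op (max n j₀), (homOfLE (le_max_left n j₀)).op, ?_⟩
  intro k g
  induction k using Opposite.rec with | _ m => ?_
  rintro _ ⟨x, rfl⟩
  have hnm : n ≤ m := leOfHom g.unop
  -- lift x to level M = max m (max n j₀)
  obtain ⟨y, hy⟩ := T_surj' j₀ hs (max m (max n j₀)) (max n j₀) (le_max_right n j₀)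
    (le_max_right _ _) x
  refine ⟨T G (max m (max n j₀)) m (le_max_left _ _) y, ?_⟩
  rw [F_map, F_map, T_comp, ← hy, T_comp]

/-- the recursively chosen compatible family above level `j₀`. -/
noncomputable def fam (hs : ∀ j : ℕ, j₀ ≤ j → Function.Surjective (T G (j+1) j (Nat.le_succ j)))
    (x : G.obj (op j₀)) : ∀ n : ℕ, G.obj (op (j₀ + n))
  | 0 => x
  | n + 1 => (hs (j₀ + n) (Nat.le_add_right _ _) (fam hs x n)).choose

lemma fam_succ (hs : ∀ j : ℕ, j₀ ≤ j → Function.Surjective (T G (j+1) j (Nat.le_succ j)))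
    (x : G.obj (op j₀)) (n : ℕ) :
    T G (j₀ + n + 1) (j₀ + n) (Nat.le_succ _) (fam j₀ hs x (n+1)) = fam j₀ hs x n :=
  (hs (j₀ + n) (Nat.le_add_right _ _) (fam j₀ hs x n)).choose_spec

lemma fam_compat (hs : ∀ j : ℕ, j₀ ≤ j → Function.Surjective (T G (j+1) j (Nat.le_succ j)))
    (x : G.obj (op j₀)) (j : ℕ) : ∀ (n : ℕ),
    T G (j₀ + (j + n)) (j₀ + j) (by omega) (fam j₀ hs x (j + n)) = fam j₀ hs x j := by
  intro n
  induction n with
  | zero => exact T_self G _ _
  | succ n ih =>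
    rw [← ih, ← fam_succ j₀ hs x (j + n)]
    exact (T_comp G _ _ _ _ _ _).symm

lemma fam_compat' (hs : ∀ j : ℕ, j₀ ≤ j → Function.Surjective (T G (j+1) j (Nat.le_succ j)))
    (x : G.obj (op j₀)) (i j : ℕ) (h : j ≤ i) :
    T G (j₀ + i) (j₀ + j) (by omega) (fam j₀ hs x i) = fam j₀ hs x j := by
  obtain ⟨n, rfl⟩ := Nat.exists_eq_add_of_le h
  exact fam_compat j₀ hs x j n

theorem sections_surj (hs : ∀ j : ℕ, j₀ ≤ j → Function.Surjective (T G (j+1) j (Nat.le_succ j))) :
    Function.Surjective (fun s : (G ⋙ forget AddCommGrpCat.{u}).sections => s.1 (op j₀)) := by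
  intro x
  refine ⟨⟨fun j => T G (j₀ + j.unop) j.unop (Nat.le_add_left _ _) (fam j₀ hs x j.unop), ?_⟩, ?_⟩
  · intro j j' f
    induction j using Opposite.rec with | _ i => ?_
    induction j' using Opposite.rec with | _ k => ?_
    have hki : k ≤ i := leOfHom f.unop
    show (G ⋙ forget AddCommGrpCat.{u}).map f (T G (j₀ + i) i _ (fam j₀ hs x i))
      = T G (j₀ + k) k _ (fam j₀ hs x k)
    rw [F_map, T_comp, ← fam_compat' j₀ hs x i k hki, T_comp]
  · show T G (j₀ + j₀) j₀ _ (fam j₀ hs x j₀) = x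
    exact fam_compat' j₀ hs x j₀ 0 (Nat.zero_le _)

theorem sections_inj (hi : ∀ j : ℕ, j₀ ≤ j → Function.Injective (T G (j+1) j (Nat.le_succ j))) :
    Function.Injective (fun s : (G ⋙ forget AddCommGrpCat.{u}).sections => s.1 (op j₀)) := by
  intro s s' h
  apply Subtype.ext
  funext j
  induction j using Opposite.rec with | _ i => ?_
  have h0 : s.1 (op j₀) = s'.1 (op j₀) := h
  rcases le_total j₀ i with hji | hij
  · apply T_inj' j₀ hi i j₀ le_rfl hji
    have e1 := s.2 (homOfLE hji).op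
    have e2 := s'.2 (homOfLE hji).op
    rw [F_map] at e1 e2
    rw [e1, e2, h0]
  · have e1 := s.2 (homOfLE hij).op
    have e2 := s'.2 (homOfLE hij).op
    rw [← e1, ← e2, h0]

end Groth.Agent.Lib.Helper6.MLSys
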