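import Mathlib

/-!
# A Cauchy–Binet formula for `A * diag(W) * Aᵀ`
-/

set_option linter.unusedSectionVars false
set_option linter.unusedVariables false
set_option autoImplicit false
set_option maxHeartbeats 400000

noncomputable section
namespace Groth.Agent.Lib.Helper6.MTree
open Finset Matrix Equiv

variable {n κ R : Type*} [Fintype n] [DecidableEq n] [Fintype κ] [DecidableEq κ] [CommRing R]

/-- rectangular expansion of `det (A * B)` over all maps `n → κ` -/
theorem det_mul_rect (A : Matrix n κ R) (B : Matrix κ n R) :
    (A * B).det = ∑ p : n → κ, (∏ i, B (p i) i) * (A.submatrix id p).det := by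
  calc (A * B).det = ∑ p : n → κ, ∑ σ : Perm n, (Perm.sign σ : ℤ) * ∏ i, A (σ i) (p i) * B (p i) i := by
        simp only [det_apply', mul_apply, prod_univ_sum, mul_sum, Fintype.piFinset_univ]
        rw [Finset.sum_comm]
    _ = ∑ p : n → κ, (∏ i, B (p i) i) * (A.submatrix id p).det := by
        refine Finset.sum_congr rfl fun p _ => ?_
        rw [det_apply', Finset.mul_sum]
        refine Finset.sum_congr rfl fun σ _ => ?_
        simp only [submatrix_apply, id_eq, Finset.prod_mul_distrib]
        ring

theorem det_submatrix_eq_zero_of_not_injective (A : Matrix n κ R) {p : n → κ}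
    (hp : ¬ Function.Injective p) : (A.submatrix id p).det = 0 := by
  unfold Function.Injective at hp
  push Not at hp
  obtain ⟨i, j, hij, hne⟩ := hp
  apply Matrix.det_zero_of_column_eq hne
  intro k
  simp [hij]

/-- the fibre of injective maps with a given image is a torsor under permutations -/
theorem fibre_eq_image {p₀ : n → κ} (hp₀ : Function.Injective p₀) :
    (univ.filter (fun p : n → κ => Function.Injective p ∧ univ.image p = univ.image p₀)) =
      (univ : Finset (Perm n)).image (fun σ : Perm n => p₀ ∘ (σ : n → n)) := by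
  ext p
  simp only [mem_filter, mem_univ, true_and, mem_image]
  constructor
  · rintro ⟨hp, him⟩
    have hex : ∀ v, ∃ v', p₀ v' = p v := by
      intro v
      have : p v ∈ univ.image p₀ := by
        rw [← him]
        exact mem_image_of_mem _ (mem_univ _)
      obtain ⟨v', -, h⟩ := mem_image.1 this
      exact ⟨v', h⟩
    choose s hs using hex
    have hsinj : Function.Injective s := by
      intro a b hab
      apply hp
      rw [← hs a, ← hs b, hab]
    have hsbij : Function.Bijective s := Finite.injective_iff_bijective.1 hsinj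
    refine ⟨Equiv.ofBijective s hsbij, ?_⟩
    funext v
    simp [hs]
  · rintro ⟨σ, rfl⟩
    refine ⟨hp₀.comp σ.injective, ?_⟩
    ext k
    simp only [mem_image, mem_univ, true_and, Function.comp_apply]
    constructor
    · rintro ⟨v, rfl⟩
      exact ⟨σ v, rfl⟩
    · rintro ⟨v, rfl⟩
      exact ⟨σ.symm v, by simp⟩

/-- the contribution of one fibre -/
theorem fibre_sum (A : Matrix n κ R) (W : κ → R) {p₀ : n → κ} (hp₀ : Function.Injective p₀) :
    ∑ p ∈ univ.filter (fun p : n → κ => Function.Injective p ∧ univ.image p = univ.image p₀),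
      (∏ i, W (p i) * A i (p i)) * (A.submatrix id p).det =
      (∏ k ∈ univ.image p₀, W k) * (A.submatrix id p₀).det ^ 2 := by
  rw [fibre_eq_image hp₀, Finset.sum_image]
  swap
  · intro σ _ τ _ h
    ext v
    exact hp₀ (congrFun h v)
  have h1 : ∀ σ : Perm n, (A.submatrix id (p₀ ∘ σ)).det =
      (Perm.sign σ : ℤ) * (A.submatrix id p₀).det := by
    intro σ
    have : A.submatrix id (p₀ ∘ σ) = (A.submatrix id p₀).submatrix id σ := by
      ext i j
      simp
    rw [this, Matrix.det_permute']
  have h2 : ∀ σ : Perm n, ∏ i, W ((p₀ ∘ σ) i) = ∏ k ∈ univ.image p₀, W k := by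
    intro σ
    rw [Finset.prod_image (fun a _ b _ h => hp₀ h)]
    exact Equiv.prod_comp σ (fun i => W (p₀ i))
  have h3 : (A.submatrix id p₀).det = ∑ σ : Perm n, (Perm.sign σ : ℤ) * ∏ i, A i (p₀ (σ i)) := by
    rw [← Matrix.det_transpose, det_apply']
    simp
  calc ∑ σ : Perm n, (∏ i, W ((p₀ ∘ σ) i) * A i ((p₀ ∘ σ) i)) * (A.submatrix id (p₀ ∘ σ)).det
      = ∑ σ : Perm n, (∏ k ∈ univ.image p₀, W k) *
          (((Perm.sign σ : ℤ) * ∏ i, A i (p₀ (σ i))) * (A.submatrix id p₀).det) := by
        refine Finset.sum_congr rfl fun σ _ => ?_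
        rw [Finset.prod_mul_distrib, h2, h1]
        simp only [Function.comp_apply]
        ring
    _ = (∏ k ∈ univ.image p₀, W k) * (A.submatrix id p₀).det ^ 2 := by
        rw [← Finset.mul_sum, ← Finset.sum_mul, ← h3]
        ring

/-- **Cauchy–Binet** for `A W Aᵀ`, in a form with a prescribed value of the squared minors. -/
theorem det_AWAt (A : Matrix n κ R) (W : κ → R) (d : Finset κ → R)
    (hd : ∀ p : n → κ, Function.Injective p → (A.submatrix id p).det ^ 2 = d (univ.image p)) :
    (A * (Matrix.diagonal W * Aᵀ)).det =
      ∑ F ∈ (univ : Finset κ).powersetCard (Fintype.card n), (∏ k ∈ F, W k) * d F := by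
  classical
  rw [det_mul_rect]
  have hB : ∀ (p : n → κ) (i : n), (Matrix.diagonal W * Aᵀ) (p i) i = W (p i) * A i (p i) := by
    intro p i
    rw [Matrix.diagonal_mul, Matrix.transpose_apply]
  simp only [hB]
  -- restrict to injective maps
  rw [← Finset.sum_filter_add_sum_filter_not univ (fun p : n → κ => Function.Injective p)]
  rw [Finset.sum_eq_zero (s := univ.filter (fun p : n → κ => ¬ Function.Injective p)), add_zero]
  swap
  · intro p hp
    rw [mem_filter] at hp
    rw [det_submatrix_eq_zero_of_not_injective A hp.2, mul_zero]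
  -- fibrewise over the image
  rw [← Finset.sum_fiberwise (univ.filter (fun p : n → κ => Function.Injective p))
    (fun p => univ.image p)]
  rw [← Finset.sum_subset (subset_univ ((univ : Finset κ).powersetCard (Fintype.card n)))]
  · refine Finset.sum_congr rfl fun F hF => ?_
    rw [mem_powersetCard] at hF
    -- a bijection onto `F`
    have hcard : Fintype.card n = Fintype.card {k // k ∈ F} := by
      rw [Fintype.card_coe, hF.2]
    obtain ⟨e⟩ := Fintype.card_eq.1 hcard
    have hp₀ : Function.Injective (fun v => (e v : κ)) := fun a b h => e.injective (Subtype.ext h)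
    have him : univ.image (fun v => (e v : κ)) = F := by
      ext k
      simp only [mem_image, mem_univ, true_and]
      constructor
      · rintro ⟨v, rfl⟩
        exact (e v).2
      · intro hk
        exact ⟨e.symm ⟨k, hk⟩, by simp⟩
    rw [Finset.filter_filter, ← him, fibre_sum A W hp₀, hd _ hp₀]
  · intro F _ hF
    apply Finset.sum_eq_zero
    intro p hp
    exfalso
    rw [mem_filter, mem_filter] at hp
    apply hF
    rw [mem_powersetCard]
    refine ⟨subset_univ _, ?_⟩
    rw [← hp.2, Finset.card_image_of_injective _ hp.1.2, Finset.card_univ]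

end Groth.Agent.Lib.Helper6.MTree
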