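import Mathlib
import Groth.Agent.Lib.Helper6.MGraphTree3
import Groth.Agent.Lib.Helper6.MTreeCB

/-!
# Minors of the augmented incidence matrix of a multigraph
-/

set_option linter.unusedSectionVars false
set_option linter.unusedVariables false
set_option autoImplicit false
set_option maxHeartbeats 400000

noncomputable section
universe u
namespace Groth.Agent.Lib.Helper6.MTree
open LabGraph Finset Matrix Groth.Agent.Lib.Helper6.MGraph

variable {V E : Type u} [Fintype V] [Fintype E] [DecidableEq V] [DecidableEq E]
variable (ends : E → V × V)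

/-! ### cardinality of quotients of `ℤ^ι` -/

theorem mulVec_injective_of_det_ne_zero {ι : Type*} [Fintype ι] [DecidableEq ι] (A : Matrix ι ι ℤ)
    (hdet : A.det ≠ 0) : Function.Injective A.mulVecLin := by
  intro x y hxy
  by_contra hne
  apply hdet
  rw [← Matrix.exists_mulVec_eq_zero_iff]
  refine ⟨x - y, sub_ne_zero.2 hne, ?_⟩
  simp only [Matrix.mulVecLin_apply] at hxy
  rw [Matrix.mulVec_sub, hxy, sub_self]

theorem card_quot_range {ι : Type*} [Fintype ι] [DecidableEq ι] (A : Matrix ι ι ℤ)
    (hinj : Function.Injective A.mulVecLin) :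
    Nat.card ((ι → ℤ) ⧸ LinearMap.range A.mulVecLin) = A.det.natAbs := by
  have h := Submodule.natAbs_det_equiv (LinearMap.range A.mulVecLin)
    (LinearEquiv.ofInjective A.mulVecLin hinj)
  rw [← h]
  congr 1
  rw [← LinearMap.det_toLin']
  congr 1

/-- the submodule of vectors whose coordinate sum is divisible by `m` -/
def sumDvd (ι : Type*) [Fintype ι] (m : ℤ) : Submodule ℤ (ι → ℤ) where
  carrier := {z | m ∣ ∑ i, z i}
  add_mem' := by
    intro a b ha hb
    simp only [Set.mem_setOf_eq, Pi.add_apply, Finset.sum_add_distrib] at *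
    exact dvd_add ha hb
  zero_mem' := by simp
  smul_mem' := by
    intro c a ha
    simp only [Set.mem_setOf_eq, Pi.smul_apply, smul_eq_mul, ← Finset.mul_sum] at *
    exact Dvd.dvd.mul_left ha c

theorem card_quot_sumDvd (ι : Type*) [Fintype ι] [DecidableEq ι] [Nonempty ι] (m : ℕ) (hm : 0 < m) :
    Nat.card ((ι → ℤ) ⧸ sumDvd ι (m : ℤ)) = m := by
  haveI : NeZero m := ⟨hm.ne'⟩
  let f : (ι → ℤ) →ₗ[ℤ] ZMod m :=
    { toFun := fun z => ((∑ i, z i : ℤ) : ZMod m)
      map_add' := by
        intro a b
        simp [Finset.sum_add_distrib]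
      map_smul' := by
        intro c a
        simp [← Finset.mul_sum] }
  have hker : LinearMap.ker f = sumDvd ι (m : ℤ) := by
    ext z
    simp only [LinearMap.mem_ker, f, LinearMap.coe_mk, AddHom.coe_mk, sumDvd, Submodule.mem_mk,
      AddSubmonoid.mem_mk, AddSubsemigroup.mem_mk, Set.mem_setOf_eq]
    exact ZMod.intCast_zmod_eq_zero_iff_dvd _ _
  have hsurj : Function.Surjective f := by
    intro c
    obtain ⟨i₀⟩ := ‹Nonempty ι›
    refine ⟨Pi.single i₀ (c.val : ℤ), ?_⟩
    simp only [f, LinearMap.coe_mk, AddHom.coe_mk]
    rw [Finset.sum_pi_single']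
    simp
  rw [← hker, Nat.card_congr (LinearMap.quotKerEquivOfSurjective f hsurj).toEquiv, Nat.card_zmod]

/-! ### The augmented incidence matrix -/

/-- column vectors of the augmented incidence matrix -/
def colv (ut : V → ℤ) : Option E → V → ℤ
  | some e => fun v => (if (ends e).2 = v then 1 else 0) - (if (ends e).1 = v then 1 else 0)
  | none => ut

/-- the augmented incidence matrix `[B | ũ]` -/
def Bt (ut : V → ℤ) : Matrix V (Option E) ℤ := fun v k => colv ends ut k v

/-- edge part of a coefficient vector -/
def gam (p : V → Option E) (y : V → ℤ) (e : E) : ℤ := ∑ v, if p v = some e then y v else 0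

/-- extra part of a coefficient vector -/
def tt (p : V → Option E) (y : V → ℤ) : ℤ := ∑ v, if p v = none then y v else 0

theorem bdry_eq_sum_colv (ut : V → ℤ) (g : E → ℤ) (v : V) :
    bdry ends g v = ∑ e, g e * colv ends ut (some e) v := by
  unfold bdry colv
  refine Finset.sum_congr rfl fun e _ => ?_
  simp only
  split_ifs <;> ring

theorem submatrix_mulVec (ut : V → ℤ) (p : V → Option E) (y : V → ℤ) (v : V) :
    (((Bt ends ut).submatrix id p) *ᵥ y) v = bdry ends (gam p y) v + tt p y * ut v := by
  rw [bdry_eq_sum_colv ends ut]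
  unfold gam tt
  simp only [Matrix.mulVec, dotProduct, submatrix_apply, id_eq, Bt, Finset.sum_mul]
  rw [Finset.sum_comm, ← Finset.sum_add_distrib]
  refine Finset.sum_congr rfl fun v' _ => ?_
  rcases hp : p v' with _ | e₀
  · simp [colv]
    ring
  · simp only [Option.some.injEq, reduceCtorEq, if_false, zero_mul, add_zero]
    rw [Finset.sum_eq_single e₀]
    · simp
      ring
    · intro e _ hne
      rw [if_neg (fun h => hne h.symm), zero_mul]
    · intro h
      exact absurd (mem_univ _) h

theorem vecMul_submatrix (ut : V → ℤ) (p : V → Option E) (f : V → ℤ) (v' : V) :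
    (f ᵥ* ((Bt ends ut).submatrix id p)) v' = ∑ v, f v * colv ends ut (p v') v := by
  simp only [Matrix.vecMul, dotProduct, submatrix_apply, id_eq, Bt]

theorem sum_mul_colv_some (ut : V → ℤ) (f : V → ℤ) (e : E) :
    ∑ v, f v * colv ends ut (some e) v = cob ends f e := by
  unfold colv cob
  simp only [mul_sub, mul_ite, mul_one, mul_zero, Finset.sum_sub_distrib, Finset.sum_ite_eq,
    mem_univ, if_true]

section Inj

variable {p : V → Option E} (hp : Function.Injective p)
include hp

theorem gam_of_eq (y : V → ℤ) {v₁ : V} {e : E} (h : p v₁ = some e) : gam p y e = y v₁ := by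
  unfold gam
  rw [Finset.sum_eq_single v₁]
  · rw [if_pos h]
  · intro v _ hne
    rw [if_neg]
    intro h'
    exact hne (hp (h'.trans h.symm))
  · intro h'
    exact absurd (mem_univ _) h'

theorem tt_of_eq (y : V → ℤ) {v₁ : V} (h : p v₁ = none) : tt p y = y v₁ := by
  unfold tt
  rw [Finset.sum_eq_single v₁]
  · rw [if_pos h]
  · intro v _ hne
    rw [if_neg]
    intro h'
    exact hne (hp (h'.trans h.symm))
  · intro h'
    exact absurd (mem_univ _) h'

omit hp in
theorem gam_of_notMem (y : V → ℤ) {e : E} (h : ∀ v, p v ≠ some e) : gam p y e = 0 := by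
  unfold gam
  apply Finset.sum_eq_zero
  intro v _
  rw [if_neg (h v)]

omit hp in
theorem tt_of_notMem (y : V → ℤ) (h : ∀ v, p v ≠ none) : tt p y = 0 := by
  unfold tt
  apply Finset.sum_eq_zero
  intro v _
  rw [if_neg (h v)]

omit hp in
theorem mem_eraseNone_image {e : E} : e ∈ (univ.image p).eraseNone ↔ ∃ v, p v = some e := by
  rw [Finset.mem_eraseNone]
  simp

omit hp in
theorem none_mem_image : none ∈ univ.image p ↔ ∃ v, p v = none := by
  simp

end Inj

/-- tree-like edge sets: spanning, connected, without circuit -/
def IsTreeSet (F : Finset E) : Prop := (∀ v w, Reach ends F v w) ∧ IsForestSet ends F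

open Classical in
/-- the value of the squared minors -/
def dfun (m : ℤ) (Ft : Finset (Option E)) : ℤ :=
  if none ∈ Ft ∧ IsTreeSet ends Ft.eraseNone then m ^ 2 else 0

theorem det_eq_zero_of_left {ι : Type*} [Fintype ι] [DecidableEq ι] (A : Matrix ι ι ℤ) (f : ι → ℤ)
    (hf : f ≠ 0) (h : f ᵥ* A = 0) : A.det = 0 := by
  rw [← Matrix.exists_vecMul_eq_zero_iff]
  exact ⟨f, hf, h⟩

theorem det_eq_zero_of_right {ι : Type*} [Fintype ι] [DecidableEq ι] (A : Matrix ι ι ℤ) (y : ι → ℤ)
    (hy : y ≠ 0) (h : A *ᵥ y = 0) : A.det = 0 := by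
  rw [← Matrix.exists_mulVec_eq_zero_iff]
  exact ⟨y, hy, h⟩

/-- the squared minors of the augmented incidence matrix -/
theorem det_sq_eq (hne : Nonempty V) (ut : V → ℤ) (m : ℕ) (hm : 0 < m) (hut : ∑ v, ut v = (m : ℤ))
    (p : V → Option E) (hp : Function.Injective p) :
    ((Bt ends ut).submatrix id p).det ^ 2 = dfun ends (m : ℤ) (univ.image p) := by
  classical
  unfold dfun
  by_cases hnone : none ∈ univ.image p
  swap
  · -- no extra column: the all-ones vector is in the left kernel
    rw [if_neg (fun h => hnone h.1)]
    have hnone' : ∀ v, p v ≠ none := by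
      intro v h
      exact hnone ((none_mem_image).2 ⟨v, h⟩)
    rw [det_eq_zero_of_left _ (fun _ => 1) ?_ ?_]
    · ring
    · obtain ⟨v₀⟩ := hne
      intro h
      have := congrFun h v₀
      simp at this
    · funext v'
      rw [vecMul_submatrix]
      rcases hpv : p v' with _ | e
      · exact absurd hpv (hnone' v')
      · rw [sum_mul_colv_some]
        simp [cob]
  obtain ⟨vs, hvs⟩ := (none_mem_image).1 hnone
  by_cases hfor : IsForestSet ends (univ.image p).eraseNone
  swap
  · -- a circuit gives a kernel vector
    rw [if_neg (fun h => hfor h.2.2)]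
    unfold IsForestSet at hfor
    push Not at hfor
    obtain ⟨C, hC, hcirc⟩ := hfor
    obtain ⟨e₀, he₀⟩ := hcirc.1
    obtain ⟨γ, hγ, hγ0, hγ1⟩ := exists_cycle_of_isCircuit (R := ℤ) ends hcirc he₀
    rw [det_eq_zero_of_right _ (fun v => match p v with | some e => γ e | none => 0) ?_ ?_]
    · ring
    · obtain ⟨v₁, hv₁⟩ := (mem_eraseNone_image).1 (hC he₀)
      intro h
      have := congrFun h v₁
      simp only [hv₁, hγ1, Pi.zero_apply] at this
      exact one_ne_zero this
    · funext v
      rw [submatrix_mulVec]
      have hg : gam p (fun v => match p v with | some e => γ e | none => 0) = γ := by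
        funext e
        by_cases he : ∃ v, p v = some e
        · obtain ⟨v₁, hv₁⟩ := he
          rw [gam_of_eq hp _ hv₁]
          simp only [hv₁]
        · push Not at he
          rw [gam_of_notMem _ he]
          symm
          apply hγ0
          intro heC
          obtain ⟨v₁, hv₁⟩ := (mem_eraseNone_image).1 (hC heC)
          exact he v₁ hv₁
      have ht : tt p (fun v => match p v with | some e => γ e | none => 0) = 0 := by
        rw [tt_of_eq hp _ hvs]
        simp only [hvs]
      rw [hg, ht, hγ v]
      simp
  by_cases hconn : ∀ v w, Reach ends (univ.image p).eraseNone v w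
  swap
  · -- a disconnected forest: a left kernel vector
    rw [if_neg (fun h => hconn h.2.1)]
    push Not at hconn
    obtain ⟨x, z, hxz⟩ := hconn
    have hxC : x ∈ comp ends (univ.image p).eraseNone x := (mem_comp ends).2 (Reach.refl _)
    have hzC : z ∉ comp ends (univ.image p).eraseNone x := fun h => hxz ((mem_comp ends).1 h)
    rw [det_eq_zero_of_left _ (fun v => (∑ w ∈ comp ends (univ.image p).eraseNone x, ut w) +
      (if v ∈ comp ends (univ.image p).eraseNone x then -(m : ℤ) else 0)) ?_ ?_]
    · ring
    · intro h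
      have h1 := congrFun h x
      have h2 := congrFun h z
      simp only [if_pos hxC, if_neg hzC, Pi.zero_apply, add_zero] at h1 h2
      rw [h2, zero_add] at h1
      have : (m : ℤ) = 0 := by linarith
      exact hm.ne' (by exact_mod_cast this)
    · funext v'
      rw [vecMul_submatrix]
      rcases hpv : p v' with _ | e
      · simp only [colv, Pi.zero_apply]
        simp only [add_mul, Finset.sum_add_distrib, ← Finset.mul_sum, hut, ite_mul, zero_mul,
          Finset.sum_ite_mem, Finset.univ_inter]
        ring
      · rw [sum_mul_colv_some]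
        have he : e ∈ (univ.image p).eraseNone := (mem_eraseNone_image).2 ⟨v', hpv⟩
        have := comp_edge ends (a := x) he
        simp only [cob, Pi.zero_apply]
        by_cases h1 : (ends e).1 ∈ comp ends (univ.image p).eraseNone x
        · rw [if_pos h1, if_pos (this.1 h1)]; ring
        · rw [if_neg h1, if_neg (fun h => h1 (this.2 h))]; ring
  -- the tree case
  rw [if_pos ⟨hnone, hconn, hfor⟩]
  have hrange : LinearMap.range ((Bt ends ut).submatrix id p).mulVecLin = sumDvd V (m : ℤ) := by
    ext z
    constructor
    · rintro ⟨y, rfl⟩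
      change (m : ℤ) ∣ ∑ v, (((Bt ends ut).submatrix id p) *ᵥ y) v
      simp only [submatrix_mulVec, Finset.sum_add_distrib, sum_bdry, zero_add, ← Finset.mul_sum, hut]
      exact Dvd.intro_left _ rfl
    · intro hz
      change (m : ℤ) ∣ ∑ v, z v at hz
      obtain ⟨t, ht⟩ := hz
      obtain ⟨g, hg0, hg⟩ := exists_bdry_eq' (R := ℤ) ends hconn (z - t • ut) (by
        simp only [Pi.sub_apply, Pi.smul_apply, smul_eq_mul, Finset.sum_sub_distrib, ← Finset.mul_sum,
          hut, ht]
        ring)
      refine ⟨fun v => match p v with | some e => g e | none => t, ?_⟩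
      funext v
      rw [Matrix.mulVecLin_apply, submatrix_mulVec]
      have hgam : gam p (fun v => match p v with | some e => g e | none => t) = g := by
        funext e
        by_cases he : ∃ v, p v = some e
        · obtain ⟨v₁, hv₁⟩ := he
          rw [gam_of_eq hp _ hv₁]
          simp only [hv₁]
        · push Not at he
          rw [gam_of_notMem _ he]
          symm
          apply hg0
          intro heF
          obtain ⟨v₁, hv₁⟩ := (mem_eraseNone_image).1 heF
          exact he v₁ hv₁
      have htt : tt p (fun v => match p v with | some e => g e | none => t) = t := by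
        rw [tt_of_eq hp _ hvs]
        simp only [hvs]
      rw [hgam, htt, hg v]
      simp
  have hinj : Function.Injective ((Bt ends ut).submatrix id p).mulVecLin := by
    rw [← LinearMap.ker_eq_bot, LinearMap.ker_eq_bot']
    intro y hy
    rw [Matrix.mulVecLin_apply] at hy
    have hsum : ∑ v, (((Bt ends ut).submatrix id p) *ᵥ y) v = 0 := by
      rw [hy]; simp
    simp only [submatrix_mulVec, Finset.sum_add_distrib, sum_bdry, zero_add, ← Finset.mul_sum, hut] at hsum
    have ht0 : tt p y = 0 := by
      rcases mul_eq_zero.1 hsum with h | h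
      · exact h
      · exact absurd (by exact_mod_cast h) hm.ne'
    have hg0 : gam p y = 0 := by
      apply IsForestSet.eq_zero ends hfor
      · intro e he
        apply gam_of_notMem
        intro v hv
        exact he ((mem_eraseNone_image).2 ⟨v, hv⟩)
      · intro v
        have := congrFun hy v
        rw [submatrix_mulVec, ht0, zero_mul, add_zero] at this
        exact this
    funext v
    rcases hpv : p v with _ | e
    · rw [← tt_of_eq hp y hpv, ht0]
      rfl
    · rw [← gam_of_eq hp y hpv, hg0]
      rfl
  have hcard := card_quot_range _ hinj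
  rw [hrange, card_quot_sumDvd V m hm] at hcard
  have : (((Bt ends ut).submatrix id p).det.natAbs : ℤ) = (m : ℤ) := by exact_mod_cast hcard.symm
  rw [← this, Int.natAbs_sq]

end Groth.Agent.Lib.Helper6.MTree
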