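import Mathlib
import Groth.Agent.Lib.Helper6.MTreeInc
import Groth.Agent.Lib.Helper6.ChainCtr

/-!
# The weighted Laplacian of a multigraph with multiplicity function and the matrix-tree theorem
-/

set_option linter.unusedSectionVars false
set_option linter.unusedVariables false
set_option autoImplicit false
set_option maxHeartbeats 400000

noncomputable section
universe u
namespace Groth.Agent.Lib.Helper6.MTree
open LabGraph Finset Matrix Groth.Agent.Lib.Helper6.MGraph

variable {V E : Type u} [Fintype V] [Fintype E] [DecidableEq V] [DecidableEq E]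
variable (ends : E → V × V)

/-- a tree set has one edge less than there are vertices -/
theorem card_tree (hne : Nonempty V) {T : Finset E} (hT : IsTreeSet ends T) :
    T.card + 1 = Fintype.card V := by
  classical
  obtain ⟨v₀⟩ := hne
  have hext : ∀ (g : {e // e ∈ T} → ZMod 2) (e : E) (h : e ∈ T),
      (fun e => if h : e ∈ T then g ⟨e, h⟩ else 0) e = g ⟨e, h⟩ := by
    intro g e h
    simp [h]
  have hinj : Function.Injective (fun (x : ({e // e ∈ T} → ZMod 2) × ZMod 2) (v : V) =>
      bdry ends (fun e => if h : e ∈ T then x.1 ⟨e, h⟩ else 0) v + x.2 * (if v = v₀ then 1 else 0)) := by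
    intro x x' hxx
    have h1 : ∀ v, bdry ends ((fun e => if h : e ∈ T then x.1 ⟨e, h⟩ else 0) -
        (fun e => if h : e ∈ T then x'.1 ⟨e, h⟩ else 0)) v + (x.2 - x'.2) * (if v = v₀ then 1 else 0) = 0 := by
      intro v
      have := congrFun hxx v
      simp only at this
      rw [bdry_sub]
      linear_combination this
    have hs : x.2 - x'.2 = 0 := by
      have := Finset.sum_eq_zero (fun v (_ : v ∈ univ) => h1 v)
      rw [Finset.sum_add_distrib, sum_bdry, zero_add, ← Finset.mul_sum, Finset.sum_ite_eq'] at this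
      simpa using this
    have hd : ((fun e => if h : e ∈ T then x.1 ⟨e, h⟩ else 0) -
        (fun e => if h : e ∈ T then x'.1 ⟨e, h⟩ else 0) : E → ZMod 2) = 0 := by
      apply IsForestSet.eq_zero ends hT.2
      · intro e he
        simp [he]
      · intro v
        have := h1 v
        rw [hs, zero_mul, add_zero] at this
        exact this
    apply Prod.ext
    · funext e
      have := congrFun hd e.1
      simp only [Pi.sub_apply, e.2, dif_pos, Pi.zero_apply] at this
      exact sub_eq_zero.1 this
    · exact sub_eq_zero.1 hs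
  have hsurj : Function.Surjective (fun (x : ({e // e ∈ T} → ZMod 2) × ZMod 2) (v : V) =>
      bdry ends (fun e => if h : e ∈ T then x.1 ⟨e, h⟩ else 0) v + x.2 * (if v = v₀ then 1 else 0)) := by
    intro z
    obtain ⟨g, hg0, hg⟩ := exists_bdry_eq' (R := ZMod 2) ends hT.1
      (z - fun v => (∑ w, z w) * (if v = v₀ then 1 else 0)) (by
        simp only [Pi.sub_apply, Finset.sum_sub_distrib, ← Finset.mul_sum, Finset.sum_ite_eq']
        simp)
    refine ⟨(fun e => g e.1, ∑ w, z w), ?_⟩
    funext v
    simp only
    have : (fun e => if h : e ∈ T then g e else 0) = g := by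
      funext e
      by_cases he : e ∈ T
      · simp [he]
      · simp [he, hg0 e he]
    rw [this, hg v]
    simp
  have hcard := Fintype.card_congr (Equiv.ofBijective _ ⟨hinj, hsurj⟩)
  rw [Fintype.card_prod, Fintype.card_fun, Fintype.card_fun, ZMod.card, Fintype.card_coe] at hcard
  have h2 : 2 ^ (T.card + 1) = 2 ^ Fintype.card V := by
    rw [pow_succ]
    exact hcard
  exact Nat.pow_right_injective (le_refl 2) h2

/-- the weights of the augmented Laplacian -/
def Wt (β : V → ℤ) : Option E → ℤ
  | some e => -(β (ends e).1 * β (ends e).2)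
  | none => 1

theorem lap_identity (β : V → ℤ) (hβ : IsMultFn ends β) (u : V → ℤ) :
    Matrix.diagonal β * (mfMatrix ends β + Matrix.vecMulVec u u) * Matrix.diagonal β =
      Bt ends (fun v => β v * u v) *
        (Matrix.diagonal (Wt ends β) * (Bt ends (fun v => β v * u v))ᵀ) := by
  rw [Matrix.ext_iff_mulVec]
  intro y
  funext v
  have hL : ((Matrix.diagonal β * (mfMatrix ends β + Matrix.vecMulVec u u) * Matrix.diagonal β) *ᵥ y) v =
      β v * ((mfMatrix ends β) *ᵥ (fun w => β w * y w)) v + β v * u v * ∑ w, u w * (β w * y w) := by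
    rw [← Matrix.mulVec_mulVec, ← Matrix.mulVec_mulVec, Matrix.mulVec_diagonal, Matrix.add_mulVec]
    have : (Matrix.diagonal β *ᵥ y) = fun w => β w * y w := by
      funext w
      rw [Matrix.mulVec_diagonal]
    rw [this, Pi.add_apply, mul_add]
    congr 1
    simp only [Matrix.mulVec, dotProduct, Matrix.vecMulVec_apply, Finset.mul_sum]
    refine Finset.sum_congr rfl fun w _ => ?_
    ring
  have hR : ((Bt ends (fun v => β v * u v) *
        (Matrix.diagonal (Wt ends β) * (Bt ends (fun v => β v * u v))ᵀ)) *ᵥ y) v =
      β v * u v * ∑ w, (β w * u w) * y w +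
        ∑ e, colv ends (fun v => β v * u v) (some e) v * (-(β (ends e).1 * β (ends e).2) * cob ends y e) := by
    rw [← Matrix.mulVec_mulVec, ← Matrix.mulVec_mulVec]
    have h1 : ((Bt ends (fun v => β v * u v))ᵀ *ᵥ y) = fun k =>
        ∑ w, y w * colv ends (fun v => β v * u v) k w := by
      funext k
      simp only [Matrix.mulVec, dotProduct, Matrix.transpose_apply, Bt]
      refine Finset.sum_congr rfl fun w _ => ?_
      ring
    rw [h1]
    simp only [Matrix.mulVec, dotProduct, Bt, Matrix.diagonal_apply, ite_mul, zero_mul,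
      Finset.sum_ite_eq, mem_univ, if_true]
    rw [Fintype.sum_option]
    congr 1
    · simp only [colv, Wt, one_mul]
      congr 1
      refine Finset.sum_congr rfl fun w _ => ?_
      ring
    · refine Finset.sum_congr rfl fun e _ => ?_
      rw [sum_mul_colv_some]
      simp only [Wt]
  rw [hL, hR, Groth.Agent.Lib.Helper6.ChainCtr.beta_mul_mulVec hβ]
  have h3 : (∑ w, u w * (β w * y w)) = ∑ w, (β w * u w) * y w := by
    refine Finset.sum_congr rfl fun w _ => ?_
    ring
  rw [h3, add_comm]
  congr 1
  refine Finset.sum_congr rfl fun e _ => ?_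
  simp only [colv, cob]
  by_cases h1 : (ends e).1 = v <;> by_cases h2 : (ends e).2 = v
  · simp only [h1, h2, if_true]; ring
  · simp only [h1, h2, if_true, if_false]
    rw [← h1]; ring
  · simp only [h1, h2, if_true, if_false]
    rw [← h2]; ring
  · simp only [h1, h2, if_false]; ring

open Classical in
/-- the weighted matrix-tree theorem for the augmented matrix `α + u uᵀ` -/
theorem det_formula (hne : Nonempty V) (β : V → ℤ) (hβ : IsMultFn ends β) (u : V → ℤ) (m : ℕ)
    (hm : 0 < m) (hu : ∑ v, β v * u v = (m : ℤ)) :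
    (∏ v, β v) ^ 2 * (mfMatrix ends β + Matrix.vecMulVec u u).det =
      (-1) ^ (Fintype.card V - 1) * (m : ℤ) ^ 2 *
        ∑ T ∈ univ.filter (fun T : Finset E => IsTreeSet ends T),
          ∏ e ∈ T, (β (ends e).1 * β (ends e).2) := by
  have h1 : (Matrix.diagonal β * (mfMatrix ends β + Matrix.vecMulVec u u) * Matrix.diagonal β).det =
      (∏ v, β v) ^ 2 * (mfMatrix ends β + Matrix.vecMulVec u u).det := by
    rw [Matrix.det_mul, Matrix.det_mul, Matrix.det_diagonal]
    ring
  rw [← h1, lap_identity ends β hβ u,
    det_AWAt _ _ (dfun ends (m : ℤ)) (fun p hp => det_sq_eq ends hne _ m hm hu p hp)]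
  -- reorganise the sum
  have h2 : ∀ Ft ∈ (univ : Finset (Option E)).powersetCard (Fintype.card V),
      (∏ k ∈ Ft, Wt ends β k) * dfun ends (m : ℤ) Ft =
        if none ∈ Ft ∧ IsTreeSet ends Ft.eraseNone then (∏ k ∈ Ft, Wt ends β k) * (m : ℤ) ^ 2 else 0 := by
    intro Ft _
    unfold dfun
    split_ifs <;> simp
  rw [Finset.sum_congr rfl h2, ← Finset.sum_filter]
  rw [Finset.mul_sum]
  refine Finset.sum_nbij' (fun Ft => Ft.eraseNone) (fun T => Finset.insertNone T) ?_ ?_ ?_ ?_ ?_
  · intro Ft hFt
    rw [mem_filter] at hFt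
    simp only [mem_filter, mem_univ, true_and]
    exact hFt.2.2
  · intro T hT
    simp only [mem_filter, mem_univ, true_and] at hT
    rw [mem_filter, mem_powersetCard]
    refine ⟨⟨subset_univ _, ?_⟩, ?_, ?_⟩
    · rw [Finset.card_insertNone, card_tree ends hne hT]
    · simp
    · rw [Finset.eraseNone_insertNone]
      exact hT
  · intro Ft hFt
    rw [mem_filter] at hFt
    rw [Finset.insertNone_eraseNone, Finset.insert_eq_of_mem hFt.2.1]
  · intro T _
    rw [Finset.eraseNone_insertNone]
  · intro Ft hFt
    rw [mem_filter] at hFt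
    have hins : Ft = Finset.insertNone Ft.eraseNone := by
      rw [Finset.insertNone_eraseNone, Finset.insert_eq_of_mem hFt.2.1]
    have hc : Ft.eraseNone.card = Fintype.card V - 1 := by
      have := card_tree ends hne hFt.2.2
      omega
    conv_lhs => rw [hins]
    rw [Finset.prod_insertNone]
    simp only [Wt, one_mul]
    rw [Finset.prod_neg, hc]
    ring

end Groth.Agent.Lib.Helper6.MTree
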