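import Mathlib
import Groth.Agent.Lib.Helper6.MTreeLap
import Groth.Agent.Lib.Helper6.ChainCtr3

/-!
# The component group as a cokernel, degrees in trees, and the order formula
-/

set_option linter.unusedSectionVars false
set_option linter.unusedVariables false
set_option autoImplicit false
set_option maxHeartbeats 400000

noncomputable section
universe u
namespace Groth.Agent.Lib.Helper6.MTree
open LabGraph Finset Matrix Groth.Agent.Lib.Helper6.MGraph Groth.Agent.Lib.Helper6.ChainCtr

variable {V E : Type u} [Fintype V] [Fintype E] [DecidableEq V] [DecidableEq E]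
variable (ends : E → V × V)

/-- the component group is the cokernel of `α + u uᵀ` -/
theorem card_compGrp (β : V → ℤ) (hβ : IsMultFn ends β) (u : V → ℤ) (m : ℤ) (hm : 0 < m)
    (hu : ∑ v, β v * u v = m) (hdvd : ∀ v, m ∣ β v) :
    Nat.card (CompGrp ends β) =
      Nat.card ((V → ℤ) ⧸ LinearMap.range (mfMatrix ends β + Matrix.vecMulVec u u).mulVecLin) := by
  have hm0 : m ≠ 0 := hm.ne'
  -- the primitive vector `β / m`
  have hb : ∀ v, m * (β v / m) = β v := fun v => Int.mul_ediv_cancel' (hdvd v)
  have hαb : (mfMatrix ends β) *ᵥ (fun v => β v / m) = 0 := by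
    have h0 : (mfMatrix ends β) *ᵥ (m • (fun v => β v / m)) = 0 := by
      have : (m • (fun v => β v / m) : V → ℤ) = β := by
        funext v
        simp [hb v]
      rw [this]
      exact mulVec_beta hβ
    rw [Matrix.mulVec_smul] at h0
    rcases smul_eq_zero.1 h0 with h | h
    · exact absurd h hm0
    · exact h
  have hub : ∑ v, u v * (β v / m) = 1 := by
    have : m * ∑ v, u v * (β v / m) = m * 1 := by
      rw [Finset.mul_sum, mul_one]
      refine Eq.trans (Finset.sum_congr rfl fun v _ => ?_) hu
      calc m * (u v * (β v / m)) = u v * (m * (β v / m)) := by ring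
        _ = β v * u v := by rw [hb v]; ring
    exact mul_left_cancel₀ hm0 this
  have hM : ∀ y : V → ℤ, (mfMatrix ends β + Matrix.vecMulVec u u) *ᵥ y =
      (mfMatrix ends β) *ᵥ y + (∑ v, u v * y v) • u := by
    intro y
    rw [Matrix.add_mulVec]
    congr 1
    funext v
    simp only [Matrix.mulVec, dotProduct, Matrix.vecMulVec_apply, Pi.smul_apply, smul_eq_mul,
      Finset.sum_mul]
    refine Finset.sum_congr rfl fun w _ => ?_
    ring
  have hMb : (mfMatrix ends β + Matrix.vecMulVec u u) *ᵥ (fun v => β v / m) = u := by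
    rw [hM, hαb, hub]
    simp
  have hbu : betaHom β u = m := by
    rw [betaHom_apply, ← hu]
    refine Finset.sum_congr rfl fun v _ => ?_
    ring
  -- the map from `ker β` to the cokernel
  let ψ : (LinearMap.ker (betaHom β)) →ₗ[ℤ]
      ((V → ℤ) ⧸ LinearMap.range (mfMatrix ends β + Matrix.vecMulVec u u).mulVecLin) :=
    (Submodule.mkQ _).comp (LinearMap.ker (betaHom β)).subtype
  have hsurj : Function.Surjective ψ := by
    intro q
    obtain ⟨z, rfl⟩ := Submodule.Quotient.mk_surjective _ q
    have hdz : m ∣ betaHom β z := by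
      rw [betaHom_apply]
      exact Finset.dvd_sum fun v _ => Dvd.dvd.mul_left (hdvd v) _
    obtain ⟨c, hc⟩ := hdz
    have hmem : z - c • u ∈ LinearMap.ker (betaHom β) := by
      rw [LinearMap.mem_ker, map_sub, map_smul, hbu, hc]
      simp [mul_comm]
    refine ⟨⟨z - c • u, hmem⟩, ?_⟩
    simp only [ψ, LinearMap.comp_apply, Submodule.subtype_apply, Submodule.mkQ_apply]
    rw [Submodule.Quotient.eq]
    have : z - c • u - z = -(c • u) := by abel
    rw [this]
    apply Submodule.neg_mem
    apply Submodule.smul_mem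
    exact ⟨fun v => β v / m, by rw [Matrix.mulVecLin_apply, hMb]⟩
  have hker : LinearMap.ker ψ = (LinearMap.range (Matrix.mulVecLin (mfMatrix ends β))).comap
      (LinearMap.ker (betaHom β)).subtype := by
    ext x
    simp only [ψ, LinearMap.mem_ker, LinearMap.comp_apply, Submodule.subtype_apply, Submodule.mkQ_apply,
      Submodule.Quotient.mk_eq_zero, Submodule.mem_comap, LinearMap.mem_range, Matrix.mulVecLin_apply]
    constructor
    · rintro ⟨y, hy⟩
      rw [hM] at hy
      have hx := x.2
      rw [LinearMap.mem_ker, ← hy, map_add, betaHom_mulVec hβ, map_smul, hbu, zero_add] at hx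
      have h0 : ∑ v, u v * y v = 0 := by
        rcases mul_eq_zero.1 hx with h | h
        · exact h
        · exact absurd h hm0
      refine ⟨y, ?_⟩
      rw [← hy, h0, zero_smul, add_zero]
    · rintro ⟨y, hy⟩
      refine ⟨y - (∑ v, u v * y v) • (fun v => β v / m), ?_⟩
      rw [Matrix.mulVec_sub, Matrix.mulVec_smul, hMb, hM, hy]
      abel
  have e1 := LinearMap.quotKerEquivOfSurjective ψ hsurj
  have e2 := Submodule.quotEquivOfEq _ _ hker
  exact Nat.card_congr (e2.symm.trans e1).toEquiv

/-! ### degrees in forests -/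

theorem no_loop_of_forest {T : Finset E} (hfor : IsForestSet ends T) {e : E} (he : e ∈ T) :
    (ends e).1 ≠ (ends e).2 := by
  intro h
  apply hfor.not_reach ends he
  rw [h]
  exact Reach.refl _

theorem no_parallel_of_forest {T : Finset E} (hfor : IsForestSet ends T) {e e' : E} (he : e ∈ T)
    (he' : e' ∈ T) (h : ends e' = ends e ∨ ends e' = ((ends e).2, (ends e).1)) : e' = e := by
  by_contra hne
  apply hfor.not_reach ends he
  apply Reach.of_adj
  refine ⟨e', mem_erase.2 ⟨hne, he'⟩, ?_⟩
  rcases h with h | h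
  · left
    rw [h]
  · right
    rw [h]

theorem nbrCount_eq_endCount {T : Finset E} (hfor : IsForestSet ends T) (v : V) :
    nbrCount ends T v = endCount ends T v := by
  classical
  have h1 : endCount ends T v = (T.filter (fun e => (ends e).1 = v ∨ (ends e).2 = v)).card := by
    unfold endCount
    rw [Finset.card_filter]
    refine Finset.sum_congr rfl fun e he => ?_
    have := no_loop_of_forest ends hfor he
    by_cases a1 : (ends e).1 = v <;> by_cases a2 : (ends e).2 = v
    · exact absurd (a1.trans a2.symm) this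
    · simp [a1, a2]
    · simp [a1, a2]
    · simp [a1, a2]
  rw [h1]
  unfold nbrCount
  have himg : (univ.filter fun w : V => w ≠ v ∧ ∃ e ∈ T, ends e = (v, w) ∨ ends e = (w, v)) =
      (T.filter (fun e => (ends e).1 = v ∨ (ends e).2 = v)).image
        (fun e => if (ends e).1 = v then (ends e).2 else (ends e).1) := by
    ext w
    simp only [mem_filter, mem_univ, true_and, mem_image]
    constructor
    · rintro ⟨hwv, e, he, h | h⟩
      · refine ⟨e, ⟨he, Or.inl (by rw [h])⟩, ?_⟩
        rw [h]
        simp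
      · refine ⟨e, ⟨he, Or.inr (by rw [h])⟩, ?_⟩
        rw [h]
        simp [hwv]
    · rintro ⟨e, ⟨he, hev⟩, rfl⟩
      have hl := no_loop_of_forest ends hfor he
      by_cases a1 : (ends e).1 = v
      · rw [if_pos a1]
        refine ⟨fun h => hl (a1.trans h.symm), e, he, Or.inl ?_⟩
        rw [← a1]
      · rcases hev with h | h
        · exact absurd h a1
        · rw [if_neg a1]
          refine ⟨a1, e, he, Or.inr ?_⟩
          rw [← h]
  rw [himg, Finset.card_image_of_injOn]
  intro e he e' he'
  simp only [coe_filter, Set.mem_ofPred_eq] at he he'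
  intro hoth
  simp only at hoth
  have hl := no_loop_of_forest ends hfor he.1
  have hl' := no_loop_of_forest ends hfor he'.1
  symm
  apply no_parallel_of_forest ends hfor he.1 he'.1
  by_cases a1 : (ends e).1 = v <;> by_cases a1' : (ends e').1 = v
  · left
    rw [if_pos a1, if_pos a1'] at hoth
    exact Prod.ext (a1'.trans a1.symm) hoth.symm
  · right
    rw [if_pos a1, if_neg a1'] at hoth
    have a2' : (ends e').2 = v := by tauto
    exact Prod.ext hoth.symm (a2'.trans a1.symm)
  · right
    rw [if_neg a1, if_pos a1'] at hoth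
    have a2 : (ends e).2 = v := by tauto
    exact Prod.ext (a1'.trans a2.symm) hoth.symm
  · left
    rw [if_neg a1, if_neg a1'] at hoth
    have a2 : (ends e).2 = v := by tauto
    have a2' : (ends e').2 = v := by tauto
    exact Prod.ext hoth.symm (a2'.trans a2.symm)

theorem prod_edge_weights (β : V → ℚ) (T : Finset E) :
    ∏ e ∈ T, (β (ends e).1 * β (ends e).2) = ∏ v, β v ^ (endCount ends T v) := by
  unfold endCount
  simp only [← Finset.prod_pow_eq_pow_sum]
  rw [Finset.prod_comm]
  refine Finset.prod_congr rfl fun e _ => ?_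
  simp only [pow_add, Finset.prod_mul_distrib, pow_ite, pow_one, pow_zero, Finset.prod_ite_eq,
    mem_univ, if_true]

open Classical in
/-- the order of the component group as a weighted count of spanning trees -/
theorem order_formula (hne : Nonempty V) (hconn : ∀ v w, Reach ends univ v w) (β : V → ℤ)
    (hβ : IsMultFn ends β) :
    (Nat.card (CompGrp ends β) : ℚ) = ((univ.gcd β : ℤ) : ℚ) ^ 2 *
      ∑ T ∈ univ.filter (fun T : Finset E => IsTreeSet ends T),
        ∏ v, (β v : ℚ) ^ ((nbrCount ends T v : ℤ) - 2) := by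
  obtain ⟨v₀⟩ := id hne
  have hg0 : 0 < univ.gcd β := by
    rcases (Finset.Int.finsetGcd_nonneg (s := univ) (f := β)).lt_or_eq with h | h
    · exact h
    · exfalso
      have := (Finset.gcd_eq_zero_iff.1 h.symm) v₀ (mem_univ _)
      exact (hβ v₀).1.ne' this
  obtain ⟨u, hu⟩ := Finset.gcd_eq_sum_mul univ β
  have hm : ((univ.gcd β).toNat : ℤ) = univ.gcd β := Int.toNat_of_nonneg hg0.le
  have hmpos : 0 < (univ.gcd β).toNat := by
    have : (0 : ℤ) < ((univ.gcd β).toNat : ℤ) := by rw [hm]; exact hg0
    exact_mod_cast this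
  have hdet := det_formula ends hne β hβ u (univ.gcd β).toNat hmpos (by rw [hm, hu])
  rw [hm] at hdet
  -- positivity of the tree sum
  have hwpos : ∀ T : Finset E, 0 < ∏ e ∈ T, (β (ends e).1 * β (ends e).2) := fun T =>
    Finset.prod_pos fun e _ => mul_pos (hβ _).1 (hβ _).1
  have hτ : 0 < ∑ T ∈ univ.filter (fun T : Finset E => IsTreeSet ends T),
      ∏ e ∈ T, (β (ends e).1 * β (ends e).2) := by
    obtain ⟨T, -, hTf, hTc⟩ := exists_spanning_tree ends hconn (isForestSet_empty ends)
    exact Finset.sum_pos' (fun T _ => (hwpos T).le)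
      ⟨T, by simp only [mem_filter, mem_univ, true_and]; exact ⟨hTc, hTf⟩, hwpos T⟩
  have hP : 0 < ∏ v, β v := Finset.prod_pos fun v _ => (hβ v).1
  have hdet0 : (mfMatrix ends β + Matrix.vecMulVec u u).det ≠ 0 := by
    intro h0
    rw [h0, mul_zero] at hdet
    have h1 : (-1 : ℤ) ^ (Fintype.card V - 1) ≠ 0 := pow_ne_zero _ (by norm_num)
    have h2 : (univ.gcd β) ^ 2 ≠ 0 := pow_ne_zero _ hg0.ne'
    exact absurd hdet.symm (mul_ne_zero (mul_ne_zero h1 h2) hτ.ne')
  have hcard : Nat.card (CompGrp ends β) = (mfMatrix ends β + Matrix.vecMulVec u u).det.natAbs := by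
    rw [card_compGrp ends β hβ u (univ.gcd β) hg0 hu.symm (fun v => Finset.gcd_dvd (mem_univ v)),
      card_quot_range _ (mulVec_injective_of_det_ne_zero _ hdet0)]
  have habs : (∏ v, β v) ^ 2 * |(mfMatrix ends β + Matrix.vecMulVec u u).det| =
      (univ.gcd β) ^ 2 * ∑ T ∈ univ.filter (fun T : Finset E => IsTreeSet ends T),
        ∏ e ∈ T, (β (ends e).1 * β (ends e).2) := by
    have h1 := congrArg (fun x : ℤ => |x|) hdet
    simp only [abs_mul, abs_pow, abs_neg, abs_one, one_pow, one_mul] at h1
    rw [abs_of_pos hP, abs_of_pos hg0, abs_of_pos hτ] at h1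
    exact h1
  have hQ : ((Nat.card (CompGrp ends β) : ℕ) : ℚ) = ((univ.gcd β : ℤ) : ℚ) ^ 2 *
      ((∑ T ∈ univ.filter (fun T : Finset E => IsTreeSet ends T),
        ∏ e ∈ T, (β (ends e).1 * β (ends e).2) : ℤ) : ℚ) / ((∏ v, β v : ℤ) : ℚ) ^ 2 := by
    rw [hcard]
    have hgen : ∀ x : ℤ, ((x.natAbs : ℕ) : ℚ) = ((|x| : ℤ) : ℚ) := by
      intro x
      rw [Int.abs_eq_natAbs, Int.cast_natCast]
    rw [hgen]
    have h3 := congrArg (fun x : ℤ => (x : ℚ)) habs
    simp only [Int.cast_mul, Int.cast_pow] at h3
    have hPq : ((∏ v, β v : ℤ) : ℚ) ^ 2 ≠ 0 := pow_ne_zero _ (by exact_mod_cast hP.ne')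
    rw [eq_div_iff hPq, mul_comm]
    exact h3
  rw [hQ, mul_div_assoc]
  congr 1
  push_cast
  rw [Finset.sum_div]
  refine Finset.sum_congr rfl fun T hT => ?_
  simp only [mem_filter, mem_univ, true_and] at hT
  have hβq : ∀ v, (β v : ℚ) ≠ 0 := fun v => by exact_mod_cast (hβ v).1.ne'
  have h4 : ∀ v, (β v : ℚ) ^ ((nbrCount ends T v : ℤ) - 2) =
      (β v : ℚ) ^ (endCount ends T v) / (β v : ℚ) ^ 2 := by
    intro v
    rw [zpow_sub₀ (hβq v), nbrCount_eq_endCount ends hT.2, zpow_natCast]
    norm_cast
  rw [Finset.prod_congr rfl (fun v _ => h4 v), Finset.prod_div_distrib,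
    ← prod_edge_weights ends (fun v => (β v : ℚ)) T, Finset.prod_pow]

end Groth.Agent.Lib.Helper6.MTree
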