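import Mathlib
import Groth.Prelude.Def_W4c3cyccovratcurvTree

set_option linter.unusedSectionVars false
set_option linter.unusedVariables false
set_option autoImplicit false
set_option maxHeartbeats 400000

noncomputable section

namespace Groth.Agent.Lib.Helper6.MarkedTreeLib

open W4c3cyccovratcurv SimpleGraph Classical

variable {n k : ℕ}

lemma conicAdj_symm {T₁ T₂ : MarkedTree k} (h : ConicAdj T₁ T₂) : ConicAdj T₂ T₁ := by
  obtain ⟨u₁, w₁, u₂, w₂, h₁, h₂, φ, hφ, hm⟩ := h
  refine ⟨u₂, w₂, u₁, w₁, h₂, h₁, φ.symm, ?_, ?_⟩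
  · rw [← hφ]; exact φ.symm_apply_apply _
  · intro i; rw [← hm i]; exact φ.symm_apply_apply _

lemma contract_adj (G : SimpleGraph (Fin n)) (u w : Fin n) (p q : {v : Fin n // v ≠ w}) :
    (contract G u w).Adj p q ↔ p ≠ q ∧ ((G.Adj p.1 q.1 ∨ (p.1 = u ∧ G.Adj w q.1)) ∨
      (G.Adj q.1 p.1 ∨ (q.1 = u ∧ G.Adj w p.1))) := by
  unfold contract
  rw [SimpleGraph.fromRel_adj]

lemma move_mark (G : SimpleGraph (Fin n)) (hG : G.IsTree) (m m' : Fin k → Fin n) {u w : Fin n}
    (huw : G.Adj u w)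
    (hm : ∀ i, m i = m' i ∨ ((m i = u ∨ m i = w) ∧ (m' i = u ∨ m' i = w))) :
    ConicAdj ⟨n, G, hG, m⟩ ⟨n, G, hG, m'⟩ := by
  refine ⟨u, w, u, w, huw, huw, Iso.refl, rfl, fun i => ?_⟩
  change contractMark m u w huw.ne i = contractMark m' u w huw.ne i
  unfold contractMark
  rcases hm i with h | ⟨h1, h2⟩
  · by_cases hw : m i = w
    · rw [dif_pos hw, dif_pos (h ▸ hw)]
    · rw [dif_neg hw, dif_neg (h ▸ hw)]
      exact Subtype.ext h
  · by_cases hw : m i = w
    · rw [dif_pos hw]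
      by_cases hw' : m' i = w
      · rw [dif_pos hw']
      · rw [dif_neg hw']
        exact Subtype.ext (h2.resolve_right hw').symm
    · rw [dif_neg hw]
      by_cases hw' : m' i = w
      · rw [dif_pos hw']
        exact Subtype.ext (h1.resolve_right hw)
      · rw [dif_neg hw']
        exact Subtype.ext ((h1.resolve_right hw).trans (h2.resolve_right hw').symm)

lemma reachable_lift {V : Type*} {G G' : SimpleGraph V}
    (h : ∀ p q, G.Adj p q → G'.Reachable p q) {p q : V} (hr : G.Reachable p q) :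
    G'.Reachable p q := by
  obtain ⟨W⟩ := hr
  induction W with
  | nil => exact Reachable.refl _
  | cons hadj _ ih => exact (h _ _ hadj).trans ih

/-- the slid graph `G - wx + ax` -/
def slideG (G : SimpleGraph (Fin n)) (a w x : Fin n) : SimpleGraph (Fin n) :=
  (G.deleteEdges {s(w, x)}) ⊔ SimpleGraph.edge a x

lemma slideG_adj (G : SimpleGraph (Fin n)) (a w x p q : Fin n) :
    (slideG G a w x).Adj p q ↔ (G.Adj p q ∧ ¬ ((p = w ∧ q = x) ∨ (p = x ∧ q = w))) ∨
      ((p = a ∧ q = x ∨ p = x ∧ q = a) ∧ p ≠ q) := by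
  unfold slideG
  rw [sup_adj, deleteEdges_adj, edge_adj, Set.mem_singleton_iff, Sym2.eq_iff]

lemma slide_isTree (G : SimpleGraph (Fin n)) (hG : G.IsTree) {a w x : Fin n}
    (haw : G.Adj a w) (hwx : G.Adj w x) (hax : a ≠ x) : (slideG G a w x).IsTree := by
  have hbridge : G.IsBridge s(w, x) := isAcyclic_iff_forall_adj_isBridge.1 hG.IsAcyclic hwx
  have hnr : ¬ (G.deleteEdges {s(w, x)}).Reachable w x := isBridge_iff.1 hbridge
  have haw' : (G.deleteEdges {s(w, x)}).Adj a w := by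
    rw [deleteEdges_adj, Set.mem_singleton_iff, Sym2.eq_iff]
    refine ⟨haw, ?_⟩
    rintro (⟨h1, h2⟩ | ⟨h1, h2⟩)
    · exact haw.ne h1
    · exact hax h1
  have hnr' : ¬ (G.deleteEdges {s(w, x)}).Reachable a x :=
    fun h => hnr (haw'.symm.reachable.trans h)
  refine ⟨?_, (hG.IsAcyclic.anti (deleteEdges_le _)).sup_edge_of_not_reachable hnr'⟩
  haveI : Nonempty (Fin n) := hG.isConnected.nonempty
  rw [connected_iff]
  refine ⟨fun p q => reachable_lift ?_ (hG.isConnected.preconnected p q), inferInstance⟩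
  intro p q hpq
  by_cases hc : (p = w ∧ q = x) ∨ (p = x ∧ q = w)
  · have h1 : (slideG G a w x).Adj w a := by
      rw [slideG_adj]
      left
      refine ⟨haw.symm, ?_⟩
      rintro (⟨h1, h2⟩ | ⟨h1, h2⟩)
      · exact hax h2
      · exact hwx.ne h1
    have h2 : (slideG G a w x).Adj a x := by
      rw [slideG_adj]
      right
      exact ⟨Or.inl ⟨rfl, rfl⟩, hax⟩
    rcases hc with ⟨rfl, rfl⟩ | ⟨rfl, rfl⟩
    · exact h1.reachable.trans h2.reachable
    · exact (h1.reachable.trans h2.reachable).symm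
  · apply Adj.reachable
    rw [slideG_adj]
    exact Or.inl ⟨hpq, hc⟩

lemma slide_conicAdj (G : SimpleGraph (Fin n)) (hG : G.IsTree) (m : Fin k → Fin n) {a w x : Fin n}
    (haw : G.Adj a w) (hwx : G.Adj w x) (hax : a ≠ x) :
    ConicAdj ⟨n, G, hG, m⟩ ⟨n, slideG G a w x, slide_isTree G hG haw hwx hax, m⟩ := by
  have haw' : (slideG G a w x).Adj a w := by
    rw [slideG_adj]
    left
    refine ⟨haw, ?_⟩
    rintro (⟨h1, h2⟩ | ⟨h1, h2⟩)
    · exact haw.ne h1
    · exact hax h1
  have hiff : ∀ p q : {v : Fin n // v ≠ w},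
      (contract G a w).Adj p q ↔ (contract (slideG G a w x) a w).Adj p q := by
    rintro ⟨p, hp⟩ ⟨q, hq⟩
    rw [contract_adj, contract_adj]
    refine and_congr_right fun hne => ?_
    have hne' : p ≠ q := fun h => hne (Subtype.ext h)
    simp only [slideG_adj]
    have hwa : w ≠ a := haw.ne'
    have hwx' : w ≠ x := hwx.ne
    constructor
    · rintro ((h | ⟨h1, h2⟩) | (h | ⟨h1, h2⟩))
      · left; left; left
        refine ⟨h, ?_⟩
        rintro (⟨h1, h2⟩ | ⟨h1, h2⟩)
        · exact hp h1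
        · exact hq h2
      · by_cases hqx : q = x
        · left; left; right
          exact ⟨Or.inl ⟨h1, hqx⟩, hne'⟩
        · left; right
          refine ⟨h1, Or.inl ⟨h2, ?_⟩⟩
          rintro (⟨h3, h4⟩ | ⟨h3, h4⟩)
          · exact hqx h4
          · exact hwx' h3
      · right; left; left
        refine ⟨h, ?_⟩
        rintro (⟨h1, h2⟩ | ⟨h1, h2⟩)
        · exact hq h1
        · exact hp h2
      · by_cases hpx : p = x
        · right; left; right
          exact ⟨Or.inl ⟨h1, hpx⟩, hne'.symm⟩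
        · right; right
          refine ⟨h1, Or.inl ⟨h2, ?_⟩⟩
          rintro (⟨h3, h4⟩ | ⟨h3, h4⟩)
          · exact hpx h4
          · exact hwx' h3
    · rintro (((⟨h, _⟩ | ⟨(⟨h1, h2⟩ | ⟨h1, h2⟩), _⟩) | ⟨h1, (⟨h2, _⟩ | ⟨(⟨h3, h4⟩ | ⟨h3, h4⟩), _⟩)⟩) |
        ((⟨h, _⟩ | ⟨(⟨h1, h2⟩ | ⟨h1, h2⟩), _⟩) | ⟨h1, (⟨h2, _⟩ | ⟨(⟨h3, h4⟩ | ⟨h3, h4⟩), _⟩)⟩))
      · exact Or.inl (Or.inl h)
      · left; right
        exact ⟨h1, h2 ▸ hwx⟩
      · right; right
        exact ⟨h2, h1 ▸ hwx⟩
      · exact Or.inl (Or.inr ⟨h1, h2⟩)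
      · exact absurd h3 hwa
      · exact absurd h3 hwx'
      · exact Or.inr (Or.inl h)
      · right; right
        exact ⟨h1, h2 ▸ hwx⟩
      · left; right
        exact ⟨h2, h1 ▸ hwx⟩
      · exact Or.inr (Or.inr ⟨h1, h2⟩)
      · exact absurd h3 hwa
      · exact absurd h3 hwx'
  refine ⟨a, w, a, w, haw, haw', ⟨Equiv.refl _, ?_⟩, rfl, fun i => rfl⟩
  intro p q
  exact (hiff p q).symm

/-- vertices other than the root not adjacent to the root -/
def far (G : SimpleGraph (Fin n)) (r : Fin n) : Finset (Fin n) :=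
  Finset.univ.filter (fun v => v ≠ r ∧ ¬ G.Adj r v)

lemma mem_far (G : SimpleGraph (Fin n)) (r v : Fin n) :
    v ∈ far G r ↔ v ≠ r ∧ ¬ G.Adj r v := by
  unfold far
  rw [Finset.mem_filter]
  exact ⟨fun h => h.2, fun h => ⟨Finset.mem_univ _, h⟩⟩

lemma exists_far_step (G : SimpleGraph (Fin n)) (r : Fin n) :
    ∀ (y v : Fin n) (W : G.Walk y v), y ∉ far G r → v ∈ far G r →
      ∃ y' x, y' ∉ far G r ∧ x ∈ far G r ∧ G.Adj y' x := by
  intro y v W
  induction W with
  | nil => intro h1 h2; exact absurd h2 h1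
  | @cons y z v hadj W' ih =>
    intro h1 h2
    by_cases hz : z ∈ far G r
    · exact ⟨y, z, h1, hz, hadj⟩
    · exact ih hz h2

lemma exists_slide (G : SimpleGraph (Fin n)) (hG : G.Connected) (r v : Fin n)
    (hv : v ∈ far G r) : ∃ w x, G.Adj r w ∧ G.Adj w x ∧ x ∈ far G r := by
  obtain ⟨W⟩ := hG.preconnected r v
  have hr : r ∉ far G r := by
    rw [mem_far]
    exact fun h => h.1 rfl
  obtain ⟨y', x, hy', hx, hadj⟩ := exists_far_step G r r v W hr hv
  refine ⟨y', x, ?_, hadj, hx⟩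
  rw [mem_far, not_and_or, not_not, not_not] at hy'
  rcases hy' with rfl | h
  · exact absurd hadj ((mem_far G _ x).1 hx).2
  · exact h

lemma far_slide (G : SimpleGraph (Fin n)) {r w x : Fin n} (hrw : G.Adj r w) (hwx : G.Adj w x)
    (hx : x ∈ far G r) : far (slideG G r w x) r = (far G r).erase x := by
  have hxr : x ≠ r := ((mem_far G r x).1 hx).1
  ext v
  rw [Finset.mem_erase, mem_far, mem_far, slideG_adj]
  constructor
  · rintro ⟨h1, h2⟩
    rw [not_or] at h2
    refine ⟨?_, h1, ?_⟩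
    · rintro rfl
      exact h2.2 ⟨Or.inl ⟨rfl, rfl⟩, h1.symm⟩
    · intro hadj
      apply h2.1
      refine ⟨hadj, ?_⟩
      rintro (⟨h3, h4⟩ | ⟨h3, h4⟩)
      · exact hrw.ne h3
      · exact hxr h3.symm
  · rintro ⟨h1, h2, h3⟩
    refine ⟨h2, ?_⟩
    rintro (⟨h4, _⟩ | ⟨(⟨_, h5⟩ | ⟨h5, _⟩), _⟩)
    · exact h3 h4
    · exact h1 h5
    · exact hxr h5.symm

lemma phaseB (r : Fin n) : ∀ (N : ℕ) (G : SimpleGraph (Fin n)) (hG : G.IsTree) (m : Fin k → Fin n),
    (far G r).card = N →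
    ∃ (G' : SimpleGraph (Fin n)) (hG' : G'.IsTree), far G' r = ∅ ∧
      Relation.ReflTransGen ConicAdj (⟨n, G, hG, m⟩ : MarkedTree k) ⟨n, G', hG', m⟩ := by
  intro N
  induction N with
  | zero =>
    intro G hG m h
    exact ⟨G, hG, Finset.card_eq_zero.1 h, Relation.ReflTransGen.refl⟩
  | succ N ih =>
    intro G hG m h
    obtain ⟨v, hv⟩ : (far G r).Nonempty := by
      rw [← Finset.card_pos]; omega
    obtain ⟨w, x, hrw, hwx, hx⟩ := exists_slide G hG.isConnected r v hv
    have hrx : r ≠ x := fun h => ((mem_far G r x).1 hx).1 h.symm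
    obtain ⟨G', hG', h0, hrel⟩ := ih (slideG G r w x) (slide_isTree G hG hrw hwx hrx) m
      (by rw [far_slide G hrw hwx hx, Finset.card_erase_of_mem hx, h]; rfl)
    exact ⟨G', hG', h0, Relation.ReflTransGen.head (slide_conicAdj G hG m hrw hwx hrx) hrel⟩

lemma phaseA (r : Fin n) (G : SimpleGraph (Fin n)) (hG : G.IsTree) (h0 : far G r = ∅) :
    ∀ (K : ℕ) (m : Fin k → Fin n), (Finset.univ.filter (fun i => m i ≠ r)).card = K →
      Relation.ReflTransGen ConicAdj (⟨n, G, hG, m⟩ : MarkedTree k) ⟨n, G, hG, fun _ => r⟩ := by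
  intro K
  induction K with
  | zero =>
    intro m h
    have hm : m = fun _ => r := by
      funext i
      by_contra hne
      have : i ∈ Finset.univ.filter (fun i => m i ≠ r) :=
        Finset.mem_filter.2 ⟨Finset.mem_univ _, hne⟩
      rw [Finset.card_eq_zero.1 h] at this
      exact absurd this (Finset.notMem_empty _)
    subst hm
    exact Relation.ReflTransGen.refl
  | succ K ih =>
    intro m h
    obtain ⟨i, hi⟩ : (Finset.univ.filter (fun i => m i ≠ r)).Nonempty := by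
      rw [← Finset.card_pos]; omega
    have hir : m i ≠ r := (Finset.mem_filter.1 hi).2
    have hadj : G.Adj r (m i) := by
      by_contra hna
      have : m i ∈ far G r := (mem_far G r _).2 ⟨hir, hna⟩
      rw [h0] at this
      exact absurd this (Finset.notMem_empty _)
    have hstep : ConicAdj (⟨n, G, hG, m⟩ : MarkedTree k) ⟨n, G, hG, Function.update m i r⟩ := by
      apply move_mark G hG m _ hadj
      intro j
      by_cases hji : j = i
      · subst hji
        right
        exact ⟨Or.inr rfl, Or.inl (Function.update_self _ _ _)⟩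
      · left
        rw [Function.update_of_ne hji]
    have hcard : (Finset.univ.filter (fun j => Function.update m i r j ≠ r)).card = K := by
      have : Finset.univ.filter (fun j => Function.update m i r j ≠ r) =
          (Finset.univ.filter (fun i => m i ≠ r)).erase i := by
        ext j
        rw [Finset.mem_erase, Finset.mem_filter, Finset.mem_filter]
        by_cases hji : j = i
        · subst hji
          rw [Function.update_self]
          simp
        · rw [Function.update_of_ne hji]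
          simp [hji]
      rw [this, Finset.card_erase_of_mem hi, h]
      rfl
    exact Relation.ReflTransGen.head hstep (ih _ hcard)

lemma star_adj (G : SimpleGraph (Fin n)) (hG : G.IsTree) (r : Fin n) (h0 : far G r = ∅)
    (p q : Fin n) : G.Adj p q ↔ (p = r ∧ q ≠ r) ∨ (q = r ∧ p ≠ r) := by
  have hclose : ∀ v, v ≠ r → G.Adj r v := by
    intro v hv
    by_contra hna
    have : v ∈ far G r := (mem_far G r _).2 ⟨hv, hna⟩
    rw [h0] at this
    exact absurd this (Finset.notMem_empty _)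
  constructor
  · intro hpq
    by_cases hp : p = r
    · left
      refine ⟨hp, ?_⟩
      rintro rfl
      exact hpq.ne hp
    · by_cases hq : q = r
      · exact Or.inr ⟨hq, hp⟩
      · exfalso
        have hfree : G.CliqueFree 3 := hG.IsAcyclic.cliqueFree le_rfl
        exact hfree {r, p, q} (is3Clique_triple_iff.2 ⟨hclose p hp, hclose q hq, hpq⟩)
  · rintro (⟨rfl, hq⟩ | ⟨rfl, hp⟩)
    · exact hclose q hq
    · exact (hclose p hp).symm

theorem main (T₁ T₂ : MarkedTree k) (h : T₁.n = T₂.n) :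
    Relation.ReflTransGen ConicAdj T₁ T₂ := by
  obtain ⟨n, G₁, hG₁, m₁⟩ := T₁
  obtain ⟨n₂, G₂, hG₂, m₂⟩ := T₂
  simp only at h
  subst h
  obtain ⟨r⟩ := hG₁.isConnected.nonempty
  obtain ⟨G₁', hG₁', h01, hrel1⟩ := phaseB r _ G₁ hG₁ m₁ rfl
  obtain ⟨G₂', hG₂', h02, hrel2⟩ := phaseB r _ G₂ hG₂ m₂ rfl
  have hA1 := phaseA r G₁' hG₁' h01 _ m₁ rfl
  have hA2 := phaseA r G₂' hG₂' h02 _ m₂ rfl
  have heq : G₁' = G₂' := by
    ext p q
    rw [star_adj G₁' hG₁' r h01, star_adj G₂' hG₂' r h02]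
  subst heq
  haveI : Std.Symm (ConicAdj (k := k)) := ⟨fun _ _ h => conicAdj_symm h⟩
  have hsymm : Std.Symm (Relation.ReflTransGen (ConicAdj (k := k))) :=
    Relation.ReflTransGen.stdSymm
  exact (hrel1.trans hA1).trans (hsymm.symm _ _ (hrel2.trans hA2))

end Groth.Agent.Lib.Helper6.MarkedTreeLib
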