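import Mathlib
import Groth.Prelude.Def_GSzMilK

universe u v w

open MilK

namespace Groth.Agent.Helper6.MK

variable {F : Type u} [Field F]

/-- the symbol map as a multilinear map -/
noncomputable def symbolML (F : Type u) [Field F] (n : ℕ) :
    MultilinearMap ℤ (fun _ : Fin n => Additive Fˣ) (K F n) :=
  (mk F n).toIntLinearMap.compMultilinearMap (PiTensorProduct.tprod ℤ)

lemma symbolML_apply {n : ℕ} (x : Fin n → Additive Fˣ) :
    symbolML F n x = symbol (fun i => (x i).toMul) := rfl

lemma cons_toMul {n : ℕ} (a : Additive Fˣ) (x : Fin n → Fˣ) :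
    (fun i => ((Fin.cons a (fun i => Additive.ofMul (x i)) : Fin (n+1) → Additive Fˣ) i).toMul) =
      Fin.cons a.toMul x := by
  funext i
  refine Fin.cases ?_ (fun j => ?_) i <;> simp

lemma isSteinberg_cons {n : ℕ} (a : Fˣ) {x : Fin n → Fˣ} (hx : IsSteinberg F x) :
    IsSteinberg F (Fin.cons a x : Fin (n+1) → Fˣ) := by
  obtain ⟨i, j, hij, h⟩ := hx
  exact ⟨i.succ, j.succ, Fin.succ_lt_succ_iff.mpr hij, by simpa using h⟩

/-- auxiliary: prepend for a fixed additive unit -/
noncomputable def preAux (n : ℕ) (a : Additive Fˣ) : K F n →+ K F (n+1) :=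
  lift ((symbolML F (n+1)).curryLeft a) (by
    intro x hx
    rw [MultilinearMap.curryLeft_apply, symbolML_apply, cons_toMul]
    exact symbol_eq_zero_of_isSteinberg _ (isSteinberg_cons _ hx))

lemma preAux_symbol {n : ℕ} (a : Additive Fˣ) (x : Fin n → Fˣ) :
    preAux n a (symbol x) = symbol (Fin.cons a.toMul x) := by
  rw [preAux, lift_symbol, MultilinearMap.curryLeft_apply, symbolML_apply, cons_toMul]

/-- induction principle -/
theorem induction_on {n : ℕ} {p : K F n → Prop} (z : K F n)
    (h0 : p 0) (hs : ∀ x : Fin n → Fˣ, p (symbol x)) (hneg : ∀ a, p a → p (-a))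
    (hadd : ∀ a b, p a → p b → p (a + b)) : p z := by
  obtain ⟨t, rfl⟩ := mk_surjective F n z
  induction t using PiTensorProduct.induction_on with
  | smul_tprod r x =>
    have hx : p (mk F n (PiTensorProduct.tprod ℤ x)) := hs _
    rw [map_zsmul]
    induction r using Int.induction_on with
    | zero => rw [zero_zsmul]; exact h0
    | succ k ih => rw [add_zsmul, one_zsmul]; exact hadd _ _ ih hx
    | pred k ih => rw [sub_zsmul, one_zsmul]; exact hadd _ _ ih (hneg _ hx)
  | add a b ha hb => rw [map_add]; exact hadd _ _ ha hb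

theorem hom_ext {M : Type w} [AddCommGroup M] {n : ℕ} {f g : K F n →+ M}
    (h : ∀ x : Fin n → Fˣ, f (symbol x) = g (symbol x)) : f = g := by
  ext z
  induction z using induction_on with
  | h0 => simp
  | hs x => exact h x
  | hneg a ha => simp [ha]
  | hadd a b ha hb => simp [ha, hb]

theorem closure_symbols (n : ℕ) :
    AddSubgroup.closure (Set.range (symbol : (Fin n → Fˣ) → K F n)) = ⊤ := by
  rw [eq_top_iff]
  intro z _
  clear ‹z ∈ _›
  induction z using induction_on with
  | h0 => exact AddSubgroup.zero_mem _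
  | hs x => exact AddSubgroup.subset_closure ⟨x, rfl⟩
  | hneg a ha => exact AddSubgroup.neg_mem _ ha
  | hadd a b ha hb => exact AddSubgroup.add_mem _ ha hb


/-- prepend a unit as first entry: `{x₁,…,xₙ} ↦ {a, x₁,…,xₙ}`, additive in `a` too. -/
noncomputable def preHom (n : ℕ) : Additive Fˣ →+ (K F n →+ K F (n+1)) where
  toFun a := preAux n a
  map_zero' := by
    apply hom_ext
    intro x
    rw [preAux, lift_symbol, MultilinearMap.curryLeft_apply]
    simp only [AddMonoidHom.zero_apply]
    exact (symbolML F (n+1)).map_coord_zero 0 (by simp)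
  map_add' a b := by
    apply hom_ext
    intro x
    simp only [AddMonoidHom.add_apply, preAux, lift_symbol]
    rw [map_add]
    rfl

/-- prepend a unit as first entry -/
noncomputable def pre {n : ℕ} (a : Fˣ) : K F n →+ K F (n+1) := preHom n (Additive.ofMul a)

@[simp] lemma pre_symbol {n : ℕ} (a : Fˣ) (x : Fin n → Fˣ) :
    pre a (symbol x) = symbol (Fin.cons a x) := preAux_symbol _ x

lemma pre_mul {n : ℕ} (a b : Fˣ) (z : K F n) : pre (a * b) z = pre a z + pre b z := by
  simp only [pre, ofMul_mul, map_add, AddMonoidHom.add_apply]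

@[simp] lemma pre_one {n : ℕ} (z : K F n) : pre (1 : Fˣ) z = 0 := by
  simp only [pre, ofMul_one, map_zero, AddMonoidHom.zero_apply]

lemma pre_inv {n : ℕ} (a : Fˣ) (z : K F n) : pre a⁻¹ z = - pre a z := by
  simp only [pre, ofMul_inv, map_neg, AddMonoidHom.neg_apply]

lemma pre_div {n : ℕ} (a b : Fˣ) (z : K F n) : pre (a / b) z = pre a z - pre b z := by
  rw [div_eq_mul_inv, pre_mul, pre_inv, sub_eq_add_neg]

lemma pre_zpow {n : ℕ} (a : Fˣ) (k : ℤ) (z : K F n) : pre (a ^ k) z = k • pre a z := by
  simp only [pre, ofMul_zpow, map_zsmul, AddMonoidHom.smul_apply]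

lemma pre_pow {n : ℕ} (a : Fˣ) (k : ℕ) (z : K F n) : pre (a ^ k) z = k • pre a z := by
  simp only [pre, ofMul_pow, map_nsmul, AddMonoidHom.smul_apply]

/-- Steinberg relation at the front. -/
lemma pre_pre_of_add_eq_one {n : ℕ} (a b : Fˣ) (h : (a : F) + b = 1) (z : K F n) :
    pre a (pre b z) = 0 := by
  have : (pre a).comp (pre b) = (0 : K F n →+ K F (n+1+1)) := by
    apply hom_ext
    intro x
    simp only [AddMonoidHom.comp_apply, pre_symbol, AddMonoidHom.zero_apply]
    exact symbol_eq_zero_of_isSteinberg _ ⟨0, 1, by simp, by simpa using h⟩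
  exact DFunLike.congr_fun this z

lemma neg_one_sq_unit : ((-1 : Fˣ)) * (-1) = 1 := by simp

lemma two_pre_neg_one {n : ℕ} (z : K F n) : pre (-1 : Fˣ) z + pre (-1 : Fˣ) z = 0 := by
  rw [← pre_mul, neg_one_sq_unit, pre_one]

/-- `{a, -a} = 0` at the front. -/
lemma pre_pre_neg {n : ℕ} (a : Fˣ) (z : K F n) : pre a (pre (-a) z) = 0 := by
  by_cases h1 : a = 1
  · subst h1; simp
  have h1' : (a : F) ≠ 1 := fun h => h1 (Units.ext h)
  have ha0 : (a : F) ≠ 0 := a.ne_zero
  -- units 1 - a and 1 - a⁻¹
  have hb : (1 - (a : F)) ≠ 0 := sub_ne_zero.mpr (Ne.symm h1')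
  have hc : (1 - (a : F)⁻¹) ≠ 0 := by
    rw [sub_ne_zero]
    intro h
    apply h1'
    have := congrArg (fun t => t * (a : F)) h
    simp only [one_mul, inv_mul_cancel₀ ha0] at this
    exact this
  let b : Fˣ := Units.mk0 _ hb
  let c : Fˣ := Units.mk0 _ hc
  have hneg : -a = b / c := by
    apply Units.ext
    simp only [Units.val_neg, Units.val_div_eq_div_val, b, c, Units.val_mk0]
    field_simp
    ring
  rw [hneg, pre_div, map_sub]
  have e1 : pre a (pre b z) = 0 := pre_pre_of_add_eq_one a b (by simp [b]) z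
  have e2 : pre a⁻¹ (pre c z) = 0 := pre_pre_of_add_eq_one a⁻¹ c (by simp [c]) z
  rw [pre_inv] at e2
  rw [e1, neg_eq_zero.mp e2, sub_zero]

/-- anticommutativity at the front. -/
lemma pre_pre_comm {n : ℕ} (a b : Fˣ) (z : K F n) : pre a (pre b z) = - pre b (pre a z) := by
  have h := pre_pre_neg (a * b) z
  have e : -(a * b) = (-a) * b := by simp
  have e' : -(a * b) = a * (-b) := by simp
  have h1 : pre (a * b) (pre (-(a * b)) z) =
      pre a (pre (-a) z) + pre a (pre b z) + (pre b (pre a z) + pre b (pre (-b) z)) := by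
    rw [pre_mul]
    have t1 : pre a (pre (-(a * b)) z) = pre a (pre (-a) z) + pre a (pre b z) := by
      rw [e, pre_mul, map_add]
    have t2 : pre b (pre (-(a * b)) z) = pre b (pre a z) + pre b (pre (-b) z) := by
      rw [e', pre_mul, map_add]
    rw [t1, t2]
  rw [h, pre_pre_neg, pre_pre_neg, zero_add, add_zero] at h1
  exact eq_neg_of_add_eq_zero_left h1.symm

lemma pre_pre_self {n : ℕ} (a : Fˣ) (z : K F n) : pre a (pre a z) = pre a (pre (-1 : Fˣ) z) := by
  have h := pre_pre_neg a z
  have e : -a = (-1) * a := by simp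
  rw [e, pre_mul, map_add] at h
  have h2 := two_pre_neg_one z
  have : pre a (pre a z) = - pre a (pre (-1 : Fˣ) z) := eq_neg_of_add_eq_zero_right h
  rw [this, ← map_neg]
  congr 1
  exact (eq_neg_of_add_eq_zero_left h2).symm

lemma symbol_two (a b : Fˣ) : (symbol ![a, b] : K F 2) = pre a (pre b (symbol ![])) := by
  rw [pre_symbol, pre_symbol]
  rfl

lemma symbol_one (a : Fˣ) : (symbol ![a] : K F 1) = pre a (symbol ![]) := by
  rw [pre_symbol]
  rfl

lemma symbol_cons {n : ℕ} (a : Fˣ) (x : Fin n → Fˣ) :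
    symbol (Fin.cons a x : Fin (n+1) → Fˣ) = pre a (symbol x) := (pre_symbol a x).symm

lemma symbol_eq_pre_tail {n : ℕ} (x : Fin (n+1) → Fˣ) :
    symbol x = pre (x 0) (symbol (Fin.tail x)) := by
  rw [pre_symbol, Fin.cons_self_tail]

/-- relation between `pre` and the product with a degree-one symbol. -/
lemma cast_mul_one {n : ℕ} (a : Fˣ) (z : K F n) :
    cast F (Nat.add_comm 1 n) (mul F 1 n (symbol ![a]) z) = pre a z := by
  have : (cast F (Nat.add_comm 1 n)).toAddMonoidHom.comp (mul F 1 n (symbol ![a])) = pre a := by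
    apply hom_ext
    intro x
    simp only [AddMonoidHom.comp_apply, AddEquiv.coe_toAddMonoidHom, mul_symbol_symbol, cast_symbol,
      pre_symbol]
    congr 1
    rw [Fin.append_left_eq_cons]
    funext i
    simp [Function.comp]
  exact DFunLike.congr_fun this z

end Groth.Agent.Helper6.MK
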