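import Groth.Agent.Lib.Helper6.MilK1

universe u v w

open MilK

namespace Groth.Agent.Helper6.MK

variable {F : Type u} [Field F]

section RingLift

variable {R : Type w} [Ring R] (g : Additive Fˣ →+ R)

/-- ordered product of the values of `g` -/
def gprod {n : ℕ} (x : Fin n → Fˣ) : R := (List.ofFn fun i => g (Additive.ofMul (x i))).prod

lemma gprod_zero (x : Fin 0 → Fˣ) : gprod g x = 1 := by simp [gprod]

lemma gprod_succ {n : ℕ} (x : Fin (n+1) → Fˣ) :
    gprod g x = g (Additive.ofMul (x 0)) * gprod g (Fin.tail x) := by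
  simp [gprod, List.ofFn_succ, Fin.tail]

lemma gprod_cons {n : ℕ} (a : Fˣ) (x : Fin n → Fˣ) :
    gprod g (Fin.cons a x : Fin (n+1) → Fˣ) = g (Additive.ofMul a) * gprod g x := by
  rw [gprod_succ]; simp

variable (hg : ∀ a b : Fˣ, (a : F) + b = 1 → g (Additive.ofMul a) * g (Additive.ofMul b) = 0)
include hg

lemma g_mul_g_neg (a : Fˣ) : g (Additive.ofMul a) * g (Additive.ofMul (-a)) = 0 := by
  by_cases h1 : a = 1
  · subst h1; simp
  have h1' : (a : F) ≠ 1 := fun h => h1 (Units.ext h)
  have ha0 : (a : F) ≠ 0 := a.ne_zero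
  have hb : (1 - (a : F)) ≠ 0 := sub_ne_zero.mpr (Ne.symm h1')
  have hc : (1 - (a : F)⁻¹) ≠ 0 := by
    rw [sub_ne_zero]
    intro h
    apply h1'
    have := congrArg (fun t => t * (a : F)) h
    simp only [one_mul, inv_mul_cancel₀ ha0] at this
    exact this
  let b : Fˣ := Units.mk0 _ hb
  let c : Fˣ := Units.mk0 _ hc
  have hneg : -a = b / c := by
    apply Units.ext
    simp only [Units.val_neg, Units.val_div_eq_div_val, b, c, Units.val_mk0]
    field_simp
    ring
  have e1 : g (Additive.ofMul a) * g (Additive.ofMul b) = 0 := hg a b (by simp [b])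
  have e2 : g (Additive.ofMul a⁻¹) * g (Additive.ofMul c) = 0 := hg a⁻¹ c (by simp [c])
  rw [ofMul_inv, map_neg, neg_mul, neg_eq_zero] at e2
  rw [hneg, ofMul_div, map_sub, mul_sub, e1, e2, sub_zero]

lemma g_anticomm (a b : Fˣ) :
    g (Additive.ofMul a) * g (Additive.ofMul b) = - (g (Additive.ofMul b) * g (Additive.ofMul a)) := by
  have h := g_mul_g_neg g hg (a * b)
  have e : -(a * b) = (-a) * b := by simp
  have e' : -(a * b) = a * (-b) := by simp
  have t1 : g (Additive.ofMul a) * g (Additive.ofMul (-(a * b))) =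
      g (Additive.ofMul a) * g (Additive.ofMul (-a)) + g (Additive.ofMul a) * g (Additive.ofMul b) := by
    rw [e, ofMul_mul, map_add, mul_add]
  have t2 : g (Additive.ofMul b) * g (Additive.ofMul (-(a * b))) =
      g (Additive.ofMul b) * g (Additive.ofMul a) + g (Additive.ofMul b) * g (Additive.ofMul (-b)) := by
    rw [e', ofMul_mul, map_add, mul_add]
  rw [ofMul_mul, map_add, add_mul, t1, t2, g_mul_g_neg g hg, g_mul_g_neg g hg, zero_add, add_zero] at h
  exact eq_neg_of_add_eq_zero_left h

/-- the ordered product kills Steinberg tuples (any two positions). -/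
lemma gprod_steinberg : ∀ (n : ℕ) (x : Fin n → Fˣ), IsSteinberg F x → gprod g x = 0 := by
  intro n
  induction n using Nat.strong_induction_on with
  | _ n ih =>
    intro x hx
    obtain ⟨i, j, hij, h⟩ := hx
    match n, x, i, j, hij, h, ih with
    | 0, x, i, _, _, _, _ => exact i.elim0
    | 1, x, i, j, hij, _, _ =>
      exfalso
      have := i.isLt; have := j.isLt; rw [Fin.lt_def] at hij; omega
    | (m+2), x, i, j, hij, h, ih =>
      rw [gprod_succ]
      -- j is a successor
      obtain ⟨j', rfl⟩ : ∃ j', j = Fin.succ j' := by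
        refine ⟨j.pred ?_, (Fin.succ_pred _ _).symm⟩
        intro hj; rw [hj] at hij; exact absurd hij (Fin.not_lt_zero _)
      by_cases hi : i = 0
      · subst hi
        by_cases hj : j' = 0
        · subst hj
          rw [gprod_succ, ← mul_assoc]
          have : g (Additive.ofMul (x 0)) * g (Additive.ofMul (Fin.tail x 0)) = 0 := by
            apply hg
            simpa [Fin.tail] using h
          rw [this, zero_mul]
        · -- swap first two
          rw [gprod_succ, ← mul_assoc, g_anticomm g hg, neg_mul, mul_assoc, ← gprod_cons]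
          have hst : IsSteinberg F (Fin.cons (x 0) (Fin.tail (Fin.tail x)) : Fin (m+1) → Fˣ) := by
            obtain ⟨j'', rfl⟩ : ∃ j'', j' = Fin.succ j'' :=
              ⟨j'.pred hj, (Fin.succ_pred _ _).symm⟩
            refine ⟨0, j''.succ, Fin.succ_pos _, ?_⟩
            simpa [Fin.tail] using h
          rw [ih (m+1) (by omega) _ hst, mul_zero, neg_zero]
      · obtain ⟨i', rfl⟩ : ∃ i', i = Fin.succ i' := ⟨i.pred hi, (Fin.succ_pred _ _).symm⟩
        have hst : IsSteinberg F (Fin.tail x) :=
          ⟨i', j', Fin.succ_lt_succ_iff.mp hij, by simpa [Fin.tail] using h⟩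
        rw [ih (m+1) (by omega) _ hst, mul_zero]

/-- the multilinear map `x ↦ g x₁ * ⋯ * g xₙ` -/
noncomputable def prodML (n : ℕ) : MultilinearMap ℤ (fun _ : Fin n => Additive Fˣ) R :=
  (MultilinearMap.mkPiAlgebraFin ℤ n R).compLinearMap (fun _ => g.toIntLinearMap)

omit hg in
lemma prodML_apply {n : ℕ} (x : Fin n → Fˣ) :
    prodML g n (fun i => Additive.ofMul (x i)) = gprod g x := by
  simp [prodML, gprod, MultilinearMap.mkPiAlgebraFin_apply]

/-- the induced additive map `K F n →+ R`, `{x₁,…,xₙ} ↦ g x₁ * ⋯ * g xₙ`. -/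
noncomputable def ringLift (n : ℕ) : K F n →+ R :=
  lift (prodML g n) (fun x hx => by rw [prodML_apply]; exact gprod_steinberg g hg n x hx)

@[simp] lemma ringLift_symbol {n : ℕ} (x : Fin n → Fˣ) :
    ringLift g hg n (symbol x) = gprod g x := by
  rw [ringLift, lift_symbol, prodML_apply]

lemma ringLift_pre {n : ℕ} (a : Fˣ) (z : K F n) :
    ringLift g hg (n+1) (pre a z) = g (Additive.ofMul a) * ringLift g hg n z := by
  have : (ringLift g hg (n+1)).comp (pre a) =
      (AddMonoidHom.mulLeft (g (Additive.ofMul a))).comp (ringLift g hg n) := by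
    apply hom_ext
    intro x
    simp only [AddMonoidHom.comp_apply, pre_symbol, ringLift_symbol, gprod_cons,
      AddMonoidHom.coe_mulLeft]
  exact DFunLike.congr_fun this z

end RingLift

end Groth.Agent.Helper6.MK
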