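import Groth.Agent.Lib.Helper6.MilK2

universe u v w

set_option linter.unusedSectionVars false

open MilK

namespace Groth.Agent.Helper6.MK

section EndLemmas

variable {M : Type w} [AddCommGroup M]

@[simp] lemma end_add_apply (f g : AddMonoid.End M) (m : M) : (f + g) m = f m + g m := rfl
@[simp] lemma end_mul_apply (f g : AddMonoid.End M) (m : M) : (f * g) m = f (g m) := rfl
@[simp] lemma end_neg_apply (f : AddMonoid.End M) (m : M) : (-f) m = - f m := rfl
@[simp] lemma end_sub_apply (f g : AddMonoid.End M) (m : M) : (f - g) m = f m - g m := rfl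
@[simp] lemma end_zsmul_apply (z : ℤ) (f : AddMonoid.End M) (m : M) : (z • f) m = z • f m := rfl
@[simp] lemma end_nsmul_apply (z : ℕ) (f : AddMonoid.End M) (m : M) : (z • f) m = z • f m := rfl
lemma end_ext {f g : AddMonoid.End M} (h : ∀ m, f m = g m) : f = g := AddMonoidHom.ext h

end EndLemmas

section Ops

variable (κ : Type u) [Field κ]

/-- all Milnor K-groups at once -/
abbrev G := ∀ n : ℕ, K κ n

variable {κ}

/-- shift operator built from degree-raising maps -/
def shiftFun (P : ∀ k, K κ k →+ K κ (k+1)) (a : G κ) : G κ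
  | 0 => 0
  | (k+1) => P k (a k)

@[simp] lemma shiftFun_zero (P : ∀ k, K κ k →+ K κ (k+1)) (a : G κ) : shiftFun P a 0 = 0 := rfl
@[simp] lemma shiftFun_succ (P : ∀ k, K κ k →+ K κ (k+1)) (a : G κ) (k : ℕ) :
    shiftFun P a (k+1) = P k (a k) := rfl

def shift (P : ∀ k, K κ k →+ K κ (k+1)) : G κ →+ G κ where
  toFun := shiftFun P
  map_zero' := by funext n; cases n <;> simp
  map_add' a b := by funext n; cases n <;> simp

@[simp] lemma shift_zero (P : ∀ k, K κ k →+ K κ (k+1)) (a : G κ) : shift P a 0 = 0 := rfl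
@[simp] lemma shift_succ (P : ∀ k, K κ k →+ K κ (k+1)) (a : G κ) (k : ℕ) :
    shift P a (k+1) = P k (a k) := rfl

/-- left multiplication by `{v}` on all degrees at once -/
noncomputable def sig (v : κˣ) : G κ →+ G κ := shift (fun _ => pre v)

@[simp] lemma sig_zero (v : κˣ) (a : G κ) : sig v a 0 = 0 := rfl
@[simp] lemma sig_succ (v : κˣ) (a : G κ) (k : ℕ) : sig v a (k+1) = pre v (a k) := rfl

lemma sig_mul (v w : κˣ) (a : G κ) : sig (v * w) a = sig v a + sig w a := by
  funext n; cases n <;> simp [pre_mul]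

lemma sig_one (a : G κ) : sig (1 : κˣ) a = 0 := by
  funext n; cases n <;> simp

lemma sig_sig_of_add_eq_one (v w : κˣ) (h : (v : κ) + w = 1) (a : G κ) : sig v (sig w a) = 0 := by
  funext n
  rcases n with _ | _ | n <;> simp [pre_pre_of_add_eq_one v w h]

lemma sig_sig_neg (v : κˣ) (a : G κ) : sig v (sig (-v) a) = 0 := by
  funext n
  rcases n with _ | _ | n <;> simp [pre_pre_neg]

lemma sig_sig_comm (v w : κˣ) (a : G κ) : sig v (sig w a) = - sig w (sig v a) := by
  funext n
  rcases n with _ | _ | n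
  · simp
  · simp
  · simp only [sig_succ, Pi.neg_apply]; exact pre_pre_comm v w _

lemma two_sig_neg_one (a : G κ) : sig (-1 : κˣ) a + sig (-1 : κˣ) a = 0 := by
  rw [← sig_mul, neg_one_sq_unit, sig_one]

/-- left multiplication by `{v}` on `K_*(κ) ⊕ ξ K_*(κ)`. -/
noncomputable def ell (v : κˣ) : AddMonoid.End (G κ × G κ) :=
  AddMonoidHom.prodMap (sig v) (-(sig v))

/-- left multiplication by `ξ`. -/
noncomputable def Xi : AddMonoid.End (G κ × G κ) :=
  (AddMonoidHom.inr (G κ) (G κ)).comp (AddMonoidHom.coprod (AddMonoidHom.id _) (sig (-1 : κˣ)))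

@[simp] lemma ell_apply (v : κˣ) (p : G κ × G κ) : ell v p = (sig v p.1, - sig v p.2) := rfl
@[simp] lemma Xi_apply (p : G κ × G κ) : Xi p = (0, p.1 + sig (-1 : κˣ) p.2) := rfl

lemma ell_mul (v w : κˣ) : ell (v * w) = ell v + ell w := by
  apply end_ext
  rintro ⟨a, b⟩
  simp only [ell_apply, end_add_apply, sig_mul, Prod.mk_add_mk, neg_add]

lemma ell_one : ell (1 : κˣ) = 0 := by
  apply end_ext
  rintro ⟨a, b⟩
  simp only [ell_apply, sig_one, neg_zero, AddMonoid.End.zero_apply]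
  rfl

lemma ell_inv (v : κˣ) : ell v⁻¹ = - ell v := by
  have := ell_mul v v⁻¹
  rw [mul_inv_cancel, ell_one] at this
  exact (neg_eq_of_add_eq_zero_right this.symm).symm

lemma ell_ell_of_add_eq_one (v w : κˣ) (h : (v : κ) + w = 1) : ell v * ell w = 0 := by
  apply end_ext
  rintro ⟨a, b⟩
  simp only [end_mul_apply, ell_apply, map_neg, neg_neg, sig_sig_of_add_eq_one v w h,
    AddMonoid.End.zero_apply]
  rfl

lemma ell_ell_neg (v : κˣ) : ell v * ell (-v) = 0 := by
  apply end_ext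
  rintro ⟨a, b⟩
  simp only [end_mul_apply, ell_apply, map_neg, neg_neg, sig_sig_neg, AddMonoid.End.zero_apply]
  rfl

lemma two_ell_neg_one : ell (-1 : κˣ) + ell (-1 : κˣ) = 0 := by
  rw [← ell_mul, neg_one_sq_unit, ell_one]

lemma Xi_ell (v : κˣ) : Xi * ell v = - (ell v * Xi) := by
  apply end_ext
  rintro ⟨a, b⟩
  simp only [end_mul_apply, ell_apply, Xi_apply, end_neg_apply, map_zero, map_add, map_neg,
    Prod.neg_mk, neg_zero, neg_neg, neg_add]
  congr 1
  rw [sig_sig_comm (-1) v b]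
  abel

lemma Xi_Xi : (Xi : AddMonoid.End (G κ × G κ)) * Xi = ell (-1 : κˣ) * Xi := by
  apply end_ext
  rintro ⟨a, b⟩
  simp only [end_mul_apply, ell_apply, Xi_apply, map_zero, map_add, zero_add]
  congr 1
  have h1 := two_sig_neg_one a
  have h2 := two_sig_neg_one (sig (-1 : κˣ) b)
  rw [neg_add, ← eq_neg_of_add_eq_zero_left h1, ← eq_neg_of_add_eq_zero_left h2]

end Ops


section DVR

variable (A : Type u) [CommRing A] [IsDomain A] [IsDiscreteValuationRing A]
  (L : Type v) [Field L] [Algebra A L] [IsFractionRing A L]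
  (ϖ : A) (hϖ : Irreducible ϖ)

/-- the uniformizer as a unit of `L`. -/
noncomputable abbrev piL : Lˣ := unitFrac A L ϖ hϖ.ne_zero

/-- `(i, u) ↦ π^i u`. -/
noncomputable def decompHom : Multiplicative ℤ × Aˣ →* Lˣ :=
  MonoidHom.coprod (zpowersHom Lˣ (piL A L ϖ hϖ)) (unitToFrac A L)

lemma decompHom_apply (i : ℤ) (u : Aˣ) :
    decompHom A L ϖ hϖ (Multiplicative.ofAdd i, u) = piL A L ϖ hϖ ^ i * unitToFrac A L u := by
  simp [decompHom, zpowersHom]

lemma coe_unitToFrac (u : Aˣ) : ((unitToFrac A L u : Lˣ) : L) = algebraMap A L (u : A) := rfl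

lemma decompHom_injective : Function.Injective (decompHom A L ϖ hϖ) := by
  rw [injective_iff_map_eq_one]
  rintro ⟨i, u⟩ h
  obtain ⟨i, rfl⟩ := Multiplicative.ofAdd.surjective i
  rw [decompHom_apply] at h
  have hinj : Function.Injective (algebraMap A L) := IsFractionRing.injective A L
  have h' := congrArg (Units.val) h
  simp only [Units.val_mul, Units.val_one, coe_unitToFrac] at h'
  rcases i with k | k
  · -- i = k ≥ 0
    simp only [Int.ofNat_eq_natCast, zpow_natCast, Units.val_pow_eq_pow_val, coe_unitFrac] at h'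
    rw [← map_pow, ← map_mul, ← map_one (algebraMap A L)] at h'
    have h2 := hinj h'
    have h3 : (u : A) * ϖ ^ k = ((1 : Aˣ) : A) * ϖ ^ 0 := by
      rw [mul_comm, h2]; simp
    have hk := IsDiscreteValuationRing.unit_mul_pow_congr_pow hϖ hϖ u 1 k 0 h3
    have hu := IsDiscreteValuationRing.unit_mul_pow_congr_unit hϖ u 1 k 0 h3
    subst hk; subst hu
    rfl
  · exfalso
    simp only [zpow_negSucc, Units.val_inv_eq_inv_val, Units.val_pow_eq_pow_val, coe_unitFrac] at h'
    have hne : (algebraMap A L ϖ) ^ (k+1) ≠ 0 :=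
      pow_ne_zero _ (mt (IsFractionRing.to_map_eq_zero_iff (K := L)).mp hϖ.ne_zero)
    rw [inv_mul_eq_iff_eq_mul₀ hne, mul_one, ← map_pow] at h'
    have h2 := hinj h'
    have h3 : (u : A) * ϖ ^ 0 = ((1 : Aˣ) : A) * ϖ ^ (k+1) := by
      rw [h2]; simp
    have hk := IsDiscreteValuationRing.unit_mul_pow_congr_pow hϖ hϖ u 1 0 (k+1) h3
    omega

lemma decompHom_surjective : Function.Surjective (decompHom A L ϖ hϖ) := by
  intro x
  obtain ⟨a, b, hb, hab⟩ := IsFractionRing.div_surjective (A := A) (x : L)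
  have hb0 : b ≠ 0 := nonZeroDivisors.ne_zero hb
  have ha0 : a ≠ 0 := by
    rintro rfl
    rw [map_zero, zero_div] at hab
    exact x.ne_zero hab.symm
  obtain ⟨n, u, rfl⟩ := IsDiscreteValuationRing.eq_unit_mul_pow_irreducible ha0 hϖ
  obtain ⟨m, v, rfl⟩ := IsDiscreteValuationRing.eq_unit_mul_pow_irreducible hb0 hϖ
  refine ⟨(Multiplicative.ofAdd ((n : ℤ) - m), u / v), ?_⟩
  rw [decompHom_apply]
  apply Units.ext
  rw [← hab]
  have hne : (algebraMap A L ϖ) ≠ 0 :=
    mt (IsFractionRing.to_map_eq_zero_iff (K := L)).mp hϖ.ne_zero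
  have hv : algebraMap A L (v : A) ≠ 0 :=
    mt (IsFractionRing.to_map_eq_zero_iff (K := L)).mp v.ne_zero
  simp only [Units.val_mul, Units.val_zpow_eq_zpow_val, coe_unitFrac, map_div, Units.val_div_eq_div_val,
    coe_unitToFrac, map_mul, map_pow]
  rw [zpow_sub₀ hne, zpow_natCast, zpow_natCast]
  field_simp

/-- `Lˣ ≃ ℤ × Aˣ` attached to the uniformizer. -/
noncomputable def decomp : Multiplicative ℤ × Aˣ ≃* Lˣ :=
  MulEquiv.ofBijective (decompHom A L ϖ hϖ) ⟨decompHom_injective A L ϖ hϖ, decompHom_surjective A L ϖ hϖ⟩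

/-- valuation of a unit of `L` -/
noncomputable def ord (x : Lˣ) : ℤ := Multiplicative.toAdd ((decomp A L ϖ hϖ).symm x).1

/-- angular component -/
noncomputable def ang (x : Lˣ) : Aˣ := ((decomp A L ϖ hϖ).symm x).2

lemma eq_pi_zpow_mul (x : Lˣ) :
    x = piL A L ϖ hϖ ^ (ord A L ϖ hϖ x) * unitToFrac A L (ang A L ϖ hϖ x) := by
  have := (decomp A L ϖ hϖ).apply_symm_apply x
  conv_lhs => rw [← this]
  exact decompHom_apply A L ϖ hϖ _ _

lemma ord_ang_unique {x : Lˣ} {i : ℤ} {u : Aˣ} (h : x = piL A L ϖ hϖ ^ i * unitToFrac A L u) :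
    ord A L ϖ hϖ x = i ∧ ang A L ϖ hϖ x = u := by
  have : (decomp A L ϖ hϖ).symm x = (Multiplicative.ofAdd i, u) := by
    rw [MulEquiv.symm_apply_eq, h]
    exact (decompHom_apply A L ϖ hϖ _ _).symm
  simp [ord, ang, this]

lemma ord_mul (x y : Lˣ) : ord A L ϖ hϖ (x * y) = ord A L ϖ hϖ x + ord A L ϖ hϖ y := by
  simp [ord]

lemma ang_mul (x y : Lˣ) : ang A L ϖ hϖ (x * y) = ang A L ϖ hϖ x * ang A L ϖ hϖ y := by
  simp [ang]

end DVR

end Groth.Agent.Helper6.MK
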