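import Groth.Agent.Lib.Helper6.MilK3

universe u v w

set_option linter.unusedSectionVars false

open MilK

namespace Groth.Agent.Helper6.MK

section Tame

variable (A : Type u) [CommRing A] [IsDomain A] [IsDiscreteValuationRing A]
  (L : Type v) [Field L] [Algebra A L] [IsFractionRing A L]
  (ϖ : A) (hϖ : Irreducible ϖ)

/-- residue class of the angular component -/
noncomputable def rbar (x : Lˣ) : (IsLocalRing.ResidueField A)ˣ := unitResidue A (ang A L ϖ hϖ x)

lemma rbar_mul (x y : Lˣ) : rbar A L ϖ hϖ (x * y) = rbar A L ϖ hϖ x * rbar A L ϖ hϖ y := by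
  simp [rbar, ang_mul]

lemma ord_one : ord A L ϖ hϖ 1 = 0 := by simp [ord]
lemma ang_one : ang A L ϖ hϖ 1 = 1 := by simp [ang]
lemma rbar_one : rbar A L ϖ hϖ 1 = 1 := by simp [rbar, ang_one]

lemma coe_unitResidue (u : Aˣ) :
    ((unitResidue A u : (IsLocalRing.ResidueField A)ˣ) : IsLocalRing.ResidueField A) =
      IsLocalRing.residue A (u : A) := rfl

include hϖ in
lemma residue_pi : IsLocalRing.residue A ϖ = 0 := by
  rw [IsLocalRing.residue_eq_zero_iff]
  exact (IsLocalRing.mem_maximalIdeal _).mpr hϖ.not_isUnit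

/-- a unit of `A` from an element with nonzero residue -/
lemma exists_unit_of_residue_ne_zero (a : A) (h : IsLocalRing.residue A a ≠ 0) :
    ∃ w : Aˣ, (w : A) = a := by
  have : IsUnit a := by
    by_contra hu
    exact h ((IsLocalRing.residue_eq_zero_iff _).mpr ((IsLocalRing.mem_maximalIdeal _).mpr hu))
  exact ⟨this.unit, rfl⟩

lemma of_ord_pos {a b : Lˣ} (hab : (a : L) + b = 1) (k : ℕ) (hk : ord A L ϖ hϖ a = (k : ℤ) + 1) :
    ord A L ϖ hϖ b = 0 ∧ rbar A L ϖ hϖ b = 1 := by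
  have ha := eq_pi_zpow_mul A L ϖ hϖ a
  rw [hk] at ha
  set ua := ang A L ϖ hϖ a
  have hres : IsLocalRing.residue A (1 - ϖ ^ (k+1) * (ua : A)) = 1 := by
    simp [residue_pi A ϖ hϖ]
  obtain ⟨w, hw⟩ := exists_unit_of_residue_ne_zero A (1 - ϖ ^ (k+1) * (ua : A)) (by rw [hres]; exact one_ne_zero)
  have hb : b = piL A L ϖ hϖ ^ (0 : ℤ) * unitToFrac A L w := by
    apply Units.ext
    have h1 : (b : L) = 1 - a := by rw [← hab]; ring
    rw [h1, ha]
    simp only [zpow_zero, one_mul, coe_unitToFrac, hw, Units.val_mul, map_sub, map_one, map_mul, map_pow,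
      coe_unitFrac, Units.val_zpow_eq_zpow_val]
    congr 2
    exact_mod_cast zpow_natCast (algebraMap A L ϖ) (k+1)
  obtain ⟨h1, h2⟩ := ord_ang_unique A L ϖ hϖ hb
  refine ⟨h1, ?_⟩
  apply Units.ext
  rw [rbar, h2, coe_unitResidue, hw, hres]
  rfl

lemma of_ord_neg {a b : Lˣ} (hab : (a : L) + b = 1) (k : ℕ) (hk : ord A L ϖ hϖ a = -((k : ℤ) + 1)) :
    ord A L ϖ hϖ b = -((k : ℤ) + 1) ∧ rbar A L ϖ hϖ b = - rbar A L ϖ hϖ a := by
  have ha := eq_pi_zpow_mul A L ϖ hϖ a
  rw [hk] at ha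
  set ua := ang A L ϖ hϖ a with hua
  have hres : IsLocalRing.residue A (ϖ ^ (k+1) - (ua : A)) = - IsLocalRing.residue A (ua : A) := by
    simp [residue_pi A ϖ hϖ]
  have hne : IsLocalRing.residue A (ua : A) ≠ 0 := by
    rw [← coe_unitResidue]; exact Units.ne_zero _
  obtain ⟨w, hw⟩ := exists_unit_of_residue_ne_zero A (ϖ ^ (k+1) - (ua : A)) (by rw [hres]; exact neg_ne_zero.mpr hne)
  have hπ : (algebraMap A L ϖ) ≠ 0 :=
    mt (IsFractionRing.to_map_eq_zero_iff (K := L)).mp hϖ.ne_zero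
  have hb : b = piL A L ϖ hϖ ^ (-((k : ℤ) + 1)) * unitToFrac A L w := by
    apply Units.ext
    have h1 : (b : L) = 1 - a := by rw [← hab]; ring
    rw [h1, ha]
    simp only [coe_unitToFrac, hw, Units.val_mul, map_sub, map_pow,
      coe_unitFrac, Units.val_zpow_eq_zpow_val]
    have h2 : (algebraMap A L ϖ) ^ (-((k : ℤ) + 1)) * (algebraMap A L ϖ) ^ (k+1) = 1 := by
      rw [← zpow_natCast, ← zpow_add₀ hπ]
      have : (-((k : ℤ) + 1) + ((k + 1 : ℕ) : ℤ)) = 0 := by push_cast; ring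
      rw [this, zpow_zero]
    rw [mul_sub, h2]
  obtain ⟨h1, h2⟩ := ord_ang_unique A L ϖ hϖ hb
  refine ⟨h1, ?_⟩
  apply Units.ext
  rw [rbar, h2, coe_unitResidue, hw, hres]
  rfl

lemma of_ord_zero {a b : Lˣ} (hab : (a : L) + b = 1) (h1 : ord A L ϖ hϖ a = 0)
    (h2 : ord A L ϖ hϖ b = 0) :
    ((rbar A L ϖ hϖ a : (IsLocalRing.ResidueField A)ˣ) : IsLocalRing.ResidueField A) +
      rbar A L ϖ hϖ b = 1 := by
  have ha := eq_pi_zpow_mul A L ϖ hϖ a
  have hb := eq_pi_zpow_mul A L ϖ hϖ b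
  rw [h1, zpow_zero, one_mul] at ha
  rw [h2, zpow_zero, one_mul] at hb
  rw [ha, hb] at hab
  simp only [coe_unitToFrac] at hab
  rw [← map_add, ← map_one (algebraMap A L)] at hab
  have := IsFractionRing.injective A L hab
  rw [rbar, rbar, coe_unitResidue, coe_unitResidue, ← map_add, this, map_one]

/-- the key map `x = π^i u ↦ ℓ_ū + i Ξ`. -/
noncomputable def fEnd :
    Additive Lˣ →+ AddMonoid.End (G (IsLocalRing.ResidueField A) × G (IsLocalRing.ResidueField A)) where
  toFun x := ell (rbar A L ϖ hϖ x.toMul) + ((ord A L ϖ hϖ x.toMul : ℤ) : AddMonoid.End _) * Xi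
  map_zero' := by
    simp only [toMul_zero, rbar_one, ell_one, ord_one, Int.cast_zero, zero_mul, add_zero]
  map_add' x y := by
    simp only [toMul_add, rbar_mul, ell_mul, ord_mul, Int.cast_add, add_mul]
    abel

lemma fEnd_apply (x : Lˣ) :
    fEnd A L ϖ hϖ (Additive.ofMul x) =
      ell (rbar A L ϖ hϖ x) + ((ord A L ϖ hϖ x : ℤ) : AddMonoid.End _) * Xi := rfl

lemma ell_neg_eq (v : (IsLocalRing.ResidueField A)ˣ) : ell (-v) = ell (-1 : (IsLocalRing.ResidueField A)ˣ) + ell v := by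
  rw [← ell_mul]; congr 1; simp

omit A in
lemma steinberg_calc {R : Type*} [Ring R] (e m X : R) (i : ℤ) (e0 : e * (m + e) = 0)
    (hXe : X * e = -(e * X)) (hXm : X * m = -(m * X)) (hXX : X * X = m * X) (hmm : m + m = 0) :
    (e + (i : R) * X) * (m + e + (i : R) * X) = 0 := by
  set I : R := ((i : ℤ) : R) with hI
  have hc : ∀ r : R, r * I = I * r := fun r => (Int.cast_comm i r).symm
  obtain ⟨t, ht⟩ : ∃ t : ℤ, i * i - i = t + t := by
    obtain ⟨t, ht⟩ := Int.even_mul_pred_self i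
    exact ⟨t, by rw [← ht]; ring⟩
  have hII : I * I - I = (t : R) * (1 + 1) := by
    rw [hI, ← Int.cast_mul, ← Int.cast_sub, ht]; push_cast; noncomm_ring
  have s1 : e * (I * X) = I * (e * X) := by rw [← mul_assoc, hc e, mul_assoc]
  have s2 : (I * X) * (m + e) = I * (X * (m + e)) := mul_assoc _ _ _
  have s3 : (I * X) * (I * X) = I * I * (X * X) := by
    rw [mul_assoc I X (I * X), ← mul_assoc X I X, hc X, mul_assoc I X X, ← mul_assoc I I (X * X)]
  have s4 : X * (m + e) = - (m * X) - e * X := by rw [mul_add, hXe, hXm]; abel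
  have s5 : (e + I * X) * (m + e + I * X) = (I * I - I) * (m * X) := by
    rw [add_mul, mul_add e (m + e) (I * X), mul_add (I * X) (m + e) (I * X), e0, s1, s2, s3, s4, hXX,
      sub_mul, mul_sub, mul_neg]
    abel
  rw [s5, hII, mul_assoc, ← mul_assoc (1 + 1 : R) m X]
  have : (1 + 1 : R) * m = m + m := by rw [add_mul, one_mul]
  rw [this, hmm, zero_mul, mul_zero]

lemma fEnd_steinberg_neg (v : (IsLocalRing.ResidueField A)ˣ) (i : ℤ) :
    (ell v + ((i : ℤ) : AddMonoid.End (G (IsLocalRing.ResidueField A) × G (IsLocalRing.ResidueField A))) * Xi) *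
      (ell (-v) + ((i : ℤ) : AddMonoid.End _) * Xi) = 0 := by
  rw [ell_neg_eq A v]
  apply steinberg_calc
  · rw [← ell_neg_eq A v]; exact ell_ell_neg v
  · exact Xi_ell v
  · exact Xi_ell _
  · exact Xi_Xi
  · exact two_ell_neg_one

theorem fEnd_steinberg (a b : Lˣ) (hab : (a : L) + b = 1) :
    fEnd A L ϖ hϖ (Additive.ofMul a) * fEnd A L ϖ hϖ (Additive.ofMul b) = 0 := by
  have hba : (b : L) + a = 1 := by rw [add_comm]; exact hab
  rw [fEnd_apply, fEnd_apply]
  rcases h : ord A L ϖ hϖ a with k | k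
  · rcases k with _ | k
    · -- ord a = 0
      have h0 : ord A L ϖ hϖ a = 0 := by simpa using h
      rcases h' : ord A L ϖ hϖ b with j | j
      · rcases j with _ | j
        · have h0' : ord A L ϖ hϖ b = 0 := by simpa using h'
          have := of_ord_zero A L ϖ hϖ hab h0 h0'
          simp only [Int.ofNat_eq_natCast, Nat.cast_zero, Int.cast_zero, zero_mul, add_zero]
          exact ell_ell_of_add_eq_one _ _ this
        · obtain ⟨h1, h2⟩ := of_ord_pos A L ϖ hϖ hba j (by rw [h']; simp)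
          rw [h0] at h1
          simp only [Int.ofNat_eq_natCast] at h
          rw [h2, ell_one]
          simp
      · obtain ⟨h1, h2⟩ := of_ord_neg A L ϖ hϖ hba j (by rw [h', Int.negSucc_eq])
        rw [h0] at h1
        omega
    · obtain ⟨h1, h2⟩ := of_ord_pos A L ϖ hϖ hab k (by rw [h]; simp)
      rw [h1, h2, ell_one]
      simp
  · obtain ⟨h1, h2⟩ := of_ord_neg A L ϖ hϖ hab k (by rw [h, Int.negSucc_eq])
    rw [h1, h2, Int.negSucc_eq]
    exact fEnd_steinberg_neg A _ _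

end Tame

end Groth.Agent.Helper6.MK
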