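import Groth.Agent.Lib.Helper6.MilK4

universe u v w

set_option linter.unusedSectionVars false

open MilK

namespace Groth.Agent.Helper6.MK

section Tame2

variable (A : Type u) [CommRing A] [IsDomain A] [IsDiscreteValuationRing A]
  (L : Type v) [Field L] [Algebra A L] [IsFractionRing A L]
  (ϖ : A) (hϖ : Irreducible ϖ)

local notation "κ" => IsLocalRing.ResidueField A

/-- the ring-valued lift -/
noncomputable def Phi (n : ℕ) : K L n →+ AddMonoid.End (G κ × G κ) :=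
  ringLift (fEnd A L ϖ hϖ) (fEnd_steinberg A L ϖ hϖ) n

/-- base vector: `1 ∈ K_0(κ)`. -/
noncomputable def e0 : G κ × G κ := (Pi.single 0 (symbol ![]), 0)

lemma Phi_pre {n : ℕ} (x : Lˣ) (z : K L n) :
    Phi A L ϖ hϖ (n+1) (pre x z) = fEnd A L ϖ hϖ (Additive.ofMul x) * Phi A L ϖ hϖ n z :=
  ringLift_pre _ _ x z

/-- specialization map -/
noncomputable def Sp (n : ℕ) : K L n →+ K κ n where
  toFun z := ((Phi A L ϖ hϖ n z) (e0 A)).1 n
  map_zero' := by simp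
  map_add' a b := by simp only [map_add, end_add_apply, Prod.fst_add, Pi.add_apply]

/-- tame symbol -/
noncomputable def Dt (n : ℕ) : K L (n+1) →+ K κ n where
  toFun z := ((Phi A L ϖ hϖ (n+1) z) (e0 A)).2 n
  map_zero' := by simp
  map_add' a b := by simp only [map_add, end_add_apply, Prod.snd_add, Pi.add_apply]

lemma Sp_apply {n : ℕ} (z : K L n) : Sp A L ϖ hϖ n z = ((Phi A L ϖ hϖ n z) (e0 A)).1 n := rfl
lemma Dt_apply {n : ℕ} (z : K L (n+1)) : Dt A L ϖ hϖ n z = ((Phi A L ϖ hϖ (n+1) z) (e0 A)).2 n := rfl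

lemma fEnd_eval (x : Lˣ) (p : G κ × G κ) :
    fEnd A L ϖ hϖ (Additive.ofMul x) p =
      (sig (rbar A L ϖ hϖ x) p.1,
        - sig (rbar A L ϖ hϖ x) p.2 + ord A L ϖ hϖ x • (p.1 + sig (-1 : κˣ) p.2)) := by
  rw [fEnd_apply, end_add_apply, end_mul_apply, AddMonoid.End.intCast_apply, ell_apply, Xi_apply]
  simp

lemma Sp_pre {n : ℕ} (x : Lˣ) (z : K L n) :
    Sp A L ϖ hϖ (n+1) (pre x z) = pre (rbar A L ϖ hϖ x) (Sp A L ϖ hϖ n z) := by
  rw [Sp_apply, Phi_pre, end_mul_apply, fEnd_eval]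
  rfl

lemma Dt_pre_zero (x : Lˣ) (z : K L 0) :
    Dt A L ϖ hϖ 0 (pre x z) = ord A L ϖ hϖ x • Sp A L ϖ hϖ 0 z := by
  rw [Dt_apply, Phi_pre, end_mul_apply, fEnd_eval]
  simp [Sp_apply]

lemma Dt_pre_succ {k : ℕ} (x : Lˣ) (z : K L (k+1)) :
    Dt A L ϖ hϖ (k+1) (pre x z) = - pre (rbar A L ϖ hϖ x) (Dt A L ϖ hϖ k z) +
      ord A L ϖ hϖ x • (Sp A L ϖ hϖ (k+1) z + pre (-1 : κˣ) (Dt A L ϖ hϖ k z)) := by
  rw [Dt_apply, Phi_pre, end_mul_apply, fEnd_eval]
  simp [Sp_apply, Dt_apply]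

lemma Sp_zero_symbol (x : Fin 0 → Lˣ) : Sp A L ϖ hϖ 0 (symbol x) = symbol ![] := by
  rw [Sp_apply, Phi, ringLift_symbol, gprod_zero]
  simp [e0, AddMonoid.End.one_apply]

lemma ord_rbar_of_eq {x : Lˣ} {i : ℤ} {u : Aˣ} (h : x = piL A L ϖ hϖ ^ i * unitToFrac A L u) :
    ord A L ϖ hϖ x = i ∧ rbar A L ϖ hϖ x = unitResidue A u := by
  obtain ⟨h1, h2⟩ := ord_ang_unique A L ϖ hϖ h
  exact ⟨h1, by rw [rbar, h2]⟩

lemma ord_unit (u : Aˣ) : ord A L ϖ hϖ (unitToFrac A L u) = 0 :=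
  (ord_rbar_of_eq A L ϖ hϖ (i := 0) (u := u) (by simp)).1

lemma rbar_unit (u : Aˣ) : rbar A L ϖ hϖ (unitToFrac A L u) = unitResidue A u :=
  (ord_rbar_of_eq A L ϖ hϖ (i := 0) (u := u) (by simp)).2

lemma ord_pi : ord A L ϖ hϖ (piL A L ϖ hϖ) = 1 :=
  (ord_rbar_of_eq A L ϖ hϖ (i := 1) (u := 1) (by simp)).1

lemma rbar_pi : rbar A L ϖ hϖ (piL A L ϖ hϖ) = 1 := by
  rw [(ord_rbar_of_eq A L ϖ hϖ (i := 1) (u := 1) (by simp)).2, map_one]

/-- the specialization map has the characterising property -/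
theorem Sp_isSpecMap : ∀ n, IsSpecMap A L ϖ hϖ n (Sp A L ϖ hϖ n) := by
  intro n
  induction n with
  | zero =>
    intro e u
    rw [Sp_zero_symbol]
    congr 1
    exact Subsingleton.elim _ _
  | succ n ih =>
    intro e u
    rw [symbol_eq_pre_tail, Sp_pre]
    have h1 := (ord_rbar_of_eq A L ϖ hϖ (x := piL A L ϖ hϖ ^ e 0 * unitToFrac A L (u 0)) rfl).2
    have h2 := ih (Fin.tail e) (Fin.tail u)
    show pre (rbar A L ϖ hϖ (piL A L ϖ hϖ ^ e 0 * unitToFrac A L (u 0)))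
      (Sp A L ϖ hϖ n (symbol fun i => piL A L ϖ hϖ ^ Fin.tail e i * unitToFrac A L (Fin.tail u i))) = _
    rw [h1, h2, pre_symbol]
    congr 1
    funext i
    refine Fin.cases ?_ (fun j => ?_) i <;> simp [Fin.tail]

/-- the tame symbol vanishes on unit symbols -/
lemma Dt_unit_symbol : ∀ (n : ℕ) (u : Fin (n+1) → Aˣ),
    Dt A L ϖ hϖ n (symbol fun i => unitToFrac A L (u i)) = 0 := by
  intro n
  induction n with
  | zero =>
    intro u
    rw [symbol_eq_pre_tail, Dt_pre_zero, ord_unit, zero_smul]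
  | succ n ih =>
    intro u
    rw [symbol_eq_pre_tail, Dt_pre_succ, ord_unit, zero_smul, add_zero]
    have := ih (Fin.tail u)
    show -pre _ (Dt A L ϖ hϖ n (symbol fun i => unitToFrac A L (Fin.tail u i))) = 0
    rw [this, map_zero, neg_zero]

lemma Sp_unit_symbol (n : ℕ) (u : Fin n → Aˣ) :
    Sp A L ϖ hϖ n (symbol fun i => unitToFrac A L (u i)) = symbol fun i => unitResidue A (u i) := by
  have := Sp_isSpecMap A L ϖ hϖ n (fun _ => 0) u
  simpa using this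

/-- value of the tame symbol on `{x, u₁, …, uₙ}`. -/
lemma Dt_pre_unit_symbol (n : ℕ) (x : Lˣ) (u : Fin n → Aˣ) :
    Dt A L ϖ hϖ n (pre x (symbol fun i => unitToFrac A L (u i))) =
      ord A L ϖ hϖ x • symbol fun i => unitResidue A (u i) := by
  rcases n with _ | n
  · rw [Dt_pre_zero, Sp_unit_symbol]
  · rw [Dt_pre_succ, Dt_unit_symbol, map_zero, map_zero, neg_zero, zero_add, add_zero, Sp_unit_symbol]

/-- the tame symbol has the characterising property -/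
theorem Dt_isTameSymbol (n : ℕ) : IsTameSymbol A L n (Dt A L ϖ hϖ n) := by
  intro ϖ' hϖ' u
  rw [symbol_cons, Dt_pre_unit_symbol]
  obtain ⟨v, hv⟩ := (IsDiscreteValuationRing.associated_of_irreducible A hϖ hϖ')
  have hx : unitFrac A L ϖ' hϖ'.ne_zero = piL A L ϖ hϖ ^ (1 : ℤ) * unitToFrac A L v := by
    apply Units.ext
    simp [← hv, coe_unitToFrac]
  rw [(ord_rbar_of_eq A L ϖ hϖ hx).1, one_smul]

end Tame2

end Groth.Agent.Helper6.MK
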