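import Groth.Agent.Lib.Helper6.MilK5

universe u v w

set_option linter.unusedSectionVars false

open MilK

namespace Groth.Agent.Helper6.MK

section Gen

variable (A : Type u) [CommRing A] [IsDomain A] [IsDiscreteValuationRing A]
  (L : Type v) [Field L] [Algebra A L] [IsFractionRing A L]
  (ϖ : A) (hϖ : Irreducible ϖ)

local notation "κ" => IsLocalRing.ResidueField A

/-- subgroup generated by unit symbols -/
def Usub (n : ℕ) : AddSubgroup (K L n) :=
  AddSubgroup.closure {z | ∃ u : Fin n → Aˣ, z = symbol (fun i => unitToFrac A L (u i))}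

lemma unit_symbol_mem (n : ℕ) (u : Fin n → Aˣ) :
    symbol (fun i => unitToFrac A L (u i)) ∈ Usub A L n :=
  AddSubgroup.subset_closure ⟨u, rfl⟩

lemma pre_unit_mem {n : ℕ} (u : Aˣ) {z : K L n} (hz : z ∈ Usub A L n) :
    pre (unitToFrac A L u) z ∈ Usub A L (n+1) := by
  have : Usub A L n ≤ (Usub A L (n+1)).comap (pre (unitToFrac A L u)) := by
    rw [Usub, AddSubgroup.closure_le]
    rintro _ ⟨u', rfl⟩
    rw [SetLike.mem_coe, AddSubgroup.mem_comap, pre_symbol]
    have : (Fin.cons (unitToFrac A L u) (fun i => unitToFrac A L (u' i)) : Fin (n+1) → Lˣ) =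
        fun i => unitToFrac A L ((Fin.cons u u' : Fin (n+1) → Aˣ) i) := by
      funext i
      refine Fin.cases ?_ (fun j => ?_) i <;> simp
    rw [this]
    exact unit_symbol_mem A L _ _
  exact this hz

lemma Usub_zero_eq_top : Usub A L 0 = ⊤ := by
  rw [eq_top_iff, ← closure_symbols]
  apply AddSubgroup.closure_mono
  rintro _ ⟨x, rfl⟩
  exact ⟨Fin.elim0, by congr 1; exact Subsingleton.elim _ _⟩

/-- the subgroup `U_{n+1} + {π}·U_n`. -/
noncomputable def Vsub (n : ℕ) : AddSubgroup (K L (n+1)) :=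
  Usub A L (n+1) ⊔ (Usub A L n).map (pre (piL A L ϖ hϖ))

lemma pre_eq (x : Lˣ) {n : ℕ} (z : K L n) :
    pre x z = ord A L ϖ hϖ x • pre (piL A L ϖ hϖ) z + pre (unitToFrac A L (ang A L ϖ hϖ x)) z := by
  conv_lhs => rw [eq_pi_zpow_mul A L ϖ hϖ x, pre_mul, pre_zpow]

lemma Vsub_stable {n : ℕ} (x : Lˣ) {z : K L (n+1)} (hz : z ∈ Vsub A L ϖ hϖ n) :
    pre x z ∈ Vsub A L ϖ hϖ (n+1) := by
  have key : Vsub A L ϖ hϖ n ≤ (Vsub A L ϖ hϖ (n+1)).comap (pre x) := by
    rw [Vsub]
    apply sup_le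
    · intro w hw
      rw [AddSubgroup.mem_comap, pre_eq A L ϖ hϖ x]
      apply AddSubgroup.add_mem
      · apply AddSubgroup.zsmul_mem
        exact AddSubgroup.mem_sup_right ⟨w, hw, rfl⟩
      · exact AddSubgroup.mem_sup_left (pre_unit_mem A L _ hw)
    · rintro _ ⟨v, hv, rfl⟩
      rw [AddSubgroup.mem_comap, pre_eq A L ϖ hϖ x]
      apply AddSubgroup.add_mem
      · apply AddSubgroup.zsmul_mem
        rw [pre_pre_self]
        refine AddSubgroup.mem_sup_right ⟨_, ?_, rfl⟩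
        have := pre_unit_mem A L (-1 : Aˣ) hv
        have e : unitToFrac A L (-1 : Aˣ) = -1 := by
          apply Units.ext; simp [coe_unitToFrac]
        rwa [e] at this
      · rw [pre_pre_comm]
        apply AddSubgroup.neg_mem
        exact AddSubgroup.mem_sup_right ⟨_, pre_unit_mem A L _ hv, rfl⟩
  exact key hz

theorem Vsub_eq_top : ∀ n, Vsub A L ϖ hϖ n = ⊤ := by
  intro n
  induction n with
  | zero =>
    rw [eq_top_iff, ← closure_symbols, AddSubgroup.closure_le]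
    rintro _ ⟨x, rfl⟩
    rw [symbol_eq_pre_tail, pre_eq A L ϖ hϖ]
    have h0 : symbol (Fin.tail x) ∈ Usub A L 0 := by rw [Usub_zero_eq_top]; trivial
    apply AddSubgroup.add_mem
    · apply AddSubgroup.zsmul_mem
      exact AddSubgroup.mem_sup_right ⟨_, h0, rfl⟩
    · exact AddSubgroup.mem_sup_left (pre_unit_mem A L _ h0)
  | succ n ih =>
    rw [eq_top_iff, ← closure_symbols, AddSubgroup.closure_le]
    rintro _ ⟨x, rfl⟩
    rw [symbol_eq_pre_tail]
    apply Vsub_stable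
    rw [ih]; trivial

include hϖ in
/-- a map with the characterising property of the tame symbol kills unit symbols -/
lemma tame_unit_symbol {n : ℕ} (d : K L (n + 1) →+ K κ n) (hd : IsTameSymbol A L n d)
    (u : Fin (n+1) → Aˣ) : d (symbol fun i => unitToFrac A L (u i)) = 0 := by
  have hirr : Irreducible (ϖ * (u 0 : A)) := (irreducible_mul_units (u 0)).mpr hϖ
  have h1 := hd (ϖ * (u 0 : A)) hirr (Fin.tail u)
  have h2 := hd ϖ hϖ (Fin.tail u)
  rw [symbol_cons] at h1 h2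
  have e : unitFrac A L (ϖ * (u 0 : A)) hirr.ne_zero = unitFrac A L ϖ hϖ.ne_zero * unitToFrac A L (u 0) := by
    apply Units.ext; simp [coe_unitToFrac]
  rw [e, pre_mul, map_add, h2] at h1
  rw [symbol_eq_pre_tail]
  exact add_left_cancel (a := symbol fun i => unitResidue A (Fin.tail u i)) (by rw [add_zero]; exact h1)

/-- uniqueness of the tame symbol -/
theorem tame_unique {n : ℕ} (d : K L (n + 1) →+ K κ n) (hd : IsTameSymbol A L n d) :
    d = Dt A L ϖ hϖ n := by
  have hle : Vsub A L ϖ hϖ n ≤ AddMonoidHom.eqLocus d (Dt A L ϖ hϖ n) := by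
    rw [Vsub]
    apply sup_le
    · rw [Usub, AddSubgroup.closure_le]
      rintro _ ⟨u, rfl⟩
      show d _ = Dt A L ϖ hϖ n _
      rw [tame_unit_symbol A L ϖ hϖ d hd, Dt_unit_symbol]
    · rw [AddSubgroup.map_le_iff_le_comap, Usub, AddSubgroup.closure_le]
      rintro _ ⟨u, rfl⟩
      show d (pre _ _) = Dt A L ϖ hϖ n (pre _ _)
      have h1 := hd ϖ hϖ u
      have h2 := Dt_isTameSymbol A L ϖ hϖ n ϖ hϖ u
      rw [symbol_cons] at h1 h2
      rw [h1, h2]
  ext z
  have : z ∈ Vsub A L ϖ hϖ n := by rw [Vsub_eq_top]; trivial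
  exact hle this

theorem existsUnique_tame (n : ℕ) :
    ∃! d : K L (n + 1) →+ K κ n, IsTameSymbol A L n d := by
  obtain ⟨ϖ, hϖ⟩ := IsDiscreteValuationRing.exists_irreducible A
  exact ⟨Dt A L ϖ hϖ n, Dt_isTameSymbol A L ϖ hϖ n, fun d hd => tame_unique A L ϖ hϖ d hd⟩

/-- every symbol has the shape appearing in `IsSpecMap`. -/
lemma symbol_shape {n : ℕ} (x : Fin n → Lˣ) :
    symbol x = symbol fun i => unitFrac A L ϖ hϖ.ne_zero ^ (ord A L ϖ hϖ (x i)) *
      unitToFrac A L (ang A L ϖ hϖ (x i)) := by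
  congr 1
  funext i
  exact eq_pi_zpow_mul A L ϖ hϖ (x i)

theorem spec_unique {n : ℕ} (s : K L n →+ K κ n) (hs : IsSpecMap A L ϖ hϖ n s) :
    s = Sp A L ϖ hϖ n := by
  apply hom_ext
  intro x
  rw [symbol_shape A L ϖ hϖ x, hs, Sp_isSpecMap A L ϖ hϖ n]

theorem existsUnique_spec (n : ℕ) :
    ∃! s : K L n →+ K κ n, IsSpecMap A L ϖ hϖ n s :=
  ⟨Sp A L ϖ hϖ n, Sp_isSpecMap A L ϖ hϖ n, fun s hs => spec_unique A L ϖ hϖ s hs⟩

end Gen

end Groth.Agent.Helper6.MK
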