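import Groth.Agent.Lib.Helper6.MilK6

universe u v w

set_option linter.unusedSectionVars false

open MilK

namespace Groth.Agent.Helper6.MK

section Harvest

variable (A : Type u) [CommRing A] [IsDomain A] [IsDiscreteValuationRing A]
  (L : Type v) [Field L] [Algebra A L] [IsFractionRing A L]
  (ϖ : A) (hϖ : Irreducible ϖ)

local notation "κ" => IsLocalRing.ResidueField A

lemma neg_pi_eq : -piL A L ϖ hϖ = piL A L ϖ hϖ ^ (1 : ℤ) * unitToFrac A L (-1 : Aˣ) := by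
  apply Units.ext; simp [coe_unitToFrac]

lemma unitResidue_neg_one : unitResidue A (-1 : Aˣ) = -1 := by
  apply Units.ext; simp [coe_unitResidue]

lemma Dt_pre_neg_pi {n : ℕ} (x : K L n) :
    Dt A L ϖ hϖ n (pre (-piL A L ϖ hϖ) x) = Sp A L ϖ hϖ n x := by
  obtain ⟨h1, h2⟩ := ord_rbar_of_eq A L ϖ hϖ (neg_pi_eq A L ϖ hϖ)
  rcases n with _ | n
  · rw [Dt_pre_zero, h1, one_smul]
  · rw [Dt_pre_succ, h1, h2, one_smul, unitResidue_neg_one]
    abel

lemma Dt_pre_unit {n : ℕ} (u : Aˣ) (ρ : K L (n+1)) :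
    Dt A L ϖ hϖ (n+1) (pre (unitToFrac A L u) ρ) = - pre (unitResidue A u) (Dt A L ϖ hϖ n ρ) := by
  rw [Dt_pre_succ, ord_unit, rbar_unit, zero_smul, add_zero]

theorem S13288 (n : ℕ)
    (d : MilK.K L (n + 1) →+ MilK.K (IsLocalRing.ResidueField A) n) (hd : MilK.IsTameSymbol A L n d)
    (s : MilK.K L n →+ MilK.K (IsLocalRing.ResidueField A) n) (hs : MilK.IsSpecMap A L ϖ hϖ n s) (x : MilK.K L n) :
    s x = d (MilK.cast L (Nat.add_comm 1 n) (MilK.mul L 1 n (MilK.symbol ![-MilK.unitFrac A L ϖ hϖ.ne_zero]) x)) := by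
  rw [tame_unique A L ϖ hϖ d hd, spec_unique A L ϖ hϖ s hs, cast_mul_one]
  exact (Dt_pre_neg_pi A L ϖ hϖ x).symm

theorem S13296
    (d : MilK.K L 2 →+ MilK.K (IsLocalRing.ResidueField A) 1) (hd : MilK.IsTameSymbol A L 1 d)
    (i j : ℤ) (u u' : Aˣ) :
    d (MilK.symbol ![MilK.unitFrac A L ϖ hϖ.ne_zero ^ i * MilK.unitToFrac A L u,
        MilK.unitFrac A L ϖ hϖ.ne_zero ^ j * MilK.unitToFrac A L u']) =
      MilK.symbol ![(-1) ^ (i * j) * MilK.unitResidue A u' ^ i * MilK.unitResidue A u ^ (-j)] := by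
  rw [tame_unique A L ϖ hϖ d hd, symbol_two, symbol_one]
  obtain ⟨h1, h2⟩ := ord_rbar_of_eq A L ϖ hϖ (x := piL A L ϖ hϖ ^ i * unitToFrac A L u) rfl
  obtain ⟨h3, h4⟩ := ord_rbar_of_eq A L ϖ hϖ (x := piL A L ϖ hϖ ^ j * unitToFrac A L u') rfl
  rw [Dt_pre_succ, Dt_pre_zero, Sp_pre, h1, h2, h3, h4, Sp_zero_symbol]
  rw [pre_mul, pre_mul, pre_zpow, pre_zpow, pre_zpow]
  simp only [map_zsmul, smul_add, smul_smul, neg_smul]
  abel

end Harvest

end Groth.Agent.Helper6.MK
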