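import Groth.Agent.Lib.Helper6.MilK7

universe u v w

set_option linter.unusedSectionVars false

open MilK

namespace Groth.Agent.Helper6.MK

section Harvest2

variable (B : Type u) [CommRing B] [IsDomain B] [IsDiscreteValuationRing B]
    (E F : Type v) [Field E] [Field F] [Algebra B F] [IsFractionRing B F]
    [Algebra E B] [Algebra E F] [IsScalarTower E B F]

lemma map_symbol_eq_unit_symbol {n : ℕ} (x : Fin n → Eˣ) :
    MilK.map (algebraMap E F) n (symbol x) =
      symbol fun i => unitToFrac B F (Units.map (algebraMap E B : E →* B) (x i)) := by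
  rw [map_symbol]
  congr 1
  funext i
  apply Units.ext
  simp [coe_unitToFrac, IsScalarTower.algebraMap_apply E B F]

theorem S19014
    (n : ℕ) (d : MilK.K F (n + 1) →+ MilK.K (IsLocalRing.ResidueField B) n) (hd : MilK.IsTameSymbol B F n d)
    (x : MilK.K E (n + 1)) :
    d (MilK.map (algebraMap E F) (n + 1) x) = 0 := by
  obtain ⟨ϖ, hϖ⟩ := IsDiscreteValuationRing.exists_irreducible B
  have : d.comp (MilK.map (algebraMap E F) (n + 1)) = 0 := by
    apply hom_ext
    intro x
    rw [AddMonoidHom.comp_apply, map_symbol_eq_unit_symbol B E F x, AddMonoidHom.zero_apply]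
    exact tame_unit_symbol B F ϖ hϖ d hd _
  exact DFunLike.congr_fun this x

theorem S19015
    (n : ℕ) (d : MilK.K F (n + 1) →+ MilK.K (IsLocalRing.ResidueField B) n) (hd : MilK.IsTameSymbol B F n d)
    (ϖ : B) (hϖ : Irreducible ϖ) (x : MilK.K E n) :
    d (MilK.cast F (Nat.add_comm 1 n)
        (MilK.mul F 1 n (MilK.symbol ![-MilK.unitFrac B F ϖ hϖ.ne_zero]) (MilK.map (algebraMap E F) n x))) =
      MilK.map ((IsLocalRing.residue B).comp (algebraMap E B)) n x := by
  rw [tame_unique B F ϖ hϖ d hd, cast_mul_one, Dt_pre_neg_pi]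
  have : (Sp B F ϖ hϖ n).comp (MilK.map (algebraMap E F) n) =
      MilK.map ((IsLocalRing.residue B).comp (algebraMap E B)) n := by
    apply hom_ext
    intro x
    rw [AddMonoidHom.comp_apply, map_symbol_eq_unit_symbol B E F x, Sp_unit_symbol, map_symbol]
    congr 1
  exact DFunLike.congr_fun this x

omit E [Field E] [Algebra E B] [Algebra E F] [IsScalarTower E B F] in
theorem S19016 (n : ℕ)
    (d : MilK.K F (n + 1) →+ MilK.K (IsLocalRing.ResidueField B) n) (hd : MilK.IsTameSymbol B F n d)
    (d' : MilK.K F (n + 1 + 1) →+ MilK.K (IsLocalRing.ResidueField B) (n + 1))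
    (hd' : MilK.IsTameSymbol B F (n + 1) d')
    (u : Bˣ) (ρ : MilK.K F (n + 1)) :
    d' (MilK.cast F (Nat.add_comm 1 (n + 1)) (MilK.mul F 1 (n + 1) (MilK.symbol ![MilK.unitToFrac B F u]) ρ)) =
      -(MilK.cast (IsLocalRing.ResidueField B) (Nat.add_comm 1 n)
          (MilK.mul (IsLocalRing.ResidueField B) 1 n (MilK.symbol ![MilK.unitResidue B u]) (d ρ))) := by
  obtain ⟨ϖ, hϖ⟩ := IsDiscreteValuationRing.exists_irreducible B
  rw [tame_unique B F ϖ hϖ d hd, tame_unique B F ϖ hϖ d' hd', cast_mul_one, cast_mul_one, Dt_pre_unit]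

end Harvest2

lemma map_pre {E : Type u} {F : Type v} [Field E] [Field F] (φ : E →+* F) {n : ℕ} (a : Eˣ) (z : K E n) :
    MilK.map φ (n+1) (pre a z) = pre (Units.map (φ : E →* F) a) (MilK.map φ n z) := by
  have : (MilK.map φ (n+1)).comp (pre a) = (pre (Units.map (φ : E →* F) a)).comp (MilK.map φ n) := by
    apply hom_ext
    intro x
    simp only [AddMonoidHom.comp_apply, pre_symbol, map_symbol]
    congr 1
    funext i
    refine Fin.cases ?_ (fun j => ?_) i <;> simp
  exact DFunLike.congr_fun this z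

theorem S19013
    (A B : Type u) [CommRing A] [IsDomain A] [IsDiscreteValuationRing A]
    [CommRing B] [IsDomain B] [IsDiscreteValuationRing B] [Algebra A B] [IsLocalHom (algebraMap A B)]
    (E F : Type v) [Field E] [Field F] [Algebra A E] [IsFractionRing A E] [Algebra B F] [IsFractionRing B F]
    [Algebra E F] [Algebra A F] [IsScalarTower A E F] [IsScalarTower A B F]
    (e : ℕ) (he : Ideal.map (algebraMap A B) (IsLocalRing.maximalIdeal A) = IsLocalRing.maximalIdeal B ^ e)
    (n : ℕ) (dA : MilK.K E (n + 1) →+ MilK.K (IsLocalRing.ResidueField A) n) (hdA : MilK.IsTameSymbol A E n dA)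
    (dB : MilK.K F (n + 1) →+ MilK.K (IsLocalRing.ResidueField B) n) (hdB : MilK.IsTameSymbol B F n dB)
    (x : MilK.K E (n + 1)) :
    dB (MilK.map (algebraMap E F) (n + 1) x) =
      e • MilK.map (IsLocalRing.ResidueField.map (algebraMap A B)) n (dA x) := by
  obtain ⟨ϖA, hϖA⟩ := IsDiscreteValuationRing.exists_irreducible A
  obtain ⟨ϖB, hϖB⟩ := IsDiscreteValuationRing.exists_irreducible B
  rw [tame_unique A E ϖA hϖA dA hdA, tame_unique B F ϖB hϖB dB hdB]
  -- the uniformizer of A in B
  obtain ⟨w, hw⟩ : ∃ w : Bˣ, algebraMap A B ϖA = ϖB ^ e * w := by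
    rw [hϖA.maximalIdeal_eq, hϖB.maximalIdeal_eq, Ideal.map_span, Set.image_singleton,
      Ideal.span_singleton_pow, Ideal.span_singleton_eq_span_singleton] at he
    obtain ⟨w, hw⟩ := he.symm
    exact ⟨w, hw.symm⟩
  have hcomp : ∀ a : A, algebraMap E F (algebraMap A E a) = algebraMap B F (algebraMap A B a) := by
    intro a
    rw [← IsScalarTower.algebraMap_apply A E F, ← IsScalarTower.algebraMap_apply A B F]
  have hunit : ∀ {m : ℕ} (u : Fin m → Aˣ),
      MilK.map (algebraMap E F) m (symbol fun i => unitToFrac A E (u i)) =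
        symbol fun i => unitToFrac B F (Units.map (algebraMap A B : A →* B) (u i)) := by
    intro m u
    rw [map_symbol]
    congr 1
    funext i
    apply Units.ext
    simp [coe_unitToFrac, hcomp]
  have hres : ∀ {m : ℕ} (u : Fin m → Aˣ),
      MilK.map (IsLocalRing.ResidueField.map (algebraMap A B)) m (symbol fun i => unitResidue A (u i)) =
        symbol fun i => unitResidue B (Units.map (algebraMap A B : A →* B) (u i)) := by
    intro m u
    rw [map_symbol]
    congr 1
  set f1 : K E (n+1) →+ K (IsLocalRing.ResidueField B) n :=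
    (Dt B F ϖB hϖB n).comp (MilK.map (algebraMap E F) (n + 1)) with hf1
  set f2 : K E (n+1) →+ K (IsLocalRing.ResidueField B) n :=
    e • ((MilK.map (IsLocalRing.ResidueField.map (algebraMap A B)) n).comp (Dt A E ϖA hϖA n)) with hf2
  have hle : Vsub A E ϖA hϖA n ≤ AddMonoidHom.eqLocus f1 f2 := by
    rw [Vsub]
    apply sup_le
    · rw [Usub, AddSubgroup.closure_le]
      rintro _ ⟨u, rfl⟩
      show f1 _ = f2 _
      simp only [hf1, hf2, AddMonoidHom.comp_apply, AddMonoidHom.smul_apply, hunit, Dt_unit_symbol,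
        map_zero, smul_zero]
    · rw [AddSubgroup.map_le_iff_le_comap, Usub, AddSubgroup.closure_le]
      rintro _ ⟨u, rfl⟩
      show f1 (pre _ _) = f2 (pre _ _)
      simp only [hf1, hf2, AddMonoidHom.comp_apply, AddMonoidHom.smul_apply, map_pre, hunit,
        Dt_pre_unit_symbol, hres, ord_pi, one_smul]
      have hx : Units.map ((algebraMap E F : E →+* F) : E →* F) (piL A E ϖA hϖA) =
          piL B F ϖB hϖB ^ (e : ℤ) * unitToFrac B F w := by
        apply Units.ext
        simp [coe_unitToFrac, hcomp, hw]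
      rw [(ord_rbar_of_eq B F ϖB hϖB hx).1, natCast_zsmul]
  have : x ∈ Vsub A E ϖA hϖA n := by rw [Vsub_eq_top]; trivial
  exact hle this


end Groth.Agent.Helper6.MK
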