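import Mathlib

set_option autoImplicit false

namespace Groth.Agent.Lib.Helper6.MinPrimeColim

universe u

/-- Criterion for a prime to be minimal. -/
theorem mem_minimalPrimes_of_forall {R : Type*} [CommRing R] (P : Ideal R) [P.IsPrime]
    (h : ∀ x ∈ P, ∃ s, s ∉ P ∧ ∃ n : ℕ, s * x ^ n = 0) : P ∈ minimalPrimes R := by
  refine ⟨⟨inferInstance, bot_le⟩, fun Q hQ hQP x hx => ?_⟩
  obtain ⟨s, hs, n, hsn⟩ := h x hx
  have hQprime : Q.IsPrime := hQ.1
  have h1 : s * x ^ n ∈ Q := by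
    rw [hsn]
    exact Q.zero_mem
  rcases hQprime.mem_or_mem h1 with h2 | h2
  · exact absurd (hQP h2) hs
  · exact hQprime.mem_of_pow_mem n h2

theorem forall_of_mem_minimalPrimes {R : Type*} [CommRing R] (P : Ideal R)
    (hP : P ∈ minimalPrimes R) : ∀ x ∈ P, ∃ s, s ∉ P ∧ ∃ n : ℕ, s * x ^ n = 0 := by
  intro x hx
  have hPprime : P.IsPrime := hP.1.1
  have hrad := IsLocalization.AtPrime.radical_map_of_mem_minimalPrimes
    (Localization.AtPrime P) P (⊥ : Ideal R) hP
  have h1 : algebraMap R (Localization.AtPrime P) x ∈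
      (Ideal.map (algebraMap R (Localization.AtPrime P)) (⊥ : Ideal R)).radical := by
    rw [hrad]
    exact Ideal.mem_map_of_mem _ hx
  rw [Ideal.map_bot] at h1
  obtain ⟨n, hn⟩ := h1
  rw [Ideal.mem_bot, ← map_pow] at hn
  obtain ⟨⟨s, hs⟩, hsn⟩ := (IsLocalization.map_eq_zero_iff P.primeCompl
    (Localization.AtPrime P) (x ^ n)).mp hn
  exact ⟨s, hs, n, hsn⟩

/-- Flatness: annihilators extend. -/
theorem flat_ann' {A B : Type*} [CommRing A] [CommRing B] [Algebra A B] [Module.Flat A B]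
    (a : A) (s : B) (hs : s * algebraMap A B a = 0) :
    ∃ (k : ℕ) (t : Fin k → A) (y : Fin k → B), (∀ l, t l * a = 0) ∧
      s = ∑ l, algebraMap A B (t l) * y l := by
  obtain ⟨k, t, y, h1, h2⟩ := Module.Flat.isTrivialRelation_of_sum_smul_eq_zero (R := A) (M := B)
    (f := fun _ : Unit => a) (x := fun _ : Unit => s) (by
      simp only [Finset.univ_unique, Finset.sum_singleton]
      rw [Algebra.smul_def, mul_comm]
      exact hs)
  refine ⟨k, t (), y, fun l => ?_, ?_⟩
  · have := h2 l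
    simp only [Finset.univ_unique, Finset.sum_singleton] at this
    rw [mul_comm]
    exact this
  · have h3 : s = ∑ j, t () j • y j := h1 ()
    rw [h3]
    refine Finset.sum_congr rfl fun l _ => ?_
    rw [Algebra.smul_def]

theorem flat_ann {A B : Type*} [CommRing A] [CommRing B] (g : A →+* B)
    (hflat : letI := g.toAlgebra; Module.Flat A B) (a : A) (s : B) (hs : s * g a = 0) :
    ∃ (k : ℕ) (t : Fin k → A) (y : Fin k → B), (∀ l, t l * a = 0) ∧ s = ∑ l, g (t l) * y l :=
  @flat_ann' A B _ _ g.toAlgebra hflat a s hs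

section colim

variable {ι : Type*} [Preorder ι] [IsDirected ι (· ≤ ·)] [Nonempty ι]
  (G : ι → Type*) [∀ i, CommRing (G i)] (f : ∀ i j, i ≤ j → G i →+* G j)
  (R : Type*) [CommRing R] (φ : ∀ i, G i →+* R)
  (hself : ∀ i x, f i i le_rfl x = x)
  (hmap : ∀ i j k (hij : i ≤ j) (hjk : j ≤ k) x, f j k hjk (f i j hij x) = f i k (hij.trans hjk) x)
  (hcomp : ∀ i j (h : i ≤ j) x, φ j (f i j h x) = φ i x)
  (hsurj : ∀ z : R, ∃ i x, φ i x = z)
  (hinj : ∀ i, Function.Injective (φ i))
  (hF1 : ∀ i j (h : i ≤ j) (a : G i) (s : G j), s * f i j h a = 0 →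
    ∃ (k : ℕ) (t : Fin k → G i) (y : Fin k → G j), (∀ l, t l * a = 0) ∧
      s = ∑ l, f i j h (t l) * y l)
  (hF2 : ∀ i j (h : i ≤ j) (I : Ideal (G i)), (I.map (f i j h)).comap (f i j h) = I)

include hcomp hsurj hinj hF1 in
/-- Contractions of minimal primes are minimal. -/
theorem comap_mem_minimalPrimes (i : ι) (P : Ideal R) (hP : P ∈ minimalPrimes R) :
    P.comap (φ i) ∈ minimalPrimes (G i) := by
  have hPprime : P.IsPrime := hP.1.1
  have : (P.comap (φ i)).IsPrime := Ideal.comap_isPrime (φ i) P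
  apply mem_minimalPrimes_of_forall
  intro a ha
  obtain ⟨s, hs, n, hsn⟩ := forall_of_mem_minimalPrimes P hP (φ i a) ha
  obtain ⟨j₀, s₀, rfl⟩ := hsurj s
  obtain ⟨j, hij, hj₀j⟩ := exists_ge_ge i j₀
  have hs1 : φ j (f j₀ j hj₀j s₀) ∉ P := by rwa [hcomp]
  have h1 : f j₀ j hj₀j s₀ * f i j hij (a ^ n) = 0 := by
    apply hinj j
    rw [map_mul, hcomp, hcomp, map_zero, map_pow]
    exact hsn
  obtain ⟨k, t, y, ht, hsum⟩ := hF1 i j hij (a ^ n) _ h1
  have h2 : ∃ l, t l ∉ P.comap (φ i) := by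
    by_contra hcon
    push Not at hcon
    apply hs1
    rw [hsum, map_sum]
    refine P.sum_mem fun l _ => ?_
    rw [map_mul, hcomp]
    exact P.mul_mem_right _ (hcon l)
  obtain ⟨l, hl⟩ := h2
  exact ⟨t l, hl, n, ht l⟩

include hself hmap hcomp hsurj hinj hF2 in
/-- Contraction of an extended ideal. -/
theorem mem_of_mem_map (i : ι) (I : Ideal (G i)) (x : G i) (hx : φ i x ∈ I.map (φ i)) :
    x ∈ I := by
  let J : Ideal R :=
    { carrier := {z | ∃ (j : ι) (h : i ≤ j) (y : G j), φ j y = z ∧ y ∈ I.map (f i j h)}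
      add_mem' := by
        rintro _ _ ⟨j₁, h₁, y₁, rfl, hy₁⟩ ⟨j₂, h₂, y₂, rfl, hy₂⟩
        obtain ⟨k, hk₁, hk₂⟩ := exists_ge_ge j₁ j₂
        refine ⟨k, h₁.trans hk₁, f j₁ k hk₁ y₁ + f j₂ k hk₂ y₂, ?_, ?_⟩
        · rw [map_add, hcomp, hcomp]
        · refine Ideal.add_mem _ ?_ ?_
          · have : I.map (f i k (h₁.trans hk₁)) = (I.map (f i j₁ h₁)).map (f j₁ k hk₁) := by
              rw [Ideal.map_map]
              congr 1
              ext z
              exact (hmap i j₁ k h₁ hk₁ z).symm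
            rw [this]
            exact Ideal.mem_map_of_mem _ hy₁
          · have : I.map (f i k (h₁.trans hk₁)) = (I.map (f i j₂ h₂)).map (f j₂ k hk₂) := by
              rw [Ideal.map_map]
              congr 1
              ext z
              exact (hmap i j₂ k h₂ hk₂ z).symm
            rw [this]
            exact Ideal.mem_map_of_mem _ hy₂
      zero_mem' := ⟨i, le_rfl, 0, map_zero _, Ideal.zero_mem _⟩
      smul_mem' := by
        rintro r _ ⟨j₁, h₁, y₁, rfl, hy₁⟩
        obtain ⟨j₂, r₂, rfl⟩ := hsurj r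
        obtain ⟨k, hk₁, hk₂⟩ := exists_ge_ge j₁ j₂
        refine ⟨k, h₁.trans hk₁, f j₂ k hk₂ r₂ * f j₁ k hk₁ y₁, ?_, ?_⟩
        · rw [map_mul, hcomp, hcomp, smul_eq_mul]
        · refine Ideal.mul_mem_left _ _ ?_
          have : I.map (f i k (h₁.trans hk₁)) = (I.map (f i j₁ h₁)).map (f j₁ k hk₁) := by
            rw [Ideal.map_map]
            congr 1
            ext z
            exact (hmap i j₁ k h₁ hk₁ z).symm
          rw [this]
          exact Ideal.mem_map_of_mem _ hy₁ }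
  have hJ : I.map (φ i) ≤ J := by
    rw [Ideal.map_le_iff_le_comap]
    intro z hz
    refine ⟨i, le_rfl, z, rfl, ?_⟩
    have : f i i le_rfl = RingHom.id (G i) := by
      ext w
      exact hself i w
    rw [this, Ideal.map_id]
    exact hz
  obtain ⟨j, h, y, hy, hyI⟩ := hJ hx
  have h1 : y = f i j h x := by
    apply hinj j
    rw [hy, hcomp]
  rw [h1] at hyI
  have h2 : x ∈ (I.map (f i j h)).comap (f i j h) := hyI
  rwa [hF2] at h2

include hself hmap hcomp hsurj hinj hF2 in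
/-- Every minimal prime of a stage is a contraction of a minimal prime of the colimit. -/
theorem exists_comap_eq (i : ι) (p : Ideal (G i)) (hp : p ∈ minimalPrimes (G i)) :
    ∃ P ∈ minimalPrimes R, P.comap (φ i) = p := by
  have hpprime : p.IsPrime := hp.1.1
  have hdisj : Disjoint ((p.map (φ i) : Ideal R) : Set R) (p.primeCompl.map (φ i) : Submonoid R) := by
    rw [Set.disjoint_left]
    rintro z hz ⟨t, ht, rfl⟩
    exact ht (mem_of_mem_map G f R φ hself hmap hcomp hsurj hinj hF2 i p t hz)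
  obtain ⟨P, hPprime, hIP, hPdisj⟩ := Ideal.exists_le_prime_disjoint _ _ hdisj
  obtain ⟨P', hP', hP'P⟩ := Ideal.exists_minimalPrimes_le (I := (⊥ : Ideal R)) (J := P) bot_le
  refine ⟨P', hP', ?_⟩
  have hP'prime : P'.IsPrime := hP'.1.1
  have h1 : P'.comap (φ i) ≤ p := by
    intro x hx
    by_contra hxp
    have h2 : φ i x ∈ (P : Set R) := hP'P hx
    have h3 : φ i x ∈ ((p.primeCompl.map (φ i) : Submonoid R) : Set R) := ⟨x, hxp, rfl⟩
    exact Set.disjoint_left.mp hPdisj h2 h3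
  have h4 : (P'.comap (φ i)).IsPrime := Ideal.comap_isPrime (φ i) P'
  exact le_antisymm h1 (hp.2 ⟨h4, bot_le⟩ h1)

include hcomp hsurj in
/-- A finite set of minimal primes is separated at some stage. -/
theorem exists_injOn (t : Set (Ideal R)) (ht : t.Finite) (htm : t ⊆ minimalPrimes R) :
    ∃ j, Set.InjOn (fun P : Ideal R => P.comap (φ j)) t := by
  classical
  have hex : ∀ PQ : Ideal R × Ideal R, ∃ j : ι, PQ.1 ∈ t → PQ.2 ∈ t → PQ.1 ≠ PQ.2 →
      ∃ x : G j, φ j x ∈ PQ.1 ∧ φ j x ∉ PQ.2 := by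
    rintro ⟨P, Q⟩
    by_cases h : P ∈ t ∧ Q ∈ t ∧ P ≠ Q
    · obtain ⟨hP, hQ, hne⟩ := h
      have h1 : ¬ P ≤ Q := by
        intro hle
        exact hne (le_antisymm hle ((htm hQ).2 (htm hP).1 hle))
      obtain ⟨x, hxP, hxQ⟩ := SetLike.not_le_iff_exists.mp h1
      obtain ⟨j, x', rfl⟩ := hsurj x
      exact ⟨j, fun _ _ _ => ⟨x', hxP, hxQ⟩⟩
    · refine ⟨Classical.arbitrary ι, fun h1 h2 h3 => absurd ⟨h1, h2, h3⟩ h⟩
  choose stage hstage using hex
  obtain ⟨j, hj⟩ := Finset.exists_le ((ht.toFinset ×ˢ ht.toFinset).image stage)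
  refine ⟨j, fun P hP Q hQ hPQ => ?_⟩
  by_contra hne
  have hle : stage (P, Q) ≤ j := hj _ (Finset.mem_image_of_mem _
    (Finset.mem_product.mpr ⟨ht.mem_toFinset.mpr hP, ht.mem_toFinset.mpr hQ⟩))
  obtain ⟨x, hxP, hxQ⟩ := hstage (P, Q) hP hQ hne
  have h1 : f (stage (P, Q)) j hle x ∈ P.comap (φ j) := by
    rw [Ideal.mem_comap, hcomp]
    exact hxP
  have h2 : f (stage (P, Q)) j hle x ∉ Q.comap (φ j) := by
    rw [Ideal.mem_comap, hcomp]
    exact hxQ
  have h3 : P.comap (φ j) = Q.comap (φ j) := hPQ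
  rw [h3] at h1
  exact h2 h1

include hself hmap hcomp hsurj hinj hF1 hF2 in
theorem encard_eq :
    (minimalPrimes R).encard = ⨆ i, (minimalPrimes (G i)).encard := by
  apply le_antisymm
  · refine ENat.forall_natCast_le_iff_le.mp fun k hk => ?_
    obtain ⟨t, hts, htk⟩ := Set.exists_subset_encard_eq hk
    have htfin : t.Finite := Set.finite_of_encard_eq_coe htk
    obtain ⟨j, hj⟩ := exists_injOn G f R φ hcomp hsurj t htfin hts
    calc (k : ℕ∞) = t.encard := htk.symm
      _ = ((fun P : Ideal R => P.comap (φ j)) '' t).encard := hj.encard_image.symm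
      _ ≤ (minimalPrimes (G j)).encard := by
          apply Set.encard_le_encard
          rintro _ ⟨P, hP, rfl⟩
          exact comap_mem_minimalPrimes G f R φ hcomp hsurj hinj hF1 j P (hts hP)
      _ ≤ ⨆ i, (minimalPrimes (G i)).encard := le_iSup (fun i => (minimalPrimes (G i)).encard) j
  · refine iSup_le fun i => ?_
    calc (minimalPrimes (G i)).encard
        ≤ ((fun P : Ideal R => P.comap (φ i)) '' minimalPrimes R).encard := by
          apply Set.encard_le_encard
          intro p hp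
          obtain ⟨P, hP, rfl⟩ := exists_comap_eq G f R φ hself hmap hcomp hsurj hinj hF2 i p hp
          exact ⟨P, hP, rfl⟩
      _ ≤ (minimalPrimes R).encard := Set.encard_image_le _ _

end colim

end Groth.Agent.Lib.Helper6.MinPrimeColim
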