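import Mathlib

namespace Groth.Agent.Helper6.Mink

variable {E : Type} [CommRing E] [NoZeroSMulDivisors ℤ E] [Module.Finite ℤ E]

omit [Module.Finite ℤ E] in
lemma cancel (n : ℕ) (hn : n ≠ 0) {a b : E} (h : (n : E) * a = (n : E) * b) : a = b := by
  have h1 : ((n : ℤ)) • (a - b) = 0 := by
    rw [zsmul_eq_mul, Int.cast_natCast, mul_sub, h, sub_self]
  rcases (smul_eq_zero.mp h1) with h2 | h2
  · exact absurd (by exact_mod_cast h2) hn
  · exact sub_eq_zero.mp h2

omit [Module.Finite ℤ E] in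
lemma cancel_pow (p k : ℕ) (hp : p ≠ 0) {a b : E} (h : (p : E) ^ k * a = (p : E) ^ k * b) : a = b := by
  apply cancel (p ^ k) (pow_ne_zero _ hp)
  rw [Nat.cast_pow]; exact h

/-- maximal power -/
lemma exists_max_pow (p : ℕ) (hp : 2 ≤ p) (x : E) (hx : x ≠ 0) :
    ∃ (k : ℕ) (y : E), x = (p : E) ^ k * y ∧ ¬ ((p : E) ∣ y) := by
  classical
  obtain ⟨n, b⟩ := Module.basisOfFiniteTypeTorsionFree' (R := ℤ) (M := E)
  have hrepr : b.repr x ≠ 0 := fun h => hx (b.repr.map_eq_zero_iff.mp h)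
  obtain ⟨i, hi⟩ : ∃ i, b.repr x i ≠ 0 := by
    by_contra hcon
    push Not at hcon
    exact hrepr (Finsupp.ext hcon)
  set c : ℤ := b.repr x i with hc
  have hbound : ∀ k : ℕ, (p : E) ^ k ∣ x → k < c.natAbs := by
    rintro k ⟨y, hy⟩
    have h1 : x = ((p ^ k : ℕ) : ℤ) • y := by
      rw [zsmul_eq_mul, Int.cast_natCast, Nat.cast_pow]; exact hy
    have h2 : c = ((p ^ k : ℕ) : ℤ) * b.repr y i := by
      rw [hc, h1, map_smul]; rfl
    have h3 : ((p ^ k : ℕ) : ℤ) ∣ c := ⟨_, h2⟩
    have h4 : p ^ k ∣ c.natAbs := by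
      have := Int.natAbs_dvd_natAbs.mpr h3
      simpa using this
    have h5 : p ^ k ≤ c.natAbs := Nat.le_of_dvd (Int.natAbs_pos.mpr hi) h4
    have h6 : k < p ^ k := Nat.lt_pow_self hp
    omega
  set K := Nat.findGreatest (fun k => (p : E) ^ k ∣ x) c.natAbs with hK
  have hPK : (p : E) ^ K ∣ x :=
    Nat.findGreatest_spec (P := fun k => (p : E) ^ k ∣ x) (Nat.zero_le _) (by simp)
  obtain ⟨y, hy⟩ := hPK
  refine ⟨K, y, hy, ?_⟩
  rintro ⟨z, hz⟩
  have hP1 : (p : E) ^ (K + 1) ∣ x := ⟨z, by rw [hy, hz, pow_succ]; ring⟩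
  have hlt := hbound _ hP1
  exact Nat.findGreatest_is_greatest (P := fun k => (p : E) ^ k ∣ x) (Nat.lt_succ_self K)
    (by omega) hP1

/-- key lemma -/
lemma key (p l : ℕ) (hp : p.Prime) (hl : l.Prime) (w : E) (hw : w ^ l = 1) (hw1 : w ≠ 1)
    (hdiv : (p : E) ∣ w - 1) : l = 2 ∧ p = 2 ∧ ¬ ((4 : E) ∣ w - 1) := by
  set x := w - 1 with hx
  have hwx : w = 1 + x := by rw [hx]; ring
  have hx0 : x ≠ 0 := fun h => hw1 (by rw [hwx, h, add_zero])
  obtain ⟨k, y, hxy, hy⟩ := exists_max_pow p hp.two_le x hx0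
  have hk : 1 ≤ k := by
    by_contra hk0
    have : k = 0 := by omega
    rw [this, pow_zero, one_mul] at hxy
    exact hy (hxy ▸ hdiv)
  have hp0 : p ≠ 0 := hp.ne_zero
  by_cases hlp : l = p
  · subst hlp
    -- expansion
    have hexp : (1 + x) ^ l = 1 + (l : E) * x +
        ∑ i ∈ Finset.range (l - 1), x ^ (i + 2) * ((l.choose (i + 2) : ℕ) : E) := by
      rw [add_comm 1 x, add_pow]
      have hl2 : l + 1 = (l - 1) + 1 + 1 := by have := hl.two_le; omega
      rw [hl2, Finset.sum_range_succ', Finset.sum_range_succ']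
      simp only [one_pow, mul_one, pow_zero, Nat.choose_zero_right, Nat.cast_one, zero_add, pow_one,
        Nat.choose_one_right]
      ring
    rw [hwx, hexp] at hw
    -- each term divisible by p^(k+2) unless (l = 2, k = 1)
    by_cases hcase : 3 ≤ l ∨ 2 ≤ k
    · exfalso
      have hterm : ∀ i ∈ Finset.range (l - 1),
          (l : E) ^ (k + 2) ∣ x ^ (i + 2) * ((l.choose (i + 2) : ℕ) : E) := by
        intro i hi
        rw [Finset.mem_range] at hi
        rw [hxy, mul_pow, ← pow_mul]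
        by_cases hil : i + 2 = l
        · -- last term
          rw [hil, Nat.choose_self, Nat.cast_one, mul_one]
          apply Dvd.dvd.mul_right
          apply pow_dvd_pow
          rcases hcase with h | h
          · nlinarith
          · nlinarith [hl.two_le]
        · have hdvd : l ∣ l.choose (i + 2) := hl.dvd_choose_self (by omega) (by omega)
          obtain ⟨c, hc⟩ := hdvd
          rw [hc, Nat.cast_mul]
          have h1 : (l : E) ^ (k + 2) ∣ (l : E) ^ (k * (i + 2)) * (l : E) := by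
            rw [← pow_succ]
            apply pow_dvd_pow
            nlinarith
          calc (l : E) ^ (k + 2) ∣ (l : E) ^ (k * (i + 2)) * (l : E) := h1
            _ ∣ (l : E) ^ (k * (i + 2)) * y ^ (i + 2) * ((l : E) * (c : E)) :=
              ⟨y ^ (i + 2) * c, by ring⟩
      have hsum : (l : E) ^ (k + 2) ∣
          ∑ i ∈ Finset.range (l - 1), x ^ (i + 2) * ((l.choose (i + 2) : ℕ) : E) :=
        Finset.dvd_sum hterm
      obtain ⟨t, ht⟩ := hsum
      rw [ht] at hw
      have h2 : (l : E) * x = (l : E) ^ (k + 2) * (-t) := by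
        have : (l : E) * x + (l : E) ^ (k + 2) * t = 0 := by
          have := hw
          linear_combination this
        linear_combination this
      rw [hxy] at h2
      have h3 : (l : E) ^ (k + 1) * y = (l : E) ^ (k + 1) * ((l : E) * (-t)) := by
        rw [pow_succ]
        rw [pow_succ, pow_succ] at h2
        linear_combination h2
      have h4 := cancel_pow l (k + 1) hp0 h3
      exact hy ⟨-t, h4⟩
    · push Not at hcase
      have hl2 : l = 2 := by have := hl.two_le; omega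
      have hk1 : k = 1 := by omega
      refine ⟨hl2, hl2, ?_⟩
      rintro ⟨z, hz⟩
      rw [hxy, hk1, pow_one, hl2] at hz
      apply hy
      rw [hl2]
      refine ⟨z, ?_⟩
      apply cancel 2 (by norm_num)
      push_cast
      push_cast at hz
      rw [hz]; ring
  · exfalso
    obtain ⟨c, hc⟩ := Polynomial.powAddExpansion (1 : E) x l
    rw [hwx, hc, one_pow, one_pow, mul_one] at hw
    -- l x = - c x^2
    have h1 : (l : E) * x = -(c * x ^ 2) := by linear_combination hw
    rw [hxy] at h1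
    have h2 : (p : E) ^ k * ((l : E) * y) = (p : E) ^ k * (-(c * (p : E) ^ k * y ^ 2)) := by
      linear_combination h1
    have h3 := cancel_pow p k hp0 h2
    have h4 : (p : E) ∣ (l : E) * y := by
      rw [h3]
      obtain ⟨k', rfl⟩ : ∃ k', k = k' + 1 := ⟨k - 1, by omega⟩
      exact ⟨-(c * (p : E) ^ k' * y ^ 2), by rw [pow_succ]; ring⟩
    have hcop : IsCoprime (l : ℤ) (p : ℤ) := by
      rw [Nat.isCoprime_iff_coprime]
      exact (Nat.coprime_primes hl hp).mpr hlp
    obtain ⟨a, b, hab⟩ := hcop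
    apply hy
    obtain ⟨t, ht⟩ := h4
    refine ⟨(a : E) * t + (b : E) * y, ?_⟩
    have hab' : (a : E) * (l : E) + (b : E) * (p : E) = 1 := by
      have := congrArg (Int.cast : ℤ → E) hab
      push_cast at this
      exact this
    calc y = ((a : E) * (l : E) + (b : E) * (p : E)) * y := by rw [hab', one_mul]
      _ = (a : E) * ((l : E) * y) + (b : E) * (p : E) * y := by ring
      _ = (p : E) * ((a : E) * t + (b : E) * y) := by rw [ht]; ring

theorem main (u : E) (m : ℕ) (hm : 0 < m) (hu : u ^ m = 1) (n : ℕ) (hn : 2 ≤ n)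
    (hcong : ∃ v : E, 1 - u = (n : E) * v) : u ^ 2 = 1 ∧ (3 ≤ n → u = 1) := by
  obtain ⟨v, hv⟩ := hcong
  have hnu : (n : E) ∣ u - 1 := ⟨-v, by linear_combination -hv⟩
  have hpow : ∀ k : ℕ, (n : E) ∣ u ^ k - 1 := fun k =>
    hnu.trans (by simpa using sub_dvd_pow_sub_pow u 1 k)
  set d := orderOf u with hd
  have hfin : IsOfFinOrder u := isOfFinOrder_iff_pow_eq_one.mpr ⟨m, hm, hu⟩
  have hd0 : 0 < d := hfin.orderOf_pos
  have core : ∀ l : ℕ, l.Prime → l ∣ d → ∀ p : ℕ, p.Prime → p ∣ n →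
      l = 2 ∧ p = 2 ∧ ¬ (4 ∣ n) := by
    intro l hl hld p hp hpn
    have hwl : (u ^ (d / l)) ^ l = 1 := by
      rw [← pow_mul, Nat.div_mul_cancel hld]; exact pow_orderOf_eq_one u
    have hw1 : u ^ (d / l) ≠ 1 := by
      apply pow_ne_one_of_lt_orderOf
      · exact (Nat.div_pos (Nat.le_of_dvd hd0 hld) hl.pos).ne'
      · exact Nat.div_lt_self hd0 hl.one_lt
    have hpw : (p : E) ∣ u ^ (d / l) - 1 := (Nat.cast_dvd_cast (α := E) hpn).trans (hpow _)
    obtain ⟨h1, h2, h3⟩ := key p l hp hl _ hwl hw1 hpw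
    refine ⟨h1, h2, fun h4 => h3 ?_⟩
    have h5 : ((4 : ℕ) : E) ∣ (n : E) := Nat.cast_dvd_cast h4
    have h6 : (4 : E) ∣ (n : E) := by exact_mod_cast h5
    exact h6.trans (hpow _)
  have hge3 : 3 ≤ n → u = 1 := by
    intro h3
    by_contra hne
    have hd1 : d ≠ 1 := fun h => hne (orderOf_eq_one_iff.mp h)
    obtain ⟨l, hl, hld⟩ := Nat.exists_prime_and_dvd hd1
    obtain ⟨p, hp, hpn⟩ := Nat.exists_prime_and_dvd (show n ≠ 1 by omega)
    have hall : ∀ {q}, Nat.Prime q → q ∣ n → q = 2 := fun hq hqn => (core l hl hld _ hq hqn).2.1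
    have hn2 := Nat.eq_prime_pow_of_unique_prime_dvd (by omega) hall
    have he : 2 ≤ n.primeFactorsList.length := by
      by_contra hlt
      have : n.primeFactorsList.length = 0 ∨ n.primeFactorsList.length = 1 := by omega
      rcases this with h | h <;> rw [h] at hn2 <;> omega
    have h4 : 4 ∣ n := by
      rw [hn2]; exact pow_dvd_pow 2 he
    exact (core l hl hld p hp hpn).2.2 h4
  refine ⟨?_, hge3⟩
  by_cases h3 : 3 ≤ n
  · rw [hge3 h3, one_pow]
  · have hn2 : n = 2 := by omega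
    subst hn2
    by_contra hne
    have hd2 : ¬ d ∣ 2 := fun h => hne (orderOf_dvd_iff_pow_eq_one.mp h)
    have hall : ∀ {q}, Nat.Prime q → q ∣ d → q = 2 :=
      fun hq hqd => (core _ hq hqd 2 Nat.prime_two (dvd_refl 2)).1
    have hdpow := Nat.eq_prime_pow_of_unique_prime_dvd hd0.ne' hall
    have hs : 2 ≤ d.primeFactorsList.length := by
      by_contra hlt
      apply hd2
      have : d.primeFactorsList.length = 0 ∨ d.primeFactorsList.length = 1 := by omega
      rcases this with h | h <;> rw [h] at hdpow <;> rw [hdpow] <;> norm_num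
    have h4d : 4 ∣ d := by
      rw [hdpow]; exact pow_dvd_pow 2 hs
    have hw : ((u ^ (d / 4)) ^ 2) ^ 2 = 1 := by
      rw [← pow_mul, ← pow_mul, show d / 4 * (2 * 2) = d / 4 * 4 by norm_num,
        Nat.div_mul_cancel h4d]; exact pow_orderOf_eq_one u
    have hdpos : 0 < d / 4 := Nat.div_pos (Nat.le_of_dvd hd0 h4d) (by norm_num)
    have hd4 := Nat.div_mul_cancel h4d
    have hw1 : (u ^ (d / 4)) ^ 2 ≠ 1 := by
      rw [← pow_mul]
      apply pow_ne_one_of_lt_orderOf
      · omega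
      · omega
    obtain ⟨y, hy⟩ := hpow (d / 4)
    have hw' : u ^ (d / 4) = 1 + 2 * y := by
      push_cast at hy
      linear_combination hy
    have h4w : (4 : E) ∣ (u ^ (d / 4)) ^ 2 - 1 := ⟨y + y ^ 2, by rw [hw']; ring⟩
    have h2w : ((2 : ℕ) : E) ∣ (u ^ (d / 4)) ^ 2 - 1 := by
      push_cast
      exact (show (2 : E) ∣ 4 from ⟨2, by norm_num⟩).trans h4w
    exact (key 2 2 Nat.prime_two Nat.prime_two _ hw hw1 h2w).2.2 h4w

end Groth.Agent.Helper6.Mink
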