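import Mathlib
import Groth.Prelude.Def_W4c5qllcourbesmultMultCrv

set_option linter.unusedSectionVars false
set_option linter.unusedVariables false
set_option autoImplicit false
set_option maxHeartbeats 400000

noncomputable section

namespace Groth.Agent.Lib.Helper6.MultCrvSES

open MultCrv Polynomial

universe u

variable (R : Type u) [CommRing R] (n : ℕ) (M : Type u) [AddCommGroup M] [Module (Rn R n) M]

theorem z_pow_n : (z R n) ^ n = 0 := by
  change (Ideal.Quotient.mk (Ideal.span {(X : R[X]) ^ n}) X) ^ n = 0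
  rw [← map_pow, Ideal.Quotient.eq_zero_iff_mem]
  exact Ideal.subset_span rfl

variable {R n M}

theorem mem_filt_iff (i : ℕ) (v : M) : v ∈ filt R n M i ↔ ∃ w : M, (z R n) ^ i • w = v := Iff.rfl

theorem mem_filt2_iff (i : ℕ) (v : M) : v ∈ filt2 R n M i ↔ (z R n) ^ i • v = 0 := Iff.rfl

variable (R n M)

/-- multiplication by `z` : `z^i M → z^(i+1) M`. -/
def zUp (i : ℕ) : ↥(filt R n M i) →ₗ[Rn R n] ↥(filt R n M (i + 1)) :=
  ((z R n • (LinearMap.id : M →ₗ[Rn R n] M)).domRestrict (filt R n M i)).codRestrict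
    (filt R n M (i + 1)) (fun u => by
      obtain ⟨u, w, hw⟩ := u
      refine ⟨w, ?_⟩
      change z R n ^ (i + 1) • w = z R n • u
      rw [← hw]
      change z R n ^ (i + 1) • w = z R n • (z R n ^ i • w)
      rw [smul_smul, ← pow_succ'])

@[simp] lemma zUp_coe (i : ℕ) (u : ↥(filt R n M i)) : ((zUp R n M i u : ↥(filt R n M (i + 1))) : M) = z R n • (u : M) := rfl

/-- `π_i : G_i → G_{i+1}` induced by `z`. -/
def piG (i : ℕ) : G1 R n M i →ₗ[Rn R n] G1 R n M (i + 1) :=
  Submodule.mapQ _ _ (zUp R n M i) (by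
    intro u hu
    rw [Submodule.mem_comap] at hu ⊢
    obtain ⟨w, hw⟩ := hu
    refine ⟨w, ?_⟩
    change z R n ^ (i + 1 + 1) • w = z R n • (u : M)
    rw [show ((filt R n M i).subtype u : M) = (u : M) from rfl] at hw
    rw [← hw]
    change z R n ^ (i + 1 + 1) • w = z R n • (z R n ^ (i + 1) • w)
    rw [smul_smul, ← pow_succ'])

/-- multiplication by `z^i` : `M^(i+1) → z^i M`. -/
def zPow (i : ℕ) : ↥(filt2 R n M (i + 1)) →ₗ[Rn R n] ↥(filt R n M i) :=
  ((z R n ^ i • (LinearMap.id : M →ₗ[Rn R n] M)).domRestrict (filt2 R n M (i + 1))).codRestrict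
    (filt R n M i) (fun u => ⟨(u : M), rfl⟩)

@[simp] lemma zPow_coe (i : ℕ) (u : ↥(filt2 R n M (i + 1))) :
    ((zPow R n M i u : ↥(filt R n M i)) : M) = z R n ^ i • (u : M) := rfl

/-- `G^(i+1) → G_i` induced by `z^i`. -/
def iotaG2 (i : ℕ) : G2 R n M (i + 1) →ₗ[Rn R n] G1 R n M i :=
  Submodule.liftQ _ ((Submodule.mkQ _) ∘ₗ zPow R n M i) (by
    intro u hu
    rw [Submodule.mem_comap] at hu
    have e : i + 1 - 1 = i := by omega
    rw [e] at hu
    have hu' : z R n ^ i • (u : M) = 0 := hu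
    rw [LinearMap.mem_ker, LinearMap.comp_apply, Submodule.mkQ_apply, Submodule.Quotient.mk_eq_zero,
      Submodule.mem_comap]
    change z R n ^ i • (u : M) ∈ _
    rw [hu']
    exact Submodule.zero_mem _)

lemma iotaG2_mk (i : ℕ) (u : ↥(filt2 R n M (i + 1))) :
    iotaG2 R n M i (Submodule.Quotient.mk u) = Submodule.Quotient.mk (zPow R n M i u) := rfl

/-- `ι_i : Γ^(i) → G_i`. -/
def iotaG (i : ℕ) : Gam2 R n M i →ₗ[Rn R n] G1 R n M i :=
  Submodule.liftQ _ (iotaG2 R n M i) (by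
    rintro _ ⟨y, rfl⟩
    obtain ⟨u, rfl⟩ := Submodule.Quotient.mk_surjective _ y
    rw [LinearMap.mem_ker]
    have h1 : lamG2 R n M i (Submodule.Quotient.mk u) =
        Submodule.Quotient.mk (zDown R n M (i + 1) u) := rfl
    rw [h1, iotaG2_mk, Submodule.Quotient.mk_eq_zero, Submodule.mem_comap]
    refine ⟨(u : M), ?_⟩
    change z R n ^ (i + 1) • (u : M) = z R n ^ i • (z R n • (u : M))
    rw [smul_smul, ← pow_succ])

lemma iotaG_mk (i : ℕ) (y : G2 R n M (i + 1)) :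
    iotaG R n M i (Submodule.Quotient.mk y) = iotaG2 R n M i y := rfl

lemma iotaG_injective (i : ℕ) : Function.Injective (iotaG R n M i) := by
  rw [← LinearMap.ker_eq_bot, LinearMap.ker_eq_bot']
  intro x hx
  obtain ⟨y, rfl⟩ := Submodule.Quotient.mk_surjective _ x
  obtain ⟨u, rfl⟩ := Submodule.Quotient.mk_surjective _ y
  rw [iotaG_mk, iotaG2_mk, Submodule.Quotient.mk_eq_zero, Submodule.mem_comap] at hx
  obtain ⟨m, hm⟩ := hx
  -- hm : z^(i+1) m = z^i u
  have hm' : z R n ^ (i + 1) • m = z R n ^ i • (u : M) := hm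
  have hu : z R n ^ (i + 1) • (u : M) = 0 := u.2
  -- m ∈ K_{i+2}
  have hm2 : m ∈ filt2 R n M (i + 2) := by
    rw [mem_filt2_iff, pow_succ', mul_smul, hm', smul_smul, ← pow_succ', hu]
  -- u - z m ∈ K_i
  have hk : (u : M) - z R n • m ∈ filt2 R n M i := by
    rw [mem_filt2_iff, smul_sub, smul_smul, ← pow_succ, hm', sub_self]
  have hzm : z R n • m ∈ filt2 R n M (i + 1) := by
    rw [mem_filt2_iff, smul_smul, ← pow_succ]
    exact hm2
  rw [Submodule.Quotient.mk_eq_zero]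
  refine ⟨Submodule.Quotient.mk ⟨m, hm2⟩, ?_⟩
  have h1 : lamG2 R n M i (Submodule.Quotient.mk ⟨m, hm2⟩) =
      Submodule.Quotient.mk (zDown R n M (i + 1) ⟨m, hm2⟩) := rfl
  rw [h1]
  symm
  rw [Submodule.Quotient.eq, Submodule.mem_comap]
  have e : i + 1 - 1 = i := by omega
  rw [e]
  exact hk

lemma exists_of_piG_eq_zero (i : ℕ) (x : G1 R n M i) (hx : piG R n M i x = 0) :
    ∃ y, iotaG R n M i y = x := by
  obtain ⟨v, rfl⟩ := Submodule.Quotient.mk_surjective _ x
  have h1 : piG R n M i (Submodule.Quotient.mk v) = Submodule.Quotient.mk (zUp R n M i v) := rfl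
  rw [h1, Submodule.Quotient.mk_eq_zero, Submodule.mem_comap] at hx
  obtain ⟨m', hm'⟩ := hx
  have hm'' : z R n ^ (i + 1 + 1) • m' = z R n • (v : M) := hm'
  obtain ⟨m, hm⟩ := v.2
  have hmv : z R n ^ i • m = (v : M) := hm
  -- u := m - z m' ∈ K_{i+1}
  have hu : m - z R n • m' ∈ filt2 R n M (i + 1) := by
    rw [mem_filt2_iff, smul_sub, smul_smul, ← pow_succ, hm'', ← hmv, smul_smul, ← pow_succ',
      sub_self]
  refine ⟨Submodule.Quotient.mk (Submodule.Quotient.mk ⟨m - z R n • m', hu⟩), ?_⟩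
  rw [iotaG_mk, iotaG2_mk, Submodule.Quotient.eq, Submodule.mem_comap]
  refine ⟨-m', ?_⟩
  change z R n ^ (i + 1) • (-m') = z R n ^ i • (m - z R n • m') - (v : M)
  rw [smul_sub, hmv, smul_neg, smul_smul, ← pow_succ]
  abel

lemma subsingleton_G1 (i : ℕ) (hi : n ≤ i) : Subsingleton (G1 R n M i) := by
  have h0 : filt R n M i = ⊥ := by
    rw [eq_bot_iff]
    rintro _ ⟨w, rfl⟩
    change z R n ^ i • w ∈ _
    obtain ⟨k, rfl⟩ := Nat.exists_eq_add_of_le hi
    have h1 : z R n ^ (n + k) = 0 := by rw [pow_add, z_pow_n, zero_mul]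
    have h2 : z R n ^ (n + k) • w = 0 := by rw [h1]; exact zero_smul (Rn R n) w
    rw [h2]
    exact Submodule.zero_mem _
  have : Subsingleton ↥(filt R n M i) := by
    rw [h0]; infer_instance
  infer_instance

end Groth.Agent.Lib.Helper6.MultCrvSES
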