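import Mathlib
set_option autoImplicit false
namespace Groth.Agent.Lib.Helper6.NewtonPoly
open Finset

lemma sum_range_cast (b : ℕ) : ∑ i ∈ range b, (i : ℝ) = (b : ℝ) * ((b : ℝ) - 1) / 2 := by
  induction b with
  | zero => simp
  | succ b ih =>
    rw [sum_range_succ, ih]
    push_cast
    ring

/-- the strengthened inductive statement -/
def Good (n : ℕ) (p : ℕ → ℝ) : Prop :=
  ∃ (l : ℕ) (s : ℕ → ℕ) (L : ℕ → ℝ), s 0 = 0 ∧ s l = n ∧ (∀ k, k < l → s k < s (k + 1)) ∧
    (∑ k ∈ range l, (p (s k) - p (s (k + 1))) * ((s k : ℝ) + (s (k + 1) : ℝ))) =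
      2 * ∑ i ∈ range (n + 1), L i - p 0 ∧
    (∀ i, i ≤ n → L i ≤ p i) ∧ (∀ i, i ≤ n → L i ≤ p 0 * ((n : ℝ) - i) / n)

theorem good : ∀ (n : ℕ), 1 ≤ n → ∀ p : ℕ → ℝ, (∀ i j : ℕ, i ≤ j → j ≤ n → p j ≤ p i) → p n = 0 →
    Good n p := by
  intro n
  induction n using Nat.strong_induction_on with
  | _ n ih =>
  intro hn p hp hpn
  have hnpos : (0 : ℝ) < n := by exact_mod_cast hn
  -- choose `b` minimizing the slope
  have hne : (Finset.Icc 1 n).Nonempty := ⟨1, Finset.mem_Icc.2 ⟨le_rfl, hn⟩⟩
  obtain ⟨b, hbmem, hbmin⟩ := Finset.exists_min_image (Finset.Icc 1 n)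
    (fun b => (p b - p 0) / (b : ℝ)) hne
  rw [Finset.mem_Icc] at hbmem
  obtain ⟨hb1, hbn⟩ := hbmem
  have hbpos : (0 : ℝ) < b := by exact_mod_cast hb1
  set m : ℝ := (p b - p 0) / (b : ℝ) with hm
  have hslope : ∀ i, 1 ≤ i → i ≤ n → p 0 + m * i ≤ p i := by
    intro i hi1 hin
    have hipos : (0 : ℝ) < i := by exact_mod_cast hi1
    have := hbmin i (Finset.mem_Icc.2 ⟨hi1, hin⟩)
    have h2 : m * i ≤ p i - p 0 := by
      have := mul_le_mul_of_nonneg_right this hipos.le
      rwa [div_mul_cancel₀ _ hipos.ne'] at this
    linarith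
  have hslope0 : ∀ i, i ≤ n → p 0 + m * i ≤ p i := by
    intro i hin
    rcases Nat.eq_zero_or_pos i with rfl | hi
    · simp
    · exact hslope i hi hin
  have hmn : m ≤ -p 0 / n := by
    have := hbmin n (Finset.mem_Icc.2 ⟨hn, le_rfl⟩)
    simp only [hpn, zero_sub] at this
    exact this
  have hmb : p b = p 0 + m * b := by
    rw [hm, div_mul_cancel₀ _ hbpos.ne']; ring
  rcases hbn.eq_or_lt with rfl | hblt
  · -- the chord
    refine ⟨1, fun k => if k = 0 then 0 else b, fun i => p 0 * ((b : ℝ) - i) / b, by simp, by simp,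
      ?_, ?_, ?_, ?_⟩
    · intro k hk
      have : k = 0 := by omega
      subst this
      simp only [if_true, zero_add, one_ne_zero, if_false]
      omega
    · simp only [range_one, sum_singleton, if_true, zero_add, one_ne_zero, if_false, hpn, sub_zero,
        Nat.cast_zero]
      have h1 : ∑ i ∈ range (b + 1), p 0 * ((b : ℝ) - i) / b =
          p 0 / b * (((b : ℝ) + 1) * b - (b : ℝ) * ((b : ℝ) + 1) / 2) := by
        have : ∀ i ∈ range (b + 1), p 0 * ((b : ℝ) - i) / b = p 0 / b * ((b : ℝ) - (i : ℝ)) := by
          intro i _; ring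
        rw [sum_congr rfl this, ← mul_sum, sum_sub_distrib, sum_range_cast]
        simp only [sum_const, card_range, nsmul_eq_mul]
        push_cast
        ring
      rw [h1]
      field_simp
      ring
    · intro i hin
      have := hslope0 i hin
      have h2 : p 0 * ((b : ℝ) - i) / b = p 0 + (-p 0 / b) * i := by
        field_simp
        ring
      show p 0 * ((b : ℝ) - i) / b ≤ p i
      rw [h2]
      have hipos : (0 : ℝ) ≤ i := Nat.cast_nonneg i
      have hmeq : m = -p 0 / b := by
        rw [hm, hpn]; ring
      rw [← hmeq]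
      exact this
    · intro i _
      exact le_rfl
  · -- recursive case
    have hn' : n - b < n := by omega
    have hn'1 : 1 ≤ n - b := by omega
    set n' := n - b with hn'def
    have hnn' : (n : ℝ) = (n' : ℝ) + b := by
      have : n = n' + b := by omega
      exact_mod_cast this
    have hn'pos : (0 : ℝ) < n' := by exact_mod_cast hn'1
    obtain ⟨l', s', L', hs0, hsl, hmono, hT, hLp, hLc⟩ := ih n' hn' hn'1 (fun i => p (b + i))
      (fun i j hij hj => hp (b + i) (b + j) (by omega) (by omega))
      (by show p (b + n') = 0; rw [show b + n' = n by omega]; exact hpn)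
    simp only [add_zero] at hT hLc
    refine ⟨l' + 1, fun k => if k = 0 then 0 else s' (k - 1) + b,
      fun i => if i < b then p 0 + m * i else L' (i - b), by simp, ?_, ?_, ?_, ?_, ?_⟩
    · simp only [Nat.add_eq_zero_iff, one_ne_zero, and_false, if_false, Nat.add_sub_cancel, hsl]
      omega
    · intro k hk
      rcases Nat.eq_zero_or_pos k with rfl | hkpos
      · simp only [if_true, zero_add, one_ne_zero, if_false, Nat.sub_self, hs0]
        omega
      · have h1 : k ≠ 0 := by omega
        have h2 : k + 1 ≠ 0 := by omega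
        simp only [h1, h2, if_false, Nat.add_sub_cancel]
        have := hmono (k - 1) (by omega)
        rw [Nat.sub_add_cancel hkpos] at this
        omega
    · rw [sum_range_succ']
      simp only [Nat.add_eq_zero_iff, one_ne_zero, and_false, if_false, Nat.add_sub_cancel, if_true,
        zero_add, Nat.sub_self, hs0, Nat.cast_zero]
      have hterm : ∀ k ∈ range l',
          (p (s' k + b) - p (s' (k + 1) + b)) * (((s' k + b : ℕ) : ℝ) + ((s' (k + 1) + b : ℕ) : ℝ)) =
          (p (b + s' k) - p (b + s' (k + 1))) * ((s' k : ℝ) + (s' (k + 1) : ℝ)) +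
            2 * b * (p (b + s' k) - p (b + s' (k + 1))) := by
        intro k _
        rw [add_comm (s' k) b, add_comm (s' (k + 1)) b]
        push_cast
        ring
      rw [sum_congr rfl hterm, sum_add_distrib, hT, ← mul_sum, sum_range_sub', hs0, hsl,
        show b + n' = n by omega, hpn, add_zero]
      have hsplit : ∑ i ∈ range (n + 1), (if i < b then p 0 + m * (i : ℝ) else L' (i - b)) =
          ∑ i ∈ range b, (p 0 + m * (i : ℝ)) + ∑ j ∈ range (n' + 1), L' j := by
        rw [show n + 1 = b + (n' + 1) by omega, sum_range_add]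
        congr 1
        · refine sum_congr rfl fun i hi => ?_
          rw [if_pos (mem_range.1 hi)]
        · refine sum_congr rfl fun j _ => ?_
          rw [if_neg (by omega), Nat.add_sub_cancel_left]
      rw [hsplit, sum_add_distrib, ← mul_sum, sum_range_cast]
      simp only [sum_const, card_range, nsmul_eq_mul]
      have hmb' : m * b = p b - p 0 := by rw [hmb]; ring
      have : m * ((b : ℝ) * ((b : ℝ) - 1) / 2) = (p b - p 0) * ((b : ℝ) - 1) / 2 := by
        rw [← hmb']; ring
      rw [this]
      ring
    · intro i hin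
      by_cases hib : i < b
      · simp only [hib, if_true]
        exact hslope0 i hin
      · simp only [hib, if_false]
        have := hLp (i - b) (by omega)
        have h3 : p (b + (i - b)) = p i := by rw [show b + (i - b) = i by omega]
        rw [← h3]
        exact this
    · intro i hin
      by_cases hib : i < b
      · simp only [hib, if_true]
        have hipos : (0 : ℝ) ≤ i := Nat.cast_nonneg i
        have h1 : m * i ≤ -p 0 / n * i := mul_le_mul_of_nonneg_right hmn hipos
        have h2 : p 0 * ((n : ℝ) - i) / n = p 0 + -p 0 / n * i := by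
          field_simp
          ring
        rw [h2]
        linarith
      · simp only [hib, if_false]
        have hj := hLc (i - b) (by omega)
        have hcast : ((i - b : ℕ) : ℝ) = (i : ℝ) - b := by
          rw [Nat.cast_sub (by omega)]
        rw [hcast] at hj
        have hpb : p b ≤ p 0 * n' / n := by
          rw [hmb]
          have h1 : m * b ≤ -p 0 / n * b := mul_le_mul_of_nonneg_right hmn hbpos.le
          have h2 : p 0 * n' / n = p 0 + -p 0 / n * b := by
            rw [hnn']
            field_simp
            ring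
          rw [h2]
          linarith
        have hnonneg : (0 : ℝ) ≤ (n' : ℝ) - ((i : ℝ) - b) := by
          have : (i : ℝ) ≤ n := by exact_mod_cast hin
          rw [hnn'] at this
          linarith
        calc L' (i - b) ≤ p b * ((n' : ℝ) - ((i : ℝ) - b)) / n' := hj
          _ ≤ (p 0 * n' / n) * ((n' : ℝ) - ((i : ℝ) - b)) / n' := by
            apply div_le_div_of_nonneg_right _ hn'pos.le
            exact mul_le_mul_of_nonneg_right hpb hnonneg
          _ = p 0 * ((n : ℝ) - i) / n := by
            rw [hnn']
            field_simp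
            ring

end Groth.Agent.Lib.Helper6.NewtonPoly
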