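import Mathlib

/-! Nilpotent Nakayama and finite type / finite presentation modulo a nilpotent ideal. -/

namespace Groth.Agent.Lib.Helper6.NilFP

open TensorProduct

theorem nak {R M : Type*} [CommRing R] [AddCommGroup M] [Module R M] (I : Ideal R)
    (hI : IsNilpotent I) (N N' : Submodule R M) (h : N' ≤ N ⊔ I • N') : N' ≤ N := by
  obtain ⟨k, hk⟩ := hI
  have key : ∀ j : ℕ, N' ≤ N ⊔ I ^ j • N' := by
    intro j
    induction j with
    | zero => simp
    | succ j ih =>
      calc N' ≤ N ⊔ I ^ j • N' := ih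
        _ ≤ N ⊔ I ^ j • (N ⊔ I • N') := sup_le_sup_left (Submodule.smul_mono le_rfl h) _
        _ = N ⊔ (I ^ j • N ⊔ I ^ j • (I • N')) := by rw [Submodule.smul_sup]
        _ ≤ N ⊔ I ^ (j+1) • N' := by
            rw [← Submodule.mul_smul, ← pow_succ]
            exact sup_le le_sup_left (sup_le (le_sup_of_le_left Submodule.smul_le_right) le_sup_right)
  have := key k
  rw [hk] at this
  simpa using this

theorem flat_inter {A N C : Type*} [CommRing A] [AddCommGroup N] [Module A N] [AddCommGroup C]
    [Module A C] [Module.Flat A C] (f : N →ₗ[A] C) (hf : Function.Surjective f) (n : Ideal A) (x : N)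
    (hx : x ∈ LinearMap.ker f) (hxn : x ∈ n • (⊤ : Submodule A N)) : x ∈ n • LinearMap.ker f := by
  have hinj := LinearMap.lTensor_injective_of_exact_of_flat f hf (LinearMap.ker f).subtype
    (LinearMap.ker f).subtype_injective (LinearMap.exact_subtype_ker_map f) (A ⧸ n)
  have h0 : ((1 : A ⧸ n) ⊗ₜ[A] (⟨x, hx⟩ : LinearMap.ker f)) = 0 := by
    apply hinj
    rw [map_zero, LinearMap.lTensor_tmul]
    apply (TensorProduct.quotTensorEquivQuotSMul N n).injective
    rw [map_zero, TensorProduct.quotTensorEquivQuotSMul_mk_one_tmul]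
    exact (Submodule.Quotient.mk_eq_zero _).mpr hxn
  have h1 := congrArg (TensorProduct.quotTensorEquivQuotSMul (LinearMap.ker f) n) h0
  rw [map_zero, TensorProduct.quotTensorEquivQuotSMul_mk_one_tmul,
    Submodule.Quotient.mk_eq_zero] at h1
  have h2 : x ∈ (n • (⊤ : Submodule A (LinearMap.ker f))).map (LinearMap.ker f).subtype :=
    ⟨⟨x, hx⟩, h1, rfl⟩
  rwa [Submodule.map_smul'', Submodule.map_top, Submodule.range_subtype] at h2

end Groth.Agent.Lib.Helper6.NilFP
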