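import Mathlib

/-! Non-liftability of `k[x,y]/(Σ x_i y_i, x_i^p, y_i^p)` over `W₂(k)`: the polynomial part (helper6). -/

set_option autoImplicit false
universe u
open MvPolynomial

namespace Groth.Agent.Lib.Helper6.NoLiftQuadric

variable (p : ℕ) [hp : Fact p.Prime] (n : ℕ)

/-- the integer polynomial `Φ = ((Σ X_i)^p - Σ X_i^p)/p`. -/
theorem exists_Phi : ∃ Φ : MvPolynomial (Fin n) ℤ,
    (∑ i, X i) ^ p - ∑ i, (X i : MvPolynomial (Fin n) ℤ) ^ p = C (p : ℤ) * Φ := by
  have : C (p : ℤ) ∣ (∑ i, X i) ^ p - ∑ i, (X i : MvPolynomial (Fin n) ℤ) ^ p := by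
    rw [MvPolynomial.C_dvd_iff_zmod]
    simp only [map_sub, map_pow, map_sum, map_X]
    rw [sum_pow_char, sub_self]
  exact this

/-- a chosen `Φ` -/
noncomputable def Phi : MvPolynomial (Fin n) ℤ := (exists_Phi p n).choose

theorem Phi_spec : (∑ i, X i) ^ p - ∑ i, (X i : MvPolynomial (Fin n) ℤ) ^ p = C (p : ℤ) * Phi p n :=
  (exists_Phi p n).choose_spec

/-- the identity evaluated in any commutative ring -/
theorem sum_pow_eq {R : Type*} [CommRing R] (T : Fin n → R) :
    (∑ i, T i) ^ p = ∑ i, T i ^ p + (p : R) * aeval T (Phi p n) := by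
  have := congrArg (aeval T) (Phi_spec p n)
  simp only [map_sub, map_pow, map_sum, aeval_X, map_mul, aeval_C, algebraMap_int_eq,
    eq_intCast, Int.cast_natCast, map_natCast] at this
  rw [← this]; ring

/-- coefficient of `s^(p-1) Φ` at an exponent `a` with all entries `< p` and total `2p-1` -/
theorem p_mul_coeff (a : Fin n →₀ ℕ) (ha : ∀ i, a i < p) (hsum : a.sum (fun _ m => m) = 2 * p - 1) :
    (p : ℤ) * coeff a ((∑ i, X i) ^ (p - 1) * Phi p n) = (a.multinomial : ℤ) := by
  have hp1 : 1 ≤ p := hp.out.one_lt.le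
  have h1 : C (p : ℤ) * ((∑ i, X i) ^ (p - 1) * Phi p n) =
      (∑ i, X i) ^ (2 * p - 1) - ∑ i, (∑ j, X j) ^ (p - 1) * (X i : MvPolynomial (Fin n) ℤ) ^ p := by
    rw [mul_left_comm, ← Phi_spec, mul_sub, ← pow_add, Finset.mul_sum]
    congr 2
    omega
  have h2 := congrArg (coeff a) h1
  rw [coeff_C_mul, coeff_sub, coeff_sum_X_pow_of_fintype, if_pos hsum, coeff_sum] at h2
  rw [h2]
  have h3 : ∀ i : Fin n, coeff a ((∑ j, X j) ^ (p - 1) * (X i : MvPolynomial (Fin n) ℤ) ^ p) = 0 := by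
    intro i
    rw [X_pow_eq_monomial, coeff_mul_monomial', if_neg]
    intro hle
    have := hle i
    simp only [Finsupp.single_eq_same] at this
    exact absurd (ha i) (not_lt.2 this)
  rw [Finset.sum_eq_zero (fun i _ => h3 i), sub_zero]


theorem padicVal_factorial : padicValNat p (2 * p - 1).factorial = 1 := by
  have hp1 : 1 ≤ p := hp.out.one_lt.le
  have h : 2 * p - 1 = p * 1 + (p - 1) := by omega
  rw [h, padicValNat_factorial_mul_add 1 (by omega : p - 1 < p), padicValNat_factorial_mul]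
  simp

theorem not_dvd_of_mul_eq (a : Fin n →₀ ℕ) (ha : ∀ i, a i < p)
    (hsum : a.sum (fun _ m => m) = 2 * p - 1) (c : ℤ) (hc : (p : ℤ) * c = (a.multinomial : ℤ)) :
    ¬ (p : ℤ) ∣ c := by
  rintro ⟨d, rfl⟩
  have hspec := Nat.multinomial_spec Finset.univ (a : Fin n → ℕ)
  rw [← Finsupp.multinomial_eq_of_support_subset (Finset.subset_univ _)] at hspec
  have hsum' : ∑ i, a i = 2 * p - 1 := by
    rw [← hsum, Finsupp.sum_fintype]; intro i; rfl
  rw [hsum'] at hspec
  -- p^2 ∣ multinomial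
  have h2 : (p : ℤ) ^ 2 ∣ (a.multinomial : ℤ) := ⟨d, by rw [← hc]; ring⟩
  have h2' : p ^ 2 ∣ a.multinomial := by exact_mod_cast h2
  have h3 : p ^ 2 ∣ (2 * p - 1).factorial := by
    rw [← hspec]; exact Dvd.dvd.mul_left h2' _
  have h4 := (padicValNat_dvd_iff_le (p := p) (Nat.factorial_ne_zero _)).1 h3
  rw [padicVal_factorial] at h4
  omega


section Field

variable (k : Type u) [Field k] [CharP k p]

/-- `t_i = x_{i0} x_{i1}` -/
noncomputable def tt (i : Fin n) : MvPolynomial (Fin n × Fin 2) k := X (i, 0) * X (i, 1)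

/-- doubling of exponents -/
noncomputable def dbl (a : Fin n →₀ ℕ) : (Fin n × Fin 2) →₀ ℕ :=
  a.mapDomain (fun i => (i, (0 : Fin 2))) + a.mapDomain (fun i => (i, (1 : Fin 2)))

theorem dbl_apply (a : Fin n →₀ ℕ) (i : Fin n) (j : Fin 2) : dbl n a (i, j) = a i := by
  have inj0 : Function.Injective (fun i : Fin n => (i, (0 : Fin 2))) := fun x y h => by
    simpa using h
  have inj1 : Function.Injective (fun i : Fin n => (i, (1 : Fin 2))) := fun x y h => by
    simpa using h
  unfold dbl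
  rw [Finsupp.add_apply]
  fin_cases j
  · have h1 : (a.mapDomain (fun i => (i, (0 : Fin 2)))) (i, 0) = a i :=
      Finsupp.mapDomain_apply inj0 a i
    have h2 : (a.mapDomain (fun i => (i, (1 : Fin 2)))) (i, 0) = 0 := by
      apply Finsupp.mapDomain_notin_range
      rintro ⟨x, hx⟩
      simp at hx
    simp only [Fin.zero_eta, Fin.isValue]
    rw [h1, h2, add_zero]
  · have h1 : (a.mapDomain (fun i => (i, (1 : Fin 2)))) (i, 1) = a i :=
      Finsupp.mapDomain_apply inj1 a i
    have h2 : (a.mapDomain (fun i => (i, (0 : Fin 2)))) (i, 1) = 0 := by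
      apply Finsupp.mapDomain_notin_range
      rintro ⟨x, hx⟩
      simp at hx
    simp only [Fin.mk_one, Fin.isValue]
    rw [h1, h2, zero_add]

theorem dbl_injective : Function.Injective (dbl n) := by
  intro a b h
  ext i
  rw [← dbl_apply n a i 0, ← dbl_apply n b i 0, h]

theorem prod_tt (b : Fin n →₀ ℕ) :
    (b.prod fun i e => tt n k i ^ e) = monomial (dbl n b) 1 := by
  unfold dbl tt
  rw [← one_mul (1 : k), ← monomial_mul]
  simp only [mul_pow]
  rw [Finsupp.prod_mul]
  congr 1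
  · rw [monomial_eq, C_1, one_mul, Finsupp.prod_mapDomain_index (by simp) (by intro _ _ _; rw [pow_add])]
  · rw [monomial_eq, C_1, one_mul, Finsupp.prod_mapDomain_index (by simp) (by intro _ _ _; rw [pow_add])]

/-- coefficients of `aeval t G` at doubled exponents -/
theorem coeff_dbl_aeval (G : MvPolynomial (Fin n) ℤ) (a : Fin n →₀ ℕ) :
    coeff (dbl n a) (aeval (tt n k) G) = ((coeff a G : ℤ) : k) := by
  induction G using MvPolynomial.induction_on' with
  | monomial b c =>
    rw [aeval_monomial, prod_tt, ← Algebra.smul_def, coeff_smul, coeff_monomial, coeff_monomial]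
    by_cases hab : b = a
    · subst hab; simp
    · rw [if_neg hab, if_neg (fun h => hab (dbl_injective n h))]; simp
  | add G1 G2 h1 h2 => rw [map_add, coeff_add, coeff_add, h1, h2, Int.cast_add]

/-- elements of `J = (x_v^p)` have zero coefficients at exponents with all entries `< p` -/
theorem coeff_eq_zero_of_mem_J (f : MvPolynomial (Fin n × Fin 2) k)
    (hf : f ∈ Ideal.span (Set.range fun v : Fin n × Fin 2 =>
      (X v : MvPolynomial (Fin n × Fin 2) k) ^ p))
    (m : (Fin n × Fin 2) →₀ ℕ) (hm : ∀ v, m v < p) : coeff m f = 0 := by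
  obtain ⟨c, rfl⟩ := (Ideal.mem_span_range_iff_exists_fun).1 hf
  rw [coeff_sum]
  refine Finset.sum_eq_zero fun v _ => ?_
  rw [X_pow_eq_monomial, coeff_mul_monomial', if_neg]
  intro hle
  have := hle v
  simp only [Finsupp.single_eq_same] at this
  exact absurd (hm v) (not_lt.2 this)

theorem exists_exponent (hn : 3 ≤ n) : ∃ a : Fin n →₀ ℕ, (∀ i, a i < p) ∧
    a.sum (fun _ m => m) = 2 * p - 1 := by
  have hp2 : 2 ≤ p := hp.out.two_le
  let i0 : Fin n := ⟨0, by omega⟩
  let i1 : Fin n := ⟨1, by omega⟩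
  let i2 : Fin n := ⟨2, by omega⟩
  have h01 : i0 ≠ i1 := by simp [i0, i1, Fin.ext_iff]
  have h02 : i0 ≠ i2 := by simp [i0, i2, Fin.ext_iff]
  have h12 : i1 ≠ i2 := by simp [i1, i2, Fin.ext_iff]
  refine ⟨Finsupp.single i0 (p - 1) + Finsupp.single i1 (p - 1) + Finsupp.single i2 1, ?_, ?_⟩
  · intro i
    simp only [Finsupp.add_apply, Finsupp.single_apply]
    by_cases e0 : i0 = i
    · subst e0
      rw [if_pos rfl, if_neg (Ne.symm h01), if_neg (Ne.symm h02)]; omega
    · by_cases e1 : i1 = i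
      · subst e1
        rw [if_neg e0, if_pos rfl, if_neg (Ne.symm h12)]; omega
      · rw [if_neg e0, if_neg e1]
        split_ifs <;> omega
  · rw [Finsupp.sum_add_index' (by simp) (by simp), Finsupp.sum_add_index' (by simp) (by simp),
      Finsupp.sum_single_index rfl, Finsupp.sum_single_index rfl, Finsupp.sum_single_index rfl]
    omega

theorem aeval_Phi_not_mem (hn : 3 ≤ n) :
    aeval (tt n k) (Phi p n) ∉ Ideal.span
      (insert (∑ i : Fin n, X (i, (0 : Fin 2)) * X (i, (1 : Fin 2)))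
        (Set.range fun v : Fin n × Fin 2 => (X v : MvPolynomial (Fin n × Fin 2) k) ^ p)) := by
  intro hmem
  rw [Ideal.mem_span_insert] at hmem
  obtain ⟨c, z, hz, heq⟩ := hmem
  set J := Ideal.span (Set.range fun v : Fin n × Fin 2 =>
    (X v : MvPolynomial (Fin n × Fin 2) k) ^ p) with hJ
  set q : MvPolynomial (Fin n × Fin 2) k := ∑ i : Fin n, X (i, (0 : Fin 2)) * X (i, (1 : Fin 2))
    with hq
  have hqp : q ^ p ∈ J := by
    rw [hq, sum_pow_char]
    refine Ideal.sum_mem _ fun i _ => ?_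
    rw [mul_pow]
    exact Ideal.mul_mem_right _ _ (Ideal.subset_span ⟨(i, 0), rfl⟩)
  have h1 : q ^ (p - 1) * aeval (tt n k) (Phi p n) ∈ J := by
    rw [heq, mul_add]
    refine Ideal.add_mem _ ?_ (Ideal.mul_mem_left _ _ hz)
    have : q ^ (p - 1) * (c * q) = c * q ^ p := by
      have hp1 : 1 ≤ p := hp.out.one_lt.le
      conv_rhs => rw [show p = (p - 1) + 1 by omega, pow_succ]
      ring
    rw [this]
    exact Ideal.mul_mem_left _ _ hqp
  obtain ⟨a, ha, hsum⟩ := exists_exponent p n hn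
  have h2 := coeff_eq_zero_of_mem_J p n k _ h1 (dbl n a) (fun v => by
    rw [show v = (v.1, v.2) from rfl, dbl_apply]; exact ha v.1)
  have h3 : q ^ (p - 1) * aeval (tt n k) (Phi p n) =
      aeval (tt n k) ((∑ i, X i) ^ (p - 1) * Phi p n) := by
    rw [map_mul, map_pow, map_sum]
    simp only [aeval_X]
    rfl
  rw [h3, coeff_dbl_aeval] at h2
  have h4 := not_dvd_of_mul_eq p n a ha hsum _ (p_mul_coeff p n a ha hsum)
  exact h4 ((CharP.intCast_eq_zero_iff k p _).1 h2)

end Field

end Groth.Agent.Lib.Helper6.NoLiftQuadric
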