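import Mathlib
import Groth.Agent.Lib.Helper6.NoLiftQuadric

/-! Non-existence of Frobenius lifts for the ordinary double point: polynomial part (helper6). -/

set_option autoImplicit false
universe u
open MvPolynomial

namespace Groth.Agent.Lib.Helper6.NoLiftQuadric

variable (p : ℕ) [hp : Fact p.Prime] (n : ℕ)

theorem constantCoeff_Phi : constantCoeff (Phi p n) = 0 := by
  have hp1 : p ≠ 0 := hp.out.ne_zero
  have h := congrArg constantCoeff (Phi_spec p n)
  simp only [map_sub, map_pow, map_sum, constantCoeff_X, map_mul, constantCoeff_C,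
    Finset.sum_const_zero, zero_pow hp1, sub_self] at h
  have hp0 : (p : ℤ) ≠ 0 := by exact_mod_cast hp1
  rcases mul_eq_zero.1 h.symm with h1 | h1
  · exact absurd h1 hp0
  · exact h1

section Field

variable (k : Type u) [Field k] [CharP k p]

theorem pow_p_sub_const_mem_J (g : MvPolynomial (Fin n × Fin 2) k) :
    g ^ p - C ((coeff 0 g) ^ p) ∈ Ideal.span (Set.range fun v : Fin n × Fin 2 =>
      (X v : MvPolynomial (Fin n × Fin 2) k) ^ p) := by
  have hp1 : p ≠ 0 := hp.out.ne_zero
  induction g using MvPolynomial.induction_on' with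
  | monomial m c =>
    rw [monomial_pow, coeff_monomial]
    by_cases hm : m = 0
    · subst hm
      rw [if_pos rfl, smul_zero, C_apply, sub_self]
      exact Ideal.zero_mem _
    · rw [if_neg hm, zero_pow hp1, map_zero, sub_zero]
      obtain ⟨v, hv⟩ : ∃ v, m v ≠ 0 := by
        by_contra hcon
        push Not at hcon
        exact hm (Finsupp.ext hcon)
      have hle : Finsupp.single v p ≤ p • m := by
        intro w
        by_cases hw : v = w
        · subst hw
          simp only [Finsupp.single_eq_same, Finsupp.smul_apply, smul_eq_mul]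
          exact Nat.le_mul_of_pos_right _ (Nat.pos_of_ne_zero hv)
        · rw [Finsupp.single_eq_of_ne (Ne.symm hw)]; exact Nat.zero_le _
      have h1 : monomial (p • m) (c ^ p) =
          monomial (p • m - Finsupp.single v p) (c ^ p) * (X v) ^ p := by
        rw [X_pow_eq_monomial, monomial_mul, mul_one, tsub_add_cancel_of_le hle]
      rw [h1]
      exact Ideal.mul_mem_left _ _ (Ideal.subset_span ⟨v, rfl⟩)
  | add g1 g2 h1 h2 =>
    rw [add_pow_char, coeff_add, add_pow_char, map_add]
    have : g1 ^ p + g2 ^ p - (C (coeff 0 g1 ^ p) + C (coeff 0 g2 ^ p)) =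
        (g1 ^ p - C (coeff 0 g1 ^ p)) + (g2 ^ p - C (coeff 0 g2 ^ p)) := by ring
    rw [this]
    exact Ideal.add_mem _ h1 h2

theorem aeval_Phi_add_pow_not_mem (hn : 3 ≤ n) (g : MvPolynomial (Fin n × Fin 2) k) :
    aeval (tt n k) (Phi p n) + g ^ p ∉ Ideal.span
      (insert (∑ i : Fin n, X (i, (0 : Fin 2)) * X (i, (1 : Fin 2)))
        (Set.range fun v : Fin n × Fin 2 => (X v : MvPolynomial (Fin n × Fin 2) k) ^ p)) := by
  intro hmem
  have hp1 : p ≠ 0 := hp.out.ne_zero
  have hJle : Ideal.span (Set.range fun v : Fin n × Fin 2 =>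
      (X v : MvPolynomial (Fin n × Fin 2) k) ^ p) ≤ Ideal.span
      (insert (∑ i : Fin n, X (i, (0 : Fin 2)) * X (i, (1 : Fin 2)))
        (Set.range fun v : Fin n × Fin 2 => (X v : MvPolynomial (Fin n × Fin 2) k) ^ p)) :=
    Ideal.span_mono (Set.subset_insert _ _)
  have h1 : aeval (tt n k) (Phi p n) + C ((coeff 0 g) ^ p) ∈ Ideal.span
      (insert (∑ i : Fin n, X (i, (0 : Fin 2)) * X (i, (1 : Fin 2)))
        (Set.range fun v : Fin n × Fin 2 => (X v : MvPolynomial (Fin n × Fin 2) k) ^ p)) := by
    have h2 := Ideal.sub_mem _ hmem (hJle (pow_p_sub_const_mem_J p n k g))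
    have h3 : aeval (tt n k) (Phi p n) + g ^ p - (g ^ p - C ((coeff 0 g) ^ p)) =
        aeval (tt n k) (Phi p n) + C ((coeff 0 g) ^ p) := by ring
    rwa [h3] at h2
  -- constant coefficients vanish on the ideal
  have hcc : Ideal.span
      (insert (∑ i : Fin n, X (i, (0 : Fin 2)) * X (i, (1 : Fin 2)))
        (Set.range fun v : Fin n × Fin 2 => (X v : MvPolynomial (Fin n × Fin 2) k) ^ p)) ≤
      RingHom.ker (constantCoeff : MvPolynomial (Fin n × Fin 2) k →+* k) := by
    rw [Ideal.span_le]
    intro f hf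
    rcases hf with rfl | ⟨v, rfl⟩
    · simp [RingHom.mem_ker]
    · simp [RingHom.mem_ker, hp1]
  have h4 : constantCoeff (aeval (tt n k) (Phi p n)) = 0 := by
    have e1 := congrArg (fun f => f (Phi p n))
      (MvPolynomial.comp_aeval (R := ℤ) (tt n k)
        (constantCoeff : MvPolynomial (Fin n × Fin 2) k →+* k).toIntAlgHom)
    simp only [AlgHom.comp_apply, RingHom.toIntAlgHom_apply] at e1
    refine e1.trans ?_
    have e2 : (fun i => (constantCoeff : MvPolynomial (Fin n × Fin 2) k →+* k)
        (tt n k i)) = 0 := by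
      funext i
      simp [tt]
    rw [e2, aeval_zero, constantCoeff_Phi, map_zero]
  have h5 := hcc h1
  rw [RingHom.mem_ker, map_add, h4, zero_add, constantCoeff_C] at h5
  rw [h5, map_zero, add_zero] at h1
  exact aeval_Phi_not_mem p n k hn h1

end Field

end Groth.Agent.Lib.Helper6.NoLiftQuadric
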