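import Mathlib
import Groth.Prelude.Def_W4c2arithlefschetzNode

set_option linter.unusedSectionVars false
set_option linter.unusedVariables false
set_option autoImplicit false
set_option maxHeartbeats 400000

/-!
# Foundations for the formal double point `B⟦x, y⟧/(xy - π)`
-/

noncomputable section

namespace Groth.Agent.Lib.Helper6.NodeAlg

open MvPowerSeries ArLef

universe u

variable {B : Type u} [CommRing B] (π : B)

/-- the class of a power series -/
abbrev cls : MvPowerSeries (Fin 2) B →+* NodeAlg B π := Ideal.Quotient.mk _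

/-- the classes of the variables: `v 0 = t`, `v 1 = e` -/
abbrev v (i : Fin 2) : NodeAlg B π := cls π (X i)

lemma t_eq : NodeAlg.t π = v π 0 := rfl
lemma e_eq : NodeAlg.e π = v π 1 := rfl
lemma algebraMap_eq (b : B) : algebraMap B (NodeAlg B π) b = cls π (C b) := rfl

lemma cls_surjective : Function.Surjective (cls π) := Ideal.Quotient.mk_surjective

/-- the other index -/
def oth (i : Fin 2) : Fin 2 := ![1, 0] i

@[simp] lemma oth_zero : oth 0 = 1 := rfl
@[simp] lemma oth_one : oth 1 = 0 := rfl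
lemma oth_ne (i : Fin 2) : oth i ≠ i := by fin_cases i <;> simp
lemma oth_oth (i : Fin 2) : oth (oth i) = i := by fin_cases i <;> simp
lemma eq_or_eq_oth (i j : Fin 2) : j = i ∨ j = oth i := by
  fin_cases i <;> fin_cases j <;> simp

lemma X_mul_X_oth (i : Fin 2) :
    (X i * X (oth i) : MvPowerSeries (Fin 2) B) = X 0 * X 1 := by
  fin_cases i
  · rfl
  · exact mul_comm _ _

lemma v_mul_oth (i : Fin 2) : v π i * v π (oth i) = cls π (C π) := by
  show cls π (X i) * cls π (X (oth i)) = cls π (C π)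
  rw [← map_mul, X_mul_X_oth]
  apply Ideal.Quotient.eq.mpr
  exact Ideal.mem_span_singleton_self _

lemma t_mul_e : v π 0 * v π 1 = cls π (C π) := v_mul_oth π 0

/-- the embedding of one variable -/
def emb (i : Fin 2) : Unit ↪ Fin 2 := ⟨fun _ => i, fun _ _ _ => rfl⟩

lemma not_mem_range_emb (i : Fin 2) : i ∉ Set.range (emb (oth i)) := by
  rintro ⟨u, hu⟩
  exact oth_ne i hu

lemma eq_embDomain {i : Fin 2} {m : Fin 2 →₀ ℕ} (hm : m i = 0) :
    m = Finsupp.embDomain (emb (oth i)) (Finsupp.single () (m (oth i))) := by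
  ext j
  rcases eq_or_eq_oth i j with rfl | rfl
  · rw [hm, Finsupp.embDomain_notin_range _ _ _ (not_mem_range_emb j)]
  · show m (oth i) = (Finsupp.embDomain (emb (oth i)) (Finsupp.single () (m (oth i))))
      (emb (oth i) ())
    rw [Finsupp.embDomain_apply_self]
    simp

section Theta

variable {K : Type*} [CommRing K] (φ : B →+* K)

/-- The map `N → K⟦X⟧` killing `v i` and sending `v (oth i)` to `X`. -/
def theta (hφ : φ π = 0) (i : Fin 2) : NodeAlg B π →+* PowerSeries K :=
  Ideal.Quotient.lift _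
    (((killCompl (R := K) (emb (oth i))).toRingHom).comp (MvPowerSeries.map φ))
    (fun r hr => by
      obtain ⟨g, rfl⟩ := Ideal.mem_span_singleton'.mp hr
      have h1 : (killCompl (R := K) (emb (oth i))) (X i) = 0 :=
        killCompl_X_eq_zero (not_mem_range_emb i)
      rw [← X_mul_X_oth i]
      simp only [RingHom.comp_apply, map_mul, map_sub, MvPowerSeries.map_X, MvPowerSeries.map_C,
        hφ, map_zero, sub_zero, AlgHom.toRingHom_eq_coe, RingHom.coe_coe, h1, zero_mul, mul_zero])

variable (hφ : φ π = 0)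
include hφ

lemma theta_cls (i : Fin 2) (f : MvPowerSeries (Fin 2) B) :
    theta π φ hφ i (cls π f) = killCompl (R := K) (emb (oth i)) (MvPowerSeries.map φ f) := by
  unfold theta
  rw [Ideal.Quotient.lift_mk]
  rfl

lemma theta_v_self (i : Fin 2) : theta π φ hφ i (v π i) = 0 := by
  rw [theta_cls, MvPowerSeries.map_X]
  exact killCompl_X_eq_zero (not_mem_range_emb i)

lemma theta_v_oth (i : Fin 2) : theta π φ hφ i (v π (oth i)) = PowerSeries.X := by
  rw [theta_cls, MvPowerSeries.map_X]
  exact killCompl_X (e := emb (oth i)) ()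

lemma theta_algebraMap (i : Fin 2) (b : B) :
    theta π φ hφ i (algebraMap B (NodeAlg B π) b) = PowerSeries.C (φ b) := by
  rw [algebraMap_eq, theta_cls, MvPowerSeries.map_C, killCompl_C]
  rfl

lemma ker_theta (hker : ∀ b, φ b = 0 → π ∣ b) (i : Fin 2) :
    RingHom.ker (theta π φ hφ i) = Ideal.span {v π i} := by
  apply le_antisymm
  · intro x hx
    obtain ⟨f, rfl⟩ := cls_surjective π x
    rw [RingHom.mem_ker, theta_cls] at hx
    have h1 : ∀ m : Fin 2 →₀ ℕ, m i = 0 → π ∣ coeff m f := by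
      intro m hm
      apply hker
      have := congrArg (coeff (Finsupp.single () (m (oth i)))) hx
      rw [coeff_killCompl, ← eq_embDomain hm, coeff_map, map_zero] at this
      exact this
    classical
    have h2 : ∀ m : Fin 2 →₀ ℕ, ∃ q : B, m i = 0 → coeff m f = π * q := by
      intro m
      by_cases hm : m i = 0
      · obtain ⟨q, hq⟩ := h1 m hm
        exact ⟨q, fun _ => hq⟩
      · exact ⟨0, fun h => absurd h hm⟩
    choose q hq using h2
    let h : MvPowerSeries (Fin 2) B := fun m => q m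
    have hcoeff : ∀ m, coeff m h = q m := fun m => rfl
    have h3 : (X i : MvPowerSeries (Fin 2) B) ∣ f - C π * h := by
      rw [X_dvd_iff]
      intro m hm
      rw [map_sub, coeff_C_mul, hcoeff, hq m hm, sub_self]
    obtain ⟨g, hg⟩ := h3
    have h4 : f = X i * g + C π * h := by rw [← hg]; ring
    rw [h4, Ideal.mem_span_singleton]
    refine ⟨cls π g + v π (oth i) * cls π h, ?_⟩
    rw [map_add, map_mul, map_mul, mul_add, ← mul_assoc, v_mul_oth]
  · rw [Ideal.span_le, Set.singleton_subset_iff]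
    exact theta_v_self π φ hφ i

lemma isPrime_span_v [IsDomain K] (hker : ∀ b, φ b = 0 → π ∣ b) (i : Fin 2) :
    (Ideal.span {v π i}).IsPrime := by
  rw [← ker_theta π φ hφ hker i]
  exact RingHom.ker_isPrime _

lemma v_oth_not_mem [Nontrivial K] (hker : ∀ b, φ b = 0 → π ∣ b) (i : Fin 2) :
    v π (oth i) ∉ Ideal.span {v π i} := by
  rw [← ker_theta π φ hφ hker i, RingHom.mem_ker, theta_v_oth]
  exact PowerSeries.X_ne_zero

lemma nontrivial_of_theta [Nontrivial K] : Nontrivial (NodeAlg B π) :=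
  (theta π φ hφ 0).domain_nontrivial

lemma not_isUnit_v [Nontrivial K] (i : Fin 2) : ¬ IsUnit (v π i) := by
  intro h
  have := h.map (theta π φ hφ i)
  rw [theta_v_self] at this
  exact not_isUnit_zero this

end Theta


instance [IsNoetherianRing B] : IsNoetherianRing (NodeAlg B π) := inferInstance

lemma isLocalRing [IsLocalRing B] [Nontrivial (NodeAlg B π)] : IsLocalRing (NodeAlg B π) :=
  IsLocalRing.of_surjective' (cls π) (cls_surjective π)

/-- every element is `c + t r₁ + e r₂` -/
lemma decomp (r : NodeAlg B π) : ∃ (c : B) (r₁ r₂ : NodeAlg B π),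
    r = algebraMap B (NodeAlg B π) c + v π 0 * r₁ + v π 1 * r₂ := by
  classical
  obtain ⟨f, rfl⟩ := cls_surjective π r
  set c := constantCoeff f with hc
  -- the part of `f - C c` not divisible by `X 0`
  let g₂ : MvPowerSeries (Fin 2) B := fun m => if m 0 = 0 then coeff m (f - C c) else 0
  have hg₂ : ∀ m, coeff m g₂ = if m 0 = 0 then coeff m (f - C c) else 0 := fun m => rfl
  have h1 : (X 0 : MvPowerSeries (Fin 2) B) ∣ (f - C c) - g₂ := by
    rw [X_dvd_iff]
    intro m hm
    rw [map_sub, hg₂, if_pos hm, sub_self]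
  have h2 : (X 1 : MvPowerSeries (Fin 2) B) ∣ g₂ := by
    rw [X_dvd_iff]
    intro m hm
    rw [hg₂]
    split_ifs with h0
    · have : m = 0 := by
        ext j
        fin_cases j
        · exact h0
        · exact hm
      rw [this, map_sub, coeff_zero_eq_constantCoeff_apply, coeff_zero_C]
      exact sub_self _
    · rfl
  obtain ⟨f₁, hf₁⟩ := h1
  obtain ⟨f₂, hf₂⟩ := h2
  refine ⟨c, cls π f₁, cls π f₂, ?_⟩
  have : f = C c + X 0 * f₁ + X 1 * f₂ := by rw [← hf₁, ← hf₂]; ring
  conv_lhs => rw [this]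
  rw [map_add, map_add, map_mul, map_mul]
  rfl

section Fix

variable (σ : NodeAlg B π →+* NodeAlg B π)

/-- the ideal generated by the obvious elements of the fixed-point ideal -/
def genIdeal : Ideal (NodeAlg B π) :=
  Ideal.span (Set.range (fun c : B => σ (algebraMap B (NodeAlg B π) c) - algebraMap B (NodeAlg B π) c))
    ⊔ Ideal.span {σ (v π 0) - v π 0, σ (v π 1) - v π 1}

lemma genIdeal_le : genIdeal π σ ≤ fixIdeal σ := by
  unfold genIdeal fixIdeal
  apply sup_le
  · rw [Ideal.span_le]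
    rintro _ ⟨c, rfl⟩
    exact Ideal.subset_span ⟨_, rfl⟩
  · rw [Ideal.span_le]
    rintro _ (rfl | rfl)
    · exact Ideal.subset_span ⟨_, rfl⟩
    · exact Ideal.subset_span ⟨_, rfl⟩

lemma fixIdeal_eq_genIdeal [IsNoetherianRing B] [IsLocalRing (NodeAlg B π)]
    (hv : ∀ i, ¬ IsUnit (v π i)) : fixIdeal σ = genIdeal π σ := by
  apply le_antisymm _ (genIdeal_le π σ)
  have hm : Ideal.span {v π 0, v π 1} ≤ Ideal.jacobson (⊥ : Ideal (NodeAlg B π)) := by
    rw [IsLocalRing.jacobson_eq_maximalIdeal _ bot_ne_top, Ideal.span_le]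
    rintro _ (rfl | rfl)
    · exact (IsLocalRing.mem_maximalIdeal _).mpr (hv 0)
    · exact (IsLocalRing.mem_maximalIdeal _).mpr (hv 1)
  apply Submodule.le_of_le_smul_of_le_jacobson_bot (IsNoetherian.noetherian _) hm
  unfold fixIdeal
  rw [Ideal.span_le]
  rintro _ ⟨r, rfl⟩
  obtain ⟨c, r₁, r₂, rfl⟩ := decomp π r
  have e : σ (algebraMap B (NodeAlg B π) c + v π 0 * r₁ + v π 1 * r₂) -
      (algebraMap B (NodeAlg B π) c + v π 0 * r₁ + v π 1 * r₂) =
      ((σ (algebraMap B (NodeAlg B π) c) - algebraMap B (NodeAlg B π) c) +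
        (σ (v π 0) - v π 0) * σ r₁ + (σ (v π 1) - v π 1) * σ r₂) +
      (v π 0 * (σ r₁ - r₁) + v π 1 * (σ r₂ - r₂)) := by
    rw [map_add, map_add, map_mul, map_mul]; ring
  show σ (algebraMap B (NodeAlg B π) c + v π 0 * r₁ + v π 1 * r₂) -
      (algebraMap B (NodeAlg B π) c + v π 0 * r₁ + v π 1 * r₂) ∈
    (genIdeal π σ ⊔ Ideal.span {v π 0, v π 1} • Ideal.span (Set.range fun r => σ r - r) :
      Ideal (NodeAlg B π))
  rw [e]
  apply Submodule.add_mem_sup
  · refine Ideal.add_mem _ (Ideal.add_mem _ ?_ ?_) ?_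
    · exact Ideal.mem_sup_left (Ideal.subset_span ⟨c, rfl⟩)
    · exact Ideal.mem_sup_right (Ideal.mul_mem_right _ _ (Ideal.subset_span (by simp)))
    · exact Ideal.mem_sup_right (Ideal.mul_mem_right _ _ (Ideal.subset_span (by simp)))
  · apply Ideal.add_mem
    · exact Submodule.smul_mem_smul (Ideal.subset_span (by simp)) (Ideal.subset_span ⟨r₁, rfl⟩)
    · exact Submodule.smul_mem_smul (Ideal.subset_span (by simp)) (Ideal.subset_span ⟨r₂, rfl⟩)

end Fix

section Regular

variable {K : Type*} [CommRing K] [IsDomain K] (φ : B →+* K) (hφ : φ π = 0)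
  (hker : ∀ b, φ b = 0 → π ∣ b)
include hφ hker

/-- `π` is a nonzerodivisor on the node algebra (argument of helper9 in S15319). -/
lemma pi_regular [IsDomain B] (hπ0 : π ≠ 0) (x : NodeAlg B π) (hx : cls π (C π) * x = 0) :
    x = 0 := by
  obtain ⟨f, rfl⟩ := cls_surjective π x
  rw [← map_mul, Ideal.Quotient.eq_zero_iff_mem] at hx
  obtain ⟨g, hg⟩ := Ideal.mem_span_singleton'.mp hx
  have h1 := congrArg (MvPowerSeries.map φ) hg
  rw [map_mul, map_mul, map_sub, map_mul, map_X, map_X, map_C, hφ, map_zero, sub_zero,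
    zero_mul] at h1
  have h2 : MvPowerSeries.map φ g = 0 := by
    have hnzd : (X 0 * X 1 : MvPowerSeries (Fin 2) K) ∈ nonZeroDivisors _ :=
      Submonoid.mul_mem _ X_mem_nonzeroDivisors X_mem_nonzeroDivisors
    exact (mem_nonZeroDivisors_iff.mp hnzd).2 _ h1
  have h3 : ∀ d, ∃ c : B, coeff d g = π * c := by
    intro d
    have := congrArg (coeff d) h2
    rw [coeff_map, map_zero] at this
    exact hker _ this
  choose g₀ hg₀ using h3
  let g' : MvPowerSeries (Fin 2) B := fun d => g₀ d
  have h4 : g = C π * g' := by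
    ext d
    rw [coeff_C_mul, hg₀ d]
    rfl
  rw [h4] at hg
  have h5 : g' * (X 0 * X 1 - C π) = f := by
    have hCne : (C π : MvPowerSeries (Fin 2) B) ≠ 0 := by
      intro h
      have := congrArg constantCoeff h
      rw [constantCoeff_C, map_zero] at this
      exact hπ0 this
    apply mul_left_cancel₀ hCne
    rw [← hg]; ring
  rw [Ideal.Quotient.eq_zero_iff_mem, ← h5]
  exact Ideal.mul_mem_left _ _ (Ideal.mem_span_singleton_self _)

lemma v_regular [IsDomain B] (hπ0 : π ≠ 0) (i : Fin 2) (x : NodeAlg B π)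
    (hx : v π i * x = 0) : x = 0 := by
  apply pi_regular π φ hφ hker hπ0
  rw [← v_mul_oth π i, mul_comm (v π i), mul_assoc, hx, mul_zero]

end Regular


section DVR

variable {B : Type u} [CommRing B] [IsDomain B] [IsDiscreteValuationRing B] {π : B}
  (hπ : Irreducible π)
include hπ

lemma residue_pi : IsLocalRing.residue B π = 0 :=
  (IsLocalRing.residue_eq_zero_iff π).mpr ((IsLocalRing.mem_maximalIdeal π).mpr hπ.not_isUnit)

lemma residue_ker (b : B) (hb : IsLocalRing.residue B b = 0) : π ∣ b := by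
  rw [IsLocalRing.residue_eq_zero_iff, hπ.maximalIdeal_eq, Ideal.mem_span_singleton] at hb
  exact hb

lemma nontrivial_dvr : Nontrivial (NodeAlg B π) :=
  nontrivial_of_theta π (IsLocalRing.residue B) (residue_pi hπ)

lemma isLocalRing_dvr : IsLocalRing (NodeAlg B π) :=
  haveI := nontrivial_dvr hπ
  isLocalRing π

lemma prime_v (i : Fin 2) : (Ideal.span {v π i}).IsPrime :=
  isPrime_span_v π (IsLocalRing.residue B) (residue_pi hπ) (residue_ker hπ) i

lemma v_oth_not_mem_dvr (i : Fin 2) : v π (oth i) ∉ Ideal.span {v π i} :=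
  v_oth_not_mem π (IsLocalRing.residue B) (residue_pi hπ) (residue_ker hπ) i

lemma not_isUnit_v_dvr (i : Fin 2) : ¬ IsUnit (v π i) :=
  not_isUnit_v π (IsLocalRing.residue B) (residue_pi hπ) i

lemma pi_reg (x : NodeAlg B π) (hx : cls π (C π) * x = 0) : x = 0 :=
  pi_regular π (IsLocalRing.residue B) (residue_pi hπ) (residue_ker hπ) hπ.ne_zero x hx

lemma v_reg (i : Fin 2) (x : NodeAlg B π) (hx : v π i * x = 0) : x = 0 :=
  v_regular π (IsLocalRing.residue B) (residue_pi hπ) (residue_ker hπ) hπ.ne_zero i x hx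

lemma mem_span_pi_of_mem (i : Fin 2) {x : NodeAlg B π} (h1 : x ∈ Ideal.span {v π i})
    (h2 : x ∈ Ideal.span {v π (oth i)}) : x ∈ Ideal.span {cls π (C π)} := by
  rw [Ideal.mem_span_singleton] at h1
  obtain ⟨a, rfl⟩ := h1
  have hp := prime_v hπ (oth i)
  rcases hp.mem_or_mem h2 with h | h
  · have := v_oth_not_mem_dvr hπ (oth i)
    rw [oth_oth] at this
    exact absurd h this
  · rw [Ideal.mem_span_singleton] at h
    obtain ⟨a', rfl⟩ := h
    rw [← mul_assoc, v_mul_oth]
    exact Ideal.mul_mem_right _ _ (Ideal.subset_span rfl)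

lemma fixIdeal_eq (σ : NodeAlg B π →+* NodeAlg B π) : fixIdeal σ = genIdeal π σ :=
  haveI := isLocalRing_dvr hπ
  fixIdeal_eq_genIdeal π σ (not_isUnit_v_dvr hπ)

theorem stabilizes_or_switches (σ : NodeAlg B π ≃+* NodeAlg B π)
    (hσ : Associated (σ (cls π (C π))) (cls π (C π))) :
    (∃ α β : (NodeAlg B π)ˣ, σ (v π 0) = (α : NodeAlg B π) * v π 0 ∧
        σ (v π 1) = (β : NodeAlg B π) * v π 1) ∨
      (∃ α β : (NodeAlg B π)ˣ, σ (v π 0) = (α : NodeAlg B π) * v π 1 ∧
        σ (v π 1) = (β : NodeAlg B π) * v π 0) := by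
  obtain ⟨u, hu⟩ := hσ
  set T := σ (v π 0) with hT
  set E := σ (v π 1) with hE
  have hTE : T * E * u = v π 0 * v π 1 := by
    rw [hT, hE, ← map_mul, t_mul_e, hu]
  have hTE' : T * E = v π 0 * v π 1 * (↑u⁻¹ : NodeAlg B π) := by
    rw [← hTE, mul_assoc, Units.mul_inv, mul_one]
  have hpi : cls π (C π) = v π 0 * v π 1 := (t_mul_e π).symm
  -- regularity of T and E
  have hTreg : ∀ x, T * x = 0 → x = 0 := by
    intro x hx
    have h1 : v π 0 * σ.symm x = 0 := by
      have := congrArg σ.symm hx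
      rwa [map_mul, hT, RingEquiv.symm_apply_apply, map_zero] at this
    have := v_reg hπ 0 _ h1
    simpa using congrArg σ this
  have hEreg : ∀ x, E * x = 0 → x = 0 := by
    intro x hx
    have h1 : v π 1 * σ.symm x = 0 := by
      have := congrArg σ.symm hx
      rwa [map_mul, hE, RingEquiv.symm_apply_apply, map_zero] at this
    have := v_reg hπ 1 _ h1
    simpa using congrArg σ this
  have hTnu : ¬ IsUnit T := by
    intro h
    have := h.map σ.symm
    rw [hT, RingEquiv.symm_apply_apply] at this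
    exact not_isUnit_v_dvr hπ 0 this
  have hEnu : ¬ IsUnit E := by
    intro h
    have := h.map σ.symm
    rw [hE, RingEquiv.symm_apply_apply] at this
    exact not_isUnit_v_dvr hπ 1 this
  have h0 : T ∈ Ideal.span {v π 0} ∨ E ∈ Ideal.span {v π 0} := by
    apply (prime_v hπ 0).mem_or_mem
    rw [hTE', mul_assoc]
    exact Ideal.mul_mem_right _ _ (Ideal.subset_span rfl)
  have h1 : T ∈ Ideal.span {v π 1} ∨ E ∈ Ideal.span {v π 1} := by
    apply (prime_v hπ 1).mem_or_mem
    rw [hTE', mul_comm (v π 0), mul_assoc]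
    exact Ideal.mul_mem_right _ _ (Ideal.subset_span rfl)
  -- the bad cases
  have bad : ∀ (Y Z : NodeAlg B π), (∀ x, Y * x = 0 → x = 0) → ¬ IsUnit Z →
      Y * Z * u = cls π (C π) → Y ∈ Ideal.span {cls π (C π)} → False := by
    intro Y Z hYreg hZnu hYZ hY
    rw [Ideal.mem_span_singleton] at hY
    obtain ⟨c, hc⟩ := hY
    have h2 : Y * (1 - Z * u * c) = 0 := by
      have : Y * (Z * u * c) = Y := by
        calc Y * (Z * u * c) = (Y * Z * u) * c := by ring
          _ = Y := by rw [hYZ, ← hc]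
      rw [mul_sub, mul_one, this, sub_self]
    have h3 := hYreg _ h2
    have h4 : Z * (u * c) = 1 := by
      rw [← mul_assoc]; exact (sub_eq_zero.mp h3).symm
    exact hZnu (IsUnit.of_mul_eq_one _ h4)
  have good : ∀ (i : Fin 2) (a b : NodeAlg B π), v π i * a * (v π (oth i) * b) * u =
      v π i * v π (oth i) → IsUnit a ∧ IsUnit b := by
    intro i a b h
    have h2 : cls π (C π) * (a * b * u - 1) = 0 := by
      rw [← v_mul_oth π i]
      linear_combination h
    have h3 := pi_reg hπ _ h2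
    have h4 : a * b * u = 1 := sub_eq_zero.mp h3
    constructor
    · exact IsUnit.of_mul_eq_one (b * u) (by rw [← h4]; ring)
    · exact IsUnit.of_mul_eq_one (a * u) (by rw [← h4]; ring)
  rcases h0 with hT0 | hE0
  · rcases h1 with hT1 | hE1
    · exfalso
      exact bad T E hTreg hEnu (by rw [hTE, hpi]) (mem_span_pi_of_mem hπ 0 hT0 hT1)
    · left
      rw [Ideal.mem_span_singleton] at hT0 hE1
      obtain ⟨a, ha⟩ := hT0
      obtain ⟨b, hb⟩ := hE1
      have := good 0 a b (by
        show v π 0 * a * (v π 1 * b) * u = v π 0 * v π 1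
        rw [← ha, ← hb, hTE])
      obtain ⟨α, hα⟩ := this.1
      obtain ⟨β, hβ⟩ := this.2
      exact ⟨α, β, by rw [hα, ha, mul_comm], by rw [hβ, hb, mul_comm]⟩
  · rcases h1 with hT1 | hE1
    · right
      rw [Ideal.mem_span_singleton] at hT1 hE0
      obtain ⟨a, ha⟩ := hT1
      obtain ⟨b, hb⟩ := hE0
      have := good 1 a b (by
        show v π 1 * a * (v π 0 * b) * u = v π 1 * v π 0
        rw [← ha, ← hb, hTE, mul_comm])
      obtain ⟨α, hα⟩ := this.1
      obtain ⟨β, hβ⟩ := this.2
      exact ⟨α, β, by rw [hα, ha, mul_comm], by rw [hβ, hb, mul_comm]⟩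
    · exfalso
      exact bad E T hEreg hTnu (by rw [mul_comm E T, hTE, hpi])
        (mem_span_pi_of_mem hπ 0 hE0 hE1)

end DVR

end Groth.Agent.Lib.Helper6.NodeAlg
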