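import Groth.Agent.Lib.Helper6.NodeAlgStab

set_option linter.unusedSectionVars false
set_option linter.unusedVariables false
set_option autoImplicit false
set_option maxHeartbeats 400000

/-!
# Residual fixed-point schemes at a node: colon ideal lengths
-/

noncomputable section

namespace Groth.Agent.Lib.Helper6.NodeAlg

open MvPowerSeries ArLef LenLemmas

universe u

lemma regMod_pow' {R : Type*} [CommRing R] {x f : R} (h : RegMod x f) (n : ℕ) :
    RegMod (x ^ n) f := by
  induction n with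
  | zero => intro r hr; rwa [pow_zero, one_mul] at hr
  | succ n ih =>
    intro r hr
    rw [pow_succ, mul_assoc] at hr
    exact h _ (ih _ hr)

section DVR5

variable {B : Type u} [CommRing B] [IsDomain B] [IsDiscreteValuationRing B] {π : B}
  (hπ : Irreducible π)
include hπ

/-- The core length computation. -/
theorem core_len (p' q' : ℕ) (hqp : q' ≤ p') (a b D δ : NodeAlg B π) (hδ : IsUnit δ)
    (hα : IsUnit (1 + D * a))
    (hrel : a + b + D * a * b = δ * (v π 0 ^ p' * v π 1 ^ q'))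
    (hea : ¬ v π 1 ∣ a) (htb : ¬ v π 0 ∣ b) :
    Module.length (NodeAlg B π) (NodeAlg B π ⧸
        Ideal.span {v π 0 ^ (p' + 1) * v π 1 ^ (q' + 1), a * v π 0, b * v π 1}) =
      1 + ((p' + 1 : ℕ) : ℕ∞) * Module.length (NodeAlg B π)
          (NodeAlg B π ⧸ Ideal.span ({v π 0, b} : Set (NodeAlg B π))) +
        ((q' + 1 : ℕ) : ℕ∞) * Module.length (NodeAlg B π)
          (NodeAlg B π ⧸ Ideal.span ({v π 1, a} : Set (NodeAlg B π))) := by
  set t : NodeAlg B π := v π 0 with ht_def
  set e : NodeAlg B π := v π 1 with he_def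
  have hte' : ¬ t ∣ e := not_dvd_oth hπ 0
  have het' : ¬ e ∣ t := not_dvd_oth hπ 1
  obtain ⟨αi, hαi⟩ := isUnit_iff_exists_inv.mp hα
  have hrel' : b * (1 + D * a) = δ * (t ^ p' * e ^ q') - a := by rw [← hrel]; ring
  -- Step A
  have hcolA : (Ideal.span {t ^ (p' + 1) * e ^ (q' + 1), a * t, b * e}).colon {t} =
      Ideal.span {t ^ p' * e ^ (q' + 1), a, b * e} := by
    ext x
    rw [Submodule.mem_colon_singleton, smul_eq_mul, mem_span_three, mem_span_three]
    constructor
    · rintro ⟨c₁, c₂, c₃, h⟩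
      have h1 : t ∣ c₃ * (b * e) := by
        refine ⟨x - c₁ * (t ^ p' * e ^ (q' + 1)) - c₂ * a, ?_⟩
        have : c₃ * (b * e) = x * t - c₁ * (t ^ (p' + 1) * e ^ (q' + 1)) - c₂ * (a * t) := by
          rw [← h]; ring
        rw [this]; ring
      rcases dvd_of_dvd_mul hπ 0 h1 with h2 | h2
      · obtain ⟨c₃', rfl⟩ := h2
        refine ⟨c₁, c₂, c₃', ?_⟩
        have h3 : t * (c₁ * (t ^ p' * e ^ (q' + 1)) + c₂ * a + c₃' * (b * e) - x) = 0 := by
          have : x * t = c₁ * (t ^ (p' + 1) * e ^ (q' + 1)) + c₂ * (a * t) + t * c₃' * (b * e) :=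
            h.symm
          rw [mul_sub, mul_comm t x, this]; ring
        exact sub_eq_zero.mp (v_reg hπ 0 _ h3)
      · rcases dvd_of_dvd_mul hπ 0 h2 with h3 | h3
        · exact absurd h3 htb
        · exact absurd h3 hte'
    · rintro ⟨c₁, c₂, c₃, rfl⟩
      exact ⟨c₁, c₂, c₃ * t, by ring⟩
  have hsupA : Ideal.span {t ^ (p' + 1) * e ^ (q' + 1), a * t, b * e} ⊔ Ideal.span {t} =
      Ideal.span {e * b, t} := by
    apply le_antisymm
    · apply sup_le
      · rw [Ideal.span_le]
        rintro x (rfl | rfl | rfl)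
        · rw [SetLike.mem_coe, Ideal.mem_span_pair]
          exact ⟨0, t ^ p' * e ^ (q' + 1), by ring⟩
        · rw [SetLike.mem_coe, Ideal.mem_span_pair]
          exact ⟨0, a, by ring⟩
        · rw [SetLike.mem_coe, Ideal.mem_span_pair]
          exact ⟨1, 0, by ring⟩
      · rw [Ideal.span_le, Set.singleton_subset_iff]
        exact Ideal.subset_span (by simp)
    · rw [Ideal.span_le]
      rintro x (rfl | rfl)
      · apply Ideal.mem_sup_left
        rw [mul_comm e b]
        exact Ideal.subset_span (by simp)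
      · exact Ideal.mem_sup_right (Ideal.subset_span rfl)
  -- Step B
  have hbmem : b ∈ Ideal.span {t ^ p' * e ^ q', a} := by
    rw [Ideal.mem_span_pair]
    refine ⟨αi * δ, -αi, ?_⟩
    linear_combination (-αi) * hrel' + b * hαi
  have hcolB : (Ideal.span {t ^ p' * e ^ (q' + 1), a, b * e}).colon {e} =
      Ideal.span {t ^ p' * e ^ q', a} := by
    ext x
    rw [Submodule.mem_colon_singleton, smul_eq_mul, mem_span_three]
    constructor
    · rintro ⟨c₁, c₂, c₃, h⟩
      have h1 : e ∣ c₂ * a := by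
        refine ⟨x - c₁ * (t ^ p' * e ^ q') - c₃ * b, ?_⟩
        have : c₂ * a = x * e - c₁ * (t ^ p' * e ^ (q' + 1)) - c₃ * (b * e) := by rw [← h]; ring
        rw [this]; ring
      rcases dvd_of_dvd_mul hπ 1 h1 with h2 | h2
      · obtain ⟨c₂', rfl⟩ := h2
        have h3 : e * (c₁ * (t ^ p' * e ^ q') + c₂' * a + c₃ * b - x) = 0 := by
          have : x * e = c₁ * (t ^ p' * e ^ (q' + 1)) + e * c₂' * a + c₃ * (b * e) := h.symm
          rw [mul_sub, mul_comm e x, this]; ring
        have h4 := sub_eq_zero.mp (v_reg hπ 1 _ h3)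
        rw [← h4]
        refine Ideal.add_mem _ (Ideal.add_mem _ ?_ ?_) ?_
        · exact Ideal.mul_mem_left _ _ (Ideal.subset_span (by simp))
        · exact Ideal.mul_mem_left _ _ (Ideal.subset_span (by simp))
        · exact Ideal.mul_mem_left _ _ hbmem
      · exact absurd h2 hea
    · intro hx
      rw [Ideal.mem_span_pair] at hx
      obtain ⟨r, s, rfl⟩ := hx
      exact ⟨r, s * e, 0, by ring⟩
  have hsupB : Ideal.span {t ^ p' * e ^ (q' + 1), a, b * e} ⊔ Ideal.span {e} =
      Ideal.span {e, a} := by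
    apply le_antisymm
    · apply sup_le
      · rw [Ideal.span_le]
        rintro x (rfl | rfl | rfl)
        · rw [SetLike.mem_coe, Ideal.mem_span_pair]
          exact ⟨t ^ p' * e ^ q', 0, by ring⟩
        · exact Ideal.subset_span (by simp)
        · rw [SetLike.mem_coe, Ideal.mem_span_pair]
          exact ⟨b, 0, by ring⟩
      · rw [Ideal.span_le, Set.singleton_subset_iff]
        exact Ideal.subset_span (by simp)
    · rw [Ideal.span_le]
      rintro x (rfl | rfl)
      · exact Ideal.mem_sup_right (Ideal.subset_span rfl)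
      · exact Ideal.mem_sup_left (Ideal.subset_span (by simp))
  have hA := length_colon_add (Ideal.span {t ^ (p' + 1) * e ^ (q' + 1), a * t, b * e}) t
  rw [hcolA, hsupA] at hA
  have hB := length_colon_add (Ideal.span {t ^ p' * e ^ (q' + 1), a, b * e}) e
  rw [hcolB, hsupB] at hB
  have hA2 := length_mul (x := e) (y := b) (a := t) (regMod_v hπ 1 het')
  have hpair1 : Ideal.span {b, t} = Ideal.span ({t, b} : Set (NodeAlg B π)) := by
    rw [Set.pair_comm]
  have hpair2 : Ideal.span {e, t} = Ideal.span ({t, e} : Set (NodeAlg B π)) := by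
    rw [Set.pair_comm]
  rw [hpair1, hpair2, length_quot_m hπ] at hA2
  have hC : Module.length (NodeAlg B π) (NodeAlg B π ⧸ Ideal.span {t ^ p' * e ^ q', a}) =
      (p' : ℕ∞) * Module.length (NodeAlg B π) (NodeAlg B π ⧸ Ideal.span {t, b}) +
        (q' : ℕ∞) * Module.length (NodeAlg B π) (NodeAlg B π ⧸ Ideal.span {e, a}) := by
    rcases Nat.eq_zero_or_pos p' with h0 | hpos
    · subst h0
      have hq0 : q' = 0 := by omega
      subst hq0
      rw [Nat.cast_zero, zero_mul, zero_mul, add_zero, Module.length_eq_zero_iff]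
      have : Ideal.span {t ^ 0 * e ^ 0, a} = ⊤ := by
        rw [Ideal.eq_top_iff_one]
        exact Ideal.subset_span (by simp)
      rw [this]
      infer_instance
    · have htp : t ∣ t ^ p' * e ^ q' := Dvd.dvd.mul_right (dvd_pow_self t (by omega)) _
      have hat : ¬ t ∣ a := by
        intro h
        apply htb
        have h1 : t ∣ b * (1 + D * a) := by
          rw [hrel']
          exact dvd_sub (Dvd.dvd.mul_left htp _) h
        rcases dvd_of_dvd_mul hπ 0 h1 with h2 | h2
        · exact h2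
        · exact absurd (isUnit_of_dvd_unit h2 hα) (not_isUnit_v_dvr hπ 0)
      have hregt : RegMod t a := regMod_v hπ 0 hat
      have hrege : RegMod e a := regMod_v hπ 1 hea
      rw [length_mul (x := t ^ p') (y := e ^ q') (a := a) (regMod_pow' hregt p'),
        length_pow hrege, length_pow hregt]
      have hta : Ideal.span {t, a} = Ideal.span ({t, b} : Set (NodeAlg B π)) := by
        obtain ⟨z, hz⟩ := htp
        have h1 : a ∈ Ideal.span ({t, b} : Set (NodeAlg B π)) := by
          rw [Ideal.mem_span_pair]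
          refine ⟨δ * z, -(1 + D * a), ?_⟩
          rw [hz] at hrel'
          linear_combination (-1 : NodeAlg B π) * hrel'
        have h2 : b ∈ Ideal.span ({t, a} : Set (NodeAlg B π)) := by
          rw [Ideal.mem_span_pair]
          refine ⟨αi * δ * z, -αi, ?_⟩
          rw [hz] at hrel'
          linear_combination (-αi) * hrel' + b * hαi
        apply le_antisymm
        · rw [Ideal.span_le, Set.pair_subset_iff]
          exact ⟨Ideal.subset_span (by simp), h1⟩
        · rw [Ideal.span_le, Set.pair_subset_iff]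
          exact ⟨Ideal.subset_span (by simp), h2⟩
      rw [hta]
      ring
  rw [hA, hB, hC, hA2]
  push_cast
  ring

lemma pow_reg (i : Fin 2) (n : ℕ) (x : NodeAlg B π) (hx : v π i ^ n * x = 0) : x = 0 := by
  induction n with
  | zero => rwa [pow_zero, one_mul] at hx
  | succ n ih =>
    apply ih
    apply v_reg hπ i
    rw [← mul_assoc, ← pow_succ']
    exact hx

lemma colon_three {D x₁ x₂ x₃ : NodeAlg B π} (hD : ∀ x, D * x = 0 → x = 0) :
    (Ideal.span {D * x₁, D * x₂, D * x₃}).colon {D} = Ideal.span {x₁, x₂, x₃} := by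
  ext x
  rw [Submodule.mem_colon_singleton, smul_eq_mul, mem_span_three, mem_span_three]
  constructor
  · rintro ⟨c₁, c₂, c₃, h⟩
    refine ⟨c₁, c₂, c₃, ?_⟩
    have : D * (c₁ * x₁ + c₂ * x₂ + c₃ * x₃ - x) = 0 := by
      rw [mul_sub, mul_comm D x, ← h]; ring
    exact sub_eq_zero.mp (hD _ this)
  · rintro ⟨c₁, c₂, c₃, rfl⟩
    exact ⟨c₁, c₂, c₃, by ring⟩

theorem stab_colon_main (j i₁ i₂ : ℕ) (h12 : i₁ ≤ i₂) (h2 : 0 < i₂) (h2j : i₂ < j)
    (γ : B) (hγ : IsUnit γ) (σ : NodeAlg B π ≃+* NodeAlg B π)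
    (hσB : ∀ c : B, σ (algebraMap B (NodeAlg B π) c) - algebraMap B (NodeAlg B π) c ∈
      Ideal.span ({algebraMap B (NodeAlg B π) (π ^ j)} : Set (NodeAlg B π)))
    (hσπ : σ (algebraMap B (NodeAlg B π) π) = algebraMap B (NodeAlg B π) (π + γ * π ^ j))
    (α β : (NodeAlg B π)ˣ) (ht : σ (v π 0) = (α : NodeAlg B π) * v π 0)
    (he : σ (v π 1) = (β : NodeAlg B π) * v π 1)
    (a b : NodeAlg B π) (ha : (α : NodeAlg B π) - 1 = v π 0 ^ i₁ * v π 1 ^ i₂ * a)
    (hb : (β : NodeAlg B π) - 1 = v π 0 ^ i₁ * v π 1 ^ i₂ * b)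
    (hea : ¬ (v π 1 ∣ a)) (htb : ¬ (v π 0 ∣ b)) :
    Module.length (NodeAlg B π) (NodeAlg B π ⧸
        (fixIdeal σ).colon ({v π 0 ^ i₁ * v π 1 ^ i₂} : Set (NodeAlg B π))) =
      1 + ((j - i₁ : ℕ) : ℕ∞) * Module.length (NodeAlg B π)
          (NodeAlg B π ⧸ Ideal.span ({v π 0, b} : Set (NodeAlg B π))) +
        ((j - i₂ : ℕ) : ℕ∞) * Module.length (NodeAlg B π)
          (NodeAlg B π ⧸ Ideal.span ({v π 1, a} : Set (NodeAlg B π))) := by
  obtain ⟨j', rfl⟩ : ∃ j', j = j' + 1 := ⟨j - 1, by omega⟩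
  obtain ⟨p', hp'⟩ : ∃ p', j' = i₁ + p' := ⟨j' - i₁, by omega⟩
  obtain ⟨q', hq'⟩ : ∃ q', j' = i₂ + q' := ⟨j' - i₂, by omega⟩
  have hqp : q' ≤ p' := by omega
  set t : NodeAlg B π := v π 0 with ht_def
  set e : NodeAlg B π := v π 1 with he_def
  set D : NodeAlg B π := t ^ i₁ * e ^ i₂ with hD
  set ϖ : NodeAlg B π := cls π (C π) with hϖ
  set γ' : NodeAlg B π := algebraMap B (NodeAlg B π) γ with hγ'
  have hαa : (α : NodeAlg B π) = 1 + D * a := by rw [← ha]; ring
  have hβb : (β : NodeAlg B π) = 1 + D * b := by rw [← hb]; ring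
  have hte : t * e = ϖ := t_mul_e π
  have hϖpow : ∀ n, ϖ ^ n = t ^ n * e ^ n := pi_pow_eq hπ
  have hDreg : ∀ x, D * x = 0 → x = 0 := by
    intro x hx
    rw [hD, mul_assoc] at hx
    exact pow_reg hπ 1 _ _ (pow_reg hπ 0 _ _ hx)
  have hαβ : (α : NodeAlg B π) * β = 1 + γ' * ϖ ^ j' := by
    have h1 := sigma_pi hπ σ j' hσπ
    rw [← t_mul_e, map_mul, ht, he, t_mul_e] at h1
    have h2 : ϖ * ((α : NodeAlg B π) * β - (1 + γ' * ϖ ^ j')) = 0 := by
      rw [mul_sub, ← h1, ← hte]; ring
    exact sub_eq_zero.mp (pi_reg hπ _ h2)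
  have hrel : a + b + D * a * b = γ' * (t ^ p' * e ^ q') := by
    have h1 : D * (a + b + D * a * b - γ' * (t ^ p' * e ^ q')) = 0 := by
      have h2 : ϖ ^ j' = D * (t ^ p' * e ^ q') := by
        have ht_pow : t ^ j' = t ^ i₁ * t ^ p' := by rw [← pow_add, ← hp']
        have he_pow : e ^ j' = e ^ i₂ * e ^ q' := by rw [← pow_add, ← hq']
        rw [hϖpow, hD, ht_pow, he_pow]; ring
      rw [hαa, hβb, h2] at hαβ
      linear_combination hαβ
    exact sub_eq_zero.mp (hDreg _ h1)
  have hfix : fixIdeal σ = Ideal.span {ϖ ^ (j' + 1)} ⊔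
      Ideal.span {(α : NodeAlg B π) * t - t, (β : NodeAlg B π) * e - e} := by
    have := fixIdeal_tau hπ σ hγ hσB hσπ
    rw [ht, he] at this
    exact this
  have e1 : ϖ ^ (j' + 1) = D * (t ^ (p' + 1) * e ^ (q' + 1)) := by
    have ht_pow : t ^ (j' + 1) = t ^ i₁ * t ^ (p' + 1) := by
      rw [← pow_add]; congr 1; omega
    have he_pow : e ^ (j' + 1) = e ^ i₂ * e ^ (q' + 1) := by
      rw [← pow_add]; congr 1; omega
    rw [hϖpow, hD, ht_pow, he_pow]; ring
  have e2 : (α : NodeAlg B π) * t - t = D * (a * t) := by rw [hαa]; ring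
  have e3 : (β : NodeAlg B π) * e - e = D * (b * e) := by rw [hβb]; ring
  have hK : fixIdeal σ =
      Ideal.span {D * (t ^ (p' + 1) * e ^ (q' + 1)), D * (a * t), D * (b * e)} := by
    rw [hfix, e1, e2, e3]
    apply le_antisymm
    · apply sup_le
      · rw [Ideal.span_le, Set.singleton_subset_iff]
        exact Ideal.subset_span (by simp)
      · rw [Ideal.span_le, Set.pair_subset_iff]
        exact ⟨Ideal.subset_span (by simp), Ideal.subset_span (by simp)⟩
    · rw [Ideal.span_le]
      intro x hx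
      simp only [Set.mem_insert_iff, Set.mem_singleton_iff] at hx
      rcases hx with hx | hx | hx
      · rw [hx]; exact Ideal.mem_sup_left (Ideal.subset_span rfl)
      · rw [hx]; exact Ideal.mem_sup_right (Ideal.subset_span (by simp))
      · rw [hx]; exact Ideal.mem_sup_right (Ideal.subset_span (by simp))
  rw [hK, colon_three hπ hDreg]
  have hcore := core_len hπ p' q' hqp a b D γ' (hγ.map (algebraMap B (NodeAlg B π)))
    (by rw [← hαa]; exact α.isUnit) hrel hea htb
  have c1 : j' + 1 - i₁ = p' + 1 := by omega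
  have c2 : j' + 1 - i₂ = q' + 1 := by omega
  rw [c1, c2]
  exact hcore

theorem stab_colon_max (j i₁ : ℕ) (h1 : i₁ < j)
    (γ : B) (hγ : IsUnit γ) (σ : NodeAlg B π ≃+* NodeAlg B π)
    (hσB : ∀ c : B, σ (algebraMap B (NodeAlg B π) c) - algebraMap B (NodeAlg B π) c ∈
      Ideal.span ({algebraMap B (NodeAlg B π) (π ^ j)} : Set (NodeAlg B π)))
    (hσπ : σ (algebraMap B (NodeAlg B π) π) = algebraMap B (NodeAlg B π) (π + γ * π ^ j))
    (α β : (NodeAlg B π)ˣ) (ht : σ (v π 0) = (α : NodeAlg B π) * v π 0)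
    (he : σ (v π 1) = (β : NodeAlg B π) * v π 1)
    (a b : NodeAlg B π) (ha : (α : NodeAlg B π) - 1 = v π 0 ^ i₁ * v π 1 ^ j * a)
    (hb : (β : NodeAlg B π) - 1 = v π 0 ^ i₁ * v π 1 ^ (j - 1) * b)
    (htb : ¬ (v π 0 ∣ b)) :
    Module.length (NodeAlg B π) (NodeAlg B π ⧸
        (fixIdeal σ).colon ({v π 0 ^ i₁ * v π 1 ^ j} : Set (NodeAlg B π))) +
        ((j - 1 - i₁ : ℕ) : ℕ∞) =
      ((j - i₁ : ℕ) : ℕ∞) * Module.length (NodeAlg B π)
          (NodeAlg B π ⧸ Ideal.span ({v π 0, b} : Set (NodeAlg B π))) := by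
  obtain ⟨j', rfl⟩ : ∃ j', j = j' + 1 := ⟨j - 1, by omega⟩
  obtain ⟨p', hp'⟩ : ∃ p', j' = i₁ + p' := ⟨j' - i₁, by omega⟩
  rw [Nat.add_sub_cancel] at hb
  set t : NodeAlg B π := v π 0 with ht_def
  set e : NodeAlg B π := v π 1 with he_def
  set D' : NodeAlg B π := t ^ i₁ * e ^ j' with hD'
  set D : NodeAlg B π := t ^ i₁ * e ^ (j' + 1) with hD
  set ϖ : NodeAlg B π := cls π (C π) with hϖ
  set γ' : NodeAlg B π := algebraMap B (NodeAlg B π) γ with hγ'
  have hDD' : D = D' * e := by rw [hD, hD', pow_succ]; ring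
  have hαa : (α : NodeAlg B π) = 1 + D * a := by rw [← ha]; ring
  have hβb : (β : NodeAlg B π) = 1 + D' * b := by rw [← hb]; ring
  have hte : t * e = ϖ := t_mul_e π
  have hϖpow : ∀ n, ϖ ^ n = t ^ n * e ^ n := pi_pow_eq hπ
  have hte' : ¬ t ∣ e := not_dvd_oth hπ 0
  have het' : ¬ e ∣ t := not_dvd_oth hπ 1
  have hD'reg : ∀ x, D' * x = 0 → x = 0 := by
    intro x hx
    rw [hD', mul_assoc] at hx
    exact pow_reg hπ 1 _ _ (pow_reg hπ 0 _ _ hx)
  have hDreg : ∀ x, D * x = 0 → x = 0 := by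
    intro x hx
    rw [hD, mul_assoc] at hx
    exact pow_reg hπ 1 _ _ (pow_reg hπ 0 _ _ hx)
  have hαβ : (α : NodeAlg B π) * β = 1 + γ' * ϖ ^ j' := by
    have h1 := sigma_pi hπ σ j' hσπ
    rw [← t_mul_e, map_mul, ht, he, t_mul_e] at h1
    have h2 : ϖ * ((α : NodeAlg B π) * β - (1 + γ' * ϖ ^ j')) = 0 := by
      rw [mul_sub, ← h1, ← hte]; ring
    exact sub_eq_zero.mp (pi_reg hπ _ h2)
  have ht_pow : t ^ j' = t ^ i₁ * t ^ p' := by rw [← pow_add, ← hp']
  have hrel : e * a + b + D * a * b = γ' * t ^ p' := by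
    have h1 : D' * (e * a + b + D * a * b - γ' * t ^ p') = 0 := by
      have h2 : ϖ ^ j' = D' * t ^ p' := by
        rw [hϖpow, hD', ht_pow]; ring
      rw [hαa, hβb, h2, hDD'] at hαβ
      rw [hDD']
      linear_combination hαβ
    exact sub_eq_zero.mp (hD'reg _ h1)
  have hrel' : b * (1 + D * a) = γ' * t ^ p' - e * a := by rw [← hrel]; ring
  have hαunit : IsUnit (1 + D * a) := by rw [← hαa]; exact α.isUnit
  obtain ⟨αi, hαi⟩ := isUnit_iff_exists_inv.mp hαunit
  have hfix : fixIdeal σ = Ideal.span {ϖ ^ (j' + 1)} ⊔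
      Ideal.span {(α : NodeAlg B π) * t - t, (β : NodeAlg B π) * e - e} := by
    have := fixIdeal_tau hπ σ hγ hσB hσπ
    rw [ht, he] at this
    exact this
  have e1 : ϖ ^ (j' + 1) = D * t ^ (p' + 1) := by
    have ht_pow' : t ^ (j' + 1) = t ^ i₁ * t ^ (p' + 1) := by
      rw [← pow_add]; congr 1; omega
    rw [hϖpow, hD, ht_pow']; ring
  have e2 : (α : NodeAlg B π) * t - t = D * (a * t) := by rw [hαa]; ring
  have e3 : (β : NodeAlg B π) * e - e = D * b := by rw [hβb, hDD']; ring
  have hK : fixIdeal σ = Ideal.span {D * t ^ (p' + 1), D * (a * t), D * b} := by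
    rw [hfix, e1, e2, e3]
    apply le_antisymm
    · apply sup_le
      · rw [Ideal.span_le, Set.singleton_subset_iff]
        exact Ideal.subset_span (by simp)
      · rw [Ideal.span_le, Set.pair_subset_iff]
        exact ⟨Ideal.subset_span (by simp), Ideal.subset_span (by simp)⟩
    · rw [Ideal.span_le]
      intro x hx
      simp only [Set.mem_insert_iff, Set.mem_singleton_iff] at hx
      rcases hx with hx | hx | hx
      · rw [hx]; exact Ideal.mem_sup_left (Ideal.subset_span rfl)
      · rw [hx]; exact Ideal.mem_sup_right (Ideal.subset_span (by simp))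
      · rw [hx]; exact Ideal.mem_sup_right (Ideal.subset_span (by simp))
  rw [hK, colon_three hπ hDreg]
  -- Step A
  have hbmem : b ∈ Ideal.span {t ^ p', a} := by
    rw [Ideal.mem_span_pair]
    refine ⟨αi * γ', -(αi * e), ?_⟩
    linear_combination (-αi) * hrel' + b * hαi
  have hcolA : (Ideal.span {t ^ (p' + 1), a * t, b}).colon {t} = Ideal.span {t ^ p', a} := by
    ext x
    rw [Submodule.mem_colon_singleton, smul_eq_mul, mem_span_three]
    constructor
    · rintro ⟨c₁, c₂, c₃, h⟩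
      have h1 : t ∣ c₃ * b := by
        refine ⟨x - c₁ * t ^ p' - c₂ * a, ?_⟩
        have : c₃ * b = x * t - c₁ * t ^ (p' + 1) - c₂ * (a * t) := by rw [← h]; ring
        rw [this]; ring
      rcases dvd_of_dvd_mul hπ 0 h1 with h2 | h2
      · obtain ⟨c₃', rfl⟩ := h2
        have h3 : t * (c₁ * t ^ p' + c₂ * a + c₃' * b - x) = 0 := by
          have : x * t = c₁ * t ^ (p' + 1) + c₂ * (a * t) + t * c₃' * b := h.symm
          rw [mul_sub, mul_comm t x, this]; ring
        have h4 := sub_eq_zero.mp (v_reg hπ 0 _ h3)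
        rw [← h4]
        refine Ideal.add_mem _ (Ideal.add_mem _ ?_ ?_) ?_
        · exact Ideal.mul_mem_left _ _ (Ideal.subset_span (by simp))
        · exact Ideal.mul_mem_left _ _ (Ideal.subset_span (by simp))
        · exact Ideal.mul_mem_left _ _ hbmem
      · exact absurd h2 htb
    · intro hx
      rw [Ideal.mem_span_pair] at hx
      obtain ⟨r, s, rfl⟩ := hx
      exact ⟨r, s, 0, by ring⟩
  have hsupA : Ideal.span {t ^ (p' + 1), a * t, b} ⊔ Ideal.span {t} =
      Ideal.span ({t, b} : Set (NodeAlg B π)) := by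
    apply le_antisymm
    · apply sup_le
      · rw [Ideal.span_le]
        intro x hx
        simp only [Set.mem_insert_iff, Set.mem_singleton_iff] at hx
        rcases hx with hx | hx | hx
        · rw [hx, SetLike.mem_coe, Ideal.mem_span_pair]
          exact ⟨t ^ p', 0, by ring⟩
        · rw [hx, SetLike.mem_coe, Ideal.mem_span_pair]
          exact ⟨a, 0, by ring⟩
        · rw [hx]; exact Ideal.subset_span (by simp)
      · rw [Ideal.span_le, Set.singleton_subset_iff]
        exact Ideal.subset_span (by simp)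
    · rw [Ideal.span_le, Set.pair_subset_iff]
      exact ⟨Ideal.mem_sup_right (Ideal.subset_span rfl),
        Ideal.mem_sup_left (Ideal.subset_span (by simp))⟩
  have hA := length_colon_add (Ideal.span {t ^ (p' + 1), a * t, b}) t
  rw [hcolA, hsupA] at hA
  have c1 : j' + 1 - 1 - i₁ = p' := by omega
  have c2 : j' + 1 - i₁ = p' + 1 := by omega
  rw [c1, c2, hA]
  rcases Nat.eq_zero_or_pos p' with h0 | hpos
  · subst h0
    have : Module.length (NodeAlg B π) (NodeAlg B π ⧸ Ideal.span {t ^ 0, a}) = 0 := by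
      rw [Module.length_eq_zero_iff]
      have : Ideal.span {t ^ 0, a} = ⊤ := by
        rw [Ideal.eq_top_iff_one]
        exact Ideal.subset_span (by simp)
      rw [this]
      infer_instance
    rw [this]
    simp
  · have htp : t ∣ t ^ p' := dvd_pow_self t (by omega)
    have hat : ¬ t ∣ a := by
      intro h
      apply htb
      have h1 : t ∣ b * (1 + D * a) := by
        rw [hrel']
        exact dvd_sub (Dvd.dvd.mul_left htp _) (Dvd.dvd.mul_left h _)
      rcases dvd_of_dvd_mul hπ 0 h1 with h2 | h2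
      · exact h2
      · exact absurd (isUnit_of_dvd_unit h2 hαunit) (not_isUnit_v_dvr hπ 0)
    have hregt : RegMod t a := regMod_v hπ 0 hat
    rw [length_pow hregt]
    have htb_eq : Ideal.span ({t, b} : Set (NodeAlg B π)) = Ideal.span {e * a, t} := by
      obtain ⟨z, hz⟩ := htp
      have h1 : b ∈ Ideal.span ({e * a, t} : Set (NodeAlg B π)) := by
        rw [Ideal.mem_span_pair]
        refine ⟨-αi, αi * γ' * z, ?_⟩
        rw [hz] at hrel'
        linear_combination (-αi) * hrel' + b * hαi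
      have h2 : e * a ∈ Ideal.span ({t, b} : Set (NodeAlg B π)) := by
        rw [Ideal.mem_span_pair]
        refine ⟨γ' * z, -(1 + D * a), ?_⟩
        rw [hz] at hrel'
        linear_combination (-1 : NodeAlg B π) * hrel'
      apply le_antisymm
      · rw [Ideal.span_le, Set.pair_subset_iff]
        exact ⟨Ideal.subset_span (by simp), h1⟩
      · rw [Ideal.span_le, Set.pair_subset_iff]
        exact ⟨h2, Ideal.subset_span (by simp)⟩
    have hD2 := length_mul (x := e) (y := a) (a := t) (regMod_v hπ 1 het')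
    have hpair1 : Ideal.span {a, t} = Ideal.span ({t, a} : Set (NodeAlg B π)) := by
      rw [Set.pair_comm]
    have hpair2 : Ideal.span {e, t} = Ideal.span ({t, e} : Set (NodeAlg B π)) := by
      rw [Set.pair_comm]
    rw [hpair1, hpair2, length_quot_m hπ] at hD2
    rw [htb_eq, hD2]
    push_cast
    ring

end DVR5

end Groth.Agent.Lib.Helper6.NodeAlg
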