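import Groth.Agent.Lib.Helper6.NodeAlgBase
import Groth.Agent.Lib.Helper6.LenLemmas

set_option linter.unusedSectionVars false
set_option linter.unusedVariables false
set_option autoImplicit false
set_option maxHeartbeats 400000

/-!
# The node `k⟦t, e⟧/(te)` over a field: fixed-point multiplicities on the branches
-/

noncomputable section

namespace Groth.Agent.Lib.Helper6.NodeAlg

open MvPowerSeries ArLef LenLemmas

universe u

section FieldCase

variable {k : Type u} [Field k]

lemma hφ0 : (RingHom.id k) (0 : k) = 0 := rfl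

lemma hker0 (b : k) (hb : (RingHom.id k) b = 0) : (0 : k) ∣ b := by
  have : b = 0 := hb
  rw [this]

/-- `theta` in the field case -/
abbrev th0 (i : Fin 2) : NodeAlg k 0 →+* PowerSeries k :=
  theta (0 : k) (RingHom.id k) hφ0 i

lemma ker_th0 (i : Fin 2) : RingHom.ker (th0 (k := k) i) = Ideal.span {v (0 : k) i} :=
  ker_theta 0 (RingHom.id k) hφ0 hker0 i

lemma th0_self (i : Fin 2) : th0 (k := k) i (v 0 i) = 0 := theta_v_self _ _ _ i
lemma th0_oth (i : Fin 2) : th0 (k := k) i (v 0 (oth i)) = PowerSeries.X := theta_v_oth _ _ _ i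

lemma prime_v0 (i : Fin 2) : (Ideal.span {v (0 : k) i}).IsPrime :=
  isPrime_span_v 0 (RingHom.id k) hφ0 hker0 i

lemma v_oth_not_mem0 (i : Fin 2) : v (0 : k) (oth i) ∉ Ideal.span {v (0 : k) i} :=
  v_oth_not_mem 0 (RingHom.id k) hφ0 hker0 i

lemma not_isUnit_v0 (i : Fin 2) : ¬ IsUnit (v (0 : k) i) :=
  not_isUnit_v 0 (RingHom.id k) hφ0 i

lemma nontrivial0 : Nontrivial (NodeAlg k 0) := nontrivial_of_theta 0 (RingHom.id k) hφ0

lemma isLocalRing0 : IsLocalRing (NodeAlg k 0) :=
  haveI := nontrivial0 (k := k)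
  isLocalRing 0

lemma te_zero : v (0 : k) 0 * v (0 : k) 1 = 0 := by
  rw [t_mul_e]
  have : (C (0 : k) : MvPowerSeries (Fin 2) k) = 0 := map_zero _
  exact (congrArg (cls (0 : k)) this).trans (map_zero _)

lemma th0_v_mem (i j : Fin 2) :
    th0 (k := k) i (v 0 j) ∈ Ideal.span {(PowerSeries.X : PowerSeries k)} := by
  rcases eq_or_eq_oth i j with rfl | rfl
  · rw [th0_self]; exact Ideal.zero_mem _
  · rw [th0_oth]; exact Ideal.subset_span rfl

/-- the augmentation -/
def rho0 : NodeAlg k 0 →+* k :=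
  (PowerSeries.constantCoeff (R := k)).comp (th0 1)

lemma rho0_v (i : Fin 2) : rho0 (k := k) (v 0 i) = 0 := by
  unfold rho0
  rw [RingHom.comp_apply]
  have := th0_v_mem (k := k) 1 i
  rw [Ideal.mem_span_singleton] at this
  obtain ⟨c, hc⟩ := this
  rw [hc, map_mul, PowerSeries.constantCoeff_X, zero_mul]

lemma rho0_algebraMap (b : k) : rho0 (algebraMap k (NodeAlg k 0) b) = b := by
  unfold rho0
  rw [RingHom.comp_apply]
  have : th0 1 (algebraMap k (NodeAlg k 0) b) = PowerSeries.C ((RingHom.id k) b) :=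
    theta_algebraMap _ _ _ 1 b
  rw [this, PowerSeries.constantCoeff_C]
  rfl

lemma ker_rho0 : RingHom.ker (rho0 (k := k)) = Ideal.span {v (0 : k) 0, v (0 : k) 1} := by
  apply le_antisymm
  · intro r hr
    obtain ⟨c, r₁, r₂, rfl⟩ := decomp (0 : k) r
    rw [RingHom.mem_ker, map_add, map_add, map_mul, map_mul, rho0_v, rho0_v, zero_mul, zero_mul,
      add_zero, add_zero, rho0_algebraMap] at hr
    subst hr
    rw [map_zero (algebraMap k (NodeAlg k 0)), zero_add]
    exact Ideal.add_mem _ (Ideal.mul_mem_right _ _ (Ideal.subset_span (by simp)))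
      (Ideal.mul_mem_right _ _ (Ideal.subset_span (by simp)))
  · rw [Ideal.span_le, Set.pair_subset_iff]
    exact ⟨rho0_v 0, rho0_v 1⟩

lemma isMaximal_m0 : (Ideal.span ({v (0 : k) 0, v (0 : k) 1} : Set (NodeAlg k 0))).IsMaximal := by
  rw [← ker_rho0]
  apply RingHom.ker_isMaximal_of_surjective
  intro b
  exact ⟨algebraMap k (NodeAlg k 0) b, rho0_algebraMap b⟩

lemma length_quot_m0 :
    Module.length (NodeAlg k 0)
      (NodeAlg k 0 ⧸ Ideal.span ({v (0 : k) 0, v (0 : k) 1} : Set (NodeAlg k 0))) = 1 :=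
  haveI := isMaximal_m0 (k := k)
  length_quot_maximal _

lemma fixIdeal_algEquiv0 (σ : NodeAlg k 0 ≃ₐ[k] NodeAlg k 0) :
    fixIdeal σ = Ideal.span {σ (v (0 : k) 0) - v (0 : k) 0, σ (v (0 : k) 1) - v (0 : k) 1} := by
  haveI := isLocalRing0 (k := k)
  have h : fixIdeal σ = genIdeal (0 : k) (σ : NodeAlg k 0 →+* NodeAlg k 0) :=
    fixIdeal_eq_genIdeal (0 : k) (σ : NodeAlg k 0 →+* NodeAlg k 0) not_isUnit_v0
  rw [h]
  unfold genIdeal
  have : Ideal.span (Set.range (fun c : k =>
      (σ : NodeAlg k 0 →+* NodeAlg k 0) (algebraMap k (NodeAlg k 0) c) -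
        algebraMap k (NodeAlg k 0) c)) = ⊥ := by
    rw [Ideal.span_eq_bot]
    rintro _ ⟨c, rfl⟩
    show σ (algebraMap k (NodeAlg k 0) c) - algebraMap k (NodeAlg k 0) c = 0
    rw [σ.commutes, sub_self]
  rw [this, bot_sup_eq]
  rfl

theorem branches_main (σ : NodeAlg k 0 ≃ₐ[k] NodeAlg k 0) (α β : (NodeAlg k 0)ˣ)
    (ht : σ (v (0 : k) 0) = (α : NodeAlg k 0) * v (0 : k) 0)
    (he : σ (v (0 : k) 1) = (β : NodeAlg k 0) * v (0 : k) 1) :
    Module.length (NodeAlg k 0) (NodeAlg k 0 ⧸ fixIdeal σ) + 1 =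
      Module.length (NodeAlg k 0) (NodeAlg k 0 ⧸
          (fixIdeal σ ⊔ Ideal.span ({v (0 : k) 0} : Set (NodeAlg k 0)))) +
        Module.length (NodeAlg k 0) (NodeAlg k 0 ⧸
          (fixIdeal σ ⊔ Ideal.span ({v (0 : k) 1} : Set (NodeAlg k 0)))) := by
  set t : NodeAlg k 0 := v (0 : k) 0 with ht_def
  set e : NodeAlg k 0 := v (0 : k) 1 with he_def
  set a : NodeAlg k 0 := (α : NodeAlg k 0) - 1 with ha
  set b : NodeAlg k 0 := (β : NodeAlg k 0) - 1 with hb
  have hte0 : t * e = 0 := te_zero
  have hfix : fixIdeal σ = Ideal.span {a * t, b * e} := by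
    have := fixIdeal_algEquiv0 σ
    rw [ht, he] at this
    rw [this]
    have e1 : (α : NodeAlg k 0) * t - t = a * t := by rw [ha]; ring
    have e2 : (β : NodeAlg k 0) * e - e = b * e := by rw [hb]; ring
    rw [e1, e2]
  have hnot : t ∉ Ideal.span {e} := by
    have := v_oth_not_mem0 (k := k) 1
    exact this
  have hregt : RegMod t e := by
    intro r hr
    rcases (prime_v0 (k := k) 1).mem_or_mem hr with h | h
    · exact absurd h hnot
    · exact h
  -- colon by t
  have hcol : (fixIdeal σ).colon {t} = Ideal.span {e, a} := by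
    ext x
    rw [Submodule.mem_colon_singleton, smul_eq_mul, hfix, Ideal.mem_span_pair]
    constructor
    · rintro ⟨c₁, c₂, h⟩
      have h1 : th0 1 (t * (x - c₁ * a)) = 0 := by
        have : t * (x - c₁ * a) = c₂ * b * e := by
          have : x * t = c₁ * (a * t) + c₂ * (b * e) := h.symm
          rw [mul_sub, mul_comm t x, this]; ring
        rw [this, map_mul, th0_self, mul_zero]
      rw [map_mul] at h1
      have h2 : th0 (k := k) 1 t = PowerSeries.X := th0_oth 1
      rw [h2] at h1
      have h3 : th0 1 (x - c₁ * a) = 0 := by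
        rcases mul_eq_zero.mp h1 with h | h
        · exact absurd h PowerSeries.X_ne_zero
        · exact h
      have h4 : x - c₁ * a ∈ Ideal.span {e} := by
        rw [← ker_th0 (k := k) 1]
        exact h3
      have : x = (x - c₁ * a) + c₁ * a := by ring
      rw [this]
      exact Ideal.add_mem _ (Ideal.span_mono (by simp) h4)
        (Ideal.mul_mem_left _ _ (Ideal.subset_span (by simp)))
    · intro hx
      rw [Ideal.mem_span_pair] at hx
      obtain ⟨r, s, rfl⟩ := hx
      refine ⟨s, 0, ?_⟩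
      have : (r * e + s * a) * t = s * (a * t) + r * (t * e) := by ring
      rw [this, hte0]; ring
  have hsup1 : fixIdeal σ ⊔ Ideal.span {e} = Ideal.span {t * a, e} := by
    rw [hfix]
    apply le_antisymm
    · apply sup_le
      · rw [Ideal.span_le, Set.pair_subset_iff]
        constructor
        · rw [mul_comm a t]; exact Ideal.subset_span (by simp)
        · exact Ideal.mul_mem_left _ _ (Ideal.subset_span (by simp))
      · rw [Ideal.span_le, Set.singleton_subset_iff]
        exact Ideal.subset_span (by simp)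
    · rw [Ideal.span_le, Set.pair_subset_iff]
      constructor
      · rw [mul_comm t a]
        exact Ideal.mem_sup_left (Ideal.subset_span (by simp))
      · exact Ideal.mem_sup_right (Ideal.subset_span rfl)
  have hA := length_colon_add (fixIdeal σ) t
  rw [hcol] at hA
  have hM := length_mul (x := t) (y := a) (a := e) hregt
  rw [length_quot_m0] at hM
  have hpair : Ideal.span {e, a} = Ideal.span ({a, e} : Set (NodeAlg k 0)) := by
    rw [Set.pair_comm]
  rw [hsup1, hM, hA, hpair]
  ring

end FieldCase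

end Groth.Agent.Lib.Helper6.NodeAlg
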