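import Groth.Agent.Lib.Helper6.NodeAlgBase

set_option linter.unusedSectionVars false
set_option linter.unusedVariables false
set_option autoImplicit false
set_option maxHeartbeats 400000

/-!
# Fixed-point ideals of `B`-algebra automorphisms of the formal double point
-/

noncomputable section

namespace Groth.Agent.Lib.Helper6.NodeAlg

open MvPowerSeries ArLef

universe u

section DVR2

variable {B : Type u} [CommRing B] [IsDomain B] [IsDiscreteValuationRing B] {π : B}
  (hπ : Irreducible π)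
include hπ

/-- generators of the fixed ideal of a `B`-algebra automorphism -/
lemma fixIdeal_algEquiv (σ : NodeAlg B π ≃ₐ[B] NodeAlg B π) :
    fixIdeal σ = Ideal.span {σ (v π 0) - v π 0, σ (v π 1) - v π 1} := by
  have h := fixIdeal_eq hπ (σ : NodeAlg B π →+* NodeAlg B π)
  have h' : fixIdeal σ = genIdeal π (σ : NodeAlg B π →+* NodeAlg B π) := h
  rw [h']
  unfold genIdeal
  have : Ideal.span (Set.range (fun c : B =>
      (σ : NodeAlg B π →+* NodeAlg B π) (algebraMap B (NodeAlg B π) c) -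
        algebraMap B (NodeAlg B π) c)) = ⊥ := by
    rw [Ideal.span_eq_bot]
    rintro _ ⟨c, rfl⟩
    show σ (algebraMap B (NodeAlg B π) c) - algebraMap B (NodeAlg B π) c = 0
    rw [σ.commutes, sub_self]
  rw [this, bot_sup_eq]
  rfl

theorem fixIdeal_stabilizes (σ : NodeAlg B π ≃ₐ[B] NodeAlg B π) (hσ : σ ≠ AlgEquiv.refl)
    (ht : Associated (σ (v π 0)) (v π 0)) (he : Associated (σ (v π 1)) (v π 1)) :
    ∃ g : NodeAlg B π, g ≠ 0 ∧
      fixIdeal σ = Ideal.span {g} * Ideal.span ({v π 0, v π 1} : Set (NodeAlg B π)) := by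
  obtain ⟨u, hu⟩ := ht
  obtain ⟨w, hw⟩ := he
  have hα : σ (v π 0) = (↑u⁻¹ : NodeAlg B π) * v π 0 := by
    calc σ (v π 0) = ↑u⁻¹ * (σ (v π 0) * u) := by
          rw [mul_comm (σ _), ← mul_assoc, Units.inv_mul, one_mul]
      _ = ↑u⁻¹ * v π 0 := by rw [hu]
  have hβ : σ (v π 1) = (↑w⁻¹ : NodeAlg B π) * v π 1 := by
    calc σ (v π 1) = ↑w⁻¹ * (σ (v π 1) * w) := by
          rw [mul_comm (σ _), ← mul_assoc, Units.inv_mul, one_mul]
      _ = ↑w⁻¹ * v π 1 := by rw [hw]
  set α : NodeAlg B π := ↑u⁻¹ with hαdef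
  set β : NodeAlg B π := ↑w⁻¹ with hβdef
  have hαβ : α * β = 1 := by
    have h1 : σ (cls π (C π)) = cls π (C π) := by
      rw [← algebraMap_eq, σ.commutes]
    rw [← t_mul_e, map_mul, hα, hβ] at h1
    have h2 : cls π (C π) * (α * β - 1) = 0 := by
      rw [← t_mul_e]; linear_combination h1
    exact sub_eq_zero.mp (pi_reg hπ _ h2)
  have hfix := fixIdeal_algEquiv hπ σ
  rw [hα, hβ] at hfix
  refine ⟨α - 1, ?_, ?_⟩
  · intro hg
    have hα1 : α = 1 := sub_eq_zero.mp hg
    have hβ1 : β = 1 := by rw [hα1, one_mul] at hαβ; exact hαβ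
    rw [hα1, hβ1, one_mul, one_mul, sub_self, sub_self] at hfix
    have hbot : fixIdeal σ = ⊥ := by
      rw [hfix, Ideal.span_eq_bot]
      rintro x (rfl | rfl) <;> rfl
    apply hσ
    ext r
    have : σ r - r ∈ fixIdeal σ := Ideal.subset_span ⟨r, rfl⟩
    rw [hbot, Ideal.mem_bot] at this
    exact sub_eq_zero.mp this
  · rw [hfix]
    have e1 : α * v π 0 - v π 0 = (α - 1) * v π 0 := by ring
    have e2 : β * v π 1 - v π 1 = -β * ((α - 1) * v π 1) := by
      linear_combination (v π 1) * hαβ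
    have e3 : (α - 1) * v π 1 = -α * (β * v π 1 - v π 1) := by
      linear_combination (v π 1) * hαβ
    apply le_antisymm
    · rw [Ideal.span_le]
      rintro x (rfl | rfl)
      · rw [e1]
        exact Ideal.mul_mem_mul (Ideal.subset_span rfl) (Ideal.subset_span (by simp))
      · rw [e2]
        exact Ideal.mul_mem_left _ _
          (Ideal.mul_mem_mul (Ideal.subset_span rfl) (Ideal.subset_span (by simp)))
    · rw [Ideal.mul_le]
      intro r hr s hs
      rw [Ideal.mem_span_singleton'] at hr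
      obtain ⟨c, rfl⟩ := hr
      rw [Ideal.mem_span_pair] at hs
      obtain ⟨x, y, rfl⟩ := hs
      have : c * (α - 1) * (x * v π 0 + y * v π 1) =
          c * x * ((α - 1) * v π 0) + c * y * ((α - 1) * v π 1) := by ring
      rw [this, ← e1, e3]
      refine Ideal.add_mem _ (Ideal.mul_mem_left _ _ (Ideal.subset_span (by simp)))
        (Ideal.mul_mem_left _ _ (Ideal.mul_mem_left _ _ (Ideal.subset_span (by simp))))

/-- `theta` in the DVR case -/
abbrev th (i : Fin 2) : NodeAlg B π →+* PowerSeries (IsLocalRing.ResidueField B) :=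
  theta π (IsLocalRing.residue B) (residue_pi hπ) i

lemma ker_th (i : Fin 2) : RingHom.ker (th hπ i) = Ideal.span {v π i} :=
  ker_theta π (IsLocalRing.residue B) (residue_pi hπ) (residue_ker hπ) i

lemma th_self (i : Fin 2) : th hπ i (v π i) = 0 := theta_v_self _ _ _ i
lemma th_oth (i : Fin 2) : th hπ i (v π (oth i)) = PowerSeries.X := theta_v_oth _ _ _ i

/-- if `h ∉ (v i)` then `v i` is regular modulo `h` -/
lemma v_regular_mod (i : Fin 2) {h : NodeAlg B π} (hh : h ∉ Ideal.span {v π i})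
    {x : NodeAlg B π} (hx : v π i * x ∈ Ideal.span {h}) : x ∈ Ideal.span {h} := by
  rw [Ideal.mem_span_singleton] at hx ⊢
  obtain ⟨y, hy⟩ := hx
  have h1 : h * y ∈ Ideal.span {v π i} := by
    rw [← hy]; exact Ideal.mul_mem_right _ _ (Ideal.subset_span rfl)
  rcases (prime_v hπ i).mem_or_mem h1 with h2 | h2
  · exact absurd h2 hh
  · rw [Ideal.mem_span_singleton] at h2
    obtain ⟨y', rfl⟩ := h2
    refine ⟨y', ?_⟩
    have : v π i * (x - h * y') = 0 := by rw [mul_sub, hy]; ring
    exact sub_eq_zero.mp (v_reg hπ i _ this)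

lemma th_v_mem (i j : Fin 2) :
    th hπ i (v π j) ∈ Ideal.span {(PowerSeries.X : PowerSeries (IsLocalRing.ResidueField B))} := by
  rcases eq_or_eq_oth i j with rfl | rfl
  · rw [th_self]; exact Ideal.zero_mem _
  · rw [th_oth]; exact Ideal.subset_span rfl

lemma th_mem_sq (i : Fin 2) {x : NodeAlg B π}
    (hx : x ∈ (Ideal.span ({v π 0, v π 1} : Set (NodeAlg B π))) ^ 2) :
    (PowerSeries.X : PowerSeries (IsLocalRing.ResidueField B)) ^ 2 ∣ th hπ i x := by
  have h1 : Ideal.map (th hπ i) (Ideal.span ({v π 0, v π 1} : Set (NodeAlg B π))) ≤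
      Ideal.span {PowerSeries.X} := by
    rw [Ideal.map_span, Ideal.span_le]
    rintro _ ⟨y, (rfl | rfl), rfl⟩
    · exact th_v_mem hπ i 0
    · exact th_v_mem hπ i 1
  have h2 : th hπ i x ∈ Ideal.map (th hπ i)
      ((Ideal.span ({v π 0, v π 1} : Set (NodeAlg B π))) ^ 2) := Ideal.mem_map_of_mem _ hx
  rw [Ideal.map_pow] at h2
  have h3 := Ideal.pow_right_mono h1 2 h2
  rw [Ideal.span_singleton_pow, Ideal.mem_span_singleton] at h3
  exact h3

theorem fixIdeal_switches (σ : NodeAlg B π ≃ₐ[B] NodeAlg B π)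
    (ht : Associated (σ (v π 0)) (v π 1)) (he : Associated (σ (v π 1)) (v π 0)) :
    ∃ h : NodeAlg B π, fixIdeal σ = Ideal.span {h} ∧
      h ∉ (Ideal.span ({v π 0, v π 1} : Set (NodeAlg B π))) ^ 2 ∧
      IsSMulRegular (NodeAlg B π ⧸ Ideal.span ({h} : Set (NodeAlg B π))) π := by
  obtain ⟨u, hu⟩ := ht
  obtain ⟨w, hw⟩ := he
  have hα : σ (v π 0) = (↑u⁻¹ : NodeAlg B π) * v π 1 := by
    calc σ (v π 0) = ↑u⁻¹ * (σ (v π 0) * u) := by
          rw [mul_comm (σ _), ← mul_assoc, Units.inv_mul, one_mul]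
      _ = ↑u⁻¹ * v π 1 := by rw [hu]
  have hβ : σ (v π 1) = (↑w⁻¹ : NodeAlg B π) * v π 0 := by
    calc σ (v π 1) = ↑w⁻¹ * (σ (v π 1) * w) := by
          rw [mul_comm (σ _), ← mul_assoc, Units.inv_mul, one_mul]
      _ = ↑w⁻¹ * v π 0 := by rw [hw]
  set α : NodeAlg B π := ↑u⁻¹ with hαdef
  set β : NodeAlg B π := ↑w⁻¹ with hβdef
  have hαβ : α * β = 1 := by
    have h1 : σ (cls π (C π)) = cls π (C π) := by
      rw [← algebraMap_eq, σ.commutes]
    rw [← t_mul_e, map_mul, hα, hβ] at h1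
    have h2 : cls π (C π) * (α * β - 1) = 0 := by
      rw [← t_mul_e]; linear_combination h1
    exact sub_eq_zero.mp (pi_reg hπ _ h2)
  have hfix := fixIdeal_algEquiv hπ σ
  rw [hα, hβ] at hfix
  set h : NodeAlg B π := α * v π 1 - v π 0 with hh
  have e2 : β * v π 0 - v π 1 = -β * h := by
    rw [hh]; linear_combination (v π 1) * hαβ
  have hth : th hπ 1 h = -PowerSeries.X := by
    rw [hh, map_sub, map_mul, th_self]
    have : th hπ 1 (v π 0) = PowerSeries.X := th_oth hπ 1
    rw [this, mul_zero, zero_sub]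
  have hnot : h ∉ Ideal.span {v π 1} := by
    rw [← ker_th hπ 1, RingHom.mem_ker, hth, neg_eq_zero]
    exact PowerSeries.X_ne_zero
  refine ⟨h, ?_, ?_, ?_⟩
  · rw [hfix, e2]
    apply le_antisymm
    · rw [Ideal.span_le]
      rintro x (rfl | rfl)
      · exact Ideal.subset_span rfl
      · exact Ideal.mul_mem_left _ _ (Ideal.subset_span rfl)
    · rw [Ideal.span_le, Set.singleton_subset_iff]
      exact Ideal.subset_span (by simp)
  · intro hm
    have := th_mem_sq hπ 1 hm
    rw [hth] at this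
    obtain ⟨c, hc⟩ := (dvd_neg.mp this)
    have h1 := congrArg (PowerSeries.coeff 1) hc
    rw [PowerSeries.coeff_one_X, PowerSeries.coeff_X_pow_mul', if_neg (by omega)] at h1
    exact one_ne_zero h1
  · intro x y hxy
    obtain ⟨r, rfl⟩ := Ideal.Quotient.mk_surjective x
    obtain ⟨s, rfl⟩ := Ideal.Quotient.mk_surjective y
    have h1 : (Ideal.Quotient.mk (Ideal.span {h})) (algebraMap B (NodeAlg B π) π * (r - s)) = 0 := by
      have e : ∀ z : NodeAlg B π, π • (Ideal.Quotient.mk (Ideal.span {h})) z =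
          (Ideal.Quotient.mk (Ideal.span {h})) (algebraMap B (NodeAlg B π) π * z) := by
        intro z
        rw [← Algebra.smul_def]
        rfl
      simp only at hxy
      rw [e, e] at hxy
      rw [mul_sub, map_sub, hxy, sub_self]
    rw [Ideal.Quotient.eq_zero_iff_mem, algebraMap_eq, ← t_mul_e] at h1
    have h2 : v π 1 * (v π 1 * (α * (r - s))) ∈ Ideal.span {h} := by
      have : v π 1 * (v π 1 * (α * (r - s))) = v π 0 * v π 1 * (r - s) + h * (v π 1 * (r - s)) := by
        rw [hh]; ring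
      rw [this]
      exact Ideal.add_mem _ h1 (Ideal.mul_mem_right _ _ (Ideal.subset_span rfl))
    have h3 := v_regular_mod hπ 1 hnot (v_regular_mod hπ 1 hnot h2)
    have h4 : r - s ∈ Ideal.span {h} := by
      have : r - s = β * (α * (r - s)) := by
        rw [← mul_assoc, mul_comm β α, hαβ, one_mul]
      rw [this]
      exact Ideal.mul_mem_left _ _ h3
    rw [← sub_eq_zero, ← map_sub, Ideal.Quotient.eq_zero_iff_mem]
    exact h4

end DVR2

end Groth.Agent.Lib.Helper6.NodeAlg
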