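import Groth.Agent.Lib.Helper6.NodeAlgSwitch

set_option linter.unusedSectionVars false
set_option linter.unusedVariables false
set_option autoImplicit false
set_option maxHeartbeats 400000

/-!
# Automorphisms of the formal double point over an automorphism of the base: stabilizing case
-/

noncomputable section

namespace Groth.Agent.Lib.Helper6.NodeAlg

open MvPowerSeries ArLef LenLemmas

universe u

lemma mem_span_three {R : Type*} [CommRing R] {p q r x : R} :
    x ∈ Ideal.span {p, q, r} ↔ ∃ a b c, a * p + b * q + c * r = x := by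
  rw [Ideal.mem_span_insert]
  constructor
  · rintro ⟨a, z, hz, rfl⟩
    rw [Ideal.mem_span_pair] at hz
    obtain ⟨b, c, rfl⟩ := hz
    exact ⟨a, b, c, by ring⟩
  · rintro ⟨a, b, c, rfl⟩
    exact ⟨a, b * q + c * r, Ideal.mem_span_pair.mpr ⟨b, c, rfl⟩, by ring⟩

section DVR4

variable {B : Type u} [CommRing B] [IsDomain B] [IsDiscreteValuationRing B] {π : B}
  (hπ : Irreducible π)
include hπ

lemma regMod_v (i : Fin 2) {h : NodeAlg B π} (hh : ¬ v π i ∣ h) : RegMod (v π i) h := by
  intro r hr
  apply v_regular_mod hπ i _ hr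
  rwa [Ideal.mem_span_singleton]

lemma regMod_pi {h : NodeAlg B π} (h0 : ¬ v π 0 ∣ h) (h1 : ¬ v π 1 ∣ h) :
    RegMod (cls π (C π)) h := by
  intro r hr
  rw [← t_mul_e, mul_assoc] at hr
  exact regMod_v hπ 1 h1 _ (regMod_v hπ 0 h0 _ hr)

lemma not_dvd_oth (i : Fin 2) : ¬ v π i ∣ v π (oth i) := by
  intro h
  exact v_oth_not_mem_dvr hπ i (Ideal.mem_span_singleton.mpr h)

lemma dvd_of_dvd_mul (i : Fin 2) {x y : NodeAlg B π} (h : v π i ∣ x * y) :
    v π i ∣ x ∨ v π i ∣ y := by
  have := (prime_v hπ i).mem_or_mem (Ideal.mem_span_singleton.mpr h)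
  simpa only [Ideal.mem_span_singleton] using this

lemma pi_pow_eq (n : ℕ) : cls π (C π) ^ n = v π 0 ^ n * v π 1 ^ n := by
  rw [← t_mul_e, mul_pow]

theorem stab_main (j : ℕ) (hj : 1 ≤ j) (γ : B) (hγ : IsUnit γ)
    (σ : NodeAlg B π ≃+* NodeAlg B π)
    (hσB : ∀ b : B, σ (algebraMap B (NodeAlg B π) b) - algebraMap B (NodeAlg B π) b ∈
      Ideal.span ({algebraMap B (NodeAlg B π) (π ^ j)} : Set (NodeAlg B π)))
    (hσπ : σ (algebraMap B (NodeAlg B π) π) = algebraMap B (NodeAlg B π) (π + γ * π ^ j))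
    (α β : (NodeAlg B π)ˣ) (ht : σ (v π 0) = (α : NodeAlg B π) * v π 0)
    (he : σ (v π 1) = (β : NodeAlg B π) * v π 1)
    (htb : ¬ (v π 0 ∣ (β : NodeAlg B π) - 1)) (hea : ¬ (v π 1 ∣ (α : NodeAlg B π) - 1)) :
    Module.length (NodeAlg B π) (NodeAlg B π ⧸ fixIdeal σ) =
      (j : ℕ∞) * (Module.length (NodeAlg B π)
          (NodeAlg B π ⧸ Ideal.span ({v π 0, (β : NodeAlg B π) - 1} : Set (NodeAlg B π))) +
        Module.length (NodeAlg B π)
          (NodeAlg B π ⧸ Ideal.span ({v π 1, (α : NodeAlg B π) - 1} : Set (NodeAlg B π)))) + 1 := by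
  obtain ⟨j', rfl⟩ : ∃ j', j = j' + 1 := ⟨j - 1, by omega⟩
  set t : NodeAlg B π := v π 0 with ht_def
  set e : NodeAlg B π := v π 1 with he_def
  set a : NodeAlg B π := (α : NodeAlg B π) - 1 with ha
  set b : NodeAlg B π := (β : NodeAlg B π) - 1 with hb
  set ϖ : NodeAlg B π := cls π (C π) with hϖ
  set γ' : NodeAlg B π := algebraMap B (NodeAlg B π) γ with hγ'
  have hαa : (α : NodeAlg B π) = a + 1 := by rw [ha]; ring
  have hβb : (β : NodeAlg B π) = b + 1 := by rw [hb]; ring
  have hte : t * e = ϖ := t_mul_e π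
  have hαβ : (α : NodeAlg B π) * β = 1 + γ' * ϖ ^ j' := by
    have h1 := sigma_pi hπ σ j' hσπ
    rw [← t_mul_e, map_mul, ht, he, t_mul_e] at h1
    have h2 : ϖ * ((α : NodeAlg B π) * β - (1 + γ' * ϖ ^ j')) = 0 := by
      rw [mul_sub, ← h1, ← hte]; ring
    exact sub_eq_zero.mp (pi_reg hπ _ h2)
  have hab : a + b + a * b = γ' * ϖ ^ j' := by
    rw [hαa, hβb] at hαβ
    linear_combination hαβ
  have hϖpow : ∀ n, ϖ ^ n = t ^ n * e ^ n := pi_pow_eq hπ
  have hfix : fixIdeal σ = Ideal.span {ϖ ^ (j' + 1)} ⊔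
      Ideal.span {(α : NodeAlg B π) * t - t, (β : NodeAlg B π) * e - e} := by
    have := fixIdeal_tau hπ σ hγ hσB hσπ
    rw [ht, he] at this
    exact this
  have hK : fixIdeal σ = Ideal.span {ϖ ^ (j' + 1), a * t, b * e} := by
    rw [hfix]
    apply le_antisymm
    · apply sup_le
      · rw [Ideal.span_le, Set.singleton_subset_iff]
        exact Ideal.subset_span (by simp)
      · rw [Ideal.span_le]
        rintro x (rfl | rfl)
        · have : (α : NodeAlg B π) * t - t = a * t := by rw [ha]; ring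
          rw [this]
          exact Ideal.subset_span (by simp)
        · have : (β : NodeAlg B π) * e - e = b * e := by rw [hb]; ring
          rw [this]
          exact Ideal.subset_span (by simp)
    · rw [Ideal.span_le]
      rintro x (rfl | rfl | rfl)
      · exact Ideal.mem_sup_left (Ideal.subset_span rfl)
      · have : a * t = (α : NodeAlg B π) * t - t := by rw [ha]; ring
        rw [this]
        exact Ideal.mem_sup_right (Ideal.subset_span (by simp))
      · have : b * e = (β : NodeAlg B π) * e - e := by rw [hb]; ring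
        rw [this]
        exact Ideal.mem_sup_right (Ideal.subset_span (by simp))
  have hte' : ¬ t ∣ e := not_dvd_oth hπ 0
  have het' : ¬ e ∣ t := not_dvd_oth hπ 1
  -- Step A
  have hcolA : (fixIdeal σ).colon {t} = Ideal.span {t ^ j' * e ^ (j' + 1), a, b * e} := by
    ext x
    rw [Submodule.mem_colon_singleton, smul_eq_mul, hK, mem_span_three, mem_span_three]
    constructor
    · rintro ⟨c₁, c₂, c₃, h⟩
      have h1 : t ∣ c₃ * (b * e) := by
        refine ⟨x - c₁ * (t ^ j' * e ^ (j' + 1)) - c₂ * a, ?_⟩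
        have : c₃ * (b * e) = x * t - c₁ * ϖ ^ (j' + 1) - c₂ * (a * t) := by rw [← h]; ring
        rw [this, hϖpow]; ring
      rcases dvd_of_dvd_mul hπ 0 h1 with h2 | h2
      · obtain ⟨c₃', rfl⟩ := h2
        refine ⟨c₁, c₂, c₃', ?_⟩
        have h3 : t * (c₁ * (t ^ j' * e ^ (j' + 1)) + c₂ * a + c₃' * (b * e) - x) = 0 := by
          have : x * t = c₁ * ϖ ^ (j' + 1) + c₂ * (a * t) + t * c₃' * (b * e) := h.symm
          rw [mul_sub, mul_comm t x, this, hϖpow]; ring
        exact sub_eq_zero.mp (v_reg hπ 0 _ h3)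
      · rcases dvd_of_dvd_mul hπ 0 h2 with h3 | h3
        · exact absurd h3 htb
        · exact absurd h3 hte'
    · rintro ⟨c₁, c₂, c₃, rfl⟩
      refine ⟨c₁, c₂, c₃ * t, ?_⟩
      rw [hϖpow]; ring
  have hsupA : fixIdeal σ ⊔ Ideal.span {t} = Ideal.span {e * b, t} := by
    rw [hK]
    apply le_antisymm
    · apply sup_le
      · rw [Ideal.span_le]
        rintro x (rfl | rfl | rfl)
        · rw [SetLike.mem_coe, Ideal.mem_span_pair]
          exact ⟨0, t ^ j' * e ^ (j' + 1), by rw [hϖpow]; ring⟩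
        · rw [SetLike.mem_coe, Ideal.mem_span_pair]
          exact ⟨0, a, by ring⟩
        · rw [SetLike.mem_coe, Ideal.mem_span_pair]
          exact ⟨1, 0, by ring⟩
      · rw [Ideal.span_le, Set.singleton_subset_iff]
        exact Ideal.subset_span (by simp)
    · rw [Ideal.span_le]
      rintro x (rfl | rfl)
      · apply Ideal.mem_sup_left
        rw [mul_comm e b]
        exact Ideal.subset_span (by simp)
      · exact Ideal.mem_sup_right (Ideal.subset_span rfl)
  -- Step B
  have hbmem : b ∈ Ideal.span {ϖ ^ j', a} := by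
    rw [Ideal.mem_span_pair]
    refine ⟨(↑α⁻¹ : NodeAlg B π) * γ', -(↑α⁻¹ : NodeAlg B π), ?_⟩
    have h1 : (↑α⁻¹ : NodeAlg B π) * (a + 1) = 1 := by rw [← hαa, Units.inv_mul]
    linear_combination (-(↑α⁻¹ : NodeAlg B π)) * hab + b * h1
  have hcolB : (Ideal.span {t ^ j' * e ^ (j' + 1), a, b * e}).colon {e} =
      Ideal.span {ϖ ^ j', a} := by
    ext x
    rw [Submodule.mem_colon_singleton, smul_eq_mul, mem_span_three]
    constructor
    · rintro ⟨c₁, c₂, c₃, h⟩
      have h1 : e ∣ c₂ * a := by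
        refine ⟨x - c₁ * (t ^ j' * e ^ j') - c₃ * b, ?_⟩
        have : c₂ * a = x * e - c₁ * (t ^ j' * e ^ (j' + 1)) - c₃ * (b * e) := by rw [← h]; ring
        rw [this]; ring
      rcases dvd_of_dvd_mul hπ 1 h1 with h2 | h2
      · obtain ⟨c₂', rfl⟩ := h2
        have h3 : e * (c₁ * (t ^ j' * e ^ j') + c₂' * a + c₃ * b - x) = 0 := by
          have : x * e = c₁ * (t ^ j' * e ^ (j' + 1)) + e * c₂' * a + c₃ * (b * e) := h.symm
          rw [mul_sub, mul_comm e x, this]; ring
        have h4 := sub_eq_zero.mp (v_reg hπ 1 _ h3)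
        rw [← h4]
        refine Ideal.add_mem _ (Ideal.add_mem _ ?_ ?_) ?_
        · rw [← hϖpow]
          exact Ideal.mul_mem_left _ _ (Ideal.subset_span (by simp))
        · exact Ideal.mul_mem_left _ _ (Ideal.subset_span (by simp))
        · exact Ideal.mul_mem_left _ _ hbmem
      · exact absurd h2 hea
    · intro hx
      rw [Ideal.mem_span_pair] at hx
      obtain ⟨p, q, rfl⟩ := hx
      exact ⟨p, q * e, 0, by rw [hϖpow]; ring⟩
  have hsupB : Ideal.span {t ^ j' * e ^ (j' + 1), a, b * e} ⊔ Ideal.span {e} =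
      Ideal.span {e, a} := by
    apply le_antisymm
    · apply sup_le
      · rw [Ideal.span_le]
        rintro x (rfl | rfl | rfl)
        · rw [SetLike.mem_coe, Ideal.mem_span_pair]
          exact ⟨t ^ j' * e ^ j', 0, by ring⟩
        · exact Ideal.subset_span (by simp)
        · rw [SetLike.mem_coe, Ideal.mem_span_pair]
          exact ⟨b, 0, by ring⟩
      · rw [Ideal.span_le, Set.singleton_subset_iff]
        exact Ideal.subset_span (by simp)
    · rw [Ideal.span_le]
      rintro x (rfl | rfl)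
      · exact Ideal.mem_sup_right (Ideal.subset_span rfl)
      · exact Ideal.mem_sup_left (Ideal.subset_span (by simp))
  -- lengths
  have hA := length_colon_add (fixIdeal σ) t
  rw [hcolA, hsupA] at hA
  have hB := length_colon_add (Ideal.span {t ^ j' * e ^ (j' + 1), a, b * e}) e
  rw [hcolB, hsupB] at hB
  have hA2 := length_mul (x := e) (y := b) (a := t) (regMod_v hπ 1 het')
  have hpair1 : Ideal.span {b, t} = Ideal.span ({t, b} : Set (NodeAlg B π)) := by
    rw [Set.pair_comm]
  have hpair2 : Ideal.span {e, t} = Ideal.span ({t, e} : Set (NodeAlg B π)) := by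
    rw [Set.pair_comm]
  rw [hpair1, hpair2, length_quot_m hπ] at hA2
  -- Step C, D
  have hC : Module.length (NodeAlg B π) (NodeAlg B π ⧸ Ideal.span {ϖ ^ j', a}) =
      (j' : ℕ∞) * (Module.length (NodeAlg B π) (NodeAlg B π ⧸ Ideal.span {e, a}) +
        Module.length (NodeAlg B π) (NodeAlg B π ⧸ Ideal.span {t, b})) := by
    rcases Nat.eq_zero_or_pos j' with h0 | hpos
    · subst h0
      rw [Nat.cast_zero, zero_mul, Module.length_eq_zero_iff]
      have : Ideal.span {ϖ ^ 0, a} = ⊤ := by
        rw [Ideal.eq_top_iff_one]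
        exact Ideal.subset_span (by simp)
      rw [this]
      infer_instance
    · have hϖt : t ∣ ϖ ^ j' := by
        rw [hϖpow]
        exact Dvd.dvd.mul_right (dvd_pow_self t (by omega)) _
      have hat : ¬ t ∣ a := by
        intro h
        apply htb
        have h1 : t ∣ b * (1 + a) := by
          have : b * (1 + a) = γ' * ϖ ^ j' - a := by rw [← hab]; ring
          rw [this]
          exact dvd_sub (Dvd.dvd.mul_left hϖt _) h
        rcases dvd_of_dvd_mul hπ 0 h1 with h2 | h2
        · exact h2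
        · exfalso
          have h3 : IsUnit (1 + a) := by
            rw [add_comm, ← hαa]; exact α.isUnit
          exact not_isUnit_v_dvr hπ 0 (isUnit_of_dvd_unit h2 h3)
      have hregϖ : RegMod ϖ a := regMod_pi hπ hat hea
      rw [length_pow hregϖ]
      have hD := length_mul (x := t) (y := e) (a := a) (regMod_v hπ 0 hat)
      rw [hte] at hD
      rw [hD]
      have hta : Ideal.span {t, a} = Ideal.span ({t, b} : Set (NodeAlg B π)) := by
        obtain ⟨z, hz⟩ := hϖt
        apply le_antisymm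
        · rw [Ideal.span_le]
          rintro x (rfl | rfl)
          · exact Ideal.subset_span (by simp)
          · rw [SetLike.mem_coe, Ideal.mem_span_pair]
            refine ⟨γ' * z, -(1 + a), ?_⟩
            rw [hz] at hab
            linear_combination (-1 : NodeAlg B π) * hab
        · rw [Ideal.span_le]
          rintro x (rfl | rfl)
          · exact Ideal.subset_span (by simp)
          · rw [SetLike.mem_coe, Ideal.mem_span_pair]
            refine ⟨γ' * z, -(1 + b), ?_⟩
            rw [hz] at hab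
            linear_combination (-1 : NodeAlg B π) * hab
      rw [hta]
  rw [hA, hB, hC, hA2]
  have hpair3 : Ideal.span ({v π 0, (β : NodeAlg B π) - 1} : Set (NodeAlg B π)) =
      Ideal.span {t, b} := rfl
  have hpair4 : Ideal.span ({v π 1, (α : NodeAlg B π) - 1} : Set (NodeAlg B π)) =
      Ideal.span {e, a} := rfl
  rw [hpair3, hpair4]
  push_cast
  ring

end DVR4

end Groth.Agent.Lib.Helper6.NodeAlg
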