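import Groth.Agent.Lib.Helper6.NodeAlgFix
import Groth.Agent.Lib.Helper6.LenLemmas

set_option linter.unusedSectionVars false
set_option linter.unusedVariables false
set_option autoImplicit false
set_option maxHeartbeats 400000

/-!
# Automorphisms of the formal double point over an automorphism of the base: switching case
-/

noncomputable section

namespace Groth.Agent.Lib.Helper6.NodeAlg

open MvPowerSeries ArLef LenLemmas

universe u

section DVR3

variable {B : Type u} [CommRing B] [IsDomain B] [IsDiscreteValuationRing B] {π : B}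
  (hπ : Irreducible π)
include hπ

/-- the augmentation to the residue field -/
def rho : NodeAlg B π →+* IsLocalRing.ResidueField B :=
  (PowerSeries.constantCoeff (R := IsLocalRing.ResidueField B)).comp (th hπ 1)

lemma rho_v (i : Fin 2) : rho hπ (v π i) = 0 := by
  unfold rho
  rw [RingHom.comp_apply]
  have := th_v_mem hπ 1 i
  rw [Ideal.mem_span_singleton] at this
  obtain ⟨c, hc⟩ := this
  rw [hc, map_mul, PowerSeries.constantCoeff_X, zero_mul]

lemma rho_algebraMap (b : B) :
    rho hπ (algebraMap B (NodeAlg B π) b) = IsLocalRing.residue B b := by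
  unfold rho
  rw [RingHom.comp_apply]
  have : th hπ 1 (algebraMap B (NodeAlg B π) b) = PowerSeries.C (IsLocalRing.residue B b) :=
    theta_algebraMap _ _ _ 1 b
  rw [this, PowerSeries.constantCoeff_C]

lemma rho_surjective : Function.Surjective (rho hπ) := by
  intro x
  obtain ⟨b, rfl⟩ := IsLocalRing.residue_surjective x
  exact ⟨algebraMap B (NodeAlg B π) b, rho_algebraMap hπ b⟩

lemma ker_rho : RingHom.ker (rho hπ) = Ideal.span {v π 0, v π 1} := by
  apply le_antisymm
  · intro r hr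
    obtain ⟨c, r₁, r₂, rfl⟩ := decomp π r
    rw [RingHom.mem_ker, map_add, map_add, map_mul, map_mul, rho_v, rho_v, zero_mul, zero_mul,
      add_zero, add_zero, rho_algebraMap] at hr
    obtain ⟨c', rfl⟩ := residue_ker hπ c hr
    refine Ideal.add_mem _ (Ideal.add_mem _ ?_ ?_) ?_
    · rw [map_mul, algebraMap_eq π π, ← t_mul_e, mul_assoc]
      exact Ideal.mul_mem_right _ _ (Ideal.subset_span (by simp))
    · exact Ideal.mul_mem_right _ _ (Ideal.subset_span (by simp))
    · exact Ideal.mul_mem_right _ _ (Ideal.subset_span (by simp))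
  · rw [Ideal.span_le]
    rintro x (rfl | rfl)
    · exact rho_v hπ 0
    · exact rho_v hπ 1

lemma isMaximal_m : (Ideal.span ({v π 0, v π 1} : Set (NodeAlg B π))).IsMaximal := by
  rw [← ker_rho hπ]
  exact RingHom.ker_isMaximal_of_surjective _ (rho_surjective hπ)

lemma mem_m_of_not_isUnit {g : NodeAlg B π} (hg : ¬ IsUnit g) :
    g ∈ Ideal.span ({v π 0, v π 1} : Set (NodeAlg B π)) := by
  have := isLocalRing_dvr hπ
  rw [IsLocalRing.eq_maximalIdeal (isMaximal_m hπ)]
  exact (IsLocalRing.mem_maximalIdeal _).mpr hg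

lemma not_isUnit_of_mem_m {g : NodeAlg B π}
    (hg : g ∈ Ideal.span ({v π 0, v π 1} : Set (NodeAlg B π))) : ¬ IsUnit g := by
  intro h
  exact (isMaximal_m hπ).ne_top (Ideal.eq_top_of_isUnit_mem _ hg h)

lemma length_quot_m :
    Module.length (NodeAlg B π)
      (NodeAlg B π ⧸ Ideal.span ({v π 0, v π 1} : Set (NodeAlg B π))) = 1 :=
  haveI := isMaximal_m hπ
  length_quot_maximal _

/-! ### automorphisms over an automorphism of `B` -/

variable (σ : NodeAlg B π ≃+* NodeAlg B π) {j : ℕ} {γ : B}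

lemma pi_pow_mem_fix (hγ : IsUnit γ)
    (hσπ : σ (algebraMap B (NodeAlg B π) π) = algebraMap B (NodeAlg B π) (π + γ * π ^ j)) :
    cls π (C π) ^ j ∈ fixIdeal σ := by
  obtain ⟨γ', hγ'⟩ := isUnit_iff_exists_inv.mp hγ
  have h1 : σ (algebraMap B (NodeAlg B π) π) - algebraMap B (NodeAlg B π) π ∈ fixIdeal σ :=
    Ideal.subset_span ⟨_, rfl⟩
  have h2 : cls π (C π) ^ j = algebraMap B (NodeAlg B π) γ' *
      (σ (algebraMap B (NodeAlg B π) π) - algebraMap B (NodeAlg B π) π) := by
    rw [hσπ, ← map_sub, ← map_mul, ← algebraMap_eq, ← map_pow]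
    congr 1
    have : π + γ * π ^ j - π = γ * π ^ j := by ring
    rw [this, ← mul_assoc, mul_comm γ' γ, hγ', one_mul]
  rw [h2]
  exact Ideal.mul_mem_left _ _ h1

lemma fixIdeal_tau (hγ : IsUnit γ)
    (hσB : ∀ b : B, σ (algebraMap B (NodeAlg B π) b) - algebraMap B (NodeAlg B π) b ∈
      Ideal.span ({algebraMap B (NodeAlg B π) (π ^ j)} : Set (NodeAlg B π)))
    (hσπ : σ (algebraMap B (NodeAlg B π) π) = algebraMap B (NodeAlg B π) (π + γ * π ^ j)) :
    fixIdeal σ = Ideal.span {cls π (C π) ^ j} ⊔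
      Ideal.span {σ (v π 0) - v π 0, σ (v π 1) - v π 1} := by
  have h := fixIdeal_eq hπ (σ : NodeAlg B π →+* NodeAlg B π)
  have h' : fixIdeal σ = genIdeal π (σ : NodeAlg B π →+* NodeAlg B π) := h
  apply le_antisymm
  · rw [h']
    unfold genIdeal
    apply sup_le
    · rw [Ideal.span_le]
      rintro _ ⟨c, rfl⟩
      apply Ideal.mem_sup_left
      have := hσB c
      rw [map_pow, algebraMap_eq] at this
      exact this
    · exact le_sup_right
  · apply sup_le
    · rw [Ideal.span_le, Set.singleton_subset_iff]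
      exact pi_pow_mem_fix hπ σ hγ hσπ
    · rw [Ideal.span_le]
      rintro _ (rfl | rfl)
      · exact Ideal.subset_span ⟨_, rfl⟩
      · exact Ideal.subset_span ⟨_, rfl⟩

lemma sigma_pi (j' : ℕ)
    (hσπ : σ (algebraMap B (NodeAlg B π) π) =
      algebraMap B (NodeAlg B π) (π + γ * π ^ (j' + 1))) :
    σ (cls π (C π)) = cls π (C π) *
      (1 + algebraMap B (NodeAlg B π) γ * cls π (C π) ^ j') := by
  rw [← algebraMap_eq, hσπ, map_add, map_mul, map_pow, pow_succ]
  ring

lemma regMod_pow_one {a f : NodeAlg B π} (hreg : RegMod a f) :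
    ∀ n : ℕ, a ^ n ∈ Ideal.span {f} → (1 : NodeAlg B π) ∈ Ideal.span {f} := by
  intro n
  induction n with
  | zero => intro h; rwa [pow_zero] at h
  | succ n ih =>
    intro h
    rw [pow_succ'] at h
    exact ih (hreg _ h)

lemma pow_eq_add_mul (x d : NodeAlg B π) (n : ℕ) : ∃ c, (x + d) ^ n = x ^ n + d * c := by
  obtain ⟨z, hz⟩ := sub_dvd_pow_sub_pow (x + d) x n
  refine ⟨z, ?_⟩
  have : x + d - x = d := by ring
  rw [this] at hz
  rw [← hz]; ring

theorem switch_main (j : ℕ) (hj : 1 ≤ j) (γ : B) (hγ : IsUnit γ)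
    (σ : NodeAlg B π ≃+* NodeAlg B π)
    (hσB : ∀ b : B, σ (algebraMap B (NodeAlg B π) b) - algebraMap B (NodeAlg B π) b ∈
      Ideal.span ({algebraMap B (NodeAlg B π) (π ^ j)} : Set (NodeAlg B π)))
    (hσπ : σ (algebraMap B (NodeAlg B π) π) = algebraMap B (NodeAlg B π) (π + γ * π ^ j))
    (ht : Associated (σ (v π 0)) (v π 1)) (he : Associated (σ (v π 1)) (v π 0)) :
    (∀ g : NodeAlg B π, fixIdeal σ ≤ Ideal.span ({g} : Set (NodeAlg B π)) → IsUnit g) ∧
      Module.length (NodeAlg B π) (NodeAlg B π ⧸ fixIdeal σ) = ((2 * j - 1 : ℕ) : ℕ∞) := by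
  obtain ⟨j', rfl⟩ : ∃ j', j = j' + 1 := ⟨j - 1, by omega⟩
  obtain ⟨u, hu⟩ := ht
  obtain ⟨w, hw⟩ := he
  have hα : σ (v π 0) = (↑u⁻¹ : NodeAlg B π) * v π 1 := by
    calc σ (v π 0) = ↑u⁻¹ * (σ (v π 0) * u) := by
          rw [mul_comm (σ _), ← mul_assoc, Units.inv_mul, one_mul]
      _ = ↑u⁻¹ * v π 1 := by rw [hu]
  have hβ : σ (v π 1) = (↑w⁻¹ : NodeAlg B π) * v π 0 := by
    calc σ (v π 1) = ↑w⁻¹ * (σ (v π 1) * w) := by
          rw [mul_comm (σ _), ← mul_assoc, Units.inv_mul, one_mul]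
      _ = ↑w⁻¹ * v π 0 := by rw [hw]
  set α : NodeAlg B π := ↑u⁻¹ with hαdef
  set β : NodeAlg B π := ↑w⁻¹ with hβdef
  have hαu : α * u = 1 := by rw [hαdef, Units.inv_mul]
  set ϖ : NodeAlg B π := cls π (C π) with hϖ
  set γ' : NodeAlg B π := algebraMap B (NodeAlg B π) γ with hγ'
  obtain ⟨γi, hγi⟩ := isUnit_iff_exists_inv.mp (hγ.map (algebraMap B (NodeAlg B π)))
  have hαβ : α * β = 1 + γ' * ϖ ^ j' := by
    have h1 := sigma_pi hπ σ j' hσπ
    rw [← t_mul_e, map_mul, hα, hβ, t_mul_e] at h1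
    have h2 : ϖ * (α * β - (1 + γ' * ϖ ^ j')) = 0 := by
      have e : ϖ = v π 0 * v π 1 := (t_mul_e π).symm
      rw [mul_sub, ← h1, e]; ring
    exact sub_eq_zero.mp (pi_reg hπ _ h2)
  have hfix := fixIdeal_tau hπ σ hγ hσB hσπ
  rw [hα, hβ] at hfix
  set h : NodeAlg B π := α * v π 1 - v π 0 with hh
  -- ϖ in terms of e and h
  have hϖeh : ϖ = α * v π 1 ^ 2 + h * (-(v π 1)) := by
    rw [hϖ, ← t_mul_e, hh]; ring
  obtain ⟨c₁, hc₁⟩ := pow_eq_add_mul hπ (α * v π 1 ^ 2) (h * (-(v π 1))) j'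
  rw [← hϖeh] at hc₁
  have hth : th hπ 1 h = -PowerSeries.X := by
    rw [hh, map_sub, map_mul, th_self]
    have : th hπ 1 (v π 0) = PowerSeries.X := th_oth hπ 1
    rw [this, mul_zero, zero_sub]
  have hnot : h ∉ Ideal.span {v π 1} := by
    rw [← ker_th hπ 1, RingHom.mem_ker, hth, neg_eq_zero]
    exact PowerSeries.X_ne_zero
  have hreg : RegMod (v π 1) h := fun r hr => v_regular_mod hπ 1 hnot hr
  have hhm : h ∈ Ideal.span ({v π 0, v π 1} : Set (NodeAlg B π)) := by
    rw [hh, Ideal.mem_span_pair]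
    exact ⟨-1, α, by ring⟩
  have hhsq : h ∉ (Ideal.span ({v π 0, v π 1} : Set (NodeAlg B π))) ^ 2 := by
    intro hm
    have := th_mem_sq hπ 1 hm
    rw [hth] at this
    obtain ⟨c, hc⟩ := (dvd_neg.mp this)
    have h1 := congrArg (PowerSeries.coeff 1) hc
    rw [PowerSeries.coeff_one_X, PowerSeries.coeff_X_pow_mul', if_neg (by omega)] at h1
    exact one_ne_zero h1
  -- the key identities
  have e2 : β * v π 0 - v π 1 =
      (γ' * α ^ j') * v π 1 ^ (2 * j' + 1) + h * (γ' * (-(v π 1)) * c₁ * v π 1 - β) := by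
    have : β * v π 0 - v π 1 = (α * β - 1) * v π 1 - β * h := by rw [hh]; ring
    rw [this, hαβ, hc₁]; ring
  have e3 : ϖ ^ (j' + 1) = (α ^ (j' + 1) * v π 1) * v π 1 ^ (2 * j' + 1) +
      h * (-(v π 1) * (α * v π 1 ^ 2) ^ j' + (-(v π 1)) * c₁ * ϖ) := by
    rw [pow_succ, hc₁]
    linear_combination ((α * v π 1 ^ 2) ^ j') * hϖeh
  have hfix' : fixIdeal σ = Ideal.span {v π 1 ^ (2 * j' + 1), h} := by
    rw [hfix]
    apply le_antisymm
    · apply sup_le
      · rw [Ideal.span_le, Set.singleton_subset_iff, SetLike.mem_coe, Ideal.mem_span_pair]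
        exact ⟨α ^ (j' + 1) * v π 1,
          -(v π 1) * (α * v π 1 ^ 2) ^ j' + (-(v π 1)) * c₁ * ϖ, by rw [e3]; ring⟩
      · rw [Ideal.span_le]
        rintro x (rfl | rfl)
        · exact Ideal.subset_span (by simp)
        · rw [e2, SetLike.mem_coe, Ideal.mem_span_pair]
          exact ⟨γ' * α ^ j', γ' * (-(v π 1)) * c₁ * v π 1 - β, by ring⟩
    · rw [Ideal.span_le]
      rintro x (rfl | rfl)
      · apply Ideal.mem_sup_right
        have e4 : v π 1 ^ (2 * j' + 1) = (γi * (u : NodeAlg B π) ^ j') *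
            ((β * v π 0 - v π 1) - h * (γ' * (-(v π 1)) * c₁ * v π 1 - β)) := by
          rw [e2]
          have h1 : γi * γ' = 1 := by rw [mul_comm]; exact hγi
          have h2 : (u : NodeAlg B π) ^ j' * α ^ j' = 1 := by
            rw [← mul_pow, mul_comm (u : NodeAlg B π) α, hαu, one_pow]
          calc v π 1 ^ (2 * j' + 1) = (γi * γ') * ((u : NodeAlg B π) ^ j' * α ^ j') *
                v π 1 ^ (2 * j' + 1) := by rw [h1, h2]; ring
            _ = _ := by ring
        rw [e4]
        apply Ideal.mul_mem_left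
        apply Ideal.sub_mem
        · exact Ideal.subset_span (by simp)
        · exact Ideal.mul_mem_right _ _ (Ideal.subset_span (by simp))
      · exact Ideal.mem_sup_right (Ideal.subset_span (by simp))
  constructor
  · intro g hg
    by_contra hgu
    have hgm := mem_m_of_not_isUnit hπ hgu
    have h1 : h ∈ Ideal.span {g} := hg (by rw [hfix']; exact Ideal.subset_span (by simp))
    rw [Ideal.mem_span_singleton'] at h1
    obtain ⟨c, hc⟩ := h1
    by_cases hcu : IsUnit c
    · obtain ⟨c', hc'⟩ := isUnit_iff_exists_inv.mp hcu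
      have hgh : g = c' * h := by rw [← hc, ← mul_assoc, mul_comm c' c, hc', one_mul]
      have h2 : v π 1 ^ (2 * j' + 1) ∈ Ideal.span {h} := by
        have := hg (by rw [hfix']; exact Ideal.subset_span (by simp) :
          v π 1 ^ (2 * j' + 1) ∈ fixIdeal σ)
        rw [Ideal.mem_span_singleton'] at this ⊢
        obtain ⟨d, hd⟩ := this
        exact ⟨d * c', by rw [← hd, hgh]; ring⟩
      have h3 := regMod_pow_one hπ hreg _ h2
      rw [Ideal.mem_span_singleton'] at h3
      obtain ⟨d, hd⟩ := h3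
      exact not_isUnit_of_mem_m hπ hhm (IsUnit.of_mul_eq_one d (by rw [mul_comm]; exact hd))
    · apply hhsq
      rw [← hc, sq]
      exact Ideal.mul_mem_mul (mem_m_of_not_isUnit hπ hcu) hgm
  · rw [hfix', length_pow hreg]
    have : Ideal.span {v π 1, h} = Ideal.span ({v π 0, v π 1} : Set (NodeAlg B π)) := by
      apply le_antisymm
      · rw [Ideal.span_le]
        rintro x (rfl | rfl)
        · exact Ideal.subset_span (by simp)
        · exact hhm
      · rw [Ideal.span_le]
        rintro x (rfl | rfl)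
        · rw [SetLike.mem_coe, Ideal.mem_span_pair]
          exact ⟨α, -1, by rw [hh]; ring⟩
        · exact Ideal.subset_span (by simp)
    rw [this, length_quot_m hπ, mul_one]
    congr 1

end DVR3

end Groth.Agent.Lib.Helper6.NodeAlg
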