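import Mathlib

set_option autoImplicit false
set_option linter.style.haveILetI false
set_option linter.unusedSectionVars false
set_option linter.unusedVariables false

namespace Groth.Agent.Lib.Helper6.NormZero

open Polynomial IntermediateField

section alg

variable (A B K L : Type*) [CommRing A] [IsDomain A] [CommRing B] [IsDomain B] [Algebra A B]
    [Field K] [Field L] [Algebra A K] [IsFractionRing A K] [Algebra B L] [IsFractionRing B L]
    [Algebra A L] [Algebra K L] [IsScalarTower A B L] [IsScalarTower A K L]
    [FiniteDimensional K L] [Algebra.IsIntegral A B] [IsIntegrallyClosed A]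

include L in
/-- The norm of an integral element comes from `A`. -/
theorem exists_norm (c : B) : ∃ a : A, algebraMap A K a = Algebra.norm K (algebraMap B L c) := by
  have hc : IsIntegral A (algebraMap B L c) := (Algebra.IsIntegral.isIntegral c).algebraMap
  have := Algebra.isIntegral_norm K hc
  exact IsIntegrallyClosed.isIntegral_iff.1 this

theorem dvd_of_norm (hinj : Function.Injective (algebraMap A B)) (b : B) (a : A)
    (ha : algebraMap A K a = Algebra.norm K (algebraMap B L b)) :
    b ∣ algebraMap A B a := by
  haveI : FaithfulSMul A B := (faithfulSMul_iff_algebraMap_injective A B).2 hinj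
  have hb : IsIntegral A b := Algebra.IsIntegral.isIntegral b
  set x := algebraMap B L b with hx
  have hxK : IsIntegral K x := (hb.algebraMap (B := L)).tower_top
  have hmin : minpoly K x = (minpoly A b).map (algebraMap A K) :=
    minpoly.isIntegrallyClosed_eq_field_fractions K L hb
  -- the norm as a power of the constant coefficient
  have hnorm : Algebra.norm K x =
      ((-1) ^ (IntermediateField.adjoin.powerBasis hxK).dim *
        algebraMap A K ((minpoly A b).coeff 0)) ^ Module.finrank K⟮x⟯ L := by
    rw [Algebra.norm_eq_norm_adjoin K x]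
    congr 1
    have := Algebra.PowerBasis.norm_gen_eq_coeff_zero_minpoly
      (IntermediateField.adjoin.powerBasis hxK)
    rw [IntermediateField.adjoin.powerBasis_gen, IntermediateField.minpoly_gen, hmin,
      Polynomial.coeff_map] at this
    exact this
  set d := (IntermediateField.adjoin.powerBasis hxK).dim
  set m := Module.finrank K⟮x⟯ L with hm
  have hmpos : 0 < m := Module.finrank_pos
  have ha' : a = ((-1) ^ d * (minpoly A b).coeff 0) ^ m := by
    apply IsFractionRing.injective A K
    rw [ha, hnorm]
    simp
  -- `b` divides the constant coefficient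
  have hdvd0 : b ∣ algebraMap A B ((minpoly A b).coeff 0) := by
    have h0 : aeval b (minpoly A b) = 0 := minpoly.aeval A b
    have hsplit := Polynomial.divX_mul_X_add (minpoly A b)
    rw [← hsplit] at h0
    simp only [map_add, map_mul, aeval_X, aeval_C] at h0
    refine ⟨-(aeval b (minpoly A b).divX), ?_⟩
    linear_combination h0
  rw [ha', map_pow, map_mul]
  exact dvd_pow (Dvd.dvd.mul_left hdvd0 _) hmpos.ne'

include K L in
theorem pow_mem_span_of_dvd (b : B) (a : A)
    (ha : algebraMap A K a = Algebra.norm K (algebraMap B L b)) (y : A)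
    (hy : b ∣ algebraMap A B y) : y ^ Module.finrank K L ∈ Ideal.span {a} := by
  obtain ⟨c, hc⟩ := hy
  obtain ⟨ac, hac⟩ := exists_norm A B K L c
  have h1 : algebraMap A K (y ^ Module.finrank K L) = algebraMap A K (a * ac) := by
    rw [map_pow, map_mul, ha, hac, ← map_mul, ← map_mul, ← hc,
      ← IsScalarTower.algebraMap_apply A B L, IsScalarTower.algebraMap_apply A K L,
      Algebra.norm_algebraMap]
  rw [IsFractionRing.injective A K h1]
  exact Ideal.mul_mem_right _ _ (Ideal.mem_span_singleton_self a)

include K L in
theorem comap_span_le (b : B) (a : A)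
    (ha : algebraMap A K a = Algebra.norm K (algebraMap B L b)) (p : Ideal A) [p.IsPrime]
    (hap : a ∈ p) : (Ideal.span {b}).comap (algebraMap A B) ≤ p := by
  intro y hy
  rw [Ideal.mem_comap, Ideal.mem_span_singleton] at hy
  have := pow_mem_span_of_dvd A B K L b a ha y hy
  have h2 : y ^ Module.finrank K L ∈ p :=
    (Ideal.span_singleton_le_iff_mem p).2 hap this
  exact Ideal.IsPrime.mem_of_pow_mem inferInstance _ h2

include K L in
theorem image_zeroLocus (hinj : Function.Injective (algebraMap A B)) (b : B) (a : A)
    (ha : algebraMap A K a = Algebra.norm K (algebraMap B L b)) :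
    PrimeSpectrum.comap (algebraMap A B) '' PrimeSpectrum.zeroLocus ({b} : Set B) =
        PrimeSpectrum.zeroLocus ({a} : Set A) := by
  have hdvd := dvd_of_norm A B K L hinj b a ha
  ext p
  constructor
  · rintro ⟨q, hq, rfl⟩
    rw [PrimeSpectrum.mem_zeroLocus, Set.singleton_subset_iff] at hq ⊢
    show algebraMap A B a ∈ q.asIdeal
    exact Ideal.mem_of_dvd _ hdvd hq
  · intro hp
    rw [PrimeSpectrum.mem_zeroLocus, Set.singleton_subset_iff] at hp
    obtain ⟨Q, hQ, hQp, hQc⟩ := Ideal.exists_ideal_over_prime_of_isIntegral p.asIdeal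
      (Ideal.span {b}) (comap_span_le A B K L b a ha p.asIdeal hp)
    refine ⟨⟨Q, hQp⟩, ?_, PrimeSpectrum.ext hQc⟩
    rw [PrimeSpectrum.mem_zeroLocus, Set.singleton_subset_iff]
    exact hQ (Ideal.mem_span_singleton_self b)

end alg

section dim

open PrimeSpectrum

theorem topKrullDim_zeroLocus (R : Type*) [CommRing R] (I : Ideal R) :
    topologicalKrullDim ↥(zeroLocus (I : Set R)) = Order.krullDim ↥(zeroLocus (I : Set R)) := by
  have hemb := isClosedEmbedding_comap_of_surjective (R ⧸ I) (Ideal.Quotient.mk I)
    Ideal.Quotient.mk_surjective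
  have hrange : Set.range (comap (Ideal.Quotient.mk I)) = zeroLocus (I : Set R) := by
    rw [range_comap_of_surjective _ _ Ideal.Quotient.mk_surjective, Ideal.mk_ker]
  have h1 := (hemb.isEmbedding.toHomeomorph).isHomeomorph.topologicalKrullDim_eq
  rw [hrange] at h1
  rw [← h1, PrimeSpectrum.topologicalKrullDim_eq_ringKrullDim, ringKrullDim_quotient]


variable (A B K L : Type*) [CommRing A] [IsDomain A] [CommRing B] [IsDomain B] [Algebra A B]
    [Field K] [Field L] [Algebra A K] [IsFractionRing A K] [Algebra B L] [IsFractionRing B L]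
    [Algebra A L] [Algebra K L] [IsScalarTower A B L] [IsScalarTower A K L]
    [FiniteDimensional K L] [Algebra.IsIntegral A B] [IsIntegrallyClosed A]

include K L in
theorem krullDim_zeroLocus_eq (hinj : Function.Injective (algebraMap A B)) (b : B) (a : A)
    (ha : algebraMap A K a = Algebra.norm K (algebraMap B L b)) :
    Order.krullDim ↥(zeroLocus ({b} : Set B)) = Order.krullDim ↥(zeroLocus ({a} : Set A)) := by
  have himg := image_zeroLocus A B K L hinj b a ha
  apply le_antisymm
  · -- incomparability
    let φ : ↥(zeroLocus ({b} : Set B)) → ↥(zeroLocus ({a} : Set A)) := fun q =>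
      ⟨comap (algebraMap A B) q.1, himg ▸ Set.mem_image_of_mem _ q.2⟩
    refine Order.krullDim_le_of_strictMono φ ?_
    intro q q' hqq'
    have h1 : q.1.asIdeal < q'.1.asIdeal := hqq'
    exact Ideal.IsIntegral.comap_lt_comap (R := A) h1
  · -- going up
    refine iSup_le fun l => ?_
    -- the chain in `Spec A`
    let l' : LTSeries (PrimeSpectrum A) := l.map Subtype.val (fun _ _ h => h)
    have hhead : l'.head ∈ zeroLocus ({a} : Set A) := (l.head).2
    rw [← himg] at hhead
    obtain ⟨q₀, hq₀, hq₀'⟩ := hhead
    haveI : q₀.asIdeal.LiesOver (RelSeries.head l').asIdeal := ⟨by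
      rw [← hq₀']; rfl⟩
    obtain ⟨L', hlen, hLhead, -⟩ := Ideal.exists_ltSeries_of_hasGoingUp l' q₀.asIdeal
    have hmem : ∀ i, L' i ∈ zeroLocus ({b} : Set B) := by
      intro i
      have hle : L'.head ≤ L' i := LTSeries.head_le L' i
      rw [hLhead] at hle
      rw [mem_zeroLocus, Set.singleton_subset_iff] at hq₀ ⊢
      exact hle hq₀
    let L'' : LTSeries ↥(zeroLocus ({b} : Set B)) :=
      { length := L'.length
        toFun := fun i => ⟨L' i, hmem i⟩
        step := fun i => L'.step i }
    have : (l.length : WithBot ℕ∞) = L''.length := by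
      show (l.length : WithBot ℕ∞) = L'.length
      rw [hlen]; rfl
    rw [this]
    exact Order.LTSeries.length_le_krullDim L''

include K L in
theorem topKrullDim_eq (hinj : Function.Injective (algebraMap A B)) (b : B) (a : A)
    (ha : algebraMap A K a = Algebra.norm K (algebraMap B L b)) :
    topologicalKrullDim ↥(zeroLocus ({b} : Set B)) =
      topologicalKrullDim ↥(zeroLocus ({a} : Set A)) := by
  have h := krullDim_zeroLocus_eq A B K L hinj b a ha
  rw [← zeroLocus_span ({b} : Set B), ← zeroLocus_span ({a} : Set A)] at h ⊢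
  rw [topKrullDim_zeroLocus, topKrullDim_zeroLocus, h]

end dim

end Groth.Agent.Lib.Helper6.NormZero
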