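import Groth.Prelude.Def_Models
import Mathlib.Tactic

/-!
# Basic toolkit for numerical types (`Models.NumericalType`)

* `NT.row` : the row equations `∑ j, a i j * m j = 0`
* `NT.Q_neg` : the intersection form is negative on every nonzero vector that vanishes somewhere
* `NT.Q_neg_emb` : the same, restricted along an embedding `Fin t ↪ Fin n`, `t < n`
* `NT.row_le_emb` : row inequality for a sub-configuration
* `Cfg t` : abstract "proper configuration of (-2)-indices" with its constructor `Cfg.ofNT`.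
-/

namespace Groth.Agent.Helper6

open Finset

namespace NT

variable {n : ℕ} (T : Models.NumericalType n)

theorem row (i : Fin n) : ∑ j, T.a i j * T.m j = 0 := by
  have := congrFun T.mulVec_m i
  simpa [Matrix.mulVec, dotProduct] using this

theorem symm' (i j : Fin n) : T.a i j = T.a j i := T.symm.apply j i

theorem col (j : Fin n) : ∑ i, T.a i j * T.m i = 0 := by
  rw [← row T j]
  exact Finset.sum_congr rfl fun i _ => by rw [symm' T i j]

/-- The quadratic form `x ↦ ∑ a i j x i x j`. -/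
def Q (x : Fin n → ℤ) : ℤ := ∑ i, ∑ j, T.a i j * x i * x j

theorem two_Q_eq (x : Fin n → ℤ) :
    (2 * (Q T x : ℚ)) = - ∑ i, ∑ j, (T.a i j : ℚ) * T.m i * T.m j *
      ((x i : ℚ) / T.m i - (x j : ℚ) / T.m j) ^ 2 := by
  have hm : ∀ i, (T.m i : ℚ) ≠ 0 := fun i => by
    have := T.m_pos i
    exact_mod_cast this.ne'
  have hrow : ∀ i, ∑ j, (T.a i j : ℚ) * T.m j = 0 := fun i => by
    have := row T i
    exact_mod_cast this
  have hcol : ∀ j, ∑ i, (T.a i j : ℚ) * T.m i = 0 := fun j => by
    have := col T j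
    exact_mod_cast this
  have e1 : ∀ i j, (T.a i j : ℚ) * T.m i * T.m j *
      ((x i : ℚ) / T.m i - (x j : ℚ) / T.m j) ^ 2 =
      ((x i : ℚ) ^ 2 / T.m i) * ((T.a i j : ℚ) * T.m j) +
      ((x j : ℚ) ^ 2 / T.m j) * ((T.a i j : ℚ) * T.m i) - 2 * ((T.a i j : ℚ) * x i * x j) := by
    intro i j
    have := hm i
    have := hm j
    field_simp
    ring
  simp_rw [e1]
  simp only [Finset.sum_sub_distrib, Finset.sum_add_distrib, ← Finset.mul_sum]
  simp only [hrow, mul_zero, Finset.sum_const_zero, zero_add]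
  rw [Finset.sum_comm]
  simp only [← Finset.mul_sum, hcol, mul_zero, Finset.sum_const_zero, zero_sub, neg_neg]
  simp [Q]

theorem Q_neg (x : Fin n → ℤ) (hx : x ≠ 0) (k : Fin n) (hk : x k = 0) : Q T x < 0 := by
  have hmpos : ∀ i, (0 : ℚ) < T.m i := fun i => by exact_mod_cast T.m_pos i
  have hterm : ∀ i j, 0 ≤ (T.a i j : ℚ) * T.m i * T.m j *
      ((x i : ℚ) / T.m i - (x j : ℚ) / T.m j) ^ 2 := by
    intro i j
    by_cases hij : i = j
    · subst hij; simp
    · have : (0 : ℚ) ≤ T.a i j := by exact_mod_cast T.offDiag_nonneg i j hij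
      have := hmpos i
      have := hmpos j
      positivity
  have h2 := two_Q_eq T x
  by_contra hQ
  push Not at hQ
  have hsum : ∑ i, ∑ j, (T.a i j : ℚ) * T.m i * T.m j *
      ((x i : ℚ) / T.m i - (x j : ℚ) / T.m j) ^ 2 = 0 := by
    have h0 : 0 ≤ ∑ i, ∑ j, (T.a i j : ℚ) * T.m i * T.m j *
      ((x i : ℚ) / T.m i - (x j : ℚ) / T.m j) ^ 2 :=
      Finset.sum_nonneg fun i _ => Finset.sum_nonneg fun j _ => hterm i j
    have : (0 : ℚ) ≤ Q T x := by exact_mod_cast hQ
    linarith
  have hall : ∀ i j, (T.a i j : ℚ) * T.m i * T.m j *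
      ((x i : ℚ) / T.m i - (x j : ℚ) / T.m j) ^ 2 = 0 := by
    intro i j
    have h1 := (Finset.sum_eq_zero_iff_of_nonneg
      (fun i _ => Finset.sum_nonneg fun j _ => hterm i j)).1 hsum i (Finset.mem_univ i)
    exact (Finset.sum_eq_zero_iff_of_nonneg (fun j _ => hterm i j)).1 h1 j (Finset.mem_univ j)
  -- the set of zeros of x is everything
  have hI : (Finset.univ.filter fun i => x i = 0) = Finset.univ := by
    by_contra hne
    obtain ⟨i, hi, j, hj, hij⟩ := T.connected (Finset.univ.filter fun i => x i = 0)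
      ⟨k, by simp [hk]⟩ hne
    simp only [Finset.mem_filter, Finset.mem_univ, true_and] at hi hj
    have h := hall i j
    have ha : (T.a i j : ℚ) ≠ 0 := by exact_mod_cast hij
    have hmi := (hmpos i).ne'
    have hmj := (hmpos j).ne'
    have : ((x i : ℚ) / T.m i - (x j : ℚ) / T.m j) ^ 2 = 0 := by
      rcases mul_eq_zero.1 h with h | h
      · exact absurd h (by positivity)
      · exact h
    have h3 : (x i : ℚ) / T.m i - (x j : ℚ) / T.m j = 0 := by
      exact pow_eq_zero_iff (two_ne_zero) |>.1 this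
    rw [hi] at h3
    simp only [Int.cast_zero, zero_div, zero_sub, neg_eq_zero, div_eq_zero_iff] at h3
    rcases h3 with h3 | h3
    · exact hj (by exact_mod_cast h3)
    · exact hmj h3
  apply hx
  funext i
  have : i ∈ Finset.univ.filter fun i => x i = 0 := by rw [hI]; exact Finset.mem_univ i
  simpa using this

/-- Negativity of the intersection form on a proper sub-configuration. -/
theorem Q_neg_emb {t : ℕ} (v : Fin t ↪ Fin n) (ht : t < n) (c : Fin t → ℤ)
    (hc : ∃ p, c p ≠ 0) : ∑ p, ∑ q, T.a (v p) (v q) * c p * c q < 0 := by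
  classical
  set x : Fin n → ℤ := Function.extend v c 0 with hxdef
  have hxv : ∀ p, x (v p) = c p := fun p => v.injective.extend_apply c 0 p
  have hx0 : ∀ i, i ∉ Set.range v → x i = 0 := fun i hi => by
    rw [hxdef, Function.extend_apply' _ _ _ (by simpa using hi)]; rfl
  obtain ⟨k, hk⟩ : ∃ k, k ∉ Set.range v := by
    by_contra h
    push Not at h
    have hsurj : Function.Surjective v := fun i => h i
    have := Fintype.card_le_of_surjective v hsurj
    simp at this
    omega
  have hxne : x ≠ 0 := by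
    obtain ⟨p, hp⟩ := hc
    intro h
    apply hp
    rw [← hxv p, h]; rfl
  have hneg := Q_neg T x hxne k (hx0 k hk)
  have hQ : Q T x = ∑ p, ∑ q, T.a (v p) (v q) * c p * c q := by
    unfold Q
    symm
    apply Fintype.sum_of_injective v v.injective
    · intro i hi
      simp [hx0 i hi]
    · intro p
      apply Fintype.sum_of_injective v v.injective
      · intro j hj
        simp [hx0 j hj]
      · intro q
        rw [hxv, hxv]
  rw [← hQ]; exact hneg

/-- Row inequality for a sub-configuration. -/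
theorem row_le_emb {t : ℕ} (v : Fin t ↪ Fin n) (p : Fin t) :
    ∑ q, T.a (v p) (v q) * T.m (v q) ≤ 0 := by
  classical
  rw [← row T (v p)]
  have : ∑ q, T.a (v p) (v q) * T.m (v q) = ∑ j ∈ Finset.univ.map v, T.a (v p) j * T.m j := by
    rw [Finset.sum_map]
  rw [this]
  apply Finset.sum_le_sum_of_subset_of_nonneg (Finset.subset_univ _)
  intro j _ hj
  have hne : v p ≠ j := by
    intro h
    apply hj
    rw [← h]
    exact Finset.mem_map_of_mem v (Finset.mem_univ p)
  exact mul_nonneg (T.offDiag_nonneg _ _ hne) (T.m_pos j).le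

end NT

/-- An abstract proper configuration of `t` distinct `(-2)`-indices inside a numerical type. -/
structure Cfg (t : ℕ) where
  A : Fin t → Fin t → ℤ
  W : Fin t → ℤ
  M : Fin t → ℤ
  W_pos : ∀ p, 0 < W p
  M_pos : ∀ p, 0 < M p
  diag : ∀ p, A p p = -2 * W p
  symm : ∀ p q, A p q = A q p
  nonneg : ∀ p q, p ≠ q → 0 ≤ A p q
  dvd : ∀ p q, W p ∣ A p q
  negdef : ∀ c : Fin t → ℤ, (∃ p, c p ≠ 0) → ∑ p, ∑ q, A p q * c p * c q < 0
  row : ∀ p, ∑ q, A p q * M q ≤ 0

/-- The configuration attached to an embedding of `(-2)`-indices. -/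
def Cfg.ofNT {n t : ℕ} (T : Models.NumericalType n) (v : Fin t ↪ Fin n) (ht : t < n)
    (hv : ∀ j, T.IsMinusTwo (v j)) : Cfg t where
  A p q := T.a (v p) (v q)
  W p := T.w (v p)
  M p := T.m (v p)
  W_pos p := T.w_pos _
  M_pos p := T.m_pos _
  diag p := (hv p).2
  symm p q := NT.symm' T _ _
  nonneg p q h := T.offDiag_nonneg _ _ (fun h' => h (v.injective h'))
  dvd p q := T.w_dvd _ _
  negdef c hc := NT.Q_neg_emb T v ht c hc
  row p := NT.row_le_emb T v p

namespace Cfg

variable {t : ℕ} (C : Cfg t)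

theorem dvd' (p q : Fin t) : C.W q ∣ C.A p q := by rw [C.symm]; exact C.dvd q p

theorem pos_of_ne (p q : Fin t) (hpq : p ≠ q) (h : C.A p q ≠ 0) : 0 < C.A p q :=
  lt_of_le_of_ne (C.nonneg p q hpq) (Ne.symm h)

/-- a positive multiple of `w` is `w` or at least `2 w`. -/
theorem eq_or_two_le {w a : ℤ} (hw : 0 < w) (ha : 0 < a) (h : w ∣ a) : a = w ∨ 2 * w ≤ a := by
  obtain ⟨k, rfl⟩ := h
  have hk : 0 < k := by
    by_contra hk
    push Not at hk
    nlinarith
  rcases (show k = 1 ∨ 2 ≤ k by omega) with rfl | h2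
  · left; ring
  · right; nlinarith

/-- a nonnegative multiple of `w` is `0` or at least `w`. -/
theorem eq_zero_or_le {w a : ℤ} (hw : 0 < w) (ha : 0 ≤ a) (h : w ∣ a) : a = 0 ∨ w ≤ a := by
  rcases ha.eq_or_lt with h0 | h0
  · left; exact h0.symm
  · right; exact Int.le_of_dvd h0 h

theorem le_of_pos (p q : Fin t) (h : 0 < C.A p q) : C.W p ≤ C.A p q :=
  Int.le_of_dvd h (C.dvd p q)

theorem le_of_pos' (p q : Fin t) (h : 0 < C.A p q) : C.W q ≤ C.A p q :=
  Int.le_of_dvd h (C.dvd' p q)

end Cfg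

end Groth.Agent.Helper6
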