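import Groth.Agent.Lib.Helper6.NumType8

/-!
# No cycles in a proper configuration
-/

namespace Groth.Agent.Helper6

open Finset

namespace Cfg

variable {t : ℕ} (C : Cfg t)

/-- A nonempty set of vertices in which every vertex has two distinct neighbours cannot exist in a
proper configuration. -/
theorem no_cycle (S : Fin t → Prop) (hS : ∃ p, S p)
    (h : ∀ p, S p → ∃ q r, S q ∧ S r ∧ q ≠ p ∧ r ≠ p ∧ q ≠ r ∧ 0 < C.A p q ∧ 0 < C.A p r) :
    False := by
  classical
  let c : Fin t → ℤ := fun p => if S p then 1 else 0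
  have hc1 : ∀ p, S p → c p = 1 := fun p hp => if_pos hp
  have hc0' : ∀ p, ¬ S p → c p = 0 := fun p hp => if_neg hp
  have hc0 : ∀ p, 0 ≤ c p := fun p => by
    by_cases hp : S p
    · rw [hc1 p hp]; norm_num
    · rw [hc0' p hp]
  obtain ⟨p0, hp0⟩ := hS
  obtain ⟨p, hp, hlt⟩ := C.vinberg c hc0 ⟨p0, by rw [hc1 p0 hp0]; norm_num⟩
  have hSp : S p := by
    by_contra hn
    rw [hc0' p hn] at hp
    exact lt_irrefl _ hp
  obtain ⟨q, r, hq, hr, hqp, hrp, hqr, hAq, hAr⟩ := h p hSp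
  have := C.rowsum_nonneg2 c hc0 p q r hqp hrp hqr 1 1 (C.one_mul_W_le p q hAq)
    (C.one_mul_W_le p r hAr) (by rw [hc1 p hSp, hc1 q hq, hc1 r hr]; norm_num)
  linarith

end Cfg

end Groth.Agent.Helper6
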