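import Groth.Agent.Lib.Helper6.NumType4
import Groth.Agent.Lib.Helper6.NumType10

/-!
# Long chains of `(-2)`-vertices
-/

namespace Groth.Agent.Helper6

open Finset

namespace Cfg

/-- In a chain of five, the two middle edges are simple. -/
theorem chain5_mid (C : Cfg 5) (h01 : C.A 0 1 ≠ 0) (h12 : C.A 1 2 ≠ 0) (h23 : C.A 2 3 ≠ 0)
    (h34 : C.A 3 4 ≠ 0) :
    C.W 1 = C.W 2 ∧ C.W 3 = C.W 2 ∧ C.A 1 2 = C.W 2 ∧ C.A 2 3 = C.W 2 := by
  obtain ⟨-, u, w, hu, hc⟩ := chain5 C h01 h12 h23 h34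
  have r0 : Fin.rev (0 : Fin 5) = 4 := rfl
  have r1 : Fin.rev (1 : Fin 5) = 3 := rfl
  have r2 : Fin.rev (2 : Fin 5) = 2 := rfl
  have r3 : Fin.rev (3 : Fin 5) = 1 := rfl
  have r4 : Fin.rev (4 : Fin 5) = 0 := rfl
  have s21 := C.symm 2 1
  have s32 := C.symm 3 2
  rcases hu with hu | hu
  · simp only [hu] at hc
    rcases hc with h | h | h
    · obtain ⟨a0, a1, a2, a3, a4, b0, b1, b2, b3, -⟩ := h
      refine ⟨?_, ?_, ?_, ?_⟩ <;> linarith
    · obtain ⟨a0, a1, a2, a3, a4, b0, b1, b2, b3, -⟩ := h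
      refine ⟨?_, ?_, ?_, ?_⟩ <;> linarith
    · obtain ⟨a0, a1, a2, a3, a4, b0, b1, b2, b3, -⟩ := h
      refine ⟨?_, ?_, ?_, ?_⟩ <;> linarith
  · simp only [hu, r0, r1, r2, r3, r4] at hc
    rcases hc with h | h | h
    · obtain ⟨a0, a1, a2, a3, a4, b0, b1, b2, b3, -⟩ := h
      refine ⟨?_, ?_, ?_, ?_⟩ <;> linarith
    · obtain ⟨a0, a1, a2, a3, a4, b0, b1, b2, b3, -⟩ := h
      refine ⟨?_, ?_, ?_, ?_⟩ <;> linarith
    · obtain ⟨a0, a1, a2, a3, a4, b0, b1, b2, b3, -⟩ := h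
      refine ⟨?_, ?_, ?_, ?_⟩ <;> linarith

/-- In a chain of three, the first edge is simple or double. -/
theorem chain3_first (C : Cfg 3) (h01 : C.A 0 1 ≠ 0) (h12 : C.A 1 2 ≠ 0) :
    (C.W 0 = C.W 1 ∧ C.A 0 1 = C.W 1) ∨ (C.W 0 = 2 * C.W 1 ∧ C.A 0 1 = 2 * C.W 1) ∨
      (C.W 1 = 2 * C.W 0 ∧ C.A 0 1 = C.W 1) := by
  obtain ⟨-, u, w, hu, hc⟩ := chain3 C h01 h12
  have r0 : Fin.rev (0 : Fin 3) = 2 := rfl
  have r1 : Fin.rev (1 : Fin 3) = 1 := rfl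
  have r2 : Fin.rev (2 : Fin 3) = 0 := rfl
  have s10 := C.symm 1 0
  have s21 := C.symm 2 1
  rcases hu with hu | hu
  · simp only [hu] at hc
    rcases hc with h | h | h
    · obtain ⟨a0, a1, a2, b0, b1, -⟩ := h
      left; constructor <;> linarith
    · obtain ⟨a0, a1, a2, b0, b1, -⟩ := h
      left; constructor <;> linarith
    · obtain ⟨a0, a1, a2, b0, b1, -⟩ := h
      left; constructor <;> linarith
  · simp only [hu, r0, r1, r2] at hc
    rcases hc with h | h | h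
    · obtain ⟨a0, a1, a2, b0, b1, -⟩ := h
      left; constructor <;> linarith
    · obtain ⟨a0, a1, a2, b0, b1, -⟩ := h
      right; left; constructor <;> linarith
    · obtain ⟨a0, a1, a2, b0, b1, -⟩ := h
      right; right; constructor <;> linarith

end Cfg

end Groth.Agent.Helper6
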