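import Groth.Agent.Lib.Helper6.NumType11

/-!
# Long chains of `(-2)`-vertices: general length
-/

namespace Groth.Agent.Helper6

open Finset

namespace Cfg

section LongChain

variable {t : ℕ} (C : Cfg t) (hchain : ∀ j j' : Fin t, j'.val = j.val + 1 → C.A j j' ≠ 0)

include hchain

theorem chain_pos (j j' : Fin t) (h : j'.val = j.val + 1) : 0 < C.A j j' :=
  C.pos_of_ne j j' (fin_ne (by omega)) (hchain j j' h)

theorem chain_pos' (j j' : Fin t) (h : j'.val = j.val + 1) : 0 < C.A j' j := by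
  rw [C.symm]; exact C.chain_pos hchain j j' h

theorem chain_zero (j k : Fin t) (h : j.val + 1 < k.val) : C.A j k = 0 := by
  by_contra hne
  have hpos : 0 < C.A j k := C.pos_of_ne j k (fin_ne (by omega)) hne
  have hpos' : 0 < C.A k j := by rw [C.symm]; exact hpos
  have hk := k.isLt
  apply C.no_cycle (fun p => j.val ≤ p.val ∧ p.val ≤ k.val) ⟨j, le_rfl, by omega⟩
  rintro p ⟨hp1, hp2⟩
  rcases (show p.val = j.val ∨ p.val = k.val ∨ (j.val < p.val ∧ p.val < k.val) by omega)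
    with h' | h' | h'
  · have hpj : p = j := Fin.ext h'
    subst hpj
    exact ⟨⟨p.val + 1, by omega⟩, k, ⟨by simp only; omega, by simp only; omega⟩, ⟨by omega, le_rfl⟩,
      fin_ne (by simp only; omega), fin_ne (by omega), fin_ne (by simp only; omega),
      C.chain_pos hchain _ _ rfl, hpos⟩
  · have hpk : p = k := Fin.ext h'
    subst hpk
    exact ⟨⟨p.val - 1, by omega⟩, j, ⟨by simp only; omega, by simp only; omega⟩, ⟨le_rfl, by omega⟩,
      fin_ne (by simp only; omega), fin_ne (by omega), fin_ne (by simp only; omega),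
      C.chain_pos' hchain _ _ (by simp only; omega), hpos'⟩
  · exact ⟨⟨p.val - 1, by omega⟩, ⟨p.val + 1, by omega⟩, ⟨by simp only; omega, by simp only; omega⟩,
      ⟨by simp only; omega, by simp only; omega⟩, fin_ne (by simp only; omega),
      fin_ne (by simp only; omega), fin_ne (by simp only; omega),
      C.chain_pos' hchain _ _ (by simp only; omega), C.chain_pos hchain _ _ rfl⟩

/-- a window of five consecutive vertices -/
theorem chain_window (b : ℕ) (hb : b + 4 < t) (p1 p2 p3 : Fin t) (h1 : p1.val = b + 1)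
    (h2 : p2.val = b + 2) (h3 : p3.val = b + 3) :
    C.W p1 = C.W p2 ∧ C.W p3 = C.W p2 ∧ C.A p1 p2 = C.W p2 ∧ C.A p2 p3 = C.W p2 := by
  let e : Fin 5 ↪ Fin t := ⟨fun i => ⟨b + i.val, by have := i.isLt; omega⟩, by
    intro x y hxy
    have := congrArg Fin.val hxy
    simp only at this
    exact Fin.ext (by omega)⟩
  have e1 : e 1 = p1 := Fin.ext (by simp [e, h1])
  have e2 : e 2 = p2 := Fin.ext (by simp [e, h2])
  have e3 : e 3 = p3 := Fin.ext (by simp [e, h3])
  have := chain5_mid (C.comap e)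
    (hchain _ _ (by simp [e])) (hchain _ _ (by simp [e])) (hchain _ _ (by simp [e]))
    (hchain _ _ (by simp [e]))
  simp only [comap_A, comap_W, e1, e2, e3] at this
  exact this

theorem chain_mid_W (ht : 5 < t) (k : ℕ) (h1 : 1 ≤ k) (h2 : k + 2 ≤ t) :
    C.W ⟨k, by omega⟩ = C.W ⟨1, by omega⟩ := by
  induction k, h1 using Nat.le_induction with
  | base => rfl
  | succ k hk ih =>
    rw [← ih (by omega)]
    rcases (show k = 1 ∨ 2 ≤ k by omega) with rfl | hk2
    · exact ((C.chain_window hchain 0 (by omega) ⟨1, by omega⟩ ⟨2, by omega⟩ ⟨3, by omega⟩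
        (by simp) (by simp) (by simp)).1).symm
    · exact (C.chain_window hchain (k - 2) (by omega) ⟨k - 1, by omega⟩ ⟨k, by omega⟩
        ⟨k + 1, by omega⟩ (by simp only; omega) (by simp only; omega) (by simp only; omega)).2.1

theorem chain_mid_W' (ht : 5 < t) (i : Fin t) (h1 : 1 ≤ i.val) (h2 : i.val + 2 ≤ t) :
    C.W i = C.W ⟨1, by omega⟩ :=
  C.chain_mid_W hchain ht i.val h1 h2

theorem chain_mid_A (ht : 5 < t) (i i' : Fin t) (h1 : 1 ≤ i.val) (h : i'.val = i.val + 1)
    (h2 : i'.val + 2 ≤ t) : C.A i i' = C.W ⟨1, by omega⟩ := by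
  rcases (show i.val = 1 ∨ 2 ≤ i.val by omega) with h1' | hk2
  · have := (C.chain_window hchain 0 (by omega) i i' ⟨3, by omega⟩
        (by omega) (by omega) (by simp)).2.2.1
    rw [this, C.chain_mid_W' hchain ht i' (by omega) h2]
  · have := (C.chain_window hchain (i.val - 2) (by omega) ⟨i.val - 1, by omega⟩ i i'
        (by simp only; omega) (by omega) (by omega)).2.2.2
    rw [this, C.chain_mid_W' hchain ht i h1 (by omega)]

theorem chain_first (ht : 3 ≤ t) :
    (C.W ⟨0, by omega⟩ = C.W ⟨1, by omega⟩ ∧ C.A ⟨0, by omega⟩ ⟨1, by omega⟩ = C.W ⟨1, by omega⟩) ∨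
    (C.W ⟨0, by omega⟩ = 2 * C.W ⟨1, by omega⟩ ∧
      C.A ⟨0, by omega⟩ ⟨1, by omega⟩ = 2 * C.W ⟨1, by omega⟩) ∨
    (C.W ⟨1, by omega⟩ = 2 * C.W ⟨0, by omega⟩ ∧
      C.A ⟨0, by omega⟩ ⟨1, by omega⟩ = C.W ⟨1, by omega⟩) := by
  let e : Fin 3 ↪ Fin t := ⟨fun i => ⟨i.val, by have := i.isLt; omega⟩, by
    intro x y hxy
    have := congrArg Fin.val hxy
    simp only at this
    exact Fin.ext this⟩
  have e0 : e 0 = ⟨0, by omega⟩ := Fin.ext (by simp [e])
  have e1 : e 1 = ⟨1, by omega⟩ := Fin.ext (by simp [e])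
  have := chain3_first (C.comap e) (hchain _ _ (by simp [e])) (hchain _ _ (by simp [e]))
  simp only [comap_A, comap_W, e0, e1] at this
  exact this

theorem chain_last (ht : 3 ≤ t) :
    (C.W ⟨t - 1, by omega⟩ = C.W ⟨t - 2, by omega⟩ ∧
      C.A ⟨t - 2, by omega⟩ ⟨t - 1, by omega⟩ = C.W ⟨t - 2, by omega⟩) ∨
    (C.W ⟨t - 1, by omega⟩ = 2 * C.W ⟨t - 2, by omega⟩ ∧
      C.A ⟨t - 2, by omega⟩ ⟨t - 1, by omega⟩ = 2 * C.W ⟨t - 2, by omega⟩) ∨
    (C.W ⟨t - 2, by omega⟩ = 2 * C.W ⟨t - 1, by omega⟩ ∧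
      C.A ⟨t - 2, by omega⟩ ⟨t - 1, by omega⟩ = C.W ⟨t - 2, by omega⟩) := by
  let e : Fin 3 ↪ Fin t := ⟨fun i => ⟨t - 1 - i.val, by have := i.isLt; omega⟩, by
    intro x y hxy
    have := congrArg Fin.val hxy
    have hx := x.isLt
    have hy := y.isLt
    simp only at this
    exact Fin.ext (by omega)⟩
  have e0 : e 0 = ⟨t - 1, by omega⟩ := Fin.ext (by simp [e])
  have e1 : e 1 = ⟨t - 2, by omega⟩ := Fin.ext (by simp [e]; omega)
  have := chain3_first (C.comap e)
    (by rw [comap_A, C.symm]; exact hchain _ _ (by simp [e]; omega))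
    (by rw [comap_A, C.symm]; exact hchain _ _ (by simp [e]; omega))
  simp only [comap_A, comap_W, e0, e1] at this
  rw [C.symm ⟨t - 1, by omega⟩ ⟨t - 2, by omega⟩] at this
  exact this

end LongChain

end Cfg

end Groth.Agent.Helper6
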