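import Groth.Agent.Lib.Helper6.NumType12

/-!
# Long chains of `(-2)`-vertices: the two ends
-/

namespace Groth.Agent.Helper6

open Finset

namespace Cfg

section LongChain

variable {t : ℕ} (C : Cfg t) (hchain : ∀ j j' : Fin t, j'.val = j.val + 1 → C.A j j' ≠ 0)

include hchain

/-- The test vector `(x0, 2, …, 2, x1)`. -/
theorem chain_ends_test (ht : 5 < t) (x0 x1 : ℤ) (hx0 : 0 ≤ x0) (hx1 : 0 ≤ x1)
    (h0a : x0 * C.W ⟨0, by omega⟩ ≤ C.A ⟨0, by omega⟩ ⟨1, by omega⟩)
    (h0b : 2 * C.W ⟨1, by omega⟩ ≤ C.A ⟨0, by omega⟩ ⟨1, by omega⟩ * x0)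
    (h1a : x1 * C.W ⟨t - 1, by omega⟩ ≤ C.A ⟨t - 2, by omega⟩ ⟨t - 1, by omega⟩)
    (h1b : 2 * C.W ⟨1, by omega⟩ ≤ C.A ⟨t - 2, by omega⟩ ⟨t - 1, by omega⟩ * x1) : False := by
  let c : Fin t → ℤ := fun p => if p.val = 0 then x0 else if p.val = t - 1 then x1 else 2
  have hcA : ∀ p : Fin t, p.val = 0 → c p = x0 := fun p hp => if_pos hp
  have hcB : ∀ p : Fin t, p.val = t - 1 → c p = x1 := fun p hp => by
    simp only [c]; rw [if_neg (by omega), if_pos hp]
  have hcC : ∀ p : Fin t, 1 ≤ p.val → p.val + 2 ≤ t → c p = 2 := fun p hp hp' => by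
    simp only [c]; rw [if_neg (by omega), if_neg (by omega)]
  have hc0 : ∀ p, 0 ≤ c p := by
    intro p
    have hpl := p.isLt
    rcases (show p.val = 0 ∨ p.val = t - 1 ∨ (1 ≤ p.val ∧ p.val + 2 ≤ t) by omega) with h | h | h
    · rw [hcA p h]; exact hx0
    · rw [hcB p h]; exact hx1
    · rw [hcC p h.1 h.2]; norm_num
  obtain ⟨p, hp, hlt⟩ := C.vinberg c hc0 ⟨⟨1, by omega⟩, by
    rw [hcC ⟨1, by omega⟩ (by simp) (by simp only; omega)]; norm_num⟩
  have hpl := p.isLt
  have hw0 := C.W_pos ⟨1, by omega⟩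
  rcases (show p.val = 0 ∨ p.val = 1 ∨ (2 ≤ p.val ∧ p.val + 3 ≤ t) ∨ p.val + 2 = t ∨ p.val + 1 = t by omega)
    with h | h | h | h | h
  · have hp0 : p = ⟨0, by omega⟩ := Fin.ext h
    rw [hp0] at hlt
    have := C.rowsum_nonneg1 c hc0 ⟨0, by omega⟩ ⟨1, by omega⟩ (fin_ne (by simp)) x0 h0a
      (by rw [hcA ⟨0, by omega⟩ rfl, hcC ⟨1, by omega⟩ (by simp) (by simp only; omega)]; linarith)
    linarith
  · have hp1 : p = ⟨1, by omega⟩ := Fin.ext h
    rw [hp1] at hlt
    have hrow := C.rowsum_ge2 c hc0 ⟨1, by omega⟩ ⟨0, by omega⟩ ⟨2, by omega⟩ (fin_ne (by simp))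
      (fin_ne (by simp)) (fin_ne (by simp))
    rw [C.diag, hcC ⟨1, by omega⟩ (by simp) (by simp only; omega), hcA ⟨0, by omega⟩ rfl,
      hcC ⟨2, by omega⟩ (by simp) (by simp only; omega),
      C.chain_mid_A hchain ht ⟨1, by omega⟩ ⟨2, by omega⟩ (by simp) (by simp) (by simp only; omega),
      C.symm ⟨1, by omega⟩ ⟨0, by omega⟩] at hrow
    linarith
  · have e1 : C.A p ⟨p.val - 1, by omega⟩ = C.W ⟨1, by omega⟩ := by
      rw [C.symm]
      exact C.chain_mid_A hchain ht ⟨p.val - 1, by omega⟩ p (by simp only; omega) (by simp only; omega)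
        (by omega)
    have e2 : C.A p ⟨p.val + 1, by omega⟩ = C.W ⟨1, by omega⟩ :=
      C.chain_mid_A hchain ht p ⟨p.val + 1, by omega⟩ (by omega) rfl (by simp only; omega)
    have hWp := C.chain_mid_W' hchain ht p (by omega) (by omega)
    have := C.rowsum_nonneg2 c hc0 p ⟨p.val - 1, by omega⟩ ⟨p.val + 1, by omega⟩
      (fin_ne (by simp only; omega)) (fin_ne (by simp only; omega)) (fin_ne (by simp only; omega))
      1 1 (by rw [e1, hWp, one_mul]) (by rw [e2, hWp, one_mul])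
      (by rw [hcC p (by omega) (by omega), hcC ⟨p.val - 1, by omega⟩ (by simp only; omega) (by simp only; omega),
        hcC ⟨p.val + 1, by omega⟩ (by simp only; omega) (by simp only; omega)]; norm_num)
    linarith
  · have hp2 : p = ⟨t - 2, by omega⟩ := Fin.ext (by simp only; omega)
    rw [hp2] at hlt
    have hrow := C.rowsum_ge2 c hc0 ⟨t - 2, by omega⟩ ⟨t - 3, by omega⟩ ⟨t - 1, by omega⟩
      (fin_ne (by simp only; omega)) (fin_ne (by simp only; omega)) (fin_ne (by simp only; omega))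
    have e1 : C.A ⟨t - 2, by omega⟩ ⟨t - 3, by omega⟩ = C.W ⟨1, by omega⟩ := by
      rw [C.symm]
      exact C.chain_mid_A hchain ht ⟨t - 3, by omega⟩ ⟨t - 2, by omega⟩ (by simp only; omega)
        (by simp only; omega) (by simp only; omega)
    have hWp := C.chain_mid_W' hchain ht ⟨t - 2, by omega⟩ (by simp only; omega) (by simp only; omega)
    rw [C.diag, hcC ⟨t - 2, by omega⟩ (by simp only; omega) (by simp only; omega),
      hcC ⟨t - 3, by omega⟩ (by simp only; omega) (by simp only; omega),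
      hcB ⟨t - 1, by omega⟩ rfl, e1, hWp] at hrow
    linarith
  · have hp1 : p = ⟨t - 1, by omega⟩ := Fin.ext (by simp only; omega)
    rw [hp1] at hlt
    have := C.rowsum_nonneg1 c hc0 ⟨t - 1, by omega⟩ ⟨t - 2, by omega⟩ (fin_ne (by simp only; omega)) x1
      (by rw [C.symm]; exact h1a)
      (by rw [hcB ⟨t - 1, by omega⟩ rfl, hcC ⟨t - 2, by omega⟩ (by simp only; omega) (by simp only; omega)]; linarith)
    linarith

/-- The two end edges of a long chain are not both non-simple. -/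
theorem chain_ends (ht : 5 < t) :
    (C.W ⟨0, by omega⟩ = C.W ⟨1, by omega⟩ ∧ C.A ⟨0, by omega⟩ ⟨1, by omega⟩ = C.W ⟨1, by omega⟩) ∨
    (C.W ⟨t - 1, by omega⟩ = C.W ⟨t - 2, by omega⟩ ∧
      C.A ⟨t - 2, by omega⟩ ⟨t - 1, by omega⟩ = C.W ⟨t - 2, by omega⟩) := by
  have hW2 := C.chain_mid_W' hchain ht ⟨t - 2, by omega⟩ (by simp only; omega) (by simp only; omega)
  have hw0 := C.W_pos ⟨1, by omega⟩
  rcases C.chain_first hchain (by omega) with h | h | h
  · exact Or.inl h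
  · rcases C.chain_last hchain (by omega) with h' | h' | h'
    · exact Or.inr h'
    · exfalso
      refine C.chain_ends_test hchain ht 1 1 (by norm_num) (by norm_num) ?_ ?_ ?_ ?_ <;>
        rw [hW2] at h' <;> nlinarith [h.1, h.2, h'.1, h'.2]
    · exfalso
      refine C.chain_ends_test hchain ht 1 2 (by norm_num) (by norm_num) ?_ ?_ ?_ ?_ <;>
        rw [hW2] at h' <;> nlinarith [h.1, h.2, h'.1, h'.2]
  · rcases C.chain_last hchain (by omega) with h' | h' | h'
    · exact Or.inr h'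
    · exfalso
      refine C.chain_ends_test hchain ht 2 1 (by norm_num) (by norm_num) ?_ ?_ ?_ ?_ <;>
        rw [hW2] at h' <;> nlinarith [h.1, h.2, h'.1, h'.2]
    · exfalso
      refine C.chain_ends_test hchain ht 2 2 (by norm_num) (by norm_num) ?_ ?_ ?_ ?_ <;>
        rw [hW2] at h' <;> nlinarith [h.1, h.2, h'.1, h'.2]

end LongChain

end Cfg

end Groth.Agent.Helper6
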