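import Groth.Agent.Lib.Helper6.NumType13

/-!
# Long chains of `(-2)`-vertices: classification
-/

namespace Groth.Agent.Helper6

open Finset

namespace Cfg

section LongChain

variable {t : ℕ} (C : Cfg t) (hchain : ∀ j j' : Fin t, j'.val = j.val + 1 → C.A j j' ≠ 0)

include hchain

theorem chainLong_aux (ht : 5 < t)
    (hfirst : C.W ⟨0, by omega⟩ = C.W ⟨1, by omega⟩ ∧
      C.A ⟨0, by omega⟩ ⟨1, by omega⟩ = C.W ⟨1, by omega⟩) :
    ∃ w : ℤ,
      ((∀ j : Fin t, C.W j = w) ∧ (∀ j j' : Fin t, j'.val = j.val + 1 → C.A j j' = w) ∨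
        ((∀ j : Fin t, j.val + 1 < t → C.W j = w) ∧ (∀ j : Fin t, j.val + 1 = t → C.W j = 2 * w) ∧
          (∀ j j' : Fin t, j'.val = j.val + 1 → j'.val + 1 < t → C.A j j' = w) ∧
          (∀ j j' : Fin t, j'.val = j.val + 1 → j'.val + 1 = t → C.A j j' = 2 * w)) ∨
        ((∀ j : Fin t, j.val + 1 < t → C.W j = 2 * w) ∧ (∀ j : Fin t, j.val + 1 = t → C.W j = w) ∧
          (∀ j j' : Fin t, j'.val = j.val + 1 → C.A j j' = 2 * w))) := by
  have hWlow : ∀ j : Fin t, j.val + 1 < t → C.W j = C.W ⟨1, by omega⟩ := by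
    intro j hj
    rcases (show j.val = 0 ∨ 1 ≤ j.val by omega) with h | h
    · rw [show j = ⟨0, by omega⟩ from Fin.ext h]; exact hfirst.1
    · exact C.chain_mid_W' hchain ht j h (by omega)
  have hAlow : ∀ j j' : Fin t, j'.val = j.val + 1 → j'.val + 1 < t →
      C.A j j' = C.W ⟨1, by omega⟩ := by
    intro j j' hj hj'
    rcases (show j.val = 0 ∨ 1 ≤ j.val by omega) with h | h
    · rw [show j = ⟨0, by omega⟩ from Fin.ext h, show j' = ⟨1, by omega⟩ from Fin.ext (by simp only; omega)]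
      exact hfirst.2
    · exact C.chain_mid_A hchain ht j j' h hj (by omega)
  have hW2 := C.chain_mid_W' hchain ht ⟨t - 2, by omega⟩ (by simp only; omega) (by simp only; omega)
  have hlastj : ∀ j : Fin t, j.val + 1 = t → j = ⟨t - 1, by omega⟩ := fun j hj =>
    Fin.ext (by simp only; omega)
  have hlastjj : ∀ j j' : Fin t, j'.val = j.val + 1 → j'.val + 1 = t →
      j = ⟨t - 2, by omega⟩ ∧ j' = ⟨t - 1, by omega⟩ := fun j j' h1 h2 =>
    ⟨Fin.ext (by simp only; omega), Fin.ext (by simp only; omega)⟩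
  rcases C.chain_last hchain (by omega) with h | h | h
  · refine ⟨C.W ⟨1, by omega⟩, Or.inl ⟨?_, ?_⟩⟩
    · intro j
      have hjl := j.isLt
      rcases (show j.val + 1 < t ∨ j.val + 1 = t by omega) with hj | hj
      · exact hWlow j hj
      · rw [hlastj j hj, h.1, hW2]
    · intro j j' hjj
      have hjl := j'.isLt
      rcases (show j'.val + 1 < t ∨ j'.val + 1 = t by omega) with hj | hj
      · exact hAlow j j' hjj hj
      · obtain ⟨e1, e2⟩ := hlastjj j j' hjj hj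
        rw [e1, e2, h.2, hW2]
  · refine ⟨C.W ⟨1, by omega⟩, Or.inr (Or.inl ⟨hWlow, ?_, hAlow, ?_⟩)⟩
    · intro j hj
      rw [hlastj j hj, h.1, hW2]
    · intro j j' hjj hj
      obtain ⟨e1, e2⟩ := hlastjj j j' hjj hj
      rw [e1, e2, h.2, hW2]
  · refine ⟨C.W ⟨t - 1, by omega⟩, Or.inr (Or.inr ⟨?_, ?_, ?_⟩)⟩
    · intro j hj
      rw [hWlow j hj, ← hW2, h.1]
    · intro j hj
      rw [hlastj j hj]
    · intro j j' hjj
      have hjl := j'.isLt
      rcases (show j'.val + 1 < t ∨ j'.val + 1 = t by omega) with hj | hj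
      · rw [hAlow j j' hjj hj, ← hW2, h.1]
      · obtain ⟨e1, e2⟩ := hlastjj j j' hjj hj
        rw [e1, e2, h.2, h.1]

end LongChain

/-- the reversal embedding -/
def revE (t : ℕ) : Fin t ↪ Fin t := ⟨Fin.rev, Fin.rev_injective⟩

theorem chainLong {t : ℕ} (C : Cfg t)
    (hchain : ∀ j j' : Fin t, j'.val = j.val + 1 → C.A j j' ≠ 0) (ht : 5 < t) :
    ∃ (C' : Cfg t), (C' = C ∨ C' = C.comap (revE t)) ∧
    (∀ j k : Fin t, j.val + 1 < k.val → C'.A j k = 0) ∧
    ∃ w : ℤ,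
      ((∀ j : Fin t, C'.W j = w) ∧ (∀ j j' : Fin t, j'.val = j.val + 1 → C'.A j j' = w) ∨
        ((∀ j : Fin t, j.val + 1 < t → C'.W j = w) ∧ (∀ j : Fin t, j.val + 1 = t → C'.W j = 2 * w) ∧
          (∀ j j' : Fin t, j'.val = j.val + 1 → j'.val + 1 < t → C'.A j j' = w) ∧
          (∀ j j' : Fin t, j'.val = j.val + 1 → j'.val + 1 = t → C'.A j j' = 2 * w)) ∨
        ((∀ j : Fin t, j.val + 1 < t → C'.W j = 2 * w) ∧ (∀ j : Fin t, j.val + 1 = t → C'.W j = w) ∧
          (∀ j j' : Fin t, j'.val = j.val + 1 → C'.A j j' = 2 * w))) := by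
  rcases C.chain_ends hchain ht with h | h
  · exact ⟨C, Or.inl rfl, C.chain_zero hchain, C.chainLong_aux hchain ht h⟩
  · have hchain' : ∀ j j' : Fin t, j'.val = j.val + 1 → (C.comap (revE t)).A j j' ≠ 0 := by
      intro j j' hjj
      have hj' := j'.isLt
      rw [comap_A, C.symm]
      exact hchain _ _ (by simp [revE, Fin.rev]; omega)
    refine ⟨C.comap (revE t), Or.inr rfl, (C.comap (revE t)).chain_zero hchain',
      (C.comap (revE t)).chainLong_aux hchain' ht ?_⟩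
    have e0 : revE t ⟨0, by omega⟩ = ⟨t - 1, by omega⟩ := Fin.ext (by simp [revE, Fin.rev])
    have e1 : revE t ⟨1, by omega⟩ = ⟨t - 2, by omega⟩ := Fin.ext (by simp [revE, Fin.rev])
    simp only [comap_A, comap_W, e0, e1]
    rw [C.symm]
    exact h

end Cfg

end Groth.Agent.Helper6
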