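import Groth.Agent.Lib.Helper6.NumType5

/-!
# Minimal numerical types of genus one have only `(-2)`-indices
-/

namespace Groth.Agent.Helper6

open Finset

namespace NT

variable {n : ℕ} (T : Models.NumericalType n)

/-- the contribution of `i` to `2 * genus - 2` -/
def kappa (i : Fin n) : ℤ := T.m i * (2 * T.w i * (T.g i - 1) - T.a i i)

theorem isMinusOne_of_kappa_neg (hn : 1 < n) (i : Fin n) (h : kappa T i < 0) :
    T.IsMinusOne i := by
  unfold kappa at h
  obtain ⟨k, hk1, hk⟩ := diag_eq T hn i
  have hm := T.m_pos i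
  have hw := T.w_pos i
  have hg := T.g_nonneg i
  have h1 : 2 * T.w i * (T.g i - 1) - T.a i i < 0 := by
    by_contra hc
    push Not at hc
    have := mul_nonneg hm.le hc
    linarith
  rw [hk] at h1
  have h2 : T.w i * (2 * (T.g i - 1) + k) < 0 := by nlinarith
  have h3 : 2 * (T.g i - 1) + k < 0 := by
    by_contra hc
    push Not at hc
    have := mul_nonneg hw.le hc
    linarith
  have hg0 : T.g i = 0 := by omega
  have hk' : k = 1 := by omega
  exact ⟨hg0, by rw [hk, hk']; ring⟩

theorem isMinusTwo_of_kappa_zero (hn : 1 < n) (i : Fin n) (h : kappa T i = 0) :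
    T.IsMinusTwo i := by
  unfold kappa at h
  obtain ⟨k, hk1, hk⟩ := diag_eq T hn i
  have hm := T.m_pos i
  have hw := T.w_pos i
  have hg := T.g_nonneg i
  have h1 : 2 * T.w i * (T.g i - 1) - T.a i i = 0 := by
    rcases mul_eq_zero.1 h with h0 | h0
    · exact absurd h0 hm.ne'
    · exact h0
  rw [hk] at h1
  have h2 : T.w i * (2 * (T.g i - 1) + k) = 0 := by nlinarith
  have h3 : 2 * (T.g i - 1) + k = 0 := by
    rcases mul_eq_zero.1 h2 with h0 | h0
    · exact absurd h0 hw.ne'
    · exact h0
  have hg0 : T.g i = 0 := by omega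
  have hk' : k = 2 := by omega
  exact ⟨hg0, by rw [hk, hk']; ring⟩

/-- `∑ κ_i ≤ 2 * genus - 2`, with equality iff `∑ m_i a_ii` is even. -/
theorem sum_kappa_le : ∑ i, kappa T i ≤ 2 * T.genus - 2 := by
  unfold Models.NumericalType.genus kappa
  have h1 : ∑ i, T.m i * (2 * T.w i * (T.g i - 1) - T.a i i) =
      2 * ∑ i, T.m i * T.w i * (T.g i - 1) - ∑ i, T.m i * T.a i i := by
    rw [Finset.mul_sum, ← Finset.sum_sub_distrib]
    exact Finset.sum_congr rfl fun i _ => by ring
  rw [h1]
  generalize (∑ i, T.m i * T.a i i) = S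
  generalize (∑ i, T.m i * T.w i * (T.g i - 1)) = R
  omega

/-- In a minimal numerical type of genus one on more than one index all indices are `(-2)`. -/
theorem all_minusTwo (hn : 1 < n) (hmin : T.IsMinimal) (hg : T.genus = 1) (i : Fin n) :
    T.IsMinusTwo i := by
  have hnonneg : ∀ j, 0 ≤ kappa T j := by
    intro j
    by_contra h
    push Not at h
    exact hmin j (isMinusOne_of_kappa_neg T hn j h)
  have hsum : ∑ j, kappa T j ≤ 0 := by
    have := sum_kappa_le T
    rw [hg] at this
    linarith
  have hsum0 : ∑ j, kappa T j = 0 :=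
    le_antisymm hsum (Finset.sum_nonneg fun j _ => hnonneg j)
  have := (Finset.sum_eq_zero_iff_of_nonneg (fun j _ => hnonneg j)).1 hsum0 i (Finset.mem_univ i)
  exact isMinusTwo_of_kappa_zero T hn i this

end NT

end Groth.Agent.Helper6
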