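import Groth.Agent.Lib.Helper6.NumType2
import Groth.Agent.Lib.Helper6.NumType6

/-!
# Tools for the exploration proofs of the genus one classification
-/

namespace Groth.Agent.Helper6

open Finset

namespace NT

variable {n : ℕ} (T : Models.NumericalType n)

theorem Q_nonpos (x : Fin n → ℤ) : Q T x ≤ 0 := by
  have hmpos : ∀ i, (0 : ℚ) < T.m i := fun i => by exact_mod_cast T.m_pos i
  have hterm : ∀ i j, 0 ≤ (T.a i j : ℚ) * T.m i * T.m j *
      ((x i : ℚ) / T.m i - (x j : ℚ) / T.m j) ^ 2 := by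
    intro i j
    by_cases hij : i = j
    · subst hij; simp
    · have : (0 : ℚ) ≤ T.a i j := by exact_mod_cast T.offDiag_nonneg i j hij
      have := hmpos i
      have := hmpos j
      positivity
  have h2 := two_Q_eq T x
  have h0 : 0 ≤ ∑ i, ∑ j, (T.a i j : ℚ) * T.m i * T.m j *
      ((x i : ℚ) / T.m i - (x j : ℚ) / T.m j) ^ 2 :=
    Finset.sum_nonneg fun i _ => Finset.sum_nonneg fun j _ => hterm i j
  have : (Q T x : ℚ) ≤ 0 := by linarith
  exact_mod_cast this

/-- The vector `∑ c l • e_{u l}`. -/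
def vec {K : ℕ} (u : Fin K → Fin n) (c : Fin K → ℤ) : Fin n → ℤ :=
  fun i => ∑ l, if u l = i then c l else 0

theorem vec_sum {K : ℕ} (u : Fin K → Fin n) (c : Fin K → ℤ) (f : Fin n → ℤ) :
    ∑ i, vec u c i * f i = ∑ l, c l * f (u l) := by
  classical
  unfold vec
  simp_rw [Finset.sum_mul]
  rw [Finset.sum_comm]
  apply Finset.sum_congr rfl
  intro l _
  simp [ite_mul, Finset.sum_ite_eq]

theorem Q_vec {K : ℕ} (u : Fin K → Fin n) (c : Fin K → ℤ) :
    Q T (vec u c) = ∑ l, ∑ l', T.a (u l) (u l') * c l * c l' := by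
  have h1 : Q T (vec u c) = ∑ i, vec u c i * (∑ j, T.a i j * vec u c j) := by
    unfold Q
    apply Finset.sum_congr rfl
    intro i _
    rw [Finset.mul_sum]
    apply Finset.sum_congr rfl
    intro j _
    ring
  rw [h1, vec_sum]
  apply Finset.sum_congr rfl
  intro l _
  have h2 : ∑ j, T.a (u l) j * vec u c j = ∑ j, vec u c j * T.a (u l) j :=
    Finset.sum_congr rfl fun j _ => mul_comm _ _
  rw [h2, vec_sum, Finset.mul_sum]
  apply Finset.sum_congr rfl
  intro l' _
  ring

theorem Q_nonpos_fun {K : ℕ} (u : Fin K → Fin n) (c : Fin K → ℤ) :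
    ∑ l, ∑ l', T.a (u l) (u l') * c l * c l' ≤ 0 := by
  rw [← Q_vec]; exact Q_nonpos T _

theorem Q_neg_fun {K : ℕ} (u : Fin K → Fin n) (hK : K < n) (c : Fin K → ℤ)
    (hc0 : ∀ l, 0 ≤ c l) (hc : ∃ l, 0 < c l) :
    ∑ l, ∑ l', T.a (u l) (u l') * c l * c l' < 0 := by
  classical
  rw [← Q_vec]
  -- a vertex outside the image
  obtain ⟨z, hz⟩ : ∃ z, ∀ l, u l ≠ z := by
    by_contra h
    push Not at h
    have hsurj : Function.Surjective u := fun z => h z
    have := Fintype.card_le_of_surjective u hsurj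
    simp at this
    omega
  obtain ⟨l0, hl0⟩ := hc
  apply Q_neg T _ _ z
  · unfold vec
    apply Finset.sum_eq_zero
    intro l _
    rw [if_neg (hz l)]
  · intro h
    have h1 : vec u c (u l0) = 0 := by rw [h]; rfl
    have h2 : c l0 ≤ vec u c (u l0) := by
      unfold vec
      have := Finset.single_le_sum (f := fun l => if u l = u l0 then c l else 0)
        (fun l _ => by
          by_cases hl : u l = u l0
          · simp only [hl, if_true]; exact hc0 l
          · simp only [hl, if_false]; exact le_refl 0) (Finset.mem_univ l0)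
      simpa using this
    omega

/-- Edge classification for a pair of `(-2)`-indices when `n ≥ 3`. -/
theorem edge5 (h2 : ∀ i, T.IsMinusTwo i) (hn : 2 < n) (p q : Fin n) (hpq : p ≠ q)
    (h : T.a p q ≠ 0) :
    (T.w q = T.w p ∧ T.a p q = T.w p ∧ T.a p q = T.w q) ∨
    (T.w q = 2 * T.w p ∧ T.a p q = 2 * T.w p ∧ T.a p q = T.w q) ∨
    (T.w p = 2 * T.w q ∧ T.a p q = T.w p ∧ T.a p q = 2 * T.w q) ∨
    (T.w q = 3 * T.w p ∧ T.a p q = 3 * T.w p ∧ T.a p q = T.w q) ∨
    (T.w p = 3 * T.w q ∧ T.a p q = T.w p ∧ T.a p q = 3 * T.w q) := by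
  let C := Cfg.ofNT T (Cfg.emb2 p q hpq) hn (by intro j; fin_cases j <;> exact h2 _)
  have hA : C.A 0 1 = T.a p q := rfl
  have hW0 : C.W 0 = T.w p := rfl
  have hW1 : C.W 1 = T.w q := rfl
  have := Cfg.two C (by rw [hA]; exact h)
  rw [hA, hW0, hW1] at this
  rcases this with ⟨h1, h2'⟩ | ⟨h1, h2'⟩ | ⟨h1, h2'⟩ | ⟨h1, h2'⟩ | ⟨h1, h2'⟩
  · exact Or.inl ⟨h1, h2', by linarith⟩
  · exact Or.inr (Or.inl ⟨h1, h2', by linarith⟩)
  · exact Or.inr (Or.inr (Or.inl ⟨h1, by linarith, h2'⟩))
  · exact Or.inr (Or.inr (Or.inr (Or.inl ⟨h1, h2', by linarith⟩)))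
  · exact Or.inr (Or.inr (Or.inr (Or.inr ⟨h1, by linarith, h2'⟩)))

/-- If finitely many vertices (fewer than `n`) have no neighbours outside their list, we contradict
connectedness. -/
theorem closed_contra (L : List (Fin n)) (hL : L.length < n) (hne : L ≠ [])
    (h : ∀ i ∈ L, ∀ j, j ∉ L → T.a i j = 0) : False := by
  classical
  have hI : L.toFinset.Nonempty := by
    obtain ⟨x, hx⟩ := List.exists_mem_of_ne_nil L hne
    exact ⟨x, List.mem_toFinset.2 hx⟩
  have hU : L.toFinset ≠ Finset.univ := by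
    intro hU
    have h1 : L.toFinset.card ≤ L.length := List.toFinset_card_le L
    rw [hU] at h1
    simp at h1
    omega
  obtain ⟨i, hi, j, hj, hij⟩ := T.connected L.toFinset hI hU
  exact hij (h i (List.mem_toFinset.1 hi) j (fun hjL => hj (List.mem_toFinset.2 hjL)))

/-- Row equation along an injective enumeration of all indices. -/
theorem row_fun (u : Fin n → Fin n) (hu : Function.Injective u) (i : Fin n) :
    ∑ l, T.a i (u l) * T.m (u l) = 0 := by
  have hb : Function.Bijective u := Finite.injective_iff_bijective.1 hu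
  rw [hb.sum_comp (fun j => T.a i j * T.m j)]
  exact row T i

/-- lower bounds for a nonzero off-diagonal entry -/
theorem lb (p q : Fin n) (hpq : p ≠ q) (h : T.a p q ≠ 0) :
    T.w p ≤ T.a p q ∧ T.w q ≤ T.a p q := by
  have hpos : 0 < T.a p q := lt_of_le_of_ne (T.offDiag_nonneg p q hpq) (Ne.symm h)
  refine ⟨Int.le_of_dvd hpos (T.w_dvd p q), Int.le_of_dvd hpos ?_⟩
  rw [symm' T p q]; exact T.w_dvd q p

end NT

end Groth.Agent.Helper6
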