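import Groth.Agent.Lib.Helper6.NumType2

/-!
# Flattened forms of `Cfg.negdef` and `Cfg.row` for small configurations (generated)
-/

namespace Groth.Agent.Helper6

open Finset

theorem sum_univ_nine {M : Type*} [AddCommMonoid M] (f : Fin 9 → M) :
    ∑ i, f i = f 0 + f 1 + f 2 + f 3 + f 4 + f 5 + f 6 + f 7 + f 8 := by
  rw [Fin.sum_univ_castSucc, Fin.sum_univ_eight]
  rfl

namespace Cfg

theorem negdef2 (C : Cfg 2) (c0 c1 : ℤ) (hc : c0 ≠ 0 ∨ c1 ≠ 0) :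
    -2 * C.W 0 * (c0 * c0) + -2 * C.W 1 * (c1 * c1) +
    (2 * C.A 0 1 * (c0 * c1)) < 0 := by
  have key := C.negdef ![c0, c1] (by
    rcases hc with h | h
    · exact ⟨0, by simpa using h⟩
    · exact ⟨1, by simpa using h⟩)
  simp only [Fin.sum_univ_two, Matrix.cons_val, C.diag, C.symm 1 0] at key
  linarith

theorem row2_0 (C : Cfg 2) : -2 * C.W 0 * C.M 0 + C.A 0 1 * C.M 1 ≤ 0 := by
  have key := C.row 0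
  simp only [Fin.sum_univ_two, C.diag] at key
  linarith

theorem row2_1 (C : Cfg 2) : C.A 0 1 * C.M 0 + -2 * C.W 1 * C.M 1 ≤ 0 := by
  have key := C.row 1
  simp only [Fin.sum_univ_two, C.diag, C.symm 1 0] at key
  linarith

theorem negdef3 (C : Cfg 3) (c0 c1 c2 : ℤ) (hc : c0 ≠ 0 ∨ c1 ≠ 0 ∨ c2 ≠ 0) :
    -2 * C.W 0 * (c0 * c0) + -2 * C.W 1 * (c1 * c1) + -2 * C.W 2 * (c2 * c2) +
    (2 * C.A 0 1 * (c0 * c1) + 2 * C.A 0 2 * (c0 * c2) + 2 * C.A 1 2 * (c1 * c2)) < 0 := by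
  have key := C.negdef ![c0, c1, c2] (by
    rcases hc with h | h | h
    · exact ⟨0, by simpa using h⟩
    · exact ⟨1, by simpa using h⟩
    · exact ⟨2, by simpa using h⟩)
  simp only [Fin.sum_univ_three, Matrix.cons_val, C.diag, C.symm 1 0, C.symm 2 0, C.symm 2 1] at key
  linarith

theorem row3_0 (C : Cfg 3) : -2 * C.W 0 * C.M 0 + C.A 0 1 * C.M 1 + C.A 0 2 * C.M 2 ≤ 0 := by
  have key := C.row 0
  simp only [Fin.sum_univ_three, C.diag] at key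
  linarith

theorem row3_1 (C : Cfg 3) : C.A 0 1 * C.M 0 + -2 * C.W 1 * C.M 1 + C.A 1 2 * C.M 2 ≤ 0 := by
  have key := C.row 1
  simp only [Fin.sum_univ_three, C.diag, C.symm 1 0] at key
  linarith

theorem row3_2 (C : Cfg 3) : C.A 0 2 * C.M 0 + C.A 1 2 * C.M 1 + -2 * C.W 2 * C.M 2 ≤ 0 := by
  have key := C.row 2
  simp only [Fin.sum_univ_three, C.diag, C.symm 2 0, C.symm 2 1] at key
  linarith

theorem negdef4 (C : Cfg 4) (c0 c1 c2 c3 : ℤ) (hc : c0 ≠ 0 ∨ c1 ≠ 0 ∨ c2 ≠ 0 ∨ c3 ≠ 0) :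
    -2 * C.W 0 * (c0 * c0) + -2 * C.W 1 * (c1 * c1) + -2 * C.W 2 * (c2 * c2) + -2 * C.W 3 * (c3 * c3) +
    (2 * C.A 0 1 * (c0 * c1) + 2 * C.A 0 2 * (c0 * c2) + 2 * C.A 0 3 * (c0 * c3) + 2 * C.A 1 2 * (c1 * c2) + 2 * C.A 1 3 * (c1 * c3) + 2 * C.A 2 3 * (c2 * c3)) < 0 := by
  have key := C.negdef ![c0, c1, c2, c3] (by
    rcases hc with h | h | h | h
    · exact ⟨0, by simpa using h⟩
    · exact ⟨1, by simpa using h⟩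
    · exact ⟨2, by simpa using h⟩
    · exact ⟨3, by simpa using h⟩)
  simp only [Fin.sum_univ_four, Matrix.cons_val, C.diag, C.symm 1 0, C.symm 2 0, C.symm 3 0, C.symm 2 1, C.symm 3 1, C.symm 3 2] at key
  linarith

theorem row4_0 (C : Cfg 4) : -2 * C.W 0 * C.M 0 + C.A 0 1 * C.M 1 + C.A 0 2 * C.M 2 + C.A 0 3 * C.M 3 ≤ 0 := by
  have key := C.row 0
  simp only [Fin.sum_univ_four, C.diag] at key
  linarith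

theorem row4_1 (C : Cfg 4) : C.A 0 1 * C.M 0 + -2 * C.W 1 * C.M 1 + C.A 1 2 * C.M 2 + C.A 1 3 * C.M 3 ≤ 0 := by
  have key := C.row 1
  simp only [Fin.sum_univ_four, C.diag, C.symm 1 0] at key
  linarith

theorem row4_2 (C : Cfg 4) : C.A 0 2 * C.M 0 + C.A 1 2 * C.M 1 + -2 * C.W 2 * C.M 2 + C.A 2 3 * C.M 3 ≤ 0 := by
  have key := C.row 2
  simp only [Fin.sum_univ_four, C.diag, C.symm 2 0, C.symm 2 1] at key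
  linarith

theorem row4_3 (C : Cfg 4) : C.A 0 3 * C.M 0 + C.A 1 3 * C.M 1 + C.A 2 3 * C.M 2 + -2 * C.W 3 * C.M 3 ≤ 0 := by
  have key := C.row 3
  simp only [Fin.sum_univ_four, C.diag, C.symm 3 0, C.symm 3 1, C.symm 3 2] at key
  linarith

theorem negdef5 (C : Cfg 5) (c0 c1 c2 c3 c4 : ℤ) (hc : c0 ≠ 0 ∨ c1 ≠ 0 ∨ c2 ≠ 0 ∨ c3 ≠ 0 ∨ c4 ≠ 0) :
    -2 * C.W 0 * (c0 * c0) + -2 * C.W 1 * (c1 * c1) + -2 * C.W 2 * (c2 * c2) + -2 * C.W 3 * (c3 * c3) + -2 * C.W 4 * (c4 * c4) +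
    (2 * C.A 0 1 * (c0 * c1) + 2 * C.A 0 2 * (c0 * c2) + 2 * C.A 0 3 * (c0 * c3) + 2 * C.A 0 4 * (c0 * c4) + 2 * C.A 1 2 * (c1 * c2) + 2 * C.A 1 3 * (c1 * c3) + 2 * C.A 1 4 * (c1 * c4) + 2 * C.A 2 3 * (c2 * c3) + 2 * C.A 2 4 * (c2 * c4) + 2 * C.A 3 4 * (c3 * c4)) < 0 := by
  have key := C.negdef ![c0, c1, c2, c3, c4] (by
    rcases hc with h | h | h | h | h
    · exact ⟨0, by simpa using h⟩
    · exact ⟨1, by simpa using h⟩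
    · exact ⟨2, by simpa using h⟩
    · exact ⟨3, by simpa using h⟩
    · exact ⟨4, by simpa using h⟩)
  simp only [Fin.sum_univ_five, Matrix.cons_val, C.diag, C.symm 1 0, C.symm 2 0, C.symm 3 0, C.symm 4 0, C.symm 2 1, C.symm 3 1, C.symm 4 1, C.symm 3 2, C.symm 4 2, C.symm 4 3] at key
  linarith

theorem row5_0 (C : Cfg 5) : -2 * C.W 0 * C.M 0 + C.A 0 1 * C.M 1 + C.A 0 2 * C.M 2 + C.A 0 3 * C.M 3 + C.A 0 4 * C.M 4 ≤ 0 := by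
  have key := C.row 0
  simp only [Fin.sum_univ_five, C.diag] at key
  linarith

theorem row5_1 (C : Cfg 5) : C.A 0 1 * C.M 0 + -2 * C.W 1 * C.M 1 + C.A 1 2 * C.M 2 + C.A 1 3 * C.M 3 + C.A 1 4 * C.M 4 ≤ 0 := by
  have key := C.row 1
  simp only [Fin.sum_univ_five, C.diag, C.symm 1 0] at key
  linarith

theorem row5_2 (C : Cfg 5) : C.A 0 2 * C.M 0 + C.A 1 2 * C.M 1 + -2 * C.W 2 * C.M 2 + C.A 2 3 * C.M 3 + C.A 2 4 * C.M 4 ≤ 0 := by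
  have key := C.row 2
  simp only [Fin.sum_univ_five, C.diag, C.symm 2 0, C.symm 2 1] at key
  linarith

theorem row5_3 (C : Cfg 5) : C.A 0 3 * C.M 0 + C.A 1 3 * C.M 1 + C.A 2 3 * C.M 2 + -2 * C.W 3 * C.M 3 + C.A 3 4 * C.M 4 ≤ 0 := by
  have key := C.row 3
  simp only [Fin.sum_univ_five, C.diag, C.symm 3 0, C.symm 3 1, C.symm 3 2] at key
  linarith

theorem row5_4 (C : Cfg 5) : C.A 0 4 * C.M 0 + C.A 1 4 * C.M 1 + C.A 2 4 * C.M 2 + C.A 3 4 * C.M 3 + -2 * C.W 4 * C.M 4 ≤ 0 := by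
  have key := C.row 4
  simp only [Fin.sum_univ_five, C.diag, C.symm 4 0, C.symm 4 1, C.symm 4 2, C.symm 4 3] at key
  linarith

theorem negdef6 (C : Cfg 6) (c0 c1 c2 c3 c4 c5 : ℤ) (hc : c0 ≠ 0 ∨ c1 ≠ 0 ∨ c2 ≠ 0 ∨ c3 ≠ 0 ∨ c4 ≠ 0 ∨ c5 ≠ 0) :
    -2 * C.W 0 * (c0 * c0) + -2 * C.W 1 * (c1 * c1) + -2 * C.W 2 * (c2 * c2) + -2 * C.W 3 * (c3 * c3) + -2 * C.W 4 * (c4 * c4) + -2 * C.W 5 * (c5 * c5) +
    (2 * C.A 0 1 * (c0 * c1) + 2 * C.A 0 2 * (c0 * c2) + 2 * C.A 0 3 * (c0 * c3) + 2 * C.A 0 4 * (c0 * c4) + 2 * C.A 0 5 * (c0 * c5) + 2 * C.A 1 2 * (c1 * c2) + 2 * C.A 1 3 * (c1 * c3) + 2 * C.A 1 4 * (c1 * c4) + 2 * C.A 1 5 * (c1 * c5) + 2 * C.A 2 3 * (c2 * c3) + 2 * C.A 2 4 * (c2 * c4) + 2 * C.A 2 5 * (c2 * c5) + 2 * C.A 3 4 * (c3 * c4) + 2 * C.A 3 5 * (c3 * c5) + 2 * C.A 4 5 * (c4 * c5)) < 0 := by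
  have key := C.negdef ![c0, c1, c2, c3, c4, c5] (by
    rcases hc with h | h | h | h | h | h
    · exact ⟨0, by simpa using h⟩
    · exact ⟨1, by simpa using h⟩
    · exact ⟨2, by simpa using h⟩
    · exact ⟨3, by simpa using h⟩
    · exact ⟨4, by simpa using h⟩
    · exact ⟨5, by simpa using h⟩)
  simp only [Fin.sum_univ_six, Matrix.cons_val, C.diag, C.symm 1 0, C.symm 2 0, C.symm 3 0, C.symm 4 0, C.symm 5 0, C.symm 2 1, C.symm 3 1, C.symm 4 1, C.symm 5 1, C.symm 3 2, C.symm 4 2, C.symm 5 2, C.symm 4 3, C.symm 5 3, C.symm 5 4] at key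
  linarith

theorem row6_0 (C : Cfg 6) : -2 * C.W 0 * C.M 0 + C.A 0 1 * C.M 1 + C.A 0 2 * C.M 2 + C.A 0 3 * C.M 3 + C.A 0 4 * C.M 4 + C.A 0 5 * C.M 5 ≤ 0 := by
  have key := C.row 0
  simp only [Fin.sum_univ_six, C.diag] at key
  linarith

theorem row6_1 (C : Cfg 6) : C.A 0 1 * C.M 0 + -2 * C.W 1 * C.M 1 + C.A 1 2 * C.M 2 + C.A 1 3 * C.M 3 + C.A 1 4 * C.M 4 + C.A 1 5 * C.M 5 ≤ 0 := by
  have key := C.row 1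
  simp only [Fin.sum_univ_six, C.diag, C.symm 1 0] at key
  linarith

theorem row6_2 (C : Cfg 6) : C.A 0 2 * C.M 0 + C.A 1 2 * C.M 1 + -2 * C.W 2 * C.M 2 + C.A 2 3 * C.M 3 + C.A 2 4 * C.M 4 + C.A 2 5 * C.M 5 ≤ 0 := by
  have key := C.row 2
  simp only [Fin.sum_univ_six, C.diag, C.symm 2 0, C.symm 2 1] at key
  linarith

theorem row6_3 (C : Cfg 6) : C.A 0 3 * C.M 0 + C.A 1 3 * C.M 1 + C.A 2 3 * C.M 2 + -2 * C.W 3 * C.M 3 + C.A 3 4 * C.M 4 + C.A 3 5 * C.M 5 ≤ 0 := by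
  have key := C.row 3
  simp only [Fin.sum_univ_six, C.diag, C.symm 3 0, C.symm 3 1, C.symm 3 2] at key
  linarith

theorem row6_4 (C : Cfg 6) : C.A 0 4 * C.M 0 + C.A 1 4 * C.M 1 + C.A 2 4 * C.M 2 + C.A 3 4 * C.M 3 + -2 * C.W 4 * C.M 4 + C.A 4 5 * C.M 5 ≤ 0 := by
  have key := C.row 4
  simp only [Fin.sum_univ_six, C.diag, C.symm 4 0, C.symm 4 1, C.symm 4 2, C.symm 4 3] at key
  linarith

theorem row6_5 (C : Cfg 6) : C.A 0 5 * C.M 0 + C.A 1 5 * C.M 1 + C.A 2 5 * C.M 2 + C.A 3 5 * C.M 3 + C.A 4 5 * C.M 4 + -2 * C.W 5 * C.M 5 ≤ 0 := by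
  have key := C.row 5
  simp only [Fin.sum_univ_six, C.diag, C.symm 5 0, C.symm 5 1, C.symm 5 2, C.symm 5 3, C.symm 5 4] at key
  linarith

theorem negdef7 (C : Cfg 7) (c0 c1 c2 c3 c4 c5 c6 : ℤ) (hc : c0 ≠ 0 ∨ c1 ≠ 0 ∨ c2 ≠ 0 ∨ c3 ≠ 0 ∨ c4 ≠ 0 ∨ c5 ≠ 0 ∨ c6 ≠ 0) :
    -2 * C.W 0 * (c0 * c0) + -2 * C.W 1 * (c1 * c1) + -2 * C.W 2 * (c2 * c2) + -2 * C.W 3 * (c3 * c3) + -2 * C.W 4 * (c4 * c4) + -2 * C.W 5 * (c5 * c5) + -2 * C.W 6 * (c6 * c6) +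
    (2 * C.A 0 1 * (c0 * c1) + 2 * C.A 0 2 * (c0 * c2) + 2 * C.A 0 3 * (c0 * c3) + 2 * C.A 0 4 * (c0 * c4) + 2 * C.A 0 5 * (c0 * c5) + 2 * C.A 0 6 * (c0 * c6) + 2 * C.A 1 2 * (c1 * c2) + 2 * C.A 1 3 * (c1 * c3) + 2 * C.A 1 4 * (c1 * c4) + 2 * C.A 1 5 * (c1 * c5) + 2 * C.A 1 6 * (c1 * c6) + 2 * C.A 2 3 * (c2 * c3) + 2 * C.A 2 4 * (c2 * c4) + 2 * C.A 2 5 * (c2 * c5) + 2 * C.A 2 6 * (c2 * c6) + 2 * C.A 3 4 * (c3 * c4) + 2 * C.A 3 5 * (c3 * c5) + 2 * C.A 3 6 * (c3 * c6) + 2 * C.A 4 5 * (c4 * c5) + 2 * C.A 4 6 * (c4 * c6) + 2 * C.A 5 6 * (c5 * c6)) < 0 := by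
  have key := C.negdef ![c0, c1, c2, c3, c4, c5, c6] (by
    rcases hc with h | h | h | h | h | h | h
    · exact ⟨0, by simpa using h⟩
    · exact ⟨1, by simpa using h⟩
    · exact ⟨2, by simpa using h⟩
    · exact ⟨3, by simpa using h⟩
    · exact ⟨4, by simpa using h⟩
    · exact ⟨5, by simpa using h⟩
    · exact ⟨6, by simpa using h⟩)
  simp only [Fin.sum_univ_seven, Matrix.cons_val, C.diag, C.symm 1 0, C.symm 2 0, C.symm 3 0, C.symm 4 0, C.symm 5 0, C.symm 6 0, C.symm 2 1, C.symm 3 1, C.symm 4 1, C.symm 5 1, C.symm 6 1, C.symm 3 2, C.symm 4 2, C.symm 5 2, C.symm 6 2, C.symm 4 3, C.symm 5 3, C.symm 6 3, C.symm 5 4, C.symm 6 4, C.symm 6 5] at key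
  linarith

theorem row7_0 (C : Cfg 7) : -2 * C.W 0 * C.M 0 + C.A 0 1 * C.M 1 + C.A 0 2 * C.M 2 + C.A 0 3 * C.M 3 + C.A 0 4 * C.M 4 + C.A 0 5 * C.M 5 + C.A 0 6 * C.M 6 ≤ 0 := by
  have key := C.row 0
  simp only [Fin.sum_univ_seven, C.diag] at key
  linarith

theorem row7_1 (C : Cfg 7) : C.A 0 1 * C.M 0 + -2 * C.W 1 * C.M 1 + C.A 1 2 * C.M 2 + C.A 1 3 * C.M 3 + C.A 1 4 * C.M 4 + C.A 1 5 * C.M 5 + C.A 1 6 * C.M 6 ≤ 0 := by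
  have key := C.row 1
  simp only [Fin.sum_univ_seven, C.diag, C.symm 1 0] at key
  linarith

theorem row7_2 (C : Cfg 7) : C.A 0 2 * C.M 0 + C.A 1 2 * C.M 1 + -2 * C.W 2 * C.M 2 + C.A 2 3 * C.M 3 + C.A 2 4 * C.M 4 + C.A 2 5 * C.M 5 + C.A 2 6 * C.M 6 ≤ 0 := by
  have key := C.row 2
  simp only [Fin.sum_univ_seven, C.diag, C.symm 2 0, C.symm 2 1] at key
  linarith

theorem row7_3 (C : Cfg 7) : C.A 0 3 * C.M 0 + C.A 1 3 * C.M 1 + C.A 2 3 * C.M 2 + -2 * C.W 3 * C.M 3 + C.A 3 4 * C.M 4 + C.A 3 5 * C.M 5 + C.A 3 6 * C.M 6 ≤ 0 := by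
  have key := C.row 3
  simp only [Fin.sum_univ_seven, C.diag, C.symm 3 0, C.symm 3 1, C.symm 3 2] at key
  linarith

theorem row7_4 (C : Cfg 7) : C.A 0 4 * C.M 0 + C.A 1 4 * C.M 1 + C.A 2 4 * C.M 2 + C.A 3 4 * C.M 3 + -2 * C.W 4 * C.M 4 + C.A 4 5 * C.M 5 + C.A 4 6 * C.M 6 ≤ 0 := by
  have key := C.row 4
  simp only [Fin.sum_univ_seven, C.diag, C.symm 4 0, C.symm 4 1, C.symm 4 2, C.symm 4 3] at key
  linarith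

theorem row7_5 (C : Cfg 7) : C.A 0 5 * C.M 0 + C.A 1 5 * C.M 1 + C.A 2 5 * C.M 2 + C.A 3 5 * C.M 3 + C.A 4 5 * C.M 4 + -2 * C.W 5 * C.M 5 + C.A 5 6 * C.M 6 ≤ 0 := by
  have key := C.row 5
  simp only [Fin.sum_univ_seven, C.diag, C.symm 5 0, C.symm 5 1, C.symm 5 2, C.symm 5 3, C.symm 5 4] at key
  linarith

theorem row7_6 (C : Cfg 7) : C.A 0 6 * C.M 0 + C.A 1 6 * C.M 1 + C.A 2 6 * C.M 2 + C.A 3 6 * C.M 3 + C.A 4 6 * C.M 4 + C.A 5 6 * C.M 5 + -2 * C.W 6 * C.M 6 ≤ 0 := by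
  have key := C.row 6
  simp only [Fin.sum_univ_seven, C.diag, C.symm 6 0, C.symm 6 1, C.symm 6 2, C.symm 6 3, C.symm 6 4, C.symm 6 5] at key
  linarith

theorem negdef8 (C : Cfg 8) (c0 c1 c2 c3 c4 c5 c6 c7 : ℤ) (hc : c0 ≠ 0 ∨ c1 ≠ 0 ∨ c2 ≠ 0 ∨ c3 ≠ 0 ∨ c4 ≠ 0 ∨ c5 ≠ 0 ∨ c6 ≠ 0 ∨ c7 ≠ 0) :
    -2 * C.W 0 * (c0 * c0) + -2 * C.W 1 * (c1 * c1) + -2 * C.W 2 * (c2 * c2) + -2 * C.W 3 * (c3 * c3) + -2 * C.W 4 * (c4 * c4) + -2 * C.W 5 * (c5 * c5) + -2 * C.W 6 * (c6 * c6) + -2 * C.W 7 * (c7 * c7) +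
    (2 * C.A 0 1 * (c0 * c1) + 2 * C.A 0 2 * (c0 * c2) + 2 * C.A 0 3 * (c0 * c3) + 2 * C.A 0 4 * (c0 * c4) + 2 * C.A 0 5 * (c0 * c5) + 2 * C.A 0 6 * (c0 * c6) + 2 * C.A 0 7 * (c0 * c7) + 2 * C.A 1 2 * (c1 * c2) + 2 * C.A 1 3 * (c1 * c3) + 2 * C.A 1 4 * (c1 * c4) + 2 * C.A 1 5 * (c1 * c5) + 2 * C.A 1 6 * (c1 * c6) + 2 * C.A 1 7 * (c1 * c7) + 2 * C.A 2 3 * (c2 * c3) + 2 * C.A 2 4 * (c2 * c4) + 2 * C.A 2 5 * (c2 * c5) + 2 * C.A 2 6 * (c2 * c6) + 2 * C.A 2 7 * (c2 * c7) + 2 * C.A 3 4 * (c3 * c4) + 2 * C.A 3 5 * (c3 * c5) + 2 * C.A 3 6 * (c3 * c6) + 2 * C.A 3 7 * (c3 * c7) + 2 * C.A 4 5 * (c4 * c5) + 2 * C.A 4 6 * (c4 * c6) + 2 * C.A 4 7 * (c4 * c7) + 2 * C.A 5 6 * (c5 * c6) + 2 * C.A 5 7 * (c5 * c7) + 2 * C.A 6 7 * (c6 * c7)) < 0 := by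
  have key := C.negdef ![c0, c1, c2, c3, c4, c5, c6, c7] (by
    rcases hc with h | h | h | h | h | h | h | h
    · exact ⟨0, by simpa using h⟩
    · exact ⟨1, by simpa using h⟩
    · exact ⟨2, by simpa using h⟩
    · exact ⟨3, by simpa using h⟩
    · exact ⟨4, by simpa using h⟩
    · exact ⟨5, by simpa using h⟩
    · exact ⟨6, by simpa using h⟩
    · exact ⟨7, by simpa using h⟩)
  simp only [Fin.sum_univ_eight, Matrix.cons_val, C.diag, C.symm 1 0, C.symm 2 0, C.symm 3 0, C.symm 4 0, C.symm 5 0, C.symm 6 0, C.symm 7 0, C.symm 2 1, C.symm 3 1, C.symm 4 1, C.symm 5 1, C.symm 6 1, C.symm 7 1, C.symm 3 2, C.symm 4 2, C.symm 5 2, C.symm 6 2, C.symm 7 2, C.symm 4 3, C.symm 5 3, C.symm 6 3, C.symm 7 3, C.symm 5 4, C.symm 6 4, C.symm 7 4, C.symm 6 5, C.symm 7 5, C.symm 7 6] at key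
  linarith

theorem row8_0 (C : Cfg 8) : -2 * C.W 0 * C.M 0 + C.A 0 1 * C.M 1 + C.A 0 2 * C.M 2 + C.A 0 3 * C.M 3 + C.A 0 4 * C.M 4 + C.A 0 5 * C.M 5 + C.A 0 6 * C.M 6 + C.A 0 7 * C.M 7 ≤ 0 := by
  have key := C.row 0
  simp only [Fin.sum_univ_eight, C.diag] at key
  linarith

theorem row8_1 (C : Cfg 8) : C.A 0 1 * C.M 0 + -2 * C.W 1 * C.M 1 + C.A 1 2 * C.M 2 + C.A 1 3 * C.M 3 + C.A 1 4 * C.M 4 + C.A 1 5 * C.M 5 + C.A 1 6 * C.M 6 + C.A 1 7 * C.M 7 ≤ 0 := by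
  have key := C.row 1
  simp only [Fin.sum_univ_eight, C.diag, C.symm 1 0] at key
  linarith

theorem row8_2 (C : Cfg 8) : C.A 0 2 * C.M 0 + C.A 1 2 * C.M 1 + -2 * C.W 2 * C.M 2 + C.A 2 3 * C.M 3 + C.A 2 4 * C.M 4 + C.A 2 5 * C.M 5 + C.A 2 6 * C.M 6 + C.A 2 7 * C.M 7 ≤ 0 := by
  have key := C.row 2
  simp only [Fin.sum_univ_eight, C.diag, C.symm 2 0, C.symm 2 1] at key
  linarith

theorem row8_3 (C : Cfg 8) : C.A 0 3 * C.M 0 + C.A 1 3 * C.M 1 + C.A 2 3 * C.M 2 + -2 * C.W 3 * C.M 3 + C.A 3 4 * C.M 4 + C.A 3 5 * C.M 5 + C.A 3 6 * C.M 6 + C.A 3 7 * C.M 7 ≤ 0 := by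
  have key := C.row 3
  simp only [Fin.sum_univ_eight, C.diag, C.symm 3 0, C.symm 3 1, C.symm 3 2] at key
  linarith

theorem row8_4 (C : Cfg 8) : C.A 0 4 * C.M 0 + C.A 1 4 * C.M 1 + C.A 2 4 * C.M 2 + C.A 3 4 * C.M 3 + -2 * C.W 4 * C.M 4 + C.A 4 5 * C.M 5 + C.A 4 6 * C.M 6 + C.A 4 7 * C.M 7 ≤ 0 := by
  have key := C.row 4
  simp only [Fin.sum_univ_eight, C.diag, C.symm 4 0, C.symm 4 1, C.symm 4 2, C.symm 4 3] at key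
  linarith

theorem row8_5 (C : Cfg 8) : C.A 0 5 * C.M 0 + C.A 1 5 * C.M 1 + C.A 2 5 * C.M 2 + C.A 3 5 * C.M 3 + C.A 4 5 * C.M 4 + -2 * C.W 5 * C.M 5 + C.A 5 6 * C.M 6 + C.A 5 7 * C.M 7 ≤ 0 := by
  have key := C.row 5
  simp only [Fin.sum_univ_eight, C.diag, C.symm 5 0, C.symm 5 1, C.symm 5 2, C.symm 5 3, C.symm 5 4] at key
  linarith

theorem row8_6 (C : Cfg 8) : C.A 0 6 * C.M 0 + C.A 1 6 * C.M 1 + C.A 2 6 * C.M 2 + C.A 3 6 * C.M 3 + C.A 4 6 * C.M 4 + C.A 5 6 * C.M 5 + -2 * C.W 6 * C.M 6 + C.A 6 7 * C.M 7 ≤ 0 := by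
  have key := C.row 6
  simp only [Fin.sum_univ_eight, C.diag, C.symm 6 0, C.symm 6 1, C.symm 6 2, C.symm 6 3, C.symm 6 4, C.symm 6 5] at key
  linarith

theorem row8_7 (C : Cfg 8) : C.A 0 7 * C.M 0 + C.A 1 7 * C.M 1 + C.A 2 7 * C.M 2 + C.A 3 7 * C.M 3 + C.A 4 7 * C.M 4 + C.A 5 7 * C.M 5 + C.A 6 7 * C.M 6 + -2 * C.W 7 * C.M 7 ≤ 0 := by
  have key := C.row 7
  simp only [Fin.sum_univ_eight, C.diag, C.symm 7 0, C.symm 7 1, C.symm 7 2, C.symm 7 3, C.symm 7 4, C.symm 7 5, C.symm 7 6] at key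
  linarith

theorem negdef9 (C : Cfg 9) (c0 c1 c2 c3 c4 c5 c6 c7 c8 : ℤ) (hc : c0 ≠ 0 ∨ c1 ≠ 0 ∨ c2 ≠ 0 ∨ c3 ≠ 0 ∨ c4 ≠ 0 ∨ c5 ≠ 0 ∨ c6 ≠ 0 ∨ c7 ≠ 0 ∨ c8 ≠ 0) :
    -2 * C.W 0 * (c0 * c0) + -2 * C.W 1 * (c1 * c1) + -2 * C.W 2 * (c2 * c2) + -2 * C.W 3 * (c3 * c3) + -2 * C.W 4 * (c4 * c4) + -2 * C.W 5 * (c5 * c5) + -2 * C.W 6 * (c6 * c6) + -2 * C.W 7 * (c7 * c7) + -2 * C.W 8 * (c8 * c8) +
    (2 * C.A 0 1 * (c0 * c1) + 2 * C.A 0 2 * (c0 * c2) + 2 * C.A 0 3 * (c0 * c3) + 2 * C.A 0 4 * (c0 * c4) + 2 * C.A 0 5 * (c0 * c5) + 2 * C.A 0 6 * (c0 * c6) + 2 * C.A 0 7 * (c0 * c7) + 2 * C.A 0 8 * (c0 * c8) + 2 * C.A 1 2 * (c1 * c2) + 2 * C.A 1 3 * (c1 * c3) + 2 * C.A 1 4 * (c1 * c4) + 2 * C.A 1 5 * (c1 * c5) + 2 * C.A 1 6 * (c1 * c6) + 2 * C.A 1 7 * (c1 * c7) + 2 * C.A 1 8 * (c1 * c8) + 2 * C.A 2 3 * (c2 * c3)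 + 2 * C.A 2 4 * (c2 * c4) + 2 * C.A 2 5 * (c2 * c5) + 2 * C.A 2 6 * (c2 * c6) + 2 * C.A 2 7 * (c2 * c7) + 2 * C.A 2 8 * (c2 * c8) + 2 * C.A 3 4 * (c3 * c4) + 2 * C.A 3 5 * (c3 * c5) + 2 * C.A 3 6 * (c3 * c6) + 2 * C.A 3 7 * (c3 * c7) + 2 * C.A 3 8 * (c3 * c8) + 2 * C.A 4 5 * (c4 * c5) + 2 * C.A 4 6 * (c4 * c6) + 2 * C.A 4 7 * (c4 * c7) + 2 * C.A 4 8 * (c4 * c8) + 2 * C.A 5 6 * (c5 * c6) + 2 * C.A 5 7 * (c5 * c7) + 2 * C.A 5 8 * (c5 * c8) + 2 * C.A 6 7 * (c6 * c7) + 2 * C.A 6 8 * (c6 * c8) + 2 * C.A 7 8 * (c7 * c8)) < 0 := by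
  have key := C.negdef ![c0, c1, c2, c3, c4, c5, c6, c7, c8] (by
    rcases hc with h | h | h | h | h | h | h | h | h
    · exact ⟨0, by simpa using h⟩
    · exact ⟨1, by simpa using h⟩
    · exact ⟨2, by simpa using h⟩
    · exact ⟨3, by simpa using h⟩
    · exact ⟨4, by simpa using h⟩
    · exact ⟨5, by simpa using h⟩
    · exact ⟨6, by simpa using h⟩
    · exact ⟨7, by simpa using h⟩
    · exact ⟨8, by simpa using h⟩)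
  simp only [sum_univ_nine, Matrix.cons_val, C.diag, C.symm 1 0, C.symm 2 0, C.symm 3 0, C.symm 4 0, C.symm 5 0, C.symm 6 0, C.symm 7 0, C.symm 8 0, C.symm 2 1, C.symm 3 1, C.symm 4 1, C.symm 5 1, C.symm 6 1, C.symm 7 1, C.symm 8 1, C.symm 3 2, C.symm 4 2, C.symm 5 2, C.symm 6 2, C.symm 7 2, C.symm 8 2, C.symm 4 3, C.symm 5 3, C.symm 6 3, C.symm 7 3, C.symm 8 3, C.symm 5 4, C.symm 6 4, C.symm 7 4, C.symm 8 4, C.symm 6 5, C.symm 7 5, C.symm 8 5, C.symm 7 6, C.symm 8 6, C.symm 8 7] at key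
  linarith

theorem row9_0 (C : Cfg 9) : -2 * C.W 0 * C.M 0 + C.A 0 1 * C.M 1 + C.A 0 2 * C.M 2 + C.A 0 3 * C.M 3 + C.A 0 4 * C.M 4 + C.A 0 5 * C.M 5 + C.A 0 6 * C.M 6 + C.A 0 7 * C.M 7 + C.A 0 8 * C.M 8 ≤ 0 := by
  have key := C.row 0
  simp only [sum_univ_nine, C.diag] at key
  linarith

theorem row9_1 (C : Cfg 9) : C.A 0 1 * C.M 0 + -2 * C.W 1 * C.M 1 + C.A 1 2 * C.M 2 + C.A 1 3 * C.M 3 + C.A 1 4 * C.M 4 + C.A 1 5 * C.M 5 + C.A 1 6 * C.M 6 + C.A 1 7 * C.M 7 + C.A 1 8 * C.M 8 ≤ 0 := by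
  have key := C.row 1
  simp only [sum_univ_nine, C.diag, C.symm 1 0] at key
  linarith

theorem row9_2 (C : Cfg 9) : C.A 0 2 * C.M 0 + C.A 1 2 * C.M 1 + -2 * C.W 2 * C.M 2 + C.A 2 3 * C.M 3 + C.A 2 4 * C.M 4 + C.A 2 5 * C.M 5 + C.A 2 6 * C.M 6 + C.A 2 7 * C.M 7 + C.A 2 8 * C.M 8 ≤ 0 := by
  have key := C.row 2
  simp only [sum_univ_nine, C.diag, C.symm 2 0, C.symm 2 1] at key
  linarith

theorem row9_3 (C : Cfg 9) : C.A 0 3 * C.M 0 + C.A 1 3 * C.M 1 + C.A 2 3 * C.M 2 + -2 * C.W 3 * C.M 3 + C.A 3 4 * C.M 4 + C.A 3 5 * C.M 5 + C.A 3 6 * C.M 6 + C.A 3 7 * C.M 7 + C.A 3 8 * C.M 8 ≤ 0 := by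
  have key := C.row 3
  simp only [sum_univ_nine, C.diag, C.symm 3 0, C.symm 3 1, C.symm 3 2] at key
  linarith

theorem row9_4 (C : Cfg 9) : C.A 0 4 * C.M 0 + C.A 1 4 * C.M 1 + C.A 2 4 * C.M 2 + C.A 3 4 * C.M 3 + -2 * C.W 4 * C.M 4 + C.A 4 5 * C.M 5 + C.A 4 6 * C.M 6 + C.A 4 7 * C.M 7 + C.A 4 8 * C.M 8 ≤ 0 := by
  have key := C.row 4
  simp only [sum_univ_nine, C.diag, C.symm 4 0, C.symm 4 1, C.symm 4 2, C.symm 4 3] at key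
  linarith

theorem row9_5 (C : Cfg 9) : C.A 0 5 * C.M 0 + C.A 1 5 * C.M 1 + C.A 2 5 * C.M 2 + C.A 3 5 * C.M 3 + C.A 4 5 * C.M 4 + -2 * C.W 5 * C.M 5 + C.A 5 6 * C.M 6 + C.A 5 7 * C.M 7 + C.A 5 8 * C.M 8 ≤ 0 := by
  have key := C.row 5
  simp only [sum_univ_nine, C.diag, C.symm 5 0, C.symm 5 1, C.symm 5 2, C.symm 5 3, C.symm 5 4] at key
  linarith

theorem row9_6 (C : Cfg 9) : C.A 0 6 * C.M 0 + C.A 1 6 * C.M 1 + C.A 2 6 * C.M 2 + C.A 3 6 * C.M 3 + C.A 4 6 * C.M 4 + C.A 5 6 * C.M 5 + -2 * C.W 6 * C.M 6 + C.A 6 7 * C.M 7 + C.A 6 8 * C.M 8 ≤ 0 := by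
  have key := C.row 6
  simp only [sum_univ_nine, C.diag, C.symm 6 0, C.symm 6 1, C.symm 6 2, C.symm 6 3, C.symm 6 4, C.symm 6 5] at key
  linarith

theorem row9_7 (C : Cfg 9) : C.A 0 7 * C.M 0 + C.A 1 7 * C.M 1 + C.A 2 7 * C.M 2 + C.A 3 7 * C.M 3 + C.A 4 7 * C.M 4 + C.A 5 7 * C.M 5 + C.A 6 7 * C.M 6 + -2 * C.W 7 * C.M 7 + C.A 7 8 * C.M 8 ≤ 0 := by
  have key := C.row 7
  simp only [sum_univ_nine, C.diag, C.symm 7 0, C.symm 7 1, C.symm 7 2, C.symm 7 3, C.symm 7 4, C.symm 7 5, C.symm 7 6] at key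
  linarith

theorem row9_8 (C : Cfg 9) : C.A 0 8 * C.M 0 + C.A 1 8 * C.M 1 + C.A 2 8 * C.M 2 + C.A 3 8 * C.M 3 + C.A 4 8 * C.M 4 + C.A 5 8 * C.M 5 + C.A 6 8 * C.M 6 + C.A 7 8 * C.M 7 + -2 * C.W 8 * C.M 8 ≤ 0 := by
  have key := C.row 8
  simp only [sum_univ_nine, C.diag, C.symm 8 0, C.symm 8 1, C.symm 8 2, C.symm 8 3, C.symm 8 4, C.symm 8 5, C.symm 8 6, C.symm 8 7] at key
  linarith

end Cfg

end Groth.Agent.Helper6
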