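import Groth.Agent.Lib.Helper6.NumType15
import Groth.Agent.Lib.Helper6.NumType3

/-!
# Flattened forms of `NT.Q_neg_fun`, `NT.Q_nonpos_fun`, `NT.row_fun` (generated)
-/

set_option linter.unusedSimpArgs false
set_option linter.unusedVariables false

namespace Groth.Agent.Helper6

open Finset

namespace NT

theorem negfun1 {n : ℕ} (T : Models.NumericalType n) (h2 : ∀ i, T.IsMinusTwo i) (u0 : Fin n) (hK : 1 < n)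
    (c0 : ℤ) (hc0 : 0 ≤ c0) (hc : 0 < c0) :
    -2 * T.w u0 * (c0 * c0) < 0 := by
  have key := NT.Q_neg_fun T ![u0] hK ![c0] (by
    intro l; fin_cases l
    exacts [hc0])
    (by
      by_contra h; push Not at h
      have h0 : c0 ≤ 0 := h 0
      linarith)
  simp only [Fin.sum_univ_one, Matrix.cons_val, (h2 u0).2] at key
  linarith

theorem negfun2 {n : ℕ} (T : Models.NumericalType n) (h2 : ∀ i, T.IsMinusTwo i) (u0 u1 : Fin n) (hK : 2 < n)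
    (c0 c1 : ℤ) (hc0 : 0 ≤ c0 ∧ 0 ≤ c1) (hc : 0 < c0 + c1) :
    -2 * T.w u0 * (c0 * c0) + -2 * T.w u1 * (c1 * c1) +
    (2 * T.a u0 u1 * (c0 * c1)) < 0 := by
  have key := NT.Q_neg_fun T ![u0, u1] hK ![c0, c1] (by
    intro l; fin_cases l
    exacts [hc0.1, hc0.2])
    (by
      by_contra h; push Not at h
      have h0 : c0 ≤ 0 := h 0
      have h1 : c1 ≤ 0 := h 1
      linarith)
  simp only [Fin.sum_univ_two, Matrix.cons_val, (h2 u0).2, (h2 u1).2, NT.symm' T u1 u0] at key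
  linarith

theorem negfun3 {n : ℕ} (T : Models.NumericalType n) (h2 : ∀ i, T.IsMinusTwo i) (u0 u1 u2 : Fin n) (hK : 3 < n)
    (c0 c1 c2 : ℤ) (hc0 : 0 ≤ c0 ∧ 0 ≤ c1 ∧ 0 ≤ c2) (hc : 0 < c0 + c1 + c2) :
    -2 * T.w u0 * (c0 * c0) + -2 * T.w u1 * (c1 * c1) + -2 * T.w u2 * (c2 * c2) +
    (2 * T.a u0 u1 * (c0 * c1) + 2 * T.a u0 u2 * (c0 * c2) + 2 * T.a u1 u2 * (c1 * c2)) < 0 := by
  have key := NT.Q_neg_fun T ![u0, u1, u2] hK ![c0, c1, c2] (by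
    intro l; fin_cases l
    exacts [hc0.1, hc0.2.1, hc0.2.2])
    (by
      by_contra h; push Not at h
      have h0 : c0 ≤ 0 := h 0
      have h1 : c1 ≤ 0 := h 1
      have h2 : c2 ≤ 0 := h 2
      linarith)
  simp only [Fin.sum_univ_three, Matrix.cons_val, (h2 u0).2, (h2 u1).2, (h2 u2).2, NT.symm' T u1 u0, NT.symm' T u2 u0, NT.symm' T u2 u1] at key
  linarith

theorem nonposfun3 {n : ℕ} (T : Models.NumericalType n) (h2 : ∀ i, T.IsMinusTwo i) (u0 u1 u2 : Fin n)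
    (c0 c1 c2 : ℤ) :
    -2 * T.w u0 * (c0 * c0) + -2 * T.w u1 * (c1 * c1) + -2 * T.w u2 * (c2 * c2) +
    (2 * T.a u0 u1 * (c0 * c1) + 2 * T.a u0 u2 * (c0 * c2) + 2 * T.a u1 u2 * (c1 * c2)) ≤ 0 := by
  have key := NT.Q_nonpos_fun T ![u0, u1, u2] ![c0, c1, c2]
  simp only [Fin.sum_univ_three, Matrix.cons_val, (h2 u0).2, (h2 u1).2, (h2 u2).2, NT.symm' T u1 u0, NT.symm' T u2 u0, NT.symm' T u2 u1] at key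
  linarith

theorem inj3 {α : Type*} (u0 u1 u2 : α) (h1_0 : u1 ≠ u0) (h2_0 : u2 ≠ u0) (h2_1 : u2 ≠ u1) :
    Function.Injective ![u0, u1, u2] := by
  intro a b hab
  fin_cases a <;> fin_cases b <;> first | rfl | (exfalso; simp only [Matrix.cons_val] at hab; first | exact absurd hab (by assumption) | exact absurd hab.symm (by assumption))

theorem rowfun3 (T : Models.NumericalType 3) (u0 u1 u2 : Fin 3) (hinj : Function.Injective ![u0, u1, u2]) (i : Fin 3) :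
    T.a i u0 * T.m u0 + T.a i u1 * T.m u1 + T.a i u2 * T.m u2 = 0 := by
  have key := NT.row_fun T ![u0, u1, u2] hinj i
  simp only [Fin.sum_univ_three, Matrix.cons_val] at key
  exact key

theorem negfun4 {n : ℕ} (T : Models.NumericalType n) (h2 : ∀ i, T.IsMinusTwo i) (u0 u1 u2 u3 : Fin n) (hK : 4 < n)
    (c0 c1 c2 c3 : ℤ) (hc0 : 0 ≤ c0 ∧ 0 ≤ c1 ∧ 0 ≤ c2 ∧ 0 ≤ c3) (hc : 0 < c0 + c1 + c2 + c3) :
    -2 * T.w u0 * (c0 * c0) + -2 * T.w u1 * (c1 * c1) + -2 * T.w u2 * (c2 * c2) + -2 * T.w u3 * (c3 * c3) +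
    (2 * T.a u0 u1 * (c0 * c1) + 2 * T.a u0 u2 * (c0 * c2) + 2 * T.a u0 u3 * (c0 * c3) + 2 * T.a u1 u2 * (c1 * c2) + 2 * T.a u1 u3 * (c1 * c3) + 2 * T.a u2 u3 * (c2 * c3)) < 0 := by
  have key := NT.Q_neg_fun T ![u0, u1, u2, u3] hK ![c0, c1, c2, c3] (by
    intro l; fin_cases l
    exacts [hc0.1, hc0.2.1, hc0.2.2.1, hc0.2.2.2])
    (by
      by_contra h; push Not at h
      have h0 : c0 ≤ 0 := h 0
      have h1 : c1 ≤ 0 := h 1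
      have h2 : c2 ≤ 0 := h 2
      have h3 : c3 ≤ 0 := h 3
      linarith)
  simp only [Fin.sum_univ_four, Matrix.cons_val, (h2 u0).2, (h2 u1).2, (h2 u2).2, (h2 u3).2, NT.symm' T u1 u0, NT.symm' T u2 u0, NT.symm' T u3 u0, NT.symm' T u2 u1, NT.symm' T u3 u1, NT.symm' T u3 u2] at key
  linarith

theorem nonposfun4 {n : ℕ} (T : Models.NumericalType n) (h2 : ∀ i, T.IsMinusTwo i) (u0 u1 u2 u3 : Fin n)
    (c0 c1 c2 c3 : ℤ) :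
    -2 * T.w u0 * (c0 * c0) + -2 * T.w u1 * (c1 * c1) + -2 * T.w u2 * (c2 * c2) + -2 * T.w u3 * (c3 * c3) +
    (2 * T.a u0 u1 * (c0 * c1) + 2 * T.a u0 u2 * (c0 * c2) + 2 * T.a u0 u3 * (c0 * c3) + 2 * T.a u1 u2 * (c1 * c2) + 2 * T.a u1 u3 * (c1 * c3) + 2 * T.a u2 u3 * (c2 * c3)) ≤ 0 := by
  have key := NT.Q_nonpos_fun T ![u0, u1, u2, u3] ![c0, c1, c2, c3]
  simp only [Fin.sum_univ_four, Matrix.cons_val, (h2 u0).2, (h2 u1).2, (h2 u2).2, (h2 u3).2, NT.symm' T u1 u0, NT.symm' T u2 u0, NT.symm' T u3 u0, NT.symm' T u2 u1, NT.symm' T u3 u1, NT.symm' T u3 u2] at key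
  linarith

theorem inj4 {α : Type*} (u0 u1 u2 u3 : α) (h1_0 : u1 ≠ u0) (h2_0 : u2 ≠ u0) (h2_1 : u2 ≠ u1) (h3_0 : u3 ≠ u0) (h3_1 : u3 ≠ u1) (h3_2 : u3 ≠ u2) :
    Function.Injective ![u0, u1, u2, u3] := by
  intro a b hab
  fin_cases a <;> fin_cases b <;> first | rfl | (exfalso; simp only [Matrix.cons_val] at hab; first | exact absurd hab (by assumption) | exact absurd hab.symm (by assumption))

theorem rowfun4 (T : Models.NumericalType 4) (u0 u1 u2 u3 : Fin 4) (hinj : Function.Injective ![u0, u1, u2, u3]) (i : Fin 4) :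
    T.a i u0 * T.m u0 + T.a i u1 * T.m u1 + T.a i u2 * T.m u2 + T.a i u3 * T.m u3 = 0 := by
  have key := NT.row_fun T ![u0, u1, u2, u3] hinj i
  simp only [Fin.sum_univ_four, Matrix.cons_val] at key
  exact key

theorem negfun5 {n : ℕ} (T : Models.NumericalType n) (h2 : ∀ i, T.IsMinusTwo i) (u0 u1 u2 u3 u4 : Fin n) (hK : 5 < n)
    (c0 c1 c2 c3 c4 : ℤ) (hc0 : 0 ≤ c0 ∧ 0 ≤ c1 ∧ 0 ≤ c2 ∧ 0 ≤ c3 ∧ 0 ≤ c4) (hc : 0 < c0 + c1 + c2 + c3 + c4) :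
    -2 * T.w u0 * (c0 * c0) + -2 * T.w u1 * (c1 * c1) + -2 * T.w u2 * (c2 * c2) + -2 * T.w u3 * (c3 * c3) + -2 * T.w u4 * (c4 * c4) +
    (2 * T.a u0 u1 * (c0 * c1) + 2 * T.a u0 u2 * (c0 * c2) + 2 * T.a u0 u3 * (c0 * c3) + 2 * T.a u0 u4 * (c0 * c4) + 2 * T.a u1 u2 * (c1 * c2) + 2 * T.a u1 u3 * (c1 * c3) + 2 * T.a u1 u4 * (c1 * c4) + 2 * T.a u2 u3 * (c2 * c3) + 2 * T.a u2 u4 * (c2 * c4) + 2 * T.a u3 u4 * (c3 * c4)) < 0 := by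
  have key := NT.Q_neg_fun T ![u0, u1, u2, u3, u4] hK ![c0, c1, c2, c3, c4] (by
    intro l; fin_cases l
    exacts [hc0.1, hc0.2.1, hc0.2.2.1, hc0.2.2.2.1, hc0.2.2.2.2])
    (by
      by_contra h; push Not at h
      have h0 : c0 ≤ 0 := h 0
      have h1 : c1 ≤ 0 := h 1
      have h2 : c2 ≤ 0 := h 2
      have h3 : c3 ≤ 0 := h 3
      have h4 : c4 ≤ 0 := h 4
      linarith)
  simp only [Fin.sum_univ_five, Matrix.cons_val, (h2 u0).2, (h2 u1).2, (h2 u2).2, (h2 u3).2, (h2 u4).2, NT.symm' T u1 u0, NT.symm' T u2 u0, NT.symm' T u3 u0, NT.symm' T u4 u0, NT.symm' T u2 u1, NT.symm' T u3 u1, NT.symm' T u4 u1, NT.symm' T u3 u2, NT.symm' T u4 u2, NT.symm' T u4 u3] at key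
  linarith

theorem nonposfun5 {n : ℕ} (T : Models.NumericalType n) (h2 : ∀ i, T.IsMinusTwo i) (u0 u1 u2 u3 u4 : Fin n)
    (c0 c1 c2 c3 c4 : ℤ) :
    -2 * T.w u0 * (c0 * c0) + -2 * T.w u1 * (c1 * c1) + -2 * T.w u2 * (c2 * c2) + -2 * T.w u3 * (c3 * c3) + -2 * T.w u4 * (c4 * c4) +
    (2 * T.a u0 u1 * (c0 * c1) + 2 * T.a u0 u2 * (c0 * c2) + 2 * T.a u0 u3 * (c0 * c3) + 2 * T.a u0 u4 * (c0 * c4) + 2 * T.a u1 u2 * (c1 * c2) + 2 * T.a u1 u3 * (c1 * c3) + 2 * T.a u1 u4 * (c1 * c4) + 2 * T.a u2 u3 * (c2 * c3) + 2 * T.a u2 u4 * (c2 * c4) + 2 * T.a u3 u4 * (c3 * c4)) ≤ 0 := by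
  have key := NT.Q_nonpos_fun T ![u0, u1, u2, u3, u4] ![c0, c1, c2, c3, c4]
  simp only [Fin.sum_univ_five, Matrix.cons_val, (h2 u0).2, (h2 u1).2, (h2 u2).2, (h2 u3).2, (h2 u4).2, NT.symm' T u1 u0, NT.symm' T u2 u0, NT.symm' T u3 u0, NT.symm' T u4 u0, NT.symm' T u2 u1, NT.symm' T u3 u1, NT.symm' T u4 u1, NT.symm' T u3 u2, NT.symm' T u4 u2, NT.symm' T u4 u3] at key
  linarith

theorem inj5 {α : Type*} (u0 u1 u2 u3 u4 : α) (h1_0 : u1 ≠ u0) (h2_0 : u2 ≠ u0) (h2_1 : u2 ≠ u1) (h3_0 : u3 ≠ u0) (h3_1 : u3 ≠ u1) (h3_2 : u3 ≠ u2) (h4_0 : u4 ≠ u0) (h4_1 : u4 ≠ u1) (h4_2 : u4 ≠ u2) (h4_3 : u4 ≠ u3) :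
    Function.Injective ![u0, u1, u2, u3, u4] := by
  intro a b hab
  fin_cases a <;> fin_cases b <;> first | rfl | (exfalso; simp only [Matrix.cons_val] at hab; first | exact absurd hab (by assumption) | exact absurd hab.symm (by assumption))

theorem rowfun5 (T : Models.NumericalType 5) (u0 u1 u2 u3 u4 : Fin 5) (hinj : Function.Injective ![u0, u1, u2, u3, u4]) (i : Fin 5) :
    T.a i u0 * T.m u0 + T.a i u1 * T.m u1 + T.a i u2 * T.m u2 + T.a i u3 * T.m u3 + T.a i u4 * T.m u4 = 0 := by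
  have key := NT.row_fun T ![u0, u1, u2, u3, u4] hinj i
  simp only [Fin.sum_univ_five, Matrix.cons_val] at key
  exact key

theorem negfun6 {n : ℕ} (T : Models.NumericalType n) (h2 : ∀ i, T.IsMinusTwo i) (u0 u1 u2 u3 u4 u5 : Fin n) (hK : 6 < n)
    (c0 c1 c2 c3 c4 c5 : ℤ) (hc0 : 0 ≤ c0 ∧ 0 ≤ c1 ∧ 0 ≤ c2 ∧ 0 ≤ c3 ∧ 0 ≤ c4 ∧ 0 ≤ c5) (hc : 0 < c0 + c1 + c2 + c3 + c4 + c5) :
    -2 * T.w u0 * (c0 * c0) + -2 * T.w u1 * (c1 * c1) + -2 * T.w u2 * (c2 * c2) + -2 * T.w u3 * (c3 * c3) + -2 * T.w u4 * (c4 * c4) + -2 * T.w u5 * (c5 * c5) +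
    (2 * T.a u0 u1 * (c0 * c1) + 2 * T.a u0 u2 * (c0 * c2) + 2 * T.a u0 u3 * (c0 * c3) + 2 * T.a u0 u4 * (c0 * c4) + 2 * T.a u0 u5 * (c0 * c5) + 2 * T.a u1 u2 * (c1 * c2) + 2 * T.a u1 u3 * (c1 * c3) + 2 * T.a u1 u4 * (c1 * c4) + 2 * T.a u1 u5 * (c1 * c5) + 2 * T.a u2 u3 * (c2 * c3) + 2 * T.a u2 u4 * (c2 * c4) + 2 * T.a u2 u5 * (c2 * c5) + 2 * T.a u3 u4 * (c3 * c4) + 2 * T.a u3 u5 * (c3 * c5) + 2 * T.a u4 u5 * (c4 * c5)) < 0 := by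
  have key := NT.Q_neg_fun T ![u0, u1, u2, u3, u4, u5] hK ![c0, c1, c2, c3, c4, c5] (by
    intro l; fin_cases l
    exacts [hc0.1, hc0.2.1, hc0.2.2.1, hc0.2.2.2.1, hc0.2.2.2.2.1, hc0.2.2.2.2.2])
    (by
      by_contra h; push Not at h
      have h0 : c0 ≤ 0 := h 0
      have h1 : c1 ≤ 0 := h 1
      have h2 : c2 ≤ 0 := h 2
      have h3 : c3 ≤ 0 := h 3
      have h4 : c4 ≤ 0 := h 4
      have h5 : c5 ≤ 0 := h 5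
      linarith)
  simp only [Fin.sum_univ_six, Matrix.cons_val, (h2 u0).2, (h2 u1).2, (h2 u2).2, (h2 u3).2, (h2 u4).2, (h2 u5).2, NT.symm' T u1 u0, NT.symm' T u2 u0, NT.symm' T u3 u0, NT.symm' T u4 u0, NT.symm' T u5 u0, NT.symm' T u2 u1, NT.symm' T u3 u1, NT.symm' T u4 u1, NT.symm' T u5 u1, NT.symm' T u3 u2, NT.symm' T u4 u2, NT.symm' T u5 u2, NT.symm' T u4 u3, NT.symm' T u5 u3, NT.symm' T u5 u4] at key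
  linarith

theorem nonposfun6 {n : ℕ} (T : Models.NumericalType n) (h2 : ∀ i, T.IsMinusTwo i) (u0 u1 u2 u3 u4 u5 : Fin n)
    (c0 c1 c2 c3 c4 c5 : ℤ) :
    -2 * T.w u0 * (c0 * c0) + -2 * T.w u1 * (c1 * c1) + -2 * T.w u2 * (c2 * c2) + -2 * T.w u3 * (c3 * c3) + -2 * T.w u4 * (c4 * c4) + -2 * T.w u5 * (c5 * c5) +
    (2 * T.a u0 u1 * (c0 * c1) + 2 * T.a u0 u2 * (c0 * c2) + 2 * T.a u0 u3 * (c0 * c3) + 2 * T.a u0 u4 * (c0 * c4) + 2 * T.a u0 u5 * (c0 * c5) + 2 * T.a u1 u2 * (c1 * c2) + 2 * T.a u1 u3 * (c1 * c3) + 2 * T.a u1 u4 * (c1 * c4) + 2 * T.a u1 u5 * (c1 * c5) + 2 * T.a u2 u3 * (c2 * c3) + 2 * T.a u2 u4 * (c2 * c4) + 2 * T.a u2 u5 * (c2 * c5) + 2 * T.a u3 u4 * (c3 * c4) + 2 * T.a u3 u5 * (c3 * c5) + 2 * T.a u4 u5 * (c4 * c5)) ≤ 0 := by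
  have key := NT.Q_nonpos_fun T ![u0, u1, u2, u3, u4, u5] ![c0, c1, c2, c3, c4, c5]
  simp only [Fin.sum_univ_six, Matrix.cons_val, (h2 u0).2, (h2 u1).2, (h2 u2).2, (h2 u3).2, (h2 u4).2, (h2 u5).2, NT.symm' T u1 u0, NT.symm' T u2 u0, NT.symm' T u3 u0, NT.symm' T u4 u0, NT.symm' T u5 u0, NT.symm' T u2 u1, NT.symm' T u3 u1, NT.symm' T u4 u1, NT.symm' T u5 u1, NT.symm' T u3 u2, NT.symm' T u4 u2, NT.symm' T u5 u2, NT.symm' T u4 u3, NT.symm' T u5 u3, NT.symm' T u5 u4] at key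
  linarith

theorem inj6 {α : Type*} (u0 u1 u2 u3 u4 u5 : α) (h1_0 : u1 ≠ u0) (h2_0 : u2 ≠ u0) (h2_1 : u2 ≠ u1) (h3_0 : u3 ≠ u0) (h3_1 : u3 ≠ u1) (h3_2 : u3 ≠ u2) (h4_0 : u4 ≠ u0) (h4_1 : u4 ≠ u1) (h4_2 : u4 ≠ u2) (h4_3 : u4 ≠ u3) (h5_0 : u5 ≠ u0) (h5_1 : u5 ≠ u1) (h5_2 : u5 ≠ u2) (h5_3 : u5 ≠ u3) (h5_4 : u5 ≠ u4) :
    Function.Injective ![u0, u1, u2, u3, u4, u5] := by
  intro a b hab
  fin_cases a <;> fin_cases b <;> first | rfl | (exfalso; simp only [Matrix.cons_val] at hab; first | exact absurd hab (by assumption) | exact absurd hab.symm (by assumption))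

theorem rowfun6 (T : Models.NumericalType 6) (u0 u1 u2 u3 u4 u5 : Fin 6) (hinj : Function.Injective ![u0, u1, u2, u3, u4, u5]) (i : Fin 6) :
    T.a i u0 * T.m u0 + T.a i u1 * T.m u1 + T.a i u2 * T.m u2 + T.a i u3 * T.m u3 + T.a i u4 * T.m u4 + T.a i u5 * T.m u5 = 0 := by
  have key := NT.row_fun T ![u0, u1, u2, u3, u4, u5] hinj i
  simp only [Fin.sum_univ_six, Matrix.cons_val] at key
  exact key

theorem negfun7 {n : ℕ} (T : Models.NumericalType n) (h2 : ∀ i, T.IsMinusTwo i) (u0 u1 u2 u3 u4 u5 u6 : Fin n) (hK : 7 < n)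
    (c0 c1 c2 c3 c4 c5 c6 : ℤ) (hc0 : 0 ≤ c0 ∧ 0 ≤ c1 ∧ 0 ≤ c2 ∧ 0 ≤ c3 ∧ 0 ≤ c4 ∧ 0 ≤ c5 ∧ 0 ≤ c6) (hc : 0 < c0 + c1 + c2 + c3 + c4 + c5 + c6) :
    -2 * T.w u0 * (c0 * c0) + -2 * T.w u1 * (c1 * c1) + -2 * T.w u2 * (c2 * c2) + -2 * T.w u3 * (c3 * c3) + -2 * T.w u4 * (c4 * c4) + -2 * T.w u5 * (c5 * c5) + -2 * T.w u6 * (c6 * c6) +
    (2 * T.a u0 u1 * (c0 * c1) + 2 * T.a u0 u2 * (c0 * c2) + 2 * T.a u0 u3 * (c0 * c3) + 2 * T.a u0 u4 * (c0 * c4) + 2 * T.a u0 u5 * (c0 * c5) + 2 * T.a u0 u6 * (c0 * c6) + 2 * T.a u1 u2 * (c1 * c2) + 2 * T.a u1 u3 * (c1 * c3) + 2 * T.a u1 u4 * (c1 * c4) + 2 * T.a u1 u5 * (c1 * c5) + 2 * T.a u1 u6 * (c1 * c6) + 2 * T.a u2 u3 * (c2 * c3) + 2 * T.a u2 u4 * (c2 * c4) + 2 * T.a u2 u5 * (c2 * c5) + 2 * T.a u2 u6 * (c2 * c6) + 2 * T.a u3 u4 * (c3 * c4) + 2 * T.a u3 u5 * (c3 * c5)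 + 2 * T.a u3 u6 * (c3 * c6) + 2 * T.a u4 u5 * (c4 * c5) + 2 * T.a u4 u6 * (c4 * c6) + 2 * T.a u5 u6 * (c5 * c6)) < 0 := by
  have key := NT.Q_neg_fun T ![u0, u1, u2, u3, u4, u5, u6] hK ![c0, c1, c2, c3, c4, c5, c6] (by
    intro l; fin_cases l
    exacts [hc0.1, hc0.2.1, hc0.2.2.1, hc0.2.2.2.1, hc0.2.2.2.2.1, hc0.2.2.2.2.2.1, hc0.2.2.2.2.2.2])
    (by
      by_contra h; push Not at h
      have h0 : c0 ≤ 0 := h 0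
      have h1 : c1 ≤ 0 := h 1
      have h2 : c2 ≤ 0 := h 2
      have h3 : c3 ≤ 0 := h 3
      have h4 : c4 ≤ 0 := h 4
      have h5 : c5 ≤ 0 := h 5
      have h6 : c6 ≤ 0 := h 6
      linarith)
  simp only [Fin.sum_univ_seven, Matrix.cons_val, (h2 u0).2, (h2 u1).2, (h2 u2).2, (h2 u3).2, (h2 u4).2, (h2 u5).2, (h2 u6).2, NT.symm' T u1 u0, NT.symm' T u2 u0, NT.symm' T u3 u0, NT.symm' T u4 u0, NT.symm' T u5 u0, NT.symm' T u6 u0, NT.symm' T u2 u1, NT.symm' T u3 u1, NT.symm' T u4 u1, NT.symm' T u5 u1, NT.symm' T u6 u1, NT.symm' T u3 u2, NT.symm' T u4 u2, NT.symm' T u5 u2, NT.symm' T u6 u2, NT.symm' T u4 u3, NT.symm' T u5 u3, NT.symm' T u6 u3, NT.symm' T u5 u4, NT.symm' T u6 u4, NT.symm' T u6 u5] at key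
  linarith

theorem nonposfun7 {n : ℕ} (T : Models.NumericalType n) (h2 : ∀ i, T.IsMinusTwo i) (u0 u1 u2 u3 u4 u5 u6 : Fin n)
    (c0 c1 c2 c3 c4 c5 c6 : ℤ) :
    -2 * T.w u0 * (c0 * c0) + -2 * T.w u1 * (c1 * c1) + -2 * T.w u2 * (c2 * c2) + -2 * T.w u3 * (c3 * c3) + -2 * T.w u4 * (c4 * c4) + -2 * T.w u5 * (c5 * c5) + -2 * T.w u6 * (c6 * c6) +
    (2 * T.a u0 u1 * (c0 * c1) + 2 * T.a u0 u2 * (c0 * c2) + 2 * T.a u0 u3 * (c0 * c3) + 2 * T.a u0 u4 * (c0 * c4) + 2 * T.a u0 u5 * (c0 * c5) + 2 * T.a u0 u6 * (c0 * c6) + 2 * T.a u1 u2 * (c1 * c2) + 2 * T.a u1 u3 * (c1 * c3) + 2 * T.a u1 u4 * (c1 * c4) + 2 * T.a u1 u5 * (c1 * c5) + 2 * T.a u1 u6 * (c1 * c6) + 2 * T.a u2 u3 * (c2 * c3) + 2 * T.a u2 u4 * (c2 * c4) + 2 * T.a u2 u5 * (c2 * c5) + 2 * T.a u2 u6 * (c2 * c6) + 2 * T.a u3 u4 * (c3 * c4) + 2 * T.a u3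 u5 * (c3 * c5) + 2 * T.a u3 u6 * (c3 * c6) + 2 * T.a u4 u5 * (c4 * c5) + 2 * T.a u4 u6 * (c4 * c6) + 2 * T.a u5 u6 * (c5 * c6)) ≤ 0 := by
  have key := NT.Q_nonpos_fun T ![u0, u1, u2, u3, u4, u5, u6] ![c0, c1, c2, c3, c4, c5, c6]
  simp only [Fin.sum_univ_seven, Matrix.cons_val, (h2 u0).2, (h2 u1).2, (h2 u2).2, (h2 u3).2, (h2 u4).2, (h2 u5).2, (h2 u6).2, NT.symm' T u1 u0, NT.symm' T u2 u0, NT.symm' T u3 u0, NT.symm' T u4 u0, NT.symm' T u5 u0, NT.symm' T u6 u0, NT.symm' T u2 u1, NT.symm' T u3 u1, NT.symm' T u4 u1, NT.symm' T u5 u1, NT.symm' T u6 u1, NT.symm' T u3 u2, NT.symm' T u4 u2, NT.symm' T u5 u2, NT.symm' T u6 u2, NT.symm' T u4 u3, NT.symm' T u5 u3, NT.symm' T u6 u3, NT.symm' T u5 u4, NT.symm' T u6 u4, NT.symm' T u6 u5] at key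
  linarith

theorem inj7 {α : Type*} (u0 u1 u2 u3 u4 u5 u6 : α) (h1_0 : u1 ≠ u0) (h2_0 : u2 ≠ u0) (h2_1 : u2 ≠ u1) (h3_0 : u3 ≠ u0) (h3_1 : u3 ≠ u1) (h3_2 : u3 ≠ u2) (h4_0 : u4 ≠ u0) (h4_1 : u4 ≠ u1) (h4_2 : u4 ≠ u2) (h4_3 : u4 ≠ u3) (h5_0 : u5 ≠ u0) (h5_1 : u5 ≠ u1) (h5_2 : u5 ≠ u2) (h5_3 : u5 ≠ u3) (h5_4 : u5 ≠ u4) (h6_0 : u6 ≠ u0) (h6_1 : u6 ≠ u1) (h6_2 : u6 ≠ u2) (h6_3 : u6 ≠ u3) (h6_4 : u6 ≠ u4) (h6_5 : u6 ≠ u5) :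
    Function.Injective ![u0, u1, u2, u3, u4, u5, u6] := by
  intro a b hab
  fin_cases a <;> fin_cases b <;> first | rfl | (exfalso; simp only [Matrix.cons_val] at hab; first | exact absurd hab (by assumption) | exact absurd hab.symm (by assumption))

theorem rowfun7 (T : Models.NumericalType 7) (u0 u1 u2 u3 u4 u5 u6 : Fin 7) (hinj : Function.Injective ![u0, u1, u2, u3, u4, u5, u6]) (i : Fin 7) :
    T.a i u0 * T.m u0 + T.a i u1 * T.m u1 + T.a i u2 * T.m u2 + T.a i u3 * T.m u3 + T.a i u4 * T.m u4 + T.a i u5 * T.m u5 + T.a i u6 * T.m u6 = 0 := by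
  have key := NT.row_fun T ![u0, u1, u2, u3, u4, u5, u6] hinj i
  simp only [Fin.sum_univ_seven, Matrix.cons_val] at key
  exact key

theorem negfun8 {n : ℕ} (T : Models.NumericalType n) (h2 : ∀ i, T.IsMinusTwo i) (u0 u1 u2 u3 u4 u5 u6 u7 : Fin n) (hK : 8 < n)
    (c0 c1 c2 c3 c4 c5 c6 c7 : ℤ) (hc0 : 0 ≤ c0 ∧ 0 ≤ c1 ∧ 0 ≤ c2 ∧ 0 ≤ c3 ∧ 0 ≤ c4 ∧ 0 ≤ c5 ∧ 0 ≤ c6 ∧ 0 ≤ c7) (hc : 0 < c0 + c1 + c2 + c3 + c4 + c5 + c6 + c7) :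
    -2 * T.w u0 * (c0 * c0) + -2 * T.w u1 * (c1 * c1) + -2 * T.w u2 * (c2 * c2) + -2 * T.w u3 * (c3 * c3) + -2 * T.w u4 * (c4 * c4) + -2 * T.w u5 * (c5 * c5) + -2 * T.w u6 * (c6 * c6) + -2 * T.w u7 * (c7 * c7) +
    (2 * T.a u0 u1 * (c0 * c1) + 2 * T.a u0 u2 * (c0 * c2) + 2 * T.a u0 u3 * (c0 * c3) + 2 * T.a u0 u4 * (c0 * c4) + 2 * T.a u0 u5 * (c0 * c5) + 2 * T.a u0 u6 * (c0 * c6) + 2 * T.a u0 u7 * (c0 * c7) + 2 * T.a u1 u2 * (c1 * c2) + 2 * T.a u1 u3 * (c1 * c3) + 2 * T.a u1 u4 * (c1 * c4) + 2 * T.a u1 u5 * (c1 * c5) + 2 * T.a u1 u6 * (c1 * c6) + 2 * T.a u1 u7 * (c1 * c7) + 2 * T.a u2 u3 * (c2 * c3) + 2 * T.a u2 u4 * (c2 * c4) + 2 * T.a u2 u5 * (c2 * c5) + 2 * T.a u2 u6 * (c2 * c6) + 2 * T.a u2 u7 * (c2 * c7) + 2 * T.a u3 u4 * (c3 * c4) + 2 * T.a u3 u5 * (c3 * c5) + 2 * T.a u3 u6 * (c3 * c6) + 2 *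 T.a u3 u7 * (c3 * c7) + 2 * T.a u4 u5 * (c4 * c5) + 2 * T.a u4 u6 * (c4 * c6) + 2 * T.a u4 u7 * (c4 * c7) + 2 * T.a u5 u6 * (c5 * c6) + 2 * T.a u5 u7 * (c5 * c7) + 2 * T.a u6 u7 * (c6 * c7)) < 0 := by
  have key := NT.Q_neg_fun T ![u0, u1, u2, u3, u4, u5, u6, u7] hK ![c0, c1, c2, c3, c4, c5, c6, c7] (by
    intro l; fin_cases l
    exacts [hc0.1, hc0.2.1, hc0.2.2.1, hc0.2.2.2.1, hc0.2.2.2.2.1, hc0.2.2.2.2.2.1, hc0.2.2.2.2.2.2.1, hc0.2.2.2.2.2.2.2])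
    (by
      by_contra h; push Not at h
      have h0 : c0 ≤ 0 := h 0
      have h1 : c1 ≤ 0 := h 1
      have h2 : c2 ≤ 0 := h 2
      have h3 : c3 ≤ 0 := h 3
      have h4 : c4 ≤ 0 := h 4
      have h5 : c5 ≤ 0 := h 5
      have h6 : c6 ≤ 0 := h 6
      have h7 : c7 ≤ 0 := h 7
      linarith)
  simp only [Fin.sum_univ_eight, Matrix.cons_val, (h2 u0).2, (h2 u1).2, (h2 u2).2, (h2 u3).2, (h2 u4).2, (h2 u5).2, (h2 u6).2, (h2 u7).2, NT.symm' T u1 u0, NT.symm' T u2 u0, NT.symm' T u3 u0, NT.symm' T u4 u0, NT.symm' T u5 u0, NT.symm' T u6 u0, NT.symm' T u7 u0, NT.symm' T u2 u1, NT.symm' T u3 u1, NT.symm' T u4 u1, NT.symm' T u5 u1, NT.symm' T u6 u1, NT.symm' T u7 u1, NT.symm' T u3 u2, NT.symm' T u4 u2, NT.symm' T u5 u2, NT.symm' T u6 u2, NT.symm' T u7 u2, NT.symm' T u4 u3, NT.symm' T u5 u3, NT.symm' T u6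 u3, NT.symm' T u7 u3, NT.symm' T u5 u4, NT.symm' T u6 u4, NT.symm' T u7 u4, NT.symm' T u6 u5, NT.symm' T u7 u5, NT.symm' T u7 u6] at key
  linarith

theorem nonposfun8 {n : ℕ} (T : Models.NumericalType n) (h2 : ∀ i, T.IsMinusTwo i) (u0 u1 u2 u3 u4 u5 u6 u7 : Fin n)
    (c0 c1 c2 c3 c4 c5 c6 c7 : ℤ) :
    -2 * T.w u0 * (c0 * c0) + -2 * T.w u1 * (c1 * c1) + -2 * T.w u2 * (c2 * c2) + -2 * T.w u3 * (c3 * c3) + -2 * T.w u4 * (c4 * c4) + -2 * T.w u5 * (c5 * c5) + -2 * T.w u6 * (c6 * c6) + -2 * T.w u7 * (c7 * c7) +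
    (2 * T.a u0 u1 * (c0 * c1) + 2 * T.a u0 u2 * (c0 * c2) + 2 * T.a u0 u3 * (c0 * c3) + 2 * T.a u0 u4 * (c0 * c4) + 2 * T.a u0 u5 * (c0 * c5) + 2 * T.a u0 u6 * (c0 * c6) + 2 * T.a u0 u7 * (c0 * c7) + 2 * T.a u1 u2 * (c1 * c2) + 2 * T.a u1 u3 * (c1 * c3) + 2 * T.a u1 u4 * (c1 * c4) + 2 * T.a u1 u5 * (c1 * c5) + 2 * T.a u1 u6 * (c1 * c6) + 2 * T.a u1 u7 * (c1 * c7) + 2 * T.a u2 u3 * (c2 * c3) + 2 * T.a u2 u4 * (c2 * c4) + 2 * T.a u2 u5 * (c2 * c5) + 2 * T.a u2 u6 * (c2 * c6) + 2 * T.a u2 u7 * (c2 * c7) + 2 * T.a u3 u4 * (c3 * c4) + 2 * T.a u3 u5 * (c3 * c5) + 2 * T.a u3 u6 * (c3 * c6) + 2 * T.a u3 u7 * (c3 * c7) + 2 * T.a u4 u5 * (c4 * c5) + 2 * T.a u4 u6 * (c4 * c6) + 2 * T.a u4 u7 * (c4 * c7) + 2 * T.a u5 u6 * (c5 * c6) + 2 * T.a u5 u7 * (c5 * c7) + 2 * T.a u6 u7 * (c6 * c7)) ≤ 0 := by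
  have key := NT.Q_nonpos_fun T ![u0, u1, u2, u3, u4, u5, u6, u7] ![c0, c1, c2, c3, c4, c5, c6, c7]
  simp only [Fin.sum_univ_eight, Matrix.cons_val, (h2 u0).2, (h2 u1).2, (h2 u2).2, (h2 u3).2, (h2 u4).2, (h2 u5).2, (h2 u6).2, (h2 u7).2, NT.symm' T u1 u0, NT.symm' T u2 u0, NT.symm' T u3 u0, NT.symm' T u4 u0, NT.symm' T u5 u0, NT.symm' T u6 u0, NT.symm' T u7 u0, NT.symm' T u2 u1, NT.symm' T u3 u1, NT.symm' T u4 u1, NT.symm' T u5 u1, NT.symm' T u6 u1, NT.symm' T u7 u1, NT.symm' T u3 u2, NT.symm' T u4 u2, NT.symm' T u5 u2, NT.symm' T u6 u2, NT.symm' T u7 u2, NT.symm' T u4 u3, NT.symm' T u5 u3, NT.symm' T u6 u3, NT.symm' T u7 u3, NT.symm' T u5 u4, NT.symm' T u6 u4, NT.symm' T u7 u4, NT.symm' T u6 u5, NT.symm' T u7 u5, NT.symm' T u7 u6] at key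
  linarith

theorem inj8 {α : Type*} (u0 u1 u2 u3 u4 u5 u6 u7 : α) (h1_0 : u1 ≠ u0) (h2_0 : u2 ≠ u0) (h2_1 : u2 ≠ u1) (h3_0 : u3 ≠ u0) (h3_1 : u3 ≠ u1) (h3_2 : u3 ≠ u2) (h4_0 : u4 ≠ u0) (h4_1 : u4 ≠ u1) (h4_2 : u4 ≠ u2) (h4_3 : u4 ≠ u3) (h5_0 : u5 ≠ u0) (h5_1 : u5 ≠ u1) (h5_2 : u5 ≠ u2) (h5_3 : u5 ≠ u3) (h5_4 : u5 ≠ u4) (h6_0 : u6 ≠ u0) (h6_1 : u6 ≠ u1) (h6_2 : u6 ≠ u2) (h6_3 : u6 ≠ u3) (h6_4 : u6 ≠ u4) (h6_5 : u6 ≠ u5) (h7_0 : u7 ≠ u0) (h7_1 : u7 ≠ u1) (h7_2 : u7 ≠ u2) (h7_3 : u7 ≠ u3) (h7_4 : u7 ≠ u4) (h7_5 : u7 ≠ u5) (h7_6 : u7 ≠ u6) :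
    Function.Injective ![u0, u1, u2, u3, u4, u5, u6, u7] := by
  intro a b hab
  fin_cases a <;> fin_cases b <;> first | rfl | (exfalso; simp only [Matrix.cons_val] at hab; first | exact absurd hab (by assumption) | exact absurd hab.symm (by assumption))

theorem rowfun8 (T : Models.NumericalType 8) (u0 u1 u2 u3 u4 u5 u6 u7 : Fin 8) (hinj : Function.Injective ![u0, u1, u2, u3, u4, u5, u6, u7]) (i : Fin 8) :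
    T.a i u0 * T.m u0 + T.a i u1 * T.m u1 + T.a i u2 * T.m u2 + T.a i u3 * T.m u3 + T.a i u4 * T.m u4 + T.a i u5 * T.m u5 + T.a i u6 * T.m u6 + T.a i u7 * T.m u7 = 0 := by
  have key := NT.row_fun T ![u0, u1, u2, u3, u4, u5, u6, u7] hinj i
  simp only [Fin.sum_univ_eight, Matrix.cons_val] at key
  exact key

theorem nonposfun9 {n : ℕ} (T : Models.NumericalType n) (h2 : ∀ i, T.IsMinusTwo i) (u0 u1 u2 u3 u4 u5 u6 u7 u8 : Fin n)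
    (c0 c1 c2 c3 c4 c5 c6 c7 c8 : ℤ) :
    -2 * T.w u0 * (c0 * c0) + -2 * T.w u1 * (c1 * c1) + -2 * T.w u2 * (c2 * c2) + -2 * T.w u3 * (c3 * c3) + -2 * T.w u4 * (c4 * c4) + -2 * T.w u5 * (c5 * c5) + -2 * T.w u6 * (c6 * c6) + -2 * T.w u7 * (c7 * c7) + -2 * T.w u8 * (c8 * c8) +
    (2 * T.a u0 u1 * (c0 * c1) + 2 * T.a u0 u2 * (c0 * c2) + 2 * T.a u0 u3 * (c0 * c3) + 2 * T.a u0 u4 * (c0 * c4) + 2 * T.a u0 u5 * (c0 * c5) + 2 * T.a u0 u6 * (c0 * c6) + 2 * T.a u0 u7 * (c0 * c7) + 2 * T.a u0 u8 * (c0 * c8) + 2 * T.a u1 u2 * (c1 * c2) + 2 * T.a u1 u3 * (c1 * c3) + 2 * T.a u1 u4 * (c1 * c4) + 2 * T.a u1 u5 * (c1 * c5) + 2 * T.a u1 u6 * (c1 * c6) + 2 * T.a u1 u7 * (c1 * c7) + 2 * T.a u1 u8 * (c1 * c8) + 2 * T.a u2 u3 * (c2 * c3) + 2 * T.a u2 u4 * (c2 * c4) + 2 * T.a u2 u5 * (c2 * c5) + 2 * T.a u2 u6 * (c2 * c6)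 + 2 * T.a u2 u7 * (c2 * c7) + 2 * T.a u2 u8 * (c2 * c8) + 2 * T.a u3 u4 * (c3 * c4) + 2 * T.a u3 u5 * (c3 * c5) + 2 * T.a u3 u6 * (c3 * c6) + 2 * T.a u3 u7 * (c3 * c7) + 2 * T.a u3 u8 * (c3 * c8) + 2 * T.a u4 u5 * (c4 * c5) + 2 * T.a u4 u6 * (c4 * c6) + 2 * T.a u4 u7 * (c4 * c7) + 2 * T.a u4 u8 * (c4 * c8) + 2 * T.a u5 u6 * (c5 * c6) + 2 * T.a u5 u7 * (c5 * c7) + 2 * T.a u5 u8 * (c5 * c8) + 2 * T.a u6 u7 * (c6 * c7) + 2 * T.a u6 u8 * (c6 * c8) + 2 * T.a u7 u8 * (c7 * c8)) ≤ 0 := by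
  have key := NT.Q_nonpos_fun T ![u0, u1, u2, u3, u4, u5, u6, u7, u8] ![c0, c1, c2, c3, c4, c5, c6, c7, c8]
  simp only [sum_univ_nine, Matrix.cons_val, (h2 u0).2, (h2 u1).2, (h2 u2).2, (h2 u3).2, (h2 u4).2, (h2 u5).2, (h2 u6).2, (h2 u7).2, (h2 u8).2, NT.symm' T u1 u0, NT.symm' T u2 u0, NT.symm' T u3 u0, NT.symm' T u4 u0, NT.symm' T u5 u0, NT.symm' T u6 u0, NT.symm' T u7 u0, NT.symm' T u8 u0, NT.symm' T u2 u1, NT.symm' T u3 u1, NT.symm' T u4 u1, NT.symm' T u5 u1, NT.symm' T u6 u1, NT.symm' T u7 u1, NT.symm' T u8 u1, NT.symm' T u3 u2, NT.symm' T u4 u2, NT.symm' T u5 u2, NT.symm' T u6 u2, NT.symm' T u7 u2, NT.symm' T u8 u2, NT.symm' T u4 u3, NT.symm' T u5 u3, NT.symm' T u6 u3, NT.symm' T u7 u3, NT.symm' T u8 u3, NT.symm' T u5 u4, NT.symm' T u6 u4, NT.symm' T u7 u4, NT.symm' T u8 u4, NT.symm' T u6 u5,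 NT.symm' T u7 u5, NT.symm' T u8 u5, NT.symm' T u7 u6, NT.symm' T u8 u6, NT.symm' T u8 u7] at key
  linarith

theorem inj9 {α : Type*} (u0 u1 u2 u3 u4 u5 u6 u7 u8 : α) (h1_0 : u1 ≠ u0) (h2_0 : u2 ≠ u0) (h2_1 : u2 ≠ u1) (h3_0 : u3 ≠ u0) (h3_1 : u3 ≠ u1) (h3_2 : u3 ≠ u2) (h4_0 : u4 ≠ u0) (h4_1 : u4 ≠ u1) (h4_2 : u4 ≠ u2) (h4_3 : u4 ≠ u3) (h5_0 : u5 ≠ u0) (h5_1 : u5 ≠ u1) (h5_2 : u5 ≠ u2) (h5_3 : u5 ≠ u3) (h5_4 : u5 ≠ u4) (h6_0 : u6 ≠ u0) (h6_1 : u6 ≠ u1) (h6_2 : u6 ≠ u2) (h6_3 : u6 ≠ u3) (h6_4 : u6 ≠ u4) (h6_5 : u6 ≠ u5) (h7_0 : u7 ≠ u0) (h7_1 : u7 ≠ u1) (h7_2 : u7 ≠ u2) (h7_3 : u7 ≠ u3) (h7_4 : u7 ≠ u4) (h7_5 : u7 ≠ u5) (h7_6 : u7 ≠ u6) (h8_0 : u8 ≠ u0) (h8_1 : u8 ≠ u1) (h8_2 : u8 ≠ u2) (h8_3 : u8 ≠ u3) (h8_4 : u8 ≠ u4) (h8_5 : u8 ≠ u5) (h8_6 : u8 ≠ u6) (h8_7 : u8 ≠ u7) :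
    Function.Injective ![u0, u1, u2, u3, u4, u5, u6, u7, u8] := by
  intro a b hab
  fin_cases a <;> fin_cases b <;> first | rfl | (exfalso; simp only [Matrix.cons_val] at hab; first | exact absurd hab (by assumption) | exact absurd hab.symm (by assumption))

theorem rowfun9 (T : Models.NumericalType 9) (u0 u1 u2 u3 u4 u5 u6 u7 u8 : Fin 9) (hinj : Function.Injective ![u0, u1, u2, u3, u4, u5, u6, u7, u8]) (i : Fin 9) :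
    T.a i u0 * T.m u0 + T.a i u1 * T.m u1 + T.a i u2 * T.m u2 + T.a i u3 * T.m u3 + T.a i u4 * T.m u4 + T.a i u5 * T.m u5 + T.a i u6 * T.m u6 + T.a i u7 * T.m u7 + T.a i u8 * T.m u8 = 0 := by
  have key := NT.row_fun T ![u0, u1, u2, u3, u4, u5, u6, u7, u8] hinj i
  simp only [sum_univ_nine, Matrix.cons_val] at key
  exact key

end NT

end Groth.Agent.Helper6
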