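import Groth.Agent.Lib.Helper6.NumType

/-!
# Sub-configurations and the two-vertex analysis
-/

namespace Groth.Agent.Helper6

open Finset

namespace Cfg

variable {t : ℕ} (C : Cfg t)

/-- Restriction of a configuration along an embedding. -/
def comap {s : ℕ} (e : Fin s ↪ Fin t) : Cfg s where
  A p q := C.A (e p) (e q)
  W p := C.W (e p)
  M p := C.M (e p)
  W_pos p := C.W_pos _
  M_pos p := C.M_pos _
  diag p := C.diag _
  symm p q := C.symm _ _
  nonneg p q h := C.nonneg _ _ (fun h' => h (e.injective h'))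
  dvd p q := C.dvd _ _
  negdef c hc := by
    classical
    set x : Fin t → ℤ := Function.extend e c 0 with hxdef
    have hxv : ∀ p, x (e p) = c p := fun p => e.injective.extend_apply c 0 p
    have hx0 : ∀ i, i ∉ Set.range e → x i = 0 := fun i hi => by
      rw [hxdef, Function.extend_apply' _ _ _ (by simpa using hi)]; rfl
    have hxne : ∃ p, x p ≠ 0 := by
      obtain ⟨p, hp⟩ := hc
      exact ⟨e p, by rw [hxv]; exact hp⟩
    have hneg := C.negdef x hxne
    have hQ : ∑ p, ∑ q, C.A p q * x p * x q = ∑ p, ∑ q, C.A (e p) (e q) * c p * c q := by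
      symm
      apply Fintype.sum_of_injective e e.injective
      · intro i hi
        simp [hx0 i hi]
      · intro p
        apply Fintype.sum_of_injective e e.injective
        · intro j hj
          simp [hx0 j hj]
        · intro q
          rw [hxv, hxv]
    rw [← hQ]; exact hneg
  row p := by
    classical
    refine le_trans ?_ (C.row (e p))
    have : ∑ q, C.A (e p) (e q) * C.M (e q) = ∑ j ∈ Finset.univ.map e, C.A (e p) j * C.M j := by
      rw [Finset.sum_map]
    rw [this]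
    apply Finset.sum_le_sum_of_subset_of_nonneg (Finset.subset_univ _)
    intro j _ hj
    have hne : e p ≠ j := by
      intro h
      apply hj
      rw [← h]
      exact Finset.mem_map_of_mem e (Finset.mem_univ p)
    exact mul_nonneg (C.nonneg _ _ hne) (C.M_pos j).le

@[simp] theorem comap_A {s : ℕ} (e : Fin s ↪ Fin t) (p q : Fin s) :
    (C.comap e).A p q = C.A (e p) (e q) := rfl
@[simp] theorem comap_W {s : ℕ} (e : Fin s ↪ Fin t) (p : Fin s) :
    (C.comap e).W p = C.W (e p) := rfl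
@[simp] theorem comap_M {s : ℕ} (e : Fin s ↪ Fin t) (p : Fin s) :
    (C.comap e).M p = C.M (e p) := rfl

/-- the embedding `Fin 2 ↪ Fin t` given by two distinct indices -/
def emb2 {t : ℕ} (p q : Fin t) (h : p ≠ q) : Fin 2 ↪ Fin t :=
  ⟨![p, q], by
    intro a b hab
    fin_cases a <;> fin_cases b <;> simp_all⟩

@[simp] theorem emb2_zero {t : ℕ} (p q : Fin t) (h : p ≠ q) : emb2 p q h 0 = p := rfl
@[simp] theorem emb2_one {t : ℕ} (p q : Fin t) (h : p ≠ q) : emb2 p q h 1 = q := rfl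

theorem cancel_pos {w x y : ℤ} (hw : 0 < w) (h : w * x ≤ w * y) : x ≤ y :=
  le_of_mul_le_mul_left h hw

/-- Two-vertex configurations: the classification `A2`, `B2`, `G2`. -/
theorem two (C : Cfg 2) (h : C.A 0 1 ≠ 0) :
    (C.W 1 = C.W 0 ∧ C.A 0 1 = C.W 0) ∨
    (C.W 1 = 2 * C.W 0 ∧ C.A 0 1 = 2 * C.W 0) ∨
    (C.W 0 = 2 * C.W 1 ∧ C.A 0 1 = 2 * C.W 1) ∨
    (C.W 1 = 3 * C.W 0 ∧ C.A 0 1 = 3 * C.W 0) ∨
    (C.W 0 = 3 * C.W 1 ∧ C.A 0 1 = 3 * C.W 1) := by
  have hpos : 0 < C.A 0 1 := C.pos_of_ne 0 1 (by decide) h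
  have hW0 := C.W_pos 0
  have hW1 := C.W_pos 1
  obtain ⟨s, hs⟩ := C.dvd 0 1
  obtain ⟨r, hr⟩ := C.dvd' 0 1
  have hs0 : 0 < s := by
    by_contra hk; push Not at hk; nlinarith
  have hr0 : 0 < r := by
    by_contra hk; push Not at hk; nlinarith
  have key := C.negdef ![C.A 0 1, 2 * C.W 0] ⟨0, by simpa using h⟩
  simp only [Fin.sum_univ_two, Matrix.cons_val_zero, Matrix.cons_val_one, C.diag, ← C.symm 0 1] at key
  have hsr : s * r < 4 := by
    by_contra hk
    push Not at hk
    have h1 : C.A 0 1 * C.A 0 1 = C.W 0 * C.W 1 * (s * r) := by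
      calc C.A 0 1 * C.A 0 1 = (C.W 0 * s) * (C.W 1 * r) := by rw [← hs, ← hr]
        _ = _ := by ring
    have h2 : 0 ≤ C.W 0 * C.W 0 * C.W 1 * (s * r - 4) :=
      mul_nonneg (by positivity) (by linarith)
    nlinarith
  have hs3 : s ≤ 3 := by nlinarith
  have hr3 : r ≤ 3 := by nlinarith
  have hcases : (s = 1 ∧ r = 1) ∨ (s = 2 ∧ r = 1) ∨ (s = 1 ∧ r = 2) ∨ (s = 3 ∧ r = 1) ∨
      (s = 1 ∧ r = 3) := by
    interval_cases s <;> interval_cases r <;> simp_all
  rcases hcases with ⟨rfl, rfl⟩ | ⟨rfl, rfl⟩ | ⟨rfl, rfl⟩ | ⟨rfl, rfl⟩ | ⟨rfl, rfl⟩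
  · left; constructor <;> linarith
  · right; left; constructor <;> linarith
  · right; right; left; constructor <;> linarith
  · right; right; right; left; constructor <;> linarith
  · right; right; right; right; constructor <;> linarith

/-- Edge classification in an arbitrary configuration. -/
theorem edge (p q : Fin t) (hpq : p ≠ q) (h : C.A p q ≠ 0) :
    (C.W q = C.W p ∧ C.A p q = C.W p) ∨
    (C.W q = 2 * C.W p ∧ C.A p q = 2 * C.W p) ∨
    (C.W p = 2 * C.W q ∧ C.A p q = 2 * C.W q) ∨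
    (C.W q = 3 * C.W p ∧ C.A p q = 3 * C.W p) ∨
    (C.W p = 3 * C.W q ∧ C.A p q = 3 * C.W q) :=
  two (C.comap (emb2 p q hpq)) h

/-- the two row inequalities of a pair of vertices -/
theorem row_two (C : Cfg 2) :
    C.A 0 1 * C.M 1 ≤ 2 * C.W 0 * C.M 0 ∧ C.A 0 1 * C.M 0 ≤ 2 * C.W 1 * C.M 1 := by
  have r0 := C.row 0
  have r1 := C.row 1
  simp only [Fin.sum_univ_two, C.diag, ← C.symm 0 1] at r0 r1
  constructor <;> linarith

end Cfg

end Groth.Agent.Helper6
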