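import Groth.Agent.Lib.Helper6.NumType3

/-!
# Chains of three, four and five `(-2)`-vertices (generated case analysis)
-/

set_option linter.unusedSimpArgs false
set_option linter.unusedVariables false

namespace Groth.Agent.Helper6

namespace Cfg

/-- the embedding `Fin 3 ↪ Fin t` given by three distinct indices -/
def emb3 {t : ℕ} (p q r : Fin t) (hpq : p ≠ q) (hqr : q ≠ r) (hpr : p ≠ r) : Fin 3 ↪ Fin t :=
  ⟨![p, q, r], by
    intro a b hab
    fin_cases a <;> fin_cases b <;> simp_all [eq_comm]⟩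

@[simp] theorem emb3_zero {t : ℕ} (p q r : Fin t) (hpq : p ≠ q) (hqr : q ≠ r) (hpr : p ≠ r) :
    emb3 p q r hpq hqr hpr 0 = p := rfl
@[simp] theorem emb3_one {t : ℕ} (p q r : Fin t) (hpq : p ≠ q) (hqr : q ≠ r) (hpr : p ≠ r) :
    emb3 p q r hpq hqr hpr 1 = q := rfl
@[simp] theorem emb3_two {t : ℕ} (p q r : Fin t) (hpq : p ≠ q) (hqr : q ≠ r) (hpr : p ≠ r) :
    emb3 p q r hpq hqr hpr 2 = r := rfl

theorem chain3 (C : Cfg 3) (h01 : C.A 0 1 ≠ 0) (h12 : C.A 1 2 ≠ 0) :
    (C.A 0 2 = 0) ∧
    ∃ (u : Fin 3 → Fin 3) (w : ℤ), ((∀ j, u j = j) ∨ (∀ j, u j = Fin.rev j)) ∧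
      ((C.W (u 0) = w ∧ C.W (u 1) = w ∧ C.W (u 2) = w ∧ C.A (u 0) (u 1) = w ∧ C.A (u 1) (u 2) = w ∧ C.M (u 1) ≤ 2 * C.M (u 0) ∧ C.M (u 0) + C.M (u 2) ≤ 2 * C.M (u 1) ∧ C.M (u 1) ≤ 2 * C.M (u 2)) ∨
      (C.W (u 0) = w ∧ C.W (u 1) = w ∧ C.W (u 2) = 2 * w ∧ C.A (u 0) (u 1) = w ∧ C.A (u 1) (u 2) = 2 * w ∧ C.M (u 1) ≤ 2 * C.M (u 0) ∧ C.M (u 0) + 2 * C.M (u 2) ≤ 2 * C.M (u 1) ∧ C.M (u 1) ≤ 2 * C.M (u 2)) ∨
      (C.W (u 0) = 2 * w ∧ C.W (u 1) = 2 * w ∧ C.W (u 2) = w ∧ C.A (u 0) (u 1) = 2 * w ∧ C.A (u 1) (u 2) = 2 * w ∧ C.M (u 1) ≤ 2 * C.M (u 0) ∧ C.M (u 0) + C.M (u 2) ≤ 2 * C.M (u 1) ∧ C.M (u 1) ≤ C.M (u 2))) := by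
  have p01 : 0 < C.A 0 1 := C.pos_of_ne 0 1 (by decide) h01
  have l01 := C.le_of_pos 0 1 p01
  have l01' := C.le_of_pos' 0 1 p01
  have p12 : 0 < C.A 1 2 := C.pos_of_ne 1 2 (by decide) h12
  have l12 := C.le_of_pos 1 2 p12
  have l12' := C.le_of_pos' 1 2 p12
  have n02 := C.nonneg 0 2 (by decide)
  have w0 := C.W_pos 0
  have w1 := C.W_pos 1
  have w2 := C.W_pos 2
  have z02 : C.A 0 2 = 0 := by
    by_contra h
    have hp := C.pos_of_ne 0 2 (by decide) h
    have hl := C.le_of_pos 0 2 hp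
    have key := C.negdef3 1 1 1 (by decide)
    linarith
  refine ⟨z02, ?_⟩
  rcases C.edge 0 1 (by decide) h01 with ⟨tw0, ta0⟩ | ⟨tw0, ta0⟩ | ⟨tw0, ta0⟩ | ⟨tw0, ta0⟩ | ⟨tw0, ta0⟩
  · -- S
    rcases C.edge 1 2 (by decide) h12 with ⟨tw1, ta1⟩ | ⟨tw1, ta1⟩ | ⟨tw1, ta1⟩ | ⟨tw1, ta1⟩ | ⟨tw1, ta1⟩
    · -- S S
      have hW1 : C.W 1 = C.W 0 := by linarith
      have hW2 : C.W 2 = C.W 0 := by linarith
      have hA0 : C.A 0 1 = C.W 0 := by linarith
      have hA1 : C.A 1 2 = C.W 0 := by linarith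
      have f0 : C.W 0 = C.W 0 := rfl
      have f1 : C.W 1 = C.W 0 := by linarith
      have f2 : C.W 2 = C.W 0 := by linarith
      have f3 : C.A 0 1 = C.W 0 := by linarith
      have f4 : C.A 1 2 = C.W 0 := by linarith
      have f5 : C.M 1 ≤ 2 * C.M 0 := by
        have r := C.row3_0
        simp only [hA0, hA1, z02, hW1, hW2] at r
        apply Groth.Agent.Helper6.Cfg.cancel_pos w0; linarith
      have f6 : C.M 0 + C.M 2 ≤ 2 * C.M 1 := by
        have r := C.row3_1
        simp only [hA0, hA1, z02, hW1, hW2] at r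
        apply Groth.Agent.Helper6.Cfg.cancel_pos w0; linarith
      have f7 : C.M 1 ≤ 2 * C.M 2 := by
        have r := C.row3_2
        simp only [hA0, hA1, z02, hW1, hW2] at r
        apply Groth.Agent.Helper6.Cfg.cancel_pos w0; linarith
      exact ⟨fun j => j, C.W 0, Or.inl (fun _ => rfl), Or.inl ⟨f0, f1, f2, f3, f4, f5, f6, f7⟩⟩
    · -- S Dp
      have hW1 : C.W 1 = C.W 0 := by linarith
      have hW2 : C.W 2 = 2 * C.W 0 := by linarith
      have hA0 : C.A 0 1 = C.W 0 := by linarith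
      have hA1 : C.A 1 2 = 2 * C.W 0 := by linarith
      have f0 : C.W 0 = C.W 0 := rfl
      have f1 : C.W 1 = C.W 0 := by linarith
      have f2 : C.W 2 = 2 * C.W 0 := by linarith
      have f3 : C.A 0 1 = C.W 0 := by linarith
      have f4 : C.A 1 2 = 2 * C.W 0 := by linarith
      have f5 : C.M 1 ≤ 2 * C.M 0 := by
        have r := C.row3_0
        simp only [hA0, hA1, z02, hW1, hW2] at r
        apply Groth.Agent.Helper6.Cfg.cancel_pos w0; linarith
      have f6 : C.M 0 + 2 * C.M 2 ≤ 2 * C.M 1 := by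
        have r := C.row3_1
        simp only [hA0, hA1, z02, hW1, hW2] at r
        apply Groth.Agent.Helper6.Cfg.cancel_pos w0; linarith
      have f7 : C.M 1 ≤ 2 * C.M 2 := by
        have r := C.row3_2
        simp only [hA0, hA1, z02, hW1, hW2] at r
        apply Groth.Agent.Helper6.Cfg.cancel_pos w0; linarith
      exact ⟨fun j => j, C.W 0, Or.inl (fun _ => rfl), Or.inr (Or.inl ⟨f0, f1, f2, f3, f4, f5, f6, f7⟩)⟩
    · -- S Dm
      have hW0 : C.W 0 = 2 * C.W 2 := by linarith
      have hW1 : C.W 1 = 2 * C.W 2 := by linarith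
      have hA0 : C.A 0 1 = 2 * C.W 2 := by linarith
      have hA1 : C.A 1 2 = 2 * C.W 2 := by linarith
      have f0 : C.W 0 = 2 * C.W 2 := by linarith
      have f1 : C.W 1 = 2 * C.W 2 := by linarith
      have f2 : C.W 2 = C.W 2 := rfl
      have f3 : C.A 0 1 = 2 * C.W 2 := by linarith
      have f4 : C.A 1 2 = 2 * C.W 2 := by linarith
      have f5 : C.M 1 ≤ 2 * C.M 0 := by
        have r := C.row3_0
        simp only [hA0, hA1, z02, hW0, hW1] at r
        apply Groth.Agent.Helper6.Cfg.cancel_pos w2; linarith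
      have f6 : C.M 0 + C.M 2 ≤ 2 * C.M 1 := by
        have r := C.row3_1
        simp only [hA0, hA1, z02, hW0, hW1] at r
        apply Groth.Agent.Helper6.Cfg.cancel_pos w2; linarith
      have f7 : C.M 1 ≤ C.M 2 := by
        have r := C.row3_2
        simp only [hA0, hA1, z02, hW0, hW1] at r
        apply Groth.Agent.Helper6.Cfg.cancel_pos w2; linarith
      exact ⟨fun j => j, C.W 2, Or.inl (fun _ => rfl), Or.inr (Or.inr (⟨f0, f1, f2, f3, f4, f5, f6, f7⟩))⟩
    · -- S Tp
      exfalso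
      have key := C.negdef3 1 2 1 (by decide)
      linarith
    · -- S Tm
      exfalso
      have key := C.negdef3 1 2 3 (by decide)
      linarith
  · -- Dp
    rcases C.edge 1 2 (by decide) h12 with ⟨tw1, ta1⟩ | ⟨tw1, ta1⟩ | ⟨tw1, ta1⟩ | ⟨tw1, ta1⟩ | ⟨tw1, ta1⟩
    · -- Dp S
      have hW1 : C.W 1 = 2 * C.W 0 := by linarith
      have hW2 : C.W 2 = 2 * C.W 0 := by linarith
      have hA0 : C.A 0 1 = 2 * C.W 0 := by linarith
      have hA1 : C.A 1 2 = 2 * C.W 0 := by linarith
      have f0 : C.W 2 = 2 * C.W 0 := by linarith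
      have f1 : C.W 1 = 2 * C.W 0 := by linarith
      have f2 : C.W 0 = C.W 0 := rfl
      have f3 : C.A 2 1 = 2 * C.W 0 := by rw [C.symm]; linarith
      have f4 : C.A 1 0 = 2 * C.W 0 := by rw [C.symm]; linarith
      have f5 : C.M 1 ≤ 2 * C.M 2 := by
        have r := C.row3_2
        simp only [hA0, hA1, z02, hW1, hW2] at r
        apply Groth.Agent.Helper6.Cfg.cancel_pos w0; linarith
      have f6 : C.M 2 + C.M 0 ≤ 2 * C.M 1 := by
        have r := C.row3_1
        simp only [hA0, hA1, z02, hW1, hW2] at r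
        apply Groth.Agent.Helper6.Cfg.cancel_pos w0; linarith
      have f7 : C.M 1 ≤ C.M 0 := by
        have r := C.row3_0
        simp only [hA0, hA1, z02, hW1, hW2] at r
        apply Groth.Agent.Helper6.Cfg.cancel_pos w0; linarith
      exact ⟨Fin.rev, C.W 0, Or.inr (fun _ => rfl), Or.inr (Or.inr (⟨f0, f1, f2, f3, f4, f5, f6, f7⟩))⟩
    · -- Dp Dp
      exfalso
      have key := C.negdef3 2 2 1 (by decide)
      linarith
    · -- Dp Dm
      exfalso
      have key := C.negdef3 1 1 1 (by decide)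
      linarith
    · -- Dp Tp
      exfalso
      have key := C.negdef3 1 2 1 (by decide)
      linarith
    · -- Dp Tm
      exfalso
      have key := C.negdef3 1 1 1 (by decide)
      linarith
  · -- Dm
    rcases C.edge 1 2 (by decide) h12 with ⟨tw1, ta1⟩ | ⟨tw1, ta1⟩ | ⟨tw1, ta1⟩ | ⟨tw1, ta1⟩ | ⟨tw1, ta1⟩
    · -- Dm S
      have hW0 : C.W 0 = 2 * C.W 1 := by linarith
      have hW2 : C.W 2 = C.W 1 := by linarith
      have hA0 : C.A 0 1 = 2 * C.W 1 := by linarith
      have hA1 : C.A 1 2 = C.W 1 := by linarith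
      have f0 : C.W 2 = C.W 1 := by linarith
      have f1 : C.W 1 = C.W 1 := rfl
      have f2 : C.W 0 = 2 * C.W 1 := by linarith
      have f3 : C.A 2 1 = C.W 1 := by rw [C.symm]; linarith
      have f4 : C.A 1 0 = 2 * C.W 1 := by rw [C.symm]; linarith
      have f5 : C.M 1 ≤ 2 * C.M 2 := by
        have r := C.row3_2
        simp only [hA0, hA1, z02, hW0, hW2] at r
        apply Groth.Agent.Helper6.Cfg.cancel_pos w1; linarith
      have f6 : C.M 2 + 2 * C.M 0 ≤ 2 * C.M 1 := by
        have r := C.row3_1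
        simp only [hA0, hA1, z02, hW0, hW2] at r
        apply Groth.Agent.Helper6.Cfg.cancel_pos w1; linarith
      have f7 : C.M 1 ≤ 2 * C.M 0 := by
        have r := C.row3_0
        simp only [hA0, hA1, z02, hW0, hW2] at r
        apply Groth.Agent.Helper6.Cfg.cancel_pos w1; linarith
      exact ⟨Fin.rev, C.W 1, Or.inr (fun _ => rfl), Or.inr (Or.inl ⟨f0, f1, f2, f3, f4, f5, f6, f7⟩)⟩
    · -- Dm Dp
      exfalso
      have key := C.negdef3 1 2 1 (by decide)
      linarith
    · -- Dm Dm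
      exfalso
      have key := C.negdef3 1 2 2 (by decide)
      linarith
    · -- Dm Tp
      exfalso
      have key := C.negdef3 1 2 1 (by decide)
      linarith
    · -- Dm Tm
      exfalso
      have key := C.negdef3 1 2 2 (by decide)
      linarith
  · -- Tp
    exfalso
    have key := C.negdef3 3 2 1 (by decide)
    linarith
  · -- Tm
    exfalso
    have key := C.negdef3 1 2 1 (by decide)
    linarith

theorem chain4 (C : Cfg 4) (h01 : C.A 0 1 ≠ 0) (h12 : C.A 1 2 ≠ 0) (h23 : C.A 2 3 ≠ 0) :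
    (C.A 0 2 = 0 ∧ C.A 0 3 = 0 ∧ C.A 1 3 = 0) ∧
    ∃ (u : Fin 4 → Fin 4) (w : ℤ), ((∀ j, u j = j) ∨ (∀ j, u j = Fin.rev j)) ∧
      ((C.W (u 0) = w ∧ C.W (u 1) = w ∧ C.W (u 2) = w ∧ C.W (u 3) = w ∧ C.A (u 0) (u 1) = w ∧ C.A (u 1) (u 2) = w ∧ C.A (u 2) (u 3) = w ∧ C.M (u 1) ≤ 2 * C.M (u 0) ∧ C.M (u 0) + C.M (u 2) ≤ 2 * C.M (u 1) ∧ C.M (u 1) + C.M (u 3) ≤ 2 * C.M (u 2) ∧ C.M (u 2) ≤ 2 * C.M (u 3)) ∨
      (C.W (u 0) = w ∧ C.W (u 1) = w ∧ C.W (u 2) = w ∧ C.W (u 3) = 2 * w ∧ C.A (u 0) (u 1) = w ∧ C.A (u 1) (u 2) = w ∧ C.A (u 2) (u 3) = 2 * w ∧ C.M (u 1) ≤ 2 * C.M (u 0) ∧ C.M (u 0) + C.M (u 2) ≤ 2 * C.M (u 1) ∧ C.M (u 1) + 2 * C.M (u 3) ≤ 2 * C.M (u 2) ∧ C.M (u 2) ≤ 2 * C.M (u 3)) ∨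
      (C.W (u 0) = 2 * w ∧ C.W (u 1) = 2 * w ∧ C.W (u 2) = 2 * w ∧ C.W (u 3) = w ∧ C.A (u 0) (u 1) = 2 * w ∧ C.A (u 1) (u 2) = 2 * w ∧ C.A (u 2) (u 3) = 2 * w ∧ C.M (u 1) ≤ 2 * C.M (u 0) ∧ C.M (u 0) + C.M (u 2) ≤ 2 * C.M (u 1) ∧ C.M (u 1) + C.M (u 3) ≤ 2 * C.M (u 2) ∧ C.M (u 2) ≤ C.M (u 3)) ∨
      (C.W (u 0) = w ∧ C.W (u 1) = w ∧ C.W (u 2) = 2 * w ∧ C.W (u 3) = 2 * w ∧ C.A (u 0) (u 1) = w ∧ C.A (u 1) (u 2) = 2 * w ∧ C.A (u 2) (u 3) = 2 * w ∧ C.M (u 1) ≤ 2 * C.M (u 0) ∧ C.M (u 0) + 2 * C.M (u 2) ≤ 2 * C.M (u 1) ∧ C.M (u 1) + C.M (u 3) ≤ 2 * C.M (u 2) ∧ C.M (u 2) ≤ 2 * C.M (u 3))) := by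
  have p01 : 0 < C.A 0 1 := C.pos_of_ne 0 1 (by decide) h01
  have l01 := C.le_of_pos 0 1 p01
  have l01' := C.le_of_pos' 0 1 p01
  have p12 : 0 < C.A 1 2 := C.pos_of_ne 1 2 (by decide) h12
  have l12 := C.le_of_pos 1 2 p12
  have l12' := C.le_of_pos' 1 2 p12
  have p23 : 0 < C.A 2 3 := C.pos_of_ne 2 3 (by decide) h23
  have l23 := C.le_of_pos 2 3 p23
  have l23' := C.le_of_pos' 2 3 p23
  have n02 := C.nonneg 0 2 (by decide)
  have n03 := C.nonneg 0 3 (by decide)
  have n13 := C.nonneg 1 3 (by decide)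
  have w0 := C.W_pos 0
  have w1 := C.W_pos 1
  have w2 := C.W_pos 2
  have w3 := C.W_pos 3
  have z02 : C.A 0 2 = 0 := by
    by_contra h
    have hp := C.pos_of_ne 0 2 (by decide) h
    have hl := C.le_of_pos 0 2 hp
    have key := C.negdef4 1 1 1 0 (by decide)
    linarith
  have z13 : C.A 1 3 = 0 := by
    by_contra h
    have hp := C.pos_of_ne 1 3 (by decide) h
    have hl := C.le_of_pos 1 3 hp
    have key := C.negdef4 0 1 1 1 (by decide)
    linarith
  have z03 : C.A 0 3 = 0 := by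
    by_contra h
    have hp := C.pos_of_ne 0 3 (by decide) h
    have hl := C.le_of_pos 0 3 hp
    have key := C.negdef4 1 1 1 1 (by decide)
    linarith
  refine ⟨⟨z02, z03, z13⟩, ?_⟩
  rcases C.edge 0 1 (by decide) h01 with ⟨tw0, ta0⟩ | ⟨tw0, ta0⟩ | ⟨tw0, ta0⟩ | ⟨tw0, ta0⟩ | ⟨tw0, ta0⟩
  · -- S
    rcases C.edge 1 2 (by decide) h12 with ⟨tw1, ta1⟩ | ⟨tw1, ta1⟩ | ⟨tw1, ta1⟩ | ⟨tw1, ta1⟩ | ⟨tw1, ta1⟩
    · -- S S
      rcases C.edge 2 3 (by decide) h23 with ⟨tw2, ta2⟩ | ⟨tw2, ta2⟩ | ⟨tw2, ta2⟩ | ⟨tw2, ta2⟩ | ⟨tw2, ta2⟩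
      · -- S S S
        have hW1 : C.W 1 = C.W 0 := by linarith
        have hW2 : C.W 2 = C.W 0 := by linarith
        have hW3 : C.W 3 = C.W 0 := by linarith
        have hA0 : C.A 0 1 = C.W 0 := by linarith
        have hA1 : C.A 1 2 = C.W 0 := by linarith
        have hA2 : C.A 2 3 = C.W 0 := by linarith
        have f0 : C.W 0 = C.W 0 := rfl
        have f1 : C.W 1 = C.W 0 := by linarith
        have f2 : C.W 2 = C.W 0 := by linarith
        have f3 : C.W 3 = C.W 0 := by linarith
        have f4 : C.A 0 1 = C.W 0 := by linarith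
        have f5 : C.A 1 2 = C.W 0 := by linarith
        have f6 : C.A 2 3 = C.W 0 := by linarith
        have f7 : C.M 1 ≤ 2 * C.M 0 := by
          have r := C.row4_0
          simp only [hA0, hA1, hA2, z02, z03, z13, hW1, hW2, hW3] at r
          apply Groth.Agent.Helper6.Cfg.cancel_pos w0; linarith
        have f8 : C.M 0 + C.M 2 ≤ 2 * C.M 1 := by
          have r := C.row4_1
          simp only [hA0, hA1, hA2, z02, z03, z13, hW1, hW2, hW3] at r
          apply Groth.Agent.Helper6.Cfg.cancel_pos w0; linarith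
        have f9 : C.M 1 + C.M 3 ≤ 2 * C.M 2 := by
          have r := C.row4_2
          simp only [hA0, hA1, hA2, z02, z03, z13, hW1, hW2, hW3] at r
          apply Groth.Agent.Helper6.Cfg.cancel_pos w0; linarith
        have f10 : C.M 2 ≤ 2 * C.M 3 := by
          have r := C.row4_3
          simp only [hA0, hA1, hA2, z02, z03, z13, hW1, hW2, hW3] at r
          apply Groth.Agent.Helper6.Cfg.cancel_pos w0; linarith
        exact ⟨fun j => j, C.W 0, Or.inl (fun _ => rfl), Or.inl ⟨f0, f1, f2, f3, f4, f5, f6, f7, f8, f9, f10⟩⟩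
      · -- S S Dp
        have hW1 : C.W 1 = C.W 0 := by linarith
        have hW2 : C.W 2 = C.W 0 := by linarith
        have hW3 : C.W 3 = 2 * C.W 0 := by linarith
        have hA0 : C.A 0 1 = C.W 0 := by linarith
        have hA1 : C.A 1 2 = C.W 0 := by linarith
        have hA2 : C.A 2 3 = 2 * C.W 0 := by linarith
        have f0 : C.W 0 = C.W 0 := rfl
        have f1 : C.W 1 = C.W 0 := by linarith
        have f2 : C.W 2 = C.W 0 := by linarith
        have f3 : C.W 3 = 2 * C.W 0 := by linarith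
        have f4 : C.A 0 1 = C.W 0 := by linarith
        have f5 : C.A 1 2 = C.W 0 := by linarith
        have f6 : C.A 2 3 = 2 * C.W 0 := by linarith
        have f7 : C.M 1 ≤ 2 * C.M 0 := by
          have r := C.row4_0
          simp only [hA0, hA1, hA2, z02, z03, z13, hW1, hW2, hW3] at r
          apply Groth.Agent.Helper6.Cfg.cancel_pos w0; linarith
        have f8 : C.M 0 + C.M 2 ≤ 2 * C.M 1 := by
          have r := C.row4_1
          simp only [hA0, hA1, hA2, z02, z03, z13, hW1, hW2, hW3] at r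
          apply Groth.Agent.Helper6.Cfg.cancel_pos w0; linarith
        have f9 : C.M 1 + 2 * C.M 3 ≤ 2 * C.M 2 := by
          have r := C.row4_2
          simp only [hA0, hA1, hA2, z02, z03, z13, hW1, hW2, hW3] at r
          apply Groth.Agent.Helper6.Cfg.cancel_pos w0; linarith
        have f10 : C.M 2 ≤ 2 * C.M 3 := by
          have r := C.row4_3
          simp only [hA0, hA1, hA2, z02, z03, z13, hW1, hW2, hW3] at r
          apply Groth.Agent.Helper6.Cfg.cancel_pos w0; linarith
        exact ⟨fun j => j, C.W 0, Or.inl (fun _ => rfl), Or.inr (Or.inl ⟨f0, f1, f2, f3, f4, f5, f6, f7, f8, f9, f10⟩)⟩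
      · -- S S Dm
        have hW0 : C.W 0 = 2 * C.W 3 := by linarith
        have hW1 : C.W 1 = 2 * C.W 3 := by linarith
        have hW2 : C.W 2 = 2 * C.W 3 := by linarith
        have hA0 : C.A 0 1 = 2 * C.W 3 := by linarith
        have hA1 : C.A 1 2 = 2 * C.W 3 := by linarith
        have hA2 : C.A 2 3 = 2 * C.W 3 := by linarith
        have f0 : C.W 0 = 2 * C.W 3 := by linarith
        have f1 : C.W 1 = 2 * C.W 3 := by linarith
        have f2 : C.W 2 = 2 * C.W 3 := by linarith
        have f3 : C.W 3 = C.W 3 := rfl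
        have f4 : C.A 0 1 = 2 * C.W 3 := by linarith
        have f5 : C.A 1 2 = 2 * C.W 3 := by linarith
        have f6 : C.A 2 3 = 2 * C.W 3 := by linarith
        have f7 : C.M 1 ≤ 2 * C.M 0 := by
          have r := C.row4_0
          simp only [hA0, hA1, hA2, z02, z03, z13, hW0, hW1, hW2] at r
          apply Groth.Agent.Helper6.Cfg.cancel_pos w3; linarith
        have f8 : C.M 0 + C.M 2 ≤ 2 * C.M 1 := by
          have r := C.row4_1
          simp only [hA0, hA1, hA2, z02, z03, z13, hW0, hW1, hW2] at r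
          apply Groth.Agent.Helper6.Cfg.cancel_pos w3; linarith
        have f9 : C.M 1 + C.M 3 ≤ 2 * C.M 2 := by
          have r := C.row4_2
          simp only [hA0, hA1, hA2, z02, z03, z13, hW0, hW1, hW2] at r
          apply Groth.Agent.Helper6.Cfg.cancel_pos w3; linarith
        have f10 : C.M 2 ≤ C.M 3 := by
          have r := C.row4_3
          simp only [hA0, hA1, hA2, z02, z03, z13, hW0, hW1, hW2] at r
          apply Groth.Agent.Helper6.Cfg.cancel_pos w3; linarith
        exact ⟨fun j => j, C.W 3, Or.inl (fun _ => rfl), Or.inr (Or.inr (Or.inl ⟨f0, f1, f2, f3, f4, f5, f6, f7, f8, f9, f10⟩))⟩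
      · -- S S Tp
        exfalso
        have key := C.negdef4 0 1 2 1 (by decide)
        linarith
      · -- S S Tm
        exfalso
        have key := C.negdef4 0 1 2 3 (by decide)
        linarith
    · -- S Dp
      rcases C.edge 2 3 (by decide) h23 with ⟨tw2, ta2⟩ | ⟨tw2, ta2⟩ | ⟨tw2, ta2⟩ | ⟨tw2, ta2⟩ | ⟨tw2, ta2⟩
      · -- S Dp S
        have hW1 : C.W 1 = C.W 0 := by linarith
        have hW2 : C.W 2 = 2 * C.W 0 := by linarith
        have hW3 : C.W 3 = 2 * C.W 0 := by linarith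
        have hA0 : C.A 0 1 = C.W 0 := by linarith
        have hA1 : C.A 1 2 = 2 * C.W 0 := by linarith
        have hA2 : C.A 2 3 = 2 * C.W 0 := by linarith
        have f0 : C.W 0 = C.W 0 := rfl
        have f1 : C.W 1 = C.W 0 := by linarith
        have f2 : C.W 2 = 2 * C.W 0 := by linarith
        have f3 : C.W 3 = 2 * C.W 0 := by linarith
        have f4 : C.A 0 1 = C.W 0 := by linarith
        have f5 : C.A 1 2 = 2 * C.W 0 := by linarith
        have f6 : C.A 2 3 = 2 * C.W 0 := by linarith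
        have f7 : C.M 1 ≤ 2 * C.M 0 := by
          have r := C.row4_0
          simp only [hA0, hA1, hA2, z02, z03, z13, hW1, hW2, hW3] at r
          apply Groth.Agent.Helper6.Cfg.cancel_pos w0; linarith
        have f8 : C.M 0 + 2 * C.M 2 ≤ 2 * C.M 1 := by
          have r := C.row4_1
          simp only [hA0, hA1, hA2, z02, z03, z13, hW1, hW2, hW3] at r
          apply Groth.Agent.Helper6.Cfg.cancel_pos w0; linarith
        have f9 : C.M 1 + C.M 3 ≤ 2 * C.M 2 := by
          have r := C.row4_2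
          simp only [hA0, hA1, hA2, z02, z03, z13, hW1, hW2, hW3] at r
          apply Groth.Agent.Helper6.Cfg.cancel_pos w0; linarith
        have f10 : C.M 2 ≤ 2 * C.M 3 := by
          have r := C.row4_3
          simp only [hA0, hA1, hA2, z02, z03, z13, hW1, hW2, hW3] at r
          apply Groth.Agent.Helper6.Cfg.cancel_pos w0; linarith
        exact ⟨fun j => j, C.W 0, Or.inl (fun _ => rfl), Or.inr (Or.inr (Or.inr (⟨f0, f1, f2, f3, f4, f5, f6, f7, f8, f9, f10⟩)))⟩
      · -- S Dp Dp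
        exfalso
        have key := C.negdef4 0 2 2 1 (by decide)
        linarith
      · -- S Dp Dm
        exfalso
        have key := C.negdef4 0 1 1 1 (by decide)
        linarith
      · -- S Dp Tp
        exfalso
        have key := C.negdef4 0 1 2 1 (by decide)
        linarith
      · -- S Dp Tm
        exfalso
        have key := C.negdef4 0 1 1 1 (by decide)
        linarith
    · -- S Dm
      rcases C.edge 2 3 (by decide) h23 with ⟨tw2, ta2⟩ | ⟨tw2, ta2⟩ | ⟨tw2, ta2⟩ | ⟨tw2, ta2⟩ | ⟨tw2, ta2⟩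
      · -- S Dm S
        have hW0 : C.W 0 = 2 * C.W 2 := by linarith
        have hW1 : C.W 1 = 2 * C.W 2 := by linarith
        have hW3 : C.W 3 = C.W 2 := by linarith
        have hA0 : C.A 0 1 = 2 * C.W 2 := by linarith
        have hA1 : C.A 1 2 = 2 * C.W 2 := by linarith
        have hA2 : C.A 2 3 = C.W 2 := by linarith
        have f0 : C.W 3 = C.W 2 := by linarith
        have f1 : C.W 2 = C.W 2 := rfl
        have f2 : C.W 1 = 2 * C.W 2 := by linarith
        have f3 : C.W 0 = 2 * C.W 2 := by linarith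
        have f4 : C.A 3 2 = C.W 2 := by rw [C.symm]; linarith
        have f5 : C.A 2 1 = 2 * C.W 2 := by rw [C.symm]; linarith
        have f6 : C.A 1 0 = 2 * C.W 2 := by rw [C.symm]; linarith
        have f7 : C.M 2 ≤ 2 * C.M 3 := by
          have r := C.row4_3
          simp only [hA0, hA1, hA2, z02, z03, z13, hW0, hW1, hW3] at r
          apply Groth.Agent.Helper6.Cfg.cancel_pos w2; linarith
        have f8 : C.M 3 + 2 * C.M 1 ≤ 2 * C.M 2 := by
          have r := C.row4_2
          simp only [hA0, hA1, hA2, z02, z03, z13, hW0, hW1, hW3] at r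
          apply Groth.Agent.Helper6.Cfg.cancel_pos w2; linarith
        have f9 : C.M 2 + C.M 0 ≤ 2 * C.M 1 := by
          have r := C.row4_1
          simp only [hA0, hA1, hA2, z02, z03, z13, hW0, hW1, hW3] at r
          apply Groth.Agent.Helper6.Cfg.cancel_pos w2; linarith
        have f10 : C.M 1 ≤ 2 * C.M 0 := by
          have r := C.row4_0
          simp only [hA0, hA1, hA2, z02, z03, z13, hW0, hW1, hW3] at r
          apply Groth.Agent.Helper6.Cfg.cancel_pos w2; linarith
        exact ⟨Fin.rev, C.W 2, Or.inr (fun _ => rfl), Or.inr (Or.inr (Or.inr (⟨f0, f1, f2, f3, f4, f5, f6, f7, f8, f9, f10⟩)))⟩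
      · -- S Dm Dp
        exfalso
        have key := C.negdef4 0 1 2 1 (by decide)
        linarith
      · -- S Dm Dm
        exfalso
        have key := C.negdef4 0 1 2 2 (by decide)
        linarith
      · -- S Dm Tp
        exfalso
        have key := C.negdef4 0 1 2 1 (by decide)
        linarith
      · -- S Dm Tm
        exfalso
        have key := C.negdef4 0 1 2 2 (by decide)
        linarith
    · -- S Tp
      exfalso
      have key := C.negdef4 0 3 2 1 (by decide)
      linarith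
    · -- S Tm
      exfalso
      have key := C.negdef4 0 1 2 1 (by decide)
      linarith
  · -- Dp
    rcases C.edge 1 2 (by decide) h12 with ⟨tw1, ta1⟩ | ⟨tw1, ta1⟩ | ⟨tw1, ta1⟩ | ⟨tw1, ta1⟩ | ⟨tw1, ta1⟩
    · -- Dp S
      rcases C.edge 2 3 (by decide) h23 with ⟨tw2, ta2⟩ | ⟨tw2, ta2⟩ | ⟨tw2, ta2⟩ | ⟨tw2, ta2⟩ | ⟨tw2, ta2⟩
      · -- Dp S S
        have hW1 : C.W 1 = 2 * C.W 0 := by linarith
        have hW2 : C.W 2 = 2 * C.W 0 := by linarith
        have hW3 : C.W 3 = 2 * C.W 0 := by linarith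
        have hA0 : C.A 0 1 = 2 * C.W 0 := by linarith
        have hA1 : C.A 1 2 = 2 * C.W 0 := by linarith
        have hA2 : C.A 2 3 = 2 * C.W 0 := by linarith
        have f0 : C.W 3 = 2 * C.W 0 := by linarith
        have f1 : C.W 2 = 2 * C.W 0 := by linarith
        have f2 : C.W 1 = 2 * C.W 0 := by linarith
        have f3 : C.W 0 = C.W 0 := rfl
        have f4 : C.A 3 2 = 2 * C.W 0 := by rw [C.symm]; linarith
        have f5 : C.A 2 1 = 2 * C.W 0 := by rw [C.symm]; linarith
        have f6 : C.A 1 0 = 2 * C.W 0 := by rw [C.symm]; linarith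
        have f7 : C.M 2 ≤ 2 * C.M 3 := by
          have r := C.row4_3
          simp only [hA0, hA1, hA2, z02, z03, z13, hW1, hW2, hW3] at r
          apply Groth.Agent.Helper6.Cfg.cancel_pos w0; linarith
        have f8 : C.M 3 + C.M 1 ≤ 2 * C.M 2 := by
          have r := C.row4_2
          simp only [hA0, hA1, hA2, z02, z03, z13, hW1, hW2, hW3] at r
          apply Groth.Agent.Helper6.Cfg.cancel_pos w0; linarith
        have f9 : C.M 2 + C.M 0 ≤ 2 * C.M 1 := by
          have r := C.row4_1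
          simp only [hA0, hA1, hA2, z02, z03, z13, hW1, hW2, hW3] at r
          apply Groth.Agent.Helper6.Cfg.cancel_pos w0; linarith
        have f10 : C.M 1 ≤ C.M 0 := by
          have r := C.row4_0
          simp only [hA0, hA1, hA2, z02, z03, z13, hW1, hW2, hW3] at r
          apply Groth.Agent.Helper6.Cfg.cancel_pos w0; linarith
        exact ⟨Fin.rev, C.W 0, Or.inr (fun _ => rfl), Or.inr (Or.inr (Or.inl ⟨f0, f1, f2, f3, f4, f5, f6, f7, f8, f9, f10⟩))⟩
      · -- Dp S Dp
        exfalso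
        have key := C.negdef4 2 2 2 1 (by decide)
        linarith
      · -- Dp S Dm
        exfalso
        have key := C.negdef4 1 1 1 1 (by decide)
        linarith
      · -- Dp S Tp
        exfalso
        have key := C.negdef4 0 1 2 1 (by decide)
        linarith
      · -- Dp S Tm
        exfalso
        have key := C.negdef4 0 1 2 3 (by decide)
        linarith
    · -- Dp Dp
      exfalso
      have key := C.negdef4 2 2 1 0 (by decide)
      linarith
    · -- Dp Dm
      exfalso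
      have key := C.negdef4 1 1 1 0 (by decide)
      linarith
    · -- Dp Tp
      exfalso
      have key := C.negdef4 0 3 2 1 (by decide)
      linarith
    · -- Dp Tm
      exfalso
      have key := C.negdef4 0 1 2 1 (by decide)
      linarith
  · -- Dm
    rcases C.edge 1 2 (by decide) h12 with ⟨tw1, ta1⟩ | ⟨tw1, ta1⟩ | ⟨tw1, ta1⟩ | ⟨tw1, ta1⟩ | ⟨tw1, ta1⟩
    · -- Dm S
      rcases C.edge 2 3 (by decide) h23 with ⟨tw2, ta2⟩ | ⟨tw2, ta2⟩ | ⟨tw2, ta2⟩ | ⟨tw2, ta2⟩ | ⟨tw2, ta2⟩
      · -- Dm S S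
        have hW0 : C.W 0 = 2 * C.W 1 := by linarith
        have hW2 : C.W 2 = C.W 1 := by linarith
        have hW3 : C.W 3 = C.W 1 := by linarith
        have hA0 : C.A 0 1 = 2 * C.W 1 := by linarith
        have hA1 : C.A 1 2 = C.W 1 := by linarith
        have hA2 : C.A 2 3 = C.W 1 := by linarith
        have f0 : C.W 3 = C.W 1 := by linarith
        have f1 : C.W 2 = C.W 1 := by linarith
        have f2 : C.W 1 = C.W 1 := rfl
        have f3 : C.W 0 = 2 * C.W 1 := by linarith
        have f4 : C.A 3 2 = C.W 1 := by rw [C.symm]; linarith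
        have f5 : C.A 2 1 = C.W 1 := by rw [C.symm]; linarith
        have f6 : C.A 1 0 = 2 * C.W 1 := by rw [C.symm]; linarith
        have f7 : C.M 2 ≤ 2 * C.M 3 := by
          have r := C.row4_3
          simp only [hA0, hA1, hA2, z02, z03, z13, hW0, hW2, hW3] at r
          apply Groth.Agent.Helper6.Cfg.cancel_pos w1; linarith
        have f8 : C.M 3 + C.M 1 ≤ 2 * C.M 2 := by
          have r := C.row4_2
          simp only [hA0, hA1, hA2, z02, z03, z13, hW0, hW2, hW3] at r
          apply Groth.Agent.Helper6.Cfg.cancel_pos w1; linarith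
        have f9 : C.M 2 + 2 * C.M 0 ≤ 2 * C.M 1 := by
          have r := C.row4_1
          simp only [hA0, hA1, hA2, z02, z03, z13, hW0, hW2, hW3] at r
          apply Groth.Agent.Helper6.Cfg.cancel_pos w1; linarith
        have f10 : C.M 1 ≤ 2 * C.M 0 := by
          have r := C.row4_0
          simp only [hA0, hA1, hA2, z02, z03, z13, hW0, hW2, hW3] at r
          apply Groth.Agent.Helper6.Cfg.cancel_pos w1; linarith
        exact ⟨Fin.rev, C.W 1, Or.inr (fun _ => rfl), Or.inr (Or.inl ⟨f0, f1, f2, f3, f4, f5, f6, f7, f8, f9, f10⟩)⟩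
      · -- Dm S Dp
        exfalso
        have key := C.negdef4 1 2 2 1 (by decide)
        linarith
      · -- Dm S Dm
        exfalso
        have key := C.negdef4 1 2 2 2 (by decide)
        linarith
      · -- Dm S Tp
        exfalso
        have key := C.negdef4 0 1 2 1 (by decide)
        linarith
      · -- Dm S Tm
        exfalso
        have key := C.negdef4 0 1 2 3 (by decide)
        linarith
    · -- Dm Dp
      exfalso
      have key := C.negdef4 1 2 1 0 (by decide)
      linarith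
    · -- Dm Dm
      exfalso
      have key := C.negdef4 1 2 2 0 (by decide)
      linarith
    · -- Dm Tp
      exfalso
      have key := C.negdef4 0 3 2 1 (by decide)
      linarith
    · -- Dm Tm
      exfalso
      have key := C.negdef4 0 1 2 1 (by decide)
      linarith
  · -- Tp
    exfalso
    have key := C.negdef4 3 2 1 0 (by decide)
    linarith
  · -- Tm
    exfalso
    have key := C.negdef4 1 2 1 0 (by decide)
    linarith

theorem chain5 (C : Cfg 5) (h01 : C.A 0 1 ≠ 0) (h12 : C.A 1 2 ≠ 0) (h23 : C.A 2 3 ≠ 0) (h34 : C.A 3 4 ≠ 0) :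
    (C.A 0 2 = 0 ∧ C.A 0 3 = 0 ∧ C.A 0 4 = 0 ∧ C.A 1 3 = 0 ∧ C.A 1 4 = 0 ∧ C.A 2 4 = 0) ∧
    ∃ (u : Fin 5 → Fin 5) (w : ℤ), ((∀ j, u j = j) ∨ (∀ j, u j = Fin.rev j)) ∧
      ((C.W (u 0) = w ∧ C.W (u 1) = w ∧ C.W (u 2) = w ∧ C.W (u 3) = w ∧ C.W (u 4) = w ∧ C.A (u 0) (u 1) = w ∧ C.A (u 1) (u 2) = w ∧ C.A (u 2) (u 3) = w ∧ C.A (u 3) (u 4) = w ∧ C.M (u 1) ≤ 2 * C.M (u 0) ∧ C.M (u 0) + C.M (u 2) ≤ 2 * C.M (u 1) ∧ C.M (u 1) + C.M (u 3) ≤ 2 * C.M (u 2) ∧ C.M (u 2) + C.M (u 4) ≤ 2 * C.M (u 3) ∧ C.M (u 3) ≤ 2 * C.M (u 4)) ∨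
      (C.W (u 0) = w ∧ C.W (u 1) = w ∧ C.W (u 2) = w ∧ C.W (u 3) = w ∧ C.W (u 4) = 2 * w ∧ C.A (u 0) (u 1) = w ∧ C.A (u 1) (u 2) = w ∧ C.A (u 2) (u 3) = w ∧ C.A (u 3) (u 4) = 2 * w ∧ C.M (u 1) ≤ 2 * C.M (u 0) ∧ C.M (u 0) + C.M (u 2) ≤ 2 * C.M (u 1) ∧ C.M (u 1) + C.M (u 3) ≤ 2 * C.M (u 2) ∧ C.M (u 2) + 2 * C.M (u 4) ≤ 2 * C.M (u 3) ∧ C.M (u 3) ≤ 2 * C.M (u 4)) ∨
      (C.W (u 0) = 2 * w ∧ C.W (u 1) = 2 * w ∧ C.W (u 2) = 2 * w ∧ C.W (u 3) = 2 * w ∧ C.W (u 4) = w ∧ C.A (u 0) (u 1) = 2 * w ∧ C.A (u 1) (u 2) = 2 * w ∧ C.A (u 2) (u 3) = 2 * w ∧ C.A (u 3) (u 4) = 2 * w ∧ C.M (u 1) ≤ 2 * C.M (u 0) ∧ C.M (u 0) + C.M (u 2) ≤ 2 * C.M (u 1) ∧ C.M (u 1) + C.M (u 3) ≤ 2 * C.M (u 2) ∧ C.M (u 2) + C.M (u 4) ≤ 2 * C.M (u 3) ∧ C.M (u 3) ≤ C.M (u 4))) := by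
  have p01 : 0 < C.A 0 1 := C.pos_of_ne 0 1 (by decide) h01
  have l01 := C.le_of_pos 0 1 p01
  have l01' := C.le_of_pos' 0 1 p01
  have p12 : 0 < C.A 1 2 := C.pos_of_ne 1 2 (by decide) h12
  have l12 := C.le_of_pos 1 2 p12
  have l12' := C.le_of_pos' 1 2 p12
  have p23 : 0 < C.A 2 3 := C.pos_of_ne 2 3 (by decide) h23
  have l23 := C.le_of_pos 2 3 p23
  have l23' := C.le_of_pos' 2 3 p23
  have p34 : 0 < C.A 3 4 := C.pos_of_ne 3 4 (by decide) h34
  have l34 := C.le_of_pos 3 4 p34
  have l34' := C.le_of_pos' 3 4 p34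
  have n02 := C.nonneg 0 2 (by decide)
  have n03 := C.nonneg 0 3 (by decide)
  have n04 := C.nonneg 0 4 (by decide)
  have n13 := C.nonneg 1 3 (by decide)
  have n14 := C.nonneg 1 4 (by decide)
  have n24 := C.nonneg 2 4 (by decide)
  have w0 := C.W_pos 0
  have w1 := C.W_pos 1
  have w2 := C.W_pos 2
  have w3 := C.W_pos 3
  have w4 := C.W_pos 4
  have z02 : C.A 0 2 = 0 := by
    by_contra h
    have hp := C.pos_of_ne 0 2 (by decide) h
    have hl := C.le_of_pos 0 2 hp
    have key := C.negdef5 1 1 1 0 0 (by decide)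
    linarith
  have z13 : C.A 1 3 = 0 := by
    by_contra h
    have hp := C.pos_of_ne 1 3 (by decide) h
    have hl := C.le_of_pos 1 3 hp
    have key := C.negdef5 0 1 1 1 0 (by decide)
    linarith
  have z24 : C.A 2 4 = 0 := by
    by_contra h
    have hp := C.pos_of_ne 2 4 (by decide) h
    have hl := C.le_of_pos 2 4 hp
    have key := C.negdef5 0 0 1 1 1 (by decide)
    linarith
  have z03 : C.A 0 3 = 0 := by
    by_contra h
    have hp := C.pos_of_ne 0 3 (by decide) h
    have hl := C.le_of_pos 0 3 hp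
    have key := C.negdef5 1 1 1 1 0 (by decide)
    linarith
  have z14 : C.A 1 4 = 0 := by
    by_contra h
    have hp := C.pos_of_ne 1 4 (by decide) h
    have hl := C.le_of_pos 1 4 hp
    have key := C.negdef5 0 1 1 1 1 (by decide)
    linarith
  have z04 : C.A 0 4 = 0 := by
    by_contra h
    have hp := C.pos_of_ne 0 4 (by decide) h
    have hl := C.le_of_pos 0 4 hp
    have key := C.negdef5 1 1 1 1 1 (by decide)
    linarith
  refine ⟨⟨z02, z03, z04, z13, z14, z24⟩, ?_⟩
  rcases C.edge 0 1 (by decide) h01 with ⟨tw0, ta0⟩ | ⟨tw0, ta0⟩ | ⟨tw0, ta0⟩ | ⟨tw0, ta0⟩ | ⟨tw0, ta0⟩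
  · -- S
    rcases C.edge 1 2 (by decide) h12 with ⟨tw1, ta1⟩ | ⟨tw1, ta1⟩ | ⟨tw1, ta1⟩ | ⟨tw1, ta1⟩ | ⟨tw1, ta1⟩
    · -- S S
      rcases C.edge 2 3 (by decide) h23 with ⟨tw2, ta2⟩ | ⟨tw2, ta2⟩ | ⟨tw2, ta2⟩ | ⟨tw2, ta2⟩ | ⟨tw2, ta2⟩
      · -- S S S
        rcases C.edge 3 4 (by decide) h34 with ⟨tw3, ta3⟩ | ⟨tw3, ta3⟩ | ⟨tw3, ta3⟩ | ⟨tw3, ta3⟩ | ⟨tw3, ta3⟩
        · -- S S S S
          have hW1 : C.W 1 = C.W 0 := by linarith
          have hW2 : C.W 2 = C.W 0 := by linarith
          have hW3 : C.W 3 = C.W 0 := by linarith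
          have hW4 : C.W 4 = C.W 0 := by linarith
          have hA0 : C.A 0 1 = C.W 0 := by linarith
          have hA1 : C.A 1 2 = C.W 0 := by linarith
          have hA2 : C.A 2 3 = C.W 0 := by linarith
          have hA3 : C.A 3 4 = C.W 0 := by linarith
          have f0 : C.W 0 = C.W 0 := rfl
          have f1 : C.W 1 = C.W 0 := by linarith
          have f2 : C.W 2 = C.W 0 := by linarith
          have f3 : C.W 3 = C.W 0 := by linarith
          have f4 : C.W 4 = C.W 0 := by linarith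
          have f5 : C.A 0 1 = C.W 0 := by linarith
          have f6 : C.A 1 2 = C.W 0 := by linarith
          have f7 : C.A 2 3 = C.W 0 := by linarith
          have f8 : C.A 3 4 = C.W 0 := by linarith
          have f9 : C.M 1 ≤ 2 * C.M 0 := by
            have r := C.row5_0
            simp only [hA0, hA1, hA2, hA3, z02, z03, z04, z13, z14, z24, hW1, hW2, hW3, hW4] at r
            apply Groth.Agent.Helper6.Cfg.cancel_pos w0; linarith
          have f10 : C.M 0 + C.M 2 ≤ 2 * C.M 1 := by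
            have r := C.row5_1
            simp only [hA0, hA1, hA2, hA3, z02, z03, z04, z13, z14, z24, hW1, hW2, hW3, hW4] at r
            apply Groth.Agent.Helper6.Cfg.cancel_pos w0; linarith
          have f11 : C.M 1 + C.M 3 ≤ 2 * C.M 2 := by
            have r := C.row5_2
            simp only [hA0, hA1, hA2, hA3, z02, z03, z04, z13, z14, z24, hW1, hW2, hW3, hW4] at r
            apply Groth.Agent.Helper6.Cfg.cancel_pos w0; linarith
          have f12 : C.M 2 + C.M 4 ≤ 2 * C.M 3 := by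
            have r := C.row5_3
            simp only [hA0, hA1, hA2, hA3, z02, z03, z04, z13, z14, z24, hW1, hW2, hW3, hW4] at r
            apply Groth.Agent.Helper6.Cfg.cancel_pos w0; linarith
          have f13 : C.M 3 ≤ 2 * C.M 4 := by
            have r := C.row5_4
            simp only [hA0, hA1, hA2, hA3, z02, z03, z04, z13, z14, z24, hW1, hW2, hW3, hW4] at r
            apply Groth.Agent.Helper6.Cfg.cancel_pos w0; linarith
          exact ⟨fun j => j, C.W 0, Or.inl (fun _ => rfl), Or.inl ⟨f0, f1, f2, f3, f4, f5, f6, f7, f8, f9, f10, f11, f12, f13⟩⟩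
        · -- S S S Dp
          have hW1 : C.W 1 = C.W 0 := by linarith
          have hW2 : C.W 2 = C.W 0 := by linarith
          have hW3 : C.W 3 = C.W 0 := by linarith
          have hW4 : C.W 4 = 2 * C.W 0 := by linarith
          have hA0 : C.A 0 1 = C.W 0 := by linarith
          have hA1 : C.A 1 2 = C.W 0 := by linarith
          have hA2 : C.A 2 3 = C.W 0 := by linarith
          have hA3 : C.A 3 4 = 2 * C.W 0 := by linarith
          have f0 : C.W 0 = C.W 0 := rfl
          have f1 : C.W 1 = C.W 0 := by linarith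
          have f2 : C.W 2 = C.W 0 := by linarith
          have f3 : C.W 3 = C.W 0 := by linarith
          have f4 : C.W 4 = 2 * C.W 0 := by linarith
          have f5 : C.A 0 1 = C.W 0 := by linarith
          have f6 : C.A 1 2 = C.W 0 := by linarith
          have f7 : C.A 2 3 = C.W 0 := by linarith
          have f8 : C.A 3 4 = 2 * C.W 0 := by linarith
          have f9 : C.M 1 ≤ 2 * C.M 0 := by
            have r := C.row5_0
            simp only [hA0, hA1, hA2, hA3, z02, z03, z04, z13, z14, z24, hW1, hW2, hW3, hW4] at r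
            apply Groth.Agent.Helper6.Cfg.cancel_pos w0; linarith
          have f10 : C.M 0 + C.M 2 ≤ 2 * C.M 1 := by
            have r := C.row5_1
            simp only [hA0, hA1, hA2, hA3, z02, z03, z04, z13, z14, z24, hW1, hW2, hW3, hW4] at r
            apply Groth.Agent.Helper6.Cfg.cancel_pos w0; linarith
          have f11 : C.M 1 + C.M 3 ≤ 2 * C.M 2 := by
            have r := C.row5_2
            simp only [hA0, hA1, hA2, hA3, z02, z03, z04, z13, z14, z24, hW1, hW2, hW3, hW4] at r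
            apply Groth.Agent.Helper6.Cfg.cancel_pos w0; linarith
          have f12 : C.M 2 + 2 * C.M 4 ≤ 2 * C.M 3 := by
            have r := C.row5_3
            simp only [hA0, hA1, hA2, hA3, z02, z03, z04, z13, z14, z24, hW1, hW2, hW3, hW4] at r
            apply Groth.Agent.Helper6.Cfg.cancel_pos w0; linarith
          have f13 : C.M 3 ≤ 2 * C.M 4 := by
            have r := C.row5_4
            simp only [hA0, hA1, hA2, hA3, z02, z03, z04, z13, z14, z24, hW1, hW2, hW3, hW4] at r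
            apply Groth.Agent.Helper6.Cfg.cancel_pos w0; linarith
          exact ⟨fun j => j, C.W 0, Or.inl (fun _ => rfl), Or.inr (Or.inl ⟨f0, f1, f2, f3, f4, f5, f6, f7, f8, f9, f10, f11, f12, f13⟩)⟩
        · -- S S S Dm
          have hW0 : C.W 0 = 2 * C.W 4 := by linarith
          have hW1 : C.W 1 = 2 * C.W 4 := by linarith
          have hW2 : C.W 2 = 2 * C.W 4 := by linarith
          have hW3 : C.W 3 = 2 * C.W 4 := by linarith
          have hA0 : C.A 0 1 = 2 * C.W 4 := by linarith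
          have hA1 : C.A 1 2 = 2 * C.W 4 := by linarith
          have hA2 : C.A 2 3 = 2 * C.W 4 := by linarith
          have hA3 : C.A 3 4 = 2 * C.W 4 := by linarith
          have f0 : C.W 0 = 2 * C.W 4 := by linarith
          have f1 : C.W 1 = 2 * C.W 4 := by linarith
          have f2 : C.W 2 = 2 * C.W 4 := by linarith
          have f3 : C.W 3 = 2 * C.W 4 := by linarith
          have f4 : C.W 4 = C.W 4 := rfl
          have f5 : C.A 0 1 = 2 * C.W 4 := by linarith
          have f6 : C.A 1 2 = 2 * C.W 4 := by linarith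
          have f7 : C.A 2 3 = 2 * C.W 4 := by linarith
          have f8 : C.A 3 4 = 2 * C.W 4 := by linarith
          have f9 : C.M 1 ≤ 2 * C.M 0 := by
            have r := C.row5_0
            simp only [hA0, hA1, hA2, hA3, z02, z03, z04, z13, z14, z24, hW0, hW1, hW2, hW3] at r
            apply Groth.Agent.Helper6.Cfg.cancel_pos w4; linarith
          have f10 : C.M 0 + C.M 2 ≤ 2 * C.M 1 := by
            have r := C.row5_1
            simp only [hA0, hA1, hA2, hA3, z02, z03, z04, z13, z14, z24, hW0, hW1, hW2, hW3] at r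
            apply Groth.Agent.Helper6.Cfg.cancel_pos w4; linarith
          have f11 : C.M 1 + C.M 3 ≤ 2 * C.M 2 := by
            have r := C.row5_2
            simp only [hA0, hA1, hA2, hA3, z02, z03, z04, z13, z14, z24, hW0, hW1, hW2, hW3] at r
            apply Groth.Agent.Helper6.Cfg.cancel_pos w4; linarith
          have f12 : C.M 2 + C.M 4 ≤ 2 * C.M 3 := by
            have r := C.row5_3
            simp only [hA0, hA1, hA2, hA3, z02, z03, z04, z13, z14, z24, hW0, hW1, hW2, hW3] at r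
            apply Groth.Agent.Helper6.Cfg.cancel_pos w4; linarith
          have f13 : C.M 3 ≤ C.M 4 := by
            have r := C.row5_4
            simp only [hA0, hA1, hA2, hA3, z02, z03, z04, z13, z14, z24, hW0, hW1, hW2, hW3] at r
            apply Groth.Agent.Helper6.Cfg.cancel_pos w4; linarith
          exact ⟨fun j => j, C.W 4, Or.inl (fun _ => rfl), Or.inr (Or.inr (⟨f0, f1, f2, f3, f4, f5, f6, f7, f8, f9, f10, f11, f12, f13⟩))⟩
        · -- S S S Tp
          exfalso
          have key := C.negdef5 0 0 1 2 1 (by decide)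
          linarith
        · -- S S S Tm
          exfalso
          have key := C.negdef5 0 0 1 2 3 (by decide)
          linarith
      · -- S S Dp
        exfalso
        have key := C.negdef5 1 2 3 2 1 (by decide)
        linarith
      · -- S S Dm
        exfalso
        have key := C.negdef5 1 2 3 4 2 (by decide)
        linarith
      · -- S S Tp
        exfalso
        have key := C.negdef5 0 0 3 2 1 (by decide)
        linarith
      · -- S S Tm
        exfalso
        have key := C.negdef5 0 0 1 2 1 (by decide)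
        linarith
    · -- S Dp
      exfalso
      have key := C.negdef5 2 4 3 2 1 (by decide)
      linarith
    · -- S Dm
      exfalso
      have key := C.negdef5 1 2 3 2 1 (by decide)
      linarith
    · -- S Tp
      exfalso
      have key := C.negdef5 0 3 2 1 0 (by decide)
      linarith
    · -- S Tm
      exfalso
      have key := C.negdef5 0 1 2 1 0 (by decide)
      linarith
  · -- Dp
    rcases C.edge 1 2 (by decide) h12 with ⟨tw1, ta1⟩ | ⟨tw1, ta1⟩ | ⟨tw1, ta1⟩ | ⟨tw1, ta1⟩ | ⟨tw1, ta1⟩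
    · -- Dp S
      rcases C.edge 2 3 (by decide) h23 with ⟨tw2, ta2⟩ | ⟨tw2, ta2⟩ | ⟨tw2, ta2⟩ | ⟨tw2, ta2⟩ | ⟨tw2, ta2⟩
      · -- Dp S S
        rcases C.edge 3 4 (by decide) h34 with ⟨tw3, ta3⟩ | ⟨tw3, ta3⟩ | ⟨tw3, ta3⟩ | ⟨tw3, ta3⟩ | ⟨tw3, ta3⟩
        · -- Dp S S S
          have hW1 : C.W 1 = 2 * C.W 0 := by linarith
          have hW2 : C.W 2 = 2 * C.W 0 := by linarith
          have hW3 : C.W 3 = 2 * C.W 0 := by linarith
          have hW4 : C.W 4 = 2 * C.W 0 := by linarith
          have hA0 : C.A 0 1 = 2 * C.W 0 := by linarith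
          have hA1 : C.A 1 2 = 2 * C.W 0 := by linarith
          have hA2 : C.A 2 3 = 2 * C.W 0 := by linarith
          have hA3 : C.A 3 4 = 2 * C.W 0 := by linarith
          have f0 : C.W 4 = 2 * C.W 0 := by linarith
          have f1 : C.W 3 = 2 * C.W 0 := by linarith
          have f2 : C.W 2 = 2 * C.W 0 := by linarith
          have f3 : C.W 1 = 2 * C.W 0 := by linarith
          have f4 : C.W 0 = C.W 0 := rfl
          have f5 : C.A 4 3 = 2 * C.W 0 := by rw [C.symm]; linarith
          have f6 : C.A 3 2 = 2 * C.W 0 := by rw [C.symm]; linarith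
          have f7 : C.A 2 1 = 2 * C.W 0 := by rw [C.symm]; linarith
          have f8 : C.A 1 0 = 2 * C.W 0 := by rw [C.symm]; linarith
          have f9 : C.M 3 ≤ 2 * C.M 4 := by
            have r := C.row5_4
            simp only [hA0, hA1, hA2, hA3, z02, z03, z04, z13, z14, z24, hW1, hW2, hW3, hW4] at r
            apply Groth.Agent.Helper6.Cfg.cancel_pos w0; linarith
          have f10 : C.M 4 + C.M 2 ≤ 2 * C.M 3 := by
            have r := C.row5_3
            simp only [hA0, hA1, hA2, hA3, z02, z03, z04, z13, z14, z24, hW1, hW2, hW3, hW4] at r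
            apply Groth.Agent.Helper6.Cfg.cancel_pos w0; linarith
          have f11 : C.M 3 + C.M 1 ≤ 2 * C.M 2 := by
            have r := C.row5_2
            simp only [hA0, hA1, hA2, hA3, z02, z03, z04, z13, z14, z24, hW1, hW2, hW3, hW4] at r
            apply Groth.Agent.Helper6.Cfg.cancel_pos w0; linarith
          have f12 : C.M 2 + C.M 0 ≤ 2 * C.M 1 := by
            have r := C.row5_1
            simp only [hA0, hA1, hA2, hA3, z02, z03, z04, z13, z14, z24, hW1, hW2, hW3, hW4] at r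
            apply Groth.Agent.Helper6.Cfg.cancel_pos w0; linarith
          have f13 : C.M 1 ≤ C.M 0 := by
            have r := C.row5_0
            simp only [hA0, hA1, hA2, hA3, z02, z03, z04, z13, z14, z24, hW1, hW2, hW3, hW4] at r
            apply Groth.Agent.Helper6.Cfg.cancel_pos w0; linarith
          exact ⟨Fin.rev, C.W 0, Or.inr (fun _ => rfl), Or.inr (Or.inr (⟨f0, f1, f2, f3, f4, f5, f6, f7, f8, f9, f10, f11, f12, f13⟩))⟩
        · -- Dp S S Dp
          exfalso
          have key := C.negdef5 2 2 2 2 1 (by decide)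
          linarith
        · -- Dp S S Dm
          exfalso
          have key := C.negdef5 1 1 1 1 1 (by decide)
          linarith
        · -- Dp S S Tp
          exfalso
          have key := C.negdef5 0 0 1 2 1 (by decide)
          linarith
        · -- Dp S S Tm
          exfalso
          have key := C.negdef5 0 0 1 2 3 (by decide)
          linarith
      · -- Dp S Dp
        exfalso
        have key := C.negdef5 1 2 3 2 1 (by decide)
        linarith
      · -- Dp S Dm
        exfalso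
        have key := C.negdef5 1 1 1 1 0 (by decide)
        linarith
      · -- Dp S Tp
        exfalso
        have key := C.negdef5 0 0 3 2 1 (by decide)
        linarith
      · -- Dp S Tm
        exfalso
        have key := C.negdef5 0 0 1 2 1 (by decide)
        linarith
    · -- Dp Dp
      exfalso
      have key := C.negdef5 2 2 1 0 0 (by decide)
      linarith
    · -- Dp Dm
      exfalso
      have key := C.negdef5 1 1 1 0 0 (by decide)
      linarith
    · -- Dp Tp
      exfalso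
      have key := C.negdef5 0 3 2 1 0 (by decide)
      linarith
    · -- Dp Tm
      exfalso
      have key := C.negdef5 0 1 2 1 0 (by decide)
      linarith
  · -- Dm
    rcases C.edge 1 2 (by decide) h12 with ⟨tw1, ta1⟩ | ⟨tw1, ta1⟩ | ⟨tw1, ta1⟩ | ⟨tw1, ta1⟩ | ⟨tw1, ta1⟩
    · -- Dm S
      rcases C.edge 2 3 (by decide) h23 with ⟨tw2, ta2⟩ | ⟨tw2, ta2⟩ | ⟨tw2, ta2⟩ | ⟨tw2, ta2⟩ | ⟨tw2, ta2⟩
      · -- Dm S S
        rcases C.edge 3 4 (by decide) h34 with ⟨tw3, ta3⟩ | ⟨tw3, ta3⟩ | ⟨tw3, ta3⟩ | ⟨tw3, ta3⟩ | ⟨tw3, ta3⟩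
        · -- Dm S S S
          have hW0 : C.W 0 = 2 * C.W 1 := by linarith
          have hW2 : C.W 2 = C.W 1 := by linarith
          have hW3 : C.W 3 = C.W 1 := by linarith
          have hW4 : C.W 4 = C.W 1 := by linarith
          have hA0 : C.A 0 1 = 2 * C.W 1 := by linarith
          have hA1 : C.A 1 2 = C.W 1 := by linarith
          have hA2 : C.A 2 3 = C.W 1 := by linarith
          have hA3 : C.A 3 4 = C.W 1 := by linarith
          have f0 : C.W 4 = C.W 1 := by linarith
          have f1 : C.W 3 = C.W 1 := by linarith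
          have f2 : C.W 2 = C.W 1 := by linarith
          have f3 : C.W 1 = C.W 1 := rfl
          have f4 : C.W 0 = 2 * C.W 1 := by linarith
          have f5 : C.A 4 3 = C.W 1 := by rw [C.symm]; linarith
          have f6 : C.A 3 2 = C.W 1 := by rw [C.symm]; linarith
          have f7 : C.A 2 1 = C.W 1 := by rw [C.symm]; linarith
          have f8 : C.A 1 0 = 2 * C.W 1 := by rw [C.symm]; linarith
          have f9 : C.M 3 ≤ 2 * C.M 4 := by
            have r := C.row5_4
            simp only [hA0, hA1, hA2, hA3, z02, z03, z04, z13, z14, z24, hW0, hW2, hW3, hW4] at r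
            apply Groth.Agent.Helper6.Cfg.cancel_pos w1; linarith
          have f10 : C.M 4 + C.M 2 ≤ 2 * C.M 3 := by
            have r := C.row5_3
            simp only [hA0, hA1, hA2, hA3, z02, z03, z04, z13, z14, z24, hW0, hW2, hW3, hW4] at r
            apply Groth.Agent.Helper6.Cfg.cancel_pos w1; linarith
          have f11 : C.M 3 + C.M 1 ≤ 2 * C.M 2 := by
            have r := C.row5_2
            simp only [hA0, hA1, hA2, hA3, z02, z03, z04, z13, z14, z24, hW0, hW2, hW3, hW4] at r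
            apply Groth.Agent.Helper6.Cfg.cancel_pos w1; linarith
          have f12 : C.M 2 + 2 * C.M 0 ≤ 2 * C.M 1 := by
            have r := C.row5_1
            simp only [hA0, hA1, hA2, hA3, z02, z03, z04, z13, z14, z24, hW0, hW2, hW3, hW4] at r
            apply Groth.Agent.Helper6.Cfg.cancel_pos w1; linarith
          have f13 : C.M 1 ≤ 2 * C.M 0 := by
            have r := C.row5_0
            simp only [hA0, hA1, hA2, hA3, z02, z03, z04, z13, z14, z24, hW0, hW2, hW3, hW4] at r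
            apply Groth.Agent.Helper6.Cfg.cancel_pos w1; linarith
          exact ⟨Fin.rev, C.W 1, Or.inr (fun _ => rfl), Or.inr (Or.inl ⟨f0, f1, f2, f3, f4, f5, f6, f7, f8, f9, f10, f11, f12, f13⟩)⟩
        · -- Dm S S Dp
          exfalso
          have key := C.negdef5 1 2 2 2 1 (by decide)
          linarith
        · -- Dm S S Dm
          exfalso
          have key := C.negdef5 1 2 2 2 2 (by decide)
          linarith
        · -- Dm S S Tp
          exfalso
          have key := C.negdef5 0 0 1 2 1 (by decide)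
          linarith
        · -- Dm S S Tm
          exfalso
          have key := C.negdef5 0 0 1 2 3 (by decide)
          linarith
      · -- Dm S Dp
        exfalso
        have key := C.negdef5 1 2 2 1 0 (by decide)
        linarith
      · -- Dm S Dm
        exfalso
        have key := C.negdef5 1 2 2 2 0 (by decide)
        linarith
      · -- Dm S Tp
        exfalso
        have key := C.negdef5 0 0 3 2 1 (by decide)
        linarith
      · -- Dm S Tm
        exfalso
        have key := C.negdef5 0 0 1 2 1 (by decide)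
        linarith
    · -- Dm Dp
      exfalso
      have key := C.negdef5 1 2 1 0 0 (by decide)
      linarith
    · -- Dm Dm
      exfalso
      have key := C.negdef5 1 2 2 0 0 (by decide)
      linarith
    · -- Dm Tp
      exfalso
      have key := C.negdef5 0 3 2 1 0 (by decide)
      linarith
    · -- Dm Tm
      exfalso
      have key := C.negdef5 0 1 2 1 0 (by decide)
      linarith
  · -- Tp
    exfalso
    have key := C.negdef5 3 2 1 0 0 (by decide)
    linarith
  · -- Tm
    exfalso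
    have key := C.negdef5 1 2 1 0 0 (by decide)
    linarith

end Cfg

end Groth.Agent.Helper6
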