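import Groth.Agent.Lib.Helper6.NumType

/-!
# Diagonal entries and genus contributions of a numerical type
-/

namespace Groth.Agent.Helper6

open Finset

namespace NT

variable {n : ℕ} (T : Models.NumericalType n)

/-- For `n > 1` every index has a neighbour. -/
theorem exists_nbr (hn : 1 < n) (i : Fin n) : ∃ j, j ≠ i ∧ 0 < T.a i j := by
  classical
  have hne : ({i} : Finset (Fin n)) ≠ Finset.univ := by
    intro h
    have := congrArg Finset.card h
    simp at this
    omega
  obtain ⟨i', hi', j, hj, hij⟩ := T.connected {i} ⟨i, by simp⟩ hne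
  simp only [Finset.mem_singleton] at hi' hj
  subst hi'
  exact ⟨j, hj, lt_of_le_of_ne (T.offDiag_nonneg _ _ (Ne.symm hj)) (Ne.symm hij)⟩

/-- For `n > 1` the diagonal entries are negative. -/
theorem diag_neg (hn : 1 < n) (i : Fin n) : T.a i i < 0 := by
  classical
  obtain ⟨j, hj, hpos⟩ := exists_nbr T hn i
  have hrow := row T i
  have hsplit : ∑ k, T.a i k * T.m k = T.a i i * T.m i + ∑ k ∈ Finset.univ.erase i, T.a i k * T.m k := by
    exact (Finset.add_sum_erase Finset.univ (fun k => T.a i k * T.m k) (Finset.mem_univ i)).symm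
  have hge : T.a i j * T.m j ≤ ∑ k ∈ Finset.univ.erase i, T.a i k * T.m k := by
    apply Finset.single_le_sum (f := fun k => T.a i k * T.m k)
    · intro k hk
      have hki : k ≠ i := Finset.ne_of_mem_erase hk
      exact mul_nonneg (T.offDiag_nonneg _ _ (Ne.symm hki)) (T.m_pos k).le
    · exact Finset.mem_erase.2 ⟨hj, Finset.mem_univ j⟩
  have hpos2 : 0 < T.a i j * T.m j := mul_pos hpos (T.m_pos j)
  have hmi := T.m_pos i
  have : T.a i i * T.m i < 0 := by linarith
  by_contra h
  push Not at h
  have := mul_nonneg h hmi.le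
  linarith

/-- `a i i = - k * w i` with `k ≥ 1` when `n > 1`. -/
theorem diag_eq (hn : 1 < n) (i : Fin n) : ∃ k : ℤ, 1 ≤ k ∧ T.a i i = -(k * T.w i) := by
  obtain ⟨c, hc⟩ := T.w_dvd i i
  have hneg := diag_neg T hn i
  have hw := T.w_pos i
  refine ⟨-c, ?_, by rw [hc]; ring⟩
  by_contra h
  push Not at h
  have hc0 : 0 ≤ c := by omega
  have := mul_nonneg hw.le hc0
  linarith

end NT

end Groth.Agent.Helper6
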