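import Groth.Agent.Lib.Helper6.NumType2

/-!
# Vinberg's criterion for proper configurations and row-sum estimates
-/

namespace Groth.Agent.Helper6

open Finset

namespace Cfg

variable {t : ℕ} (C : Cfg t)

/-- Vinberg's criterion: a nonzero nonnegative vector has a vertex in its support with
negative row sum. -/
theorem vinberg (c : Fin t → ℤ) (hc0 : ∀ p, 0 ≤ c p) (hne : ∃ p, c p ≠ 0) :
    ∃ p, 0 < c p ∧ ∑ q, C.A p q * c q < 0 := by
  by_contra h
  push Not at h
  have hneg := C.negdef c hne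
  have h2 : 0 ≤ ∑ p, ∑ q, C.A p q * c p * c q := by
    apply Finset.sum_nonneg
    intro p _
    have : ∑ q, C.A p q * c p * c q = c p * ∑ q, C.A p q * c q := by
      rw [Finset.mul_sum]
      exact Finset.sum_congr rfl fun q _ => by ring
    rw [this]
    rcases (hc0 p).eq_or_lt with h0 | h0
    · rw [← h0]; simp
    · exact mul_nonneg h0.le (h p h0)
  linarith

/-- Lower bound of a row sum by the diagonal term and the terms in a set of other vertices. -/
theorem rowsum_ge (c : Fin t → ℤ) (hc0 : ∀ p, 0 ≤ c p) (p : Fin t) (N : Finset (Fin t))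
    (hpN : p ∉ N) :
    C.A p p * c p + ∑ q ∈ N, C.A p q * c q ≤ ∑ q, C.A p q * c q := by
  classical
  have hsplit : ∑ q, C.A p q * c q = C.A p p * c p + ∑ q ∈ Finset.univ.erase p, C.A p q * c q :=
    (Finset.add_sum_erase Finset.univ (fun q => C.A p q * c q) (Finset.mem_univ p)).symm
  rw [hsplit]
  have hsub : N ⊆ Finset.univ.erase p := by
    intro q hq
    refine Finset.mem_erase.2 ⟨?_, Finset.mem_univ q⟩
    rintro rfl
    exact hpN hq
  have := Finset.sum_le_sum_of_subset_of_nonneg (f := fun q => C.A p q * c q) hsub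
    (fun q hq _ => mul_nonneg (C.nonneg p q (Ne.symm (Finset.ne_of_mem_erase hq))) (hc0 q))
  linarith

theorem rowsum_ge1 (c : Fin t → ℤ) (hc0 : ∀ p, 0 ≤ c p) (p q : Fin t) (hq : q ≠ p) :
    C.A p p * c p + C.A p q * c q ≤ ∑ q', C.A p q' * c q' := by
  have := C.rowsum_ge c hc0 p {q} (by simpa using hq.symm)
  simpa using this

theorem rowsum_ge2 (c : Fin t → ℤ) (hc0 : ∀ p, 0 ≤ c p) (p q r : Fin t) (hq : q ≠ p)
    (hr : r ≠ p) (hqr : q ≠ r) :
    C.A p p * c p + (C.A p q * c q + C.A p r * c r) ≤ ∑ q', C.A p q' * c q' := by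
  classical
  have := C.rowsum_ge c hc0 p {q, r} (by
    simp only [Finset.mem_insert, Finset.mem_singleton, not_or]
    exact ⟨hq.symm, hr.symm⟩)
  rwa [Finset.sum_pair hqr] at this

theorem rowsum_ge3 (c : Fin t → ℤ) (hc0 : ∀ p, 0 ≤ c p) (p q r s : Fin t) (hq : q ≠ p)
    (hr : r ≠ p) (hs : s ≠ p) (hqr : q ≠ r) (hqs : q ≠ s) (hrs : r ≠ s) :
    C.A p p * c p + (C.A p q * c q + (C.A p r * c r + C.A p s * c s)) ≤
      ∑ q', C.A p q' * c q' := by
  classical
  have := C.rowsum_ge c hc0 p {q, r, s} (by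
    simp only [Finset.mem_insert, Finset.mem_singleton, not_or]
    exact ⟨hq.symm, hr.symm, hs.symm⟩)
  rwa [Finset.sum_insert (by
    simp only [Finset.mem_insert, Finset.mem_singleton, not_or]; exact ⟨hqr, hqs⟩),
    Finset.sum_pair hrs] at this

end Cfg

end Groth.Agent.Helper6
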