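import Groth.Agent.Lib.Helper6.NumType7

/-!
# Nonnegativity of row sums from lower bounds on neighbours
-/

namespace Groth.Agent.Helper6

open Finset

namespace Cfg

variable {t : ℕ} (C : Cfg t)

theorem rowsum_nonneg1 (c : Fin t → ℤ) (hc0 : ∀ p, 0 ≤ c p) (p q : Fin t) (hq : q ≠ p)
    (bq : ℤ) (hbq : bq * C.W p ≤ C.A p q) (hc : 2 * c p ≤ bq * c q) :
    0 ≤ ∑ q', C.A p q' * c q' := by
  have h := C.rowsum_ge1 c hc0 p q hq
  rw [C.diag] at h
  have hW := C.W_pos p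
  have h1 := mul_le_mul_of_nonneg_right hbq (hc0 q)
  have h2 := mul_le_mul_of_nonneg_left hc hW.le
  nlinarith

theorem rowsum_nonneg2 (c : Fin t → ℤ) (hc0 : ∀ p, 0 ≤ c p) (p q r : Fin t) (hq : q ≠ p)
    (hr : r ≠ p) (hqr : q ≠ r)
    (bq br : ℤ) (hbq : bq * C.W p ≤ C.A p q) (hbr : br * C.W p ≤ C.A p r)
    (hc : 2 * c p ≤ bq * c q + br * c r) :
    0 ≤ ∑ q', C.A p q' * c q' := by
  have h := C.rowsum_ge2 c hc0 p q r hq hr hqr
  rw [C.diag] at h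
  have hW := C.W_pos p
  have h1 := mul_le_mul_of_nonneg_right hbq (hc0 q)
  have h1' := mul_le_mul_of_nonneg_right hbr (hc0 r)
  have h2 := mul_le_mul_of_nonneg_left hc hW.le
  nlinarith

theorem rowsum_nonneg3 (c : Fin t → ℤ) (hc0 : ∀ p, 0 ≤ c p) (p q r s : Fin t) (hq : q ≠ p)
    (hr : r ≠ p) (hs : s ≠ p) (hqr : q ≠ r) (hqs : q ≠ s) (hrs : r ≠ s)
    (bq br bs : ℤ) (hbq : bq * C.W p ≤ C.A p q) (hbr : br * C.W p ≤ C.A p r)
    (hbs : bs * C.W p ≤ C.A p s)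
    (hc : 2 * c p ≤ bq * c q + br * c r + bs * c s) :
    0 ≤ ∑ q', C.A p q' * c q' := by
  have h := C.rowsum_ge3 c hc0 p q r s hq hr hs hqr hqs hrs
  rw [C.diag] at h
  have hW := C.W_pos p
  have h1 := mul_le_mul_of_nonneg_right hbq (hc0 q)
  have h1' := mul_le_mul_of_nonneg_right hbr (hc0 r)
  have h1'' := mul_le_mul_of_nonneg_right hbs (hc0 s)
  have h2 := mul_le_mul_of_nonneg_left hc hW.le
  nlinarith

theorem one_mul_W_le (p q : Fin t) (h : 0 < C.A p q) : 1 * C.W p ≤ C.A p q := by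
  rw [one_mul]; exact C.le_of_pos p q h

theorem fin_ne {t : ℕ} {a b : Fin t} (h : a.val ≠ b.val) : a ≠ b := fun e => h (congrArg Fin.val e)

end Cfg

end Groth.Agent.Helper6
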