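import Groth.Agent.Lib.Helper6.NumType3

/-!
# Simply laced trees of `(-2)`-vertices (generated): D4, D5, E6, E7, E8 as lemmas on `Cfg`
-/

set_option linter.unusedSimpArgs false
set_option linter.unusedVariables false

namespace Groth.Agent.Helper6

namespace Cfg

theorem treeD4 (C : Cfg 4) (h01 : C.A 0 1 ≠ 0) (h02 : C.A 0 2 ≠ 0) (h03 : C.A 0 3 ≠ 0) :
    ∃ w : ℤ, (∀ j : Fin 4, C.W j = w) ∧
      C.A 0 1 = w ∧
      C.A 0 2 = w ∧
      C.A 0 3 = w ∧
      C.A 1 2 = 0 ∧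
      C.A 1 3 = 0 ∧
      C.A 2 3 = 0 ∧
      C.M 1 + C.M 2 + C.M 3 ≤ 2 * C.M 0 ∧
      C.M 0 ≤ 2 * C.M 1 ∧
      C.M 0 ≤ 2 * C.M 2 ∧
      C.M 0 ≤ 2 * C.M 3 := by
  have p01 : 0 < C.A 0 1 := C.pos_of_ne 0 1 (by decide) h01
  have l01 := C.le_of_pos 0 1 p01
  have l01' := C.le_of_pos' 0 1 p01
  have p02 : 0 < C.A 0 2 := C.pos_of_ne 0 2 (by decide) h02
  have l02 := C.le_of_pos 0 2 p02
  have l02' := C.le_of_pos' 0 2 p02
  have p03 : 0 < C.A 0 3 := C.pos_of_ne 0 3 (by decide) h03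
  have l03 := C.le_of_pos 0 3 p03
  have l03' := C.le_of_pos' 0 3 p03
  have n12 := C.nonneg 1 2 (by decide)
  have n13 := C.nonneg 1 3 (by decide)
  have n23 := C.nonneg 2 3 (by decide)
  have w0 := C.W_pos 0
  have w1 := C.W_pos 1
  have w2 := C.W_pos 2
  have w3 := C.W_pos 3
  have d01 : C.A 0 1 = C.W 0 := by
    rcases Groth.Agent.Helper6.Cfg.eq_or_two_le w0 p01 (C.dvd 0 1) with h | h
    · exact h
    · exfalso
      have key := C.negdef4 2 1 1 1 (by decide)
      linarith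
  have d10 : C.A 0 1 = C.W 1 := by
    rcases Groth.Agent.Helper6.Cfg.eq_or_two_le w1 p01 (C.dvd' 0 1) with h | h
    · exact h
    · exfalso
      have key := C.negdef4 2 2 1 1 (by decide)
      linarith
  have d02 : C.A 0 2 = C.W 0 := by
    rcases Groth.Agent.Helper6.Cfg.eq_or_two_le w0 p02 (C.dvd 0 2) with h | h
    · exact h
    · exfalso
      have key := C.negdef4 2 1 1 1 (by decide)
      linarith
  have d20 : C.A 0 2 = C.W 2 := by
    rcases Groth.Agent.Helper6.Cfg.eq_or_two_le w2 p02 (C.dvd' 0 2) with h | h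
    · exact h
    · exfalso
      have key := C.negdef4 2 1 2 1 (by decide)
      linarith
  have d03 : C.A 0 3 = C.W 0 := by
    rcases Groth.Agent.Helper6.Cfg.eq_or_two_le w0 p03 (C.dvd 0 3) with h | h
    · exact h
    · exfalso
      have key := C.negdef4 2 1 1 1 (by decide)
      linarith
  have d30 : C.A 0 3 = C.W 3 := by
    rcases Groth.Agent.Helper6.Cfg.eq_or_two_le w3 p03 (C.dvd' 0 3) with h | h
    · exact h
    · exfalso
      have key := C.negdef4 2 1 1 2 (by decide)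
      linarith
  have hW1 : C.W 1 = C.W 0 := by linarith
  have hW2 : C.W 2 = C.W 0 := by linarith
  have hW3 : C.W 3 = C.W 0 := by linarith
  have e01 : C.A 0 1 = C.W 0 := by linarith
  have e02 : C.A 0 2 = C.W 0 := by linarith
  have e03 : C.A 0 3 = C.W 0 := by linarith
  have key1 := C.negdef4 1 1 1 1 (by decide)
  have z12 : C.A 1 2 = 0 := by
    rcases Groth.Agent.Helper6.Cfg.eq_zero_or_le w1 n12 (C.dvd 1 2) with h | h
    · exact h
    · exfalso; linarith
  have z13 : C.A 1 3 = 0 := by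
    rcases Groth.Agent.Helper6.Cfg.eq_zero_or_le w1 n13 (C.dvd 1 3) with h | h
    · exact h
    · exfalso; linarith
  have z23 : C.A 2 3 = 0 := by
    rcases Groth.Agent.Helper6.Cfg.eq_zero_or_le w2 n23 (C.dvd 2 3) with h | h
    · exact h
    · exfalso; linarith
  have r0 := C.row4_0
  simp only [e01, e02, e03, z12, z13, z23, hW1, hW2, hW3] at r0
  have m0 : C.M 1 + C.M 2 + C.M 3 ≤ 2 * C.M 0 := by
    apply Groth.Agent.Helper6.Cfg.cancel_pos w0; linarith
  have r1 := C.row4_1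
  simp only [e01, e02, e03, z12, z13, z23, hW1, hW2, hW3] at r1
  have m1 : C.M 0 ≤ 2 * C.M 1 := by
    apply Groth.Agent.Helper6.Cfg.cancel_pos w0; linarith
  have r2 := C.row4_2
  simp only [e01, e02, e03, z12, z13, z23, hW1, hW2, hW3] at r2
  have m2 : C.M 0 ≤ 2 * C.M 2 := by
    apply Groth.Agent.Helper6.Cfg.cancel_pos w0; linarith
  have r3 := C.row4_3
  simp only [e01, e02, e03, z12, z13, z23, hW1, hW2, hW3] at r3
  have m3 : C.M 0 ≤ 2 * C.M 3 := by
    apply Groth.Agent.Helper6.Cfg.cancel_pos w0; linarith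
  refine ⟨C.W 0, ?_, e01, e02, e03, z12, z13, z23, m0, m1, m2, m3⟩
  intro j
  fin_cases j
  exacts [rfl, hW1, hW2, hW3]

theorem treeD5 (C : Cfg 5) (h01 : C.A 0 1 ≠ 0) (h12 : C.A 1 2 ≠ 0) (h23 : C.A 2 3 ≠ 0) (h24 : C.A 2 4 ≠ 0) :
    ∃ w : ℤ, (∀ j : Fin 5, C.W j = w) ∧
      C.A 0 1 = w ∧
      C.A 1 2 = w ∧
      C.A 2 3 = w ∧
      C.A 2 4 = w ∧
      C.A 0 2 = 0 ∧
      C.A 0 3 = 0 ∧
      C.A 0 4 = 0 ∧
      C.A 1 3 = 0 ∧
      C.A 1 4 = 0 ∧
      C.A 3 4 = 0 ∧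
      C.M 1 ≤ 2 * C.M 0 ∧
      C.M 0 + C.M 2 ≤ 2 * C.M 1 ∧
      C.M 1 + C.M 3 + C.M 4 ≤ 2 * C.M 2 ∧
      C.M 2 ≤ 2 * C.M 3 ∧
      C.M 2 ≤ 2 * C.M 4 := by
  have p01 : 0 < C.A 0 1 := C.pos_of_ne 0 1 (by decide) h01
  have l01 := C.le_of_pos 0 1 p01
  have l01' := C.le_of_pos' 0 1 p01
  have p12 : 0 < C.A 1 2 := C.pos_of_ne 1 2 (by decide) h12
  have l12 := C.le_of_pos 1 2 p12
  have l12' := C.le_of_pos' 1 2 p12
  have p23 : 0 < C.A 2 3 := C.pos_of_ne 2 3 (by decide) h23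
  have l23 := C.le_of_pos 2 3 p23
  have l23' := C.le_of_pos' 2 3 p23
  have p24 : 0 < C.A 2 4 := C.pos_of_ne 2 4 (by decide) h24
  have l24 := C.le_of_pos 2 4 p24
  have l24' := C.le_of_pos' 2 4 p24
  have n02 := C.nonneg 0 2 (by decide)
  have n03 := C.nonneg 0 3 (by decide)
  have n04 := C.nonneg 0 4 (by decide)
  have n13 := C.nonneg 1 3 (by decide)
  have n14 := C.nonneg 1 4 (by decide)
  have n34 := C.nonneg 3 4 (by decide)
  have w0 := C.W_pos 0
  have w1 := C.W_pos 1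
  have w2 := C.W_pos 2
  have w3 := C.W_pos 3
  have w4 := C.W_pos 4
  have d01 : C.A 0 1 = C.W 0 := by
    rcases Groth.Agent.Helper6.Cfg.eq_or_two_le w0 p01 (C.dvd 0 1) with h | h
    · exact h
    · exfalso
      have key := C.negdef5 2 2 2 1 1 (by decide)
      linarith
  have d10 : C.A 0 1 = C.W 1 := by
    rcases Groth.Agent.Helper6.Cfg.eq_or_two_le w1 p01 (C.dvd' 0 1) with h | h
    · exact h
    · exfalso
      have key := C.negdef5 1 2 2 1 1 (by decide)
      linarith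
  have d12 : C.A 1 2 = C.W 1 := by
    rcases Groth.Agent.Helper6.Cfg.eq_or_two_le w1 p12 (C.dvd 1 2) with h | h
    · exact h
    · exfalso
      have key := C.negdef5 0 2 2 1 1 (by decide)
      linarith
  have d21 : C.A 1 2 = C.W 2 := by
    rcases Groth.Agent.Helper6.Cfg.eq_or_two_le w2 p12 (C.dvd' 1 2) with h | h
    · exact h
    · exfalso
      have key := C.negdef5 0 1 2 1 1 (by decide)
      linarith
  have d23 : C.A 2 3 = C.W 2 := by
    rcases Groth.Agent.Helper6.Cfg.eq_or_two_le w2 p23 (C.dvd 2 3) with h | h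
    · exact h
    · exfalso
      have key := C.negdef5 0 1 2 1 1 (by decide)
      linarith
  have d32 : C.A 2 3 = C.W 3 := by
    rcases Groth.Agent.Helper6.Cfg.eq_or_two_le w3 p23 (C.dvd' 2 3) with h | h
    · exact h
    · exfalso
      have key := C.negdef5 0 1 2 2 1 (by decide)
      linarith
  have d24 : C.A 2 4 = C.W 2 := by
    rcases Groth.Agent.Helper6.Cfg.eq_or_two_le w2 p24 (C.dvd 2 4) with h | h
    · exact h
    · exfalso
      have key := C.negdef5 0 1 2 1 1 (by decide)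
      linarith
  have d42 : C.A 2 4 = C.W 4 := by
    rcases Groth.Agent.Helper6.Cfg.eq_or_two_le w4 p24 (C.dvd' 2 4) with h | h
    · exact h
    · exfalso
      have key := C.negdef5 0 1 2 1 2 (by decide)
      linarith
  have hW1 : C.W 1 = C.W 0 := by linarith
  have hW2 : C.W 2 = C.W 0 := by linarith
  have hW3 : C.W 3 = C.W 0 := by linarith
  have hW4 : C.W 4 = C.W 0 := by linarith
  have e01 : C.A 0 1 = C.W 0 := by linarith
  have e12 : C.A 1 2 = C.W 0 := by linarith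
  have e23 : C.A 2 3 = C.W 0 := by linarith
  have e24 : C.A 2 4 = C.W 0 := by linarith
  have key1 := C.negdef5 1 1 1 1 1 (by decide)
  have z02 : C.A 0 2 = 0 := by
    rcases Groth.Agent.Helper6.Cfg.eq_zero_or_le w0 n02 (C.dvd 0 2) with h | h
    · exact h
    · exfalso; linarith
  have z03 : C.A 0 3 = 0 := by
    rcases Groth.Agent.Helper6.Cfg.eq_zero_or_le w0 n03 (C.dvd 0 3) with h | h
    · exact h
    · exfalso; linarith
  have z04 : C.A 0 4 = 0 := by
    rcases Groth.Agent.Helper6.Cfg.eq_zero_or_le w0 n04 (C.dvd 0 4) with h | h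
    · exact h
    · exfalso; linarith
  have z13 : C.A 1 3 = 0 := by
    rcases Groth.Agent.Helper6.Cfg.eq_zero_or_le w1 n13 (C.dvd 1 3) with h | h
    · exact h
    · exfalso; linarith
  have z14 : C.A 1 4 = 0 := by
    rcases Groth.Agent.Helper6.Cfg.eq_zero_or_le w1 n14 (C.dvd 1 4) with h | h
    · exact h
    · exfalso; linarith
  have z34 : C.A 3 4 = 0 := by
    rcases Groth.Agent.Helper6.Cfg.eq_zero_or_le w3 n34 (C.dvd 3 4) with h | h
    · exact h
    · exfalso; linarith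
  have r0 := C.row5_0
  simp only [e01, e12, e23, e24, z02, z03, z04, z13, z14, z34, hW1, hW2, hW3, hW4] at r0
  have m0 : C.M 1 ≤ 2 * C.M 0 := by
    apply Groth.Agent.Helper6.Cfg.cancel_pos w0; linarith
  have r1 := C.row5_1
  simp only [e01, e12, e23, e24, z02, z03, z04, z13, z14, z34, hW1, hW2, hW3, hW4] at r1
  have m1 : C.M 0 + C.M 2 ≤ 2 * C.M 1 := by
    apply Groth.Agent.Helper6.Cfg.cancel_pos w0; linarith
  have r2 := C.row5_2
  simp only [e01, e12, e23, e24, z02, z03, z04, z13, z14, z34, hW1, hW2, hW3, hW4] at r2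
  have m2 : C.M 1 + C.M 3 + C.M 4 ≤ 2 * C.M 2 := by
    apply Groth.Agent.Helper6.Cfg.cancel_pos w0; linarith
  have r3 := C.row5_3
  simp only [e01, e12, e23, e24, z02, z03, z04, z13, z14, z34, hW1, hW2, hW3, hW4] at r3
  have m3 : C.M 2 ≤ 2 * C.M 3 := by
    apply Groth.Agent.Helper6.Cfg.cancel_pos w0; linarith
  have r4 := C.row5_4
  simp only [e01, e12, e23, e24, z02, z03, z04, z13, z14, z34, hW1, hW2, hW3, hW4] at r4
  have m4 : C.M 2 ≤ 2 * C.M 4 := by
    apply Groth.Agent.Helper6.Cfg.cancel_pos w0; linarith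
  refine ⟨C.W 0, ?_, e01, e12, e23, e24, z02, z03, z04, z13, z14, z34, m0, m1, m2, m3, m4⟩
  intro j
  fin_cases j
  exacts [rfl, hW1, hW2, hW3, hW4]

end Cfg

end Groth.Agent.Helper6
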