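import Mathlib

/-!
# The semisimple part lies in the closure of the conjugation orbit (helper for S19394)
-/

namespace Groth.Agent.Lib.Helper6.OrbitClosure

universe u

set_option linter.unusedSectionVars false
set_option linter.style.haveILetI false

section Ring

variable {k : Type u} [Field k] {E : Type*} [Ring E] [Algebra k E]

/-- ring-level conjugation computation. -/
lemma conj_identity (S N P : E) (hP : P * P = P) (hPS : P * S = S * P) (hPN : P * N = N)
    (t : k) (ht : t ≠ 0) :
    (P + t⁻¹ • (1 - P)) * (P + t • (1 - P)) = 1 ∧ (P + t • (1 - P)) * (P + t⁻¹ • (1 - P)) = 1 ∧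
    (P + t⁻¹ • (1 - P)) * (S + N) * (P + t • (1 - P)) = S + N * P + t • (N * (1 - P)) := by
  have h1 : P * (1 - P) = 0 := by rw [mul_sub, mul_one, hP, sub_self]
  have h2 : (1 - P) * P = 0 := by rw [sub_mul, one_mul, hP, sub_self]
  have h3 : (1 - P) * (1 - P) = 1 - P := by
    rw [mul_sub, mul_one, h2, sub_zero]
  have h4 : (1 - P) * N = 0 := by rw [sub_mul, one_mul, hPN, sub_self]
  have h5 : (1 - P) * S = S * (1 - P) := by rw [sub_mul, mul_sub, one_mul, mul_one, hPS]
  have key : ∀ a b : k, (P + a • (1 - P)) * (P + b • (1 - P)) = P + (a * b) • (1 - P) := by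
    intro a b
    rw [add_mul, mul_add, mul_add, smul_mul_assoc, mul_smul_comm, smul_mul_assoc, mul_smul_comm,
      hP, h1, h2, h3, smul_zero, smul_zero, add_zero, zero_add, smul_smul]
  refine ⟨?_, ?_, ?_⟩
  · rw [key, inv_mul_cancel₀ ht, one_smul, add_sub_cancel]
  · rw [key, mul_inv_cancel₀ ht, one_smul, add_sub_cancel]
  · have e1 : (P + t⁻¹ • (1 - P)) * (S + N) = S * (P + t⁻¹ • (1 - P)) + N := by
      rw [add_mul, mul_add, mul_add, smul_mul_assoc, smul_mul_assoc, hPS, hPN, h4,
        h5, smul_zero, add_zero, mul_add, mul_smul_comm]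
      abel
    rw [e1, add_mul, mul_assoc, key, inv_mul_cancel₀ ht, one_smul, add_sub_cancel, mul_one,
      mul_add, mul_smul_comm, add_assoc]

lemma pow_mul_proj (N P : E) (hPN : P * N = N) (j : ℕ) : (N * P) ^ (j + 1) = N ^ (j + 1) * P := by
  induction j with
  | zero => simp
  | succ j ih =>
    rw [pow_succ, ih, mul_assoc, ← mul_assoc P N P, hPN, ← mul_assoc, ← pow_succ]

end Ring

section Mat

variable {k : Type u} [Field k] {n : ℕ}

/-- existence of the projector. -/
lemma exists_proj (S N : Matrix (Fin n) (Fin n) k) (hS : Module.End.IsSemisimple (Matrix.toLin' S))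
    (hSN : Commute S N) (m : ℕ) (hN : N ^ (m + 1) = 0) :
    ∃ P : Matrix (Fin n) (Fin n) k, P * P = P ∧ P * S = S * P ∧ P * N = N ∧ N ^ m * P = 0 := by
  classical
  let e := Matrix.toLinAlgEquiv' (R := k) (n := Fin n)
  let f : Module.End k (Fin n → k) := e S
  let g : Module.End k (Fin n → k) := e N
  have hfg : f * g = g * f := by
    rw [← map_mul, ← map_mul, hSN.eq]
  have hg : g ^ (m + 1) = 0 := by rw [← map_pow, hN, map_zero]
  let F : Submodule k (Fin n → k) := LinearMap.ker (g ^ m)
  have hfgm : f * g ^ m = g ^ m * f := (Commute.pow_right (show Commute f g from hfg) m).eq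
  have hF : F ∈ Module.End.invtSubmodule f := by
    rw [Module.End.mem_invtSubmodule_iff_forall_mem_of_mem]
    intro v hv
    rw [LinearMap.mem_ker] at hv ⊢
    have : (g ^ m) (f v) = f ((g ^ m) v) := by
      rw [← Module.End.mul_apply, ← hfgm, Module.End.mul_apply]
    rw [this, hv, map_zero]
  obtain ⟨W, hW, hc⟩ := (Module.End.isSemisimple_iff.1 hS) F hF
  rw [Module.End.mem_invtSubmodule_iff_forall_mem_of_mem] at hW hF
  have hW' : ∀ x ∈ W, f x ∈ W := hW
  let π : Module.End k (Fin n → k) := F.projection W hc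
  have hπF : ∀ v ∈ F, π v = v := fun v hv => Submodule.projection_apply_of_mem_left hc hv
  have hπW : ∀ v ∈ W, π v = 0 := fun v hv => Submodule.projection_apply_right hc ⟨v, hv⟩
  have hπmem : ∀ v, π v ∈ F := fun v => Submodule.projection_apply_mem hc v
  have hgF : ∀ v, g v ∈ F := by
    intro v
    change (g ^ m) (g v) = 0
    rw [← Module.End.mul_apply, ← pow_succ, hg]; rfl
  have h1 : π * π = π := (Submodule.isIdempotentElem_projection hc).eq
  have h2 : π * f = f * π := by
    apply LinearMap.ext
    intro v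
    have hv := Submodule.projection_add_projection_eq_self hc v
    have hw : W.projection F hc.symm v ∈ W := Submodule.projection_apply_mem hc.symm v
    rw [Module.End.mul_apply, Module.End.mul_apply]
    conv_lhs => rw [← hv, map_add, map_add]
    rw [hπF _ (hF _ (hπmem v)), hπW _ (hW' _ hw), add_zero]
  have h3 : π * g = g := by
    apply LinearMap.ext
    intro v
    rw [Module.End.mul_apply, hπF _ (hgF v)]
  have h4 : g ^ m * π = 0 := by
    apply LinearMap.ext
    intro v
    rw [Module.End.mul_apply]
    exact hπmem v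
  refine ⟨e.symm π, ?_, ?_, ?_, ?_⟩
  · rw [← map_mul, h1]
  · apply e.injective
    rw [map_mul, map_mul, AlgEquiv.apply_symm_apply, h2]
  · apply e.injective
    rw [map_mul, AlgEquiv.apply_symm_apply, h3]
  · apply e.injective
    rw [map_mul, map_pow, AlgEquiv.apply_symm_apply, h4, map_zero]

/-- the polynomial `t ↦ F(M₀ + t M₁)`. -/
lemma exists_poly (M₀ M₁ : Matrix (Fin n) (Fin n) k) (F : MvPolynomial (Fin n × Fin n) k) :
    ∃ g : Polynomial k, ∀ t : k,
      g.eval t = MvPolynomial.eval (fun p => (M₀ + t • M₁) p.1 p.2) F := by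
  refine ⟨MvPolynomial.aeval (fun p : Fin n × Fin n =>
    Polynomial.C (M₀ p.1 p.2) + Polynomial.X * Polynomial.C (M₁ p.1 p.2)) F, ?_⟩
  intro t
  induction F using MvPolynomial.induction_on with
  | C a => simp
  | add p q hp hq => simp only [map_add, Polynomial.eval_add, hp, hq]
  | mul_X p i hp =>
    simp only [map_mul, Polynomial.eval_mul, hp, MvPolynomial.aeval_X, MvPolynomial.eval_X,
      Polynomial.eval_add, Polynomial.eval_C, Polynomial.eval_X, Matrix.add_apply,
      Matrix.smul_apply, smul_eq_mul]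

theorem main [Infinite k] : ∀ (m : ℕ) (S N : Matrix (Fin n) (Fin n) k),
    Module.End.IsSemisimple (Matrix.toLin' S) → N ^ (m + 1) = 0 → Commute S N →
    ∀ F : MvPolynomial (Fin n × Fin n) k,
      (∀ A : Matrix (Fin n) (Fin n) k, IsUnit A.det →
        MvPolynomial.eval (fun p => (A * (S + N) * A⁻¹) p.1 p.2) F = 0) →
      MvPolynomial.eval (fun p => S p.1 p.2) F = 0 := by
  intro m
  induction m with
  | zero =>
    intro S N _ hN _ F hF
    have hN0 : N = 0 := by simpa using hN
    have := hF 1 (by simp)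
    simpa [hN0] using this
  | succ m ih =>
    intro S N hS hN hSN F hF
    obtain ⟨P, hPP, hPS, hPN, hNP⟩ := exists_proj S N hS hSN (m + 1) hN
    have hN' : (N * P) ^ (m + 1) = 0 := by rw [pow_mul_proj N P hPN, hNP]
    have hSN' : Commute S (N * P) := by
      change S * (N * P) = N * P * S
      rw [← mul_assoc, hSN.eq, mul_assoc, mul_assoc, hPS]
    apply ih S (N * P) hS hN' hSN' F
    intro A' hA'
    set M₀ := A' * (S + N * P) * A'⁻¹ with hM₀
    set M₁ := A' * (N * (1 - P)) * A'⁻¹ with hM₁
    obtain ⟨g, hg⟩ := exists_poly M₀ M₁ F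
    have hroot : ∀ t : k, t ≠ 0 → g.eval t = 0 := by
      intro t ht
      rw [hg t]
      obtain ⟨e1, e2, e3⟩ := conj_identity (k := k) S N P hPP hPS hPN t ht
      set At := P + t⁻¹ • (1 - P) with hAt
      set At' := P + t • (1 - P) with hAt'
      have hinv : At⁻¹ = At' := Matrix.inv_eq_right_inv e1
      have hdet : IsUnit At.det := Matrix.isUnit_det_of_right_inverse e1
      have hconj : M₀ + t • M₁ = (A' * At) * (S + N) * (A' * At)⁻¹ := by
        rw [Matrix.mul_inv_rev, hinv, hM₀, hM₁]
        have : (A' * At) * (S + N) * (At' * A'⁻¹) = A' * (At * (S + N) * At') * A'⁻¹ := by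
          simp only [mul_assoc]
        rw [this, e3]
        simp only [mul_add, add_mul, Matrix.mul_smul, Matrix.smul_mul]
      rw [hconj]
      apply hF
      rw [Matrix.det_mul]
      exact hA'.mul hdet
    have hg0 : g = 0 := by
      apply Polynomial.eq_zero_of_infinite_isRoot
      apply Set.Infinite.mono (s := {t : k | t ≠ 0})
      · intro t ht
        exact hroot t ht
      · exact (Set.finite_singleton (0 : k)).infinite_compl
    have := hg 0
    rw [hg0, Polynomial.eval_zero, zero_smul, add_zero] at this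
    exact this.symm

end Mat

end Groth.Agent.Lib.Helper6.OrbitClosure
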