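import Groth.Agent.Lib.Helper6.OrbitClosure

/-!
# Orbit closures of matrices meet iff semisimple parts are conjugate (helper for S19395)
-/

namespace Groth.Agent.Lib.Helper6.OrbitClosure

universe u

set_option linter.unusedSectionVars false
set_option linter.style.haveILetI false

open Module

section Charpoly

variable {k : Type u} [Field k] {n : ℕ}

/-- `C` lies in the Zariski closure of the conjugation orbit of `B`. -/
def InClosure (B C : Matrix (Fin n) (Fin n) k) : Prop :=
  ∀ F : MvPolynomial (Fin n × Fin n) k,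
    (∀ A : Matrix (Fin n) (Fin n) k, IsUnit A.det →
      MvPolynomial.eval (fun p => (A * B * A⁻¹) p.1 p.2) F = 0) →
    MvPolynomial.eval (fun p => C p.1 p.2) F = 0

lemma eval_charpoly_coeff (M : Matrix (Fin n) (Fin n) k) (i : ℕ) :
    MvPolynomial.eval (fun p => M p.1 p.2)
      ((Matrix.mvPolynomialX (Fin n) (Fin n) k).charpoly.coeff i) = M.charpoly.coeff i := by
  have h1 := Matrix.charpoly_map (Matrix.mvPolynomialX (Fin n) (Fin n) k)
    (MvPolynomial.eval fun p : Fin n × Fin n => M p.1 p.2)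
  have h2 : (Matrix.mvPolynomialX (Fin n) (Fin n) k).map
      (MvPolynomial.eval fun p : Fin n × Fin n => M p.1 p.2) = M :=
    Matrix.mvPolynomialX_mapMatrix_eval M
  rw [h2] at h1
  rw [h1, Polynomial.coeff_map]

lemma charpoly_conj (A B : Matrix (Fin n) (Fin n) k) (hA : IsUnit A.det) :
    (A * B * A⁻¹).charpoly = B.charpoly := by
  obtain ⟨u, hu⟩ := (Matrix.isUnit_iff_isUnit_det A).2 hA
  have := Matrix.charpoly_units_conj u B
  rw [← hu]
  exact this

lemma charpoly_eq_of_inClosure (B C : Matrix (Fin n) (Fin n) k) (hC : InClosure B C) :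
    C.charpoly = B.charpoly := by
  ext i
  have := hC ((Matrix.mvPolynomialX (Fin n) (Fin n) k).charpoly.coeff i -
    MvPolynomial.C (B.charpoly.coeff i)) (by
      intro A hA
      rw [map_sub, eval_charpoly_coeff, MvPolynomial.eval_C, charpoly_conj A B hA, sub_self])
  rw [map_sub, eval_charpoly_coeff, MvPolynomial.eval_C, sub_eq_zero] at this
  exact this

end Charpoly

section Conj

variable {k : Type u} [Field k] [IsAlgClosed k] {V : Type*} [AddCommGroup V] [Module k V]
  [FiniteDimensional k V]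

lemma isInternal_eigenspace [DecidableEq k] (f : End k V) (hf : f.IsSemisimple) :
    DirectSum.IsInternal (fun μ : k => f.eigenspace μ) := by
  apply DirectSum.isInternal_submodule_of_iSupIndep_of_iSup_eq_top
  · exact Module.End.eigenspaces_iSupIndep f
  · have h := Module.End.iSup_maxGenEigenspace_eq_top f
    have h2 : ∀ μ, f.maxGenEigenspace μ = f.eigenspace μ := fun μ =>
      hf.isFinitelySemisimple.maxGenEigenspace_eq_eigenspace μ
    simpa only [h2] using h

lemma finrank_eigenspace (f : End k V) (hf : f.IsSemisimple) (μ : k) :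
    finrank k (f.eigenspace μ) = f.charpoly.rootMultiplicity μ := by
  rw [← hf.isFinitelySemisimple.maxGenEigenspace_eq_eigenspace μ]
  exact LinearMap.finrank_maxGenEigenspace_eq f μ

theorem exists_conj (f g : End k V) (hf : f.IsSemisimple) (hg : g.IsSemisimple)
    (hfg : f.charpoly = g.charpoly) :
    ∃ T : V ≃ₗ[k] V, T.toLinearMap ∘ₗ f = g ∘ₗ T.toLinearMap := by
  classical
  let d : k → ℕ := fun μ => finrank k (f.eigenspace μ)
  have hd : ∀ μ, finrank k (g.eigenspace μ) = d μ := fun μ => by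
    rw [finrank_eigenspace g hg, ← hfg, ← finrank_eigenspace f hf]
  let v₁ : ∀ μ, Basis (Fin (d μ)) k (f.eigenspace μ) := fun μ => Module.finBasisOfFinrankEq k _ rfl
  let v₂ : ∀ μ, Basis (Fin (d μ)) k (g.eigenspace μ) := fun μ =>
    Module.finBasisOfFinrankEq k _ (hd μ)
  let b₁ := (isInternal_eigenspace f hf).collectedBasis v₁
  let b₂ := (isInternal_eigenspace g hg).collectedBasis v₂
  have h₁ : ∀ a, f (b₁ a) = a.1 • b₁ a := fun a =>
    Module.End.mem_eigenspace_iff.1 ((isInternal_eigenspace f hf).collectedBasis_mem v₁ a)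
  have h₂ : ∀ a, g (b₂ a) = a.1 • b₂ a := fun a =>
    Module.End.mem_eigenspace_iff.1 ((isInternal_eigenspace g hg).collectedBasis_mem v₂ a)
  refine ⟨b₁.equiv b₂ (Equiv.refl _), ?_⟩
  apply b₁.ext
  intro a
  simp only [LinearMap.comp_apply, LinearEquiv.coe_coe]
  rw [h₁ a, map_smul, Basis.equiv_apply, Equiv.refl_apply, h₂ a]

end Conj

section Mat

variable {k : Type u} [Field k] [IsAlgClosed k] {n : ℕ}

theorem exists_conj_matrix (S₁ S₂ : Matrix (Fin n) (Fin n) k)
    (hS₁ : Module.End.IsSemisimple (Matrix.toLin' S₁))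
    (hS₂ : Module.End.IsSemisimple (Matrix.toLin' S₂)) (h : S₁.charpoly = S₂.charpoly) :
    ∃ A : Matrix (Fin n) (Fin n) k, IsUnit A.det ∧ A * S₁ * A⁻¹ = S₂ := by
  obtain ⟨T, hT⟩ := exists_conj (Matrix.toLin' S₁) (Matrix.toLin' S₂) hS₁ hS₂ (by
    rw [Matrix.charpoly_toLin', Matrix.charpoly_toLin', h])
  let A := LinearMap.toMatrix' T.toLinearMap
  let A' := LinearMap.toMatrix' T.symm.toLinearMap
  have hAA' : A * A' = 1 := by
    rw [← LinearMap.toMatrix'_comp]
    have : T.toLinearMap ∘ₗ T.symm.toLinearMap = LinearMap.id := by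
      ext v; simp
    rw [this, LinearMap.toMatrix'_id]
  have hdet : IsUnit A.det := Matrix.isUnit_det_of_right_inverse hAA'
  have hcomm : A * S₁ = S₂ * A := by
    have := congrArg LinearMap.toMatrix' hT
    rw [LinearMap.toMatrix'_comp, LinearMap.toMatrix'_comp, LinearMap.toMatrix'_toLin',
      LinearMap.toMatrix'_toLin'] at this
    exact this
  refine ⟨A, hdet, ?_⟩
  rw [hcomm, Matrix.mul_nonsing_inv_cancel_right _ _ hdet]

/-- the substitution `X ↦ A X A⁻¹` on polynomials in the matrix entries. -/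
noncomputable def conjSubst (A : Matrix (Fin n) (Fin n) k) (F : MvPolynomial (Fin n × Fin n) k) :
    MvPolynomial (Fin n × Fin n) k :=
  MvPolynomial.bind₁
    (fun p : Fin n × Fin n => ∑ a, ∑ b,
      MvPolynomial.C (A p.1 a) * MvPolynomial.X (a, b) * MvPolynomial.C (A⁻¹ b p.2)) F

lemma eval_conjSubst (A M : Matrix (Fin n) (Fin n) k) (F : MvPolynomial (Fin n × Fin n) k) :
    MvPolynomial.eval (fun p => M p.1 p.2) (conjSubst A F) =
      MvPolynomial.eval (fun p => (A * M * A⁻¹) p.1 p.2) F := by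
  unfold conjSubst
  induction F using MvPolynomial.induction_on with
  | C a => simp
  | add p q hp hq => simp only [map_add, hp, hq]
  | mul_X p i hp =>
    simp only [map_mul, hp, MvPolynomial.bind₁_X_right, MvPolynomial.eval_X, map_sum,
      MvPolynomial.eval_C]
    congr 1
    rw [Matrix.mul_apply]
    simp only [Matrix.mul_apply, Finset.sum_mul]
    exact Finset.sum_comm

lemma inClosure_conj (B S : Matrix (Fin n) (Fin n) k) (hBS : InClosure B S)
    (A : Matrix (Fin n) (Fin n) k) (hA : IsUnit A.det) : InClosure B (A * S * A⁻¹) := by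
  intro F hF
  have := hBS (conjSubst A F) (by
    intro A' hA'
    rw [eval_conjSubst]
    have hAA' : IsUnit (A * A').det := by rw [Matrix.det_mul]; exact hA.mul hA'
    have := hF (A * A') hAA'
    rw [Matrix.mul_inv_rev] at this
    simpa only [Matrix.mul_assoc] using this)
  rw [eval_conjSubst] at this
  exact this

end Mat

end Groth.Agent.Lib.Helper6.OrbitClosure

namespace Groth.Agent.Lib.Helper6.OrbitClosure

universe u

theorem inClosure_semisimple {k : Type u} [Field k] [IsAlgClosed k] {n : ℕ}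
    (B S N : Matrix (Fin n) (Fin n) k) (hS : Module.End.IsSemisimple (Matrix.toLin' S))
    (hN : IsNilpotent N) (hSN : Commute S N) (hB : B = S + N) : InClosure B S := by
  intro F hF
  obtain ⟨m, hm⟩ := hN
  have hm' : N ^ (m + 1) = 0 := by rw [pow_succ, hm, zero_mul]
  have : Infinite k := IsAlgClosed.instInfinite
  subst hB
  exact main m S N hS hm' hSN F hF

theorem s19395 (k : Type u) [Field k] [IsAlgClosed k]
    (n : ℕ) (B₁ S₁ N₁ B₂ S₂ N₂ : Matrix (Fin n) (Fin n) k)
    (hS₁ : Module.End.IsSemisimple (Matrix.toLin' S₁)) (hN₁ : IsNilpotent N₁) (hc₁ : Commute S₁ N₁)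
    (hB₁ : B₁ = S₁ + N₁)
    (hS₂ : Module.End.IsSemisimple (Matrix.toLin' S₂)) (hN₂ : IsNilpotent N₂) (hc₂ : Commute S₂ N₂)
    (hB₂ : B₂ = S₂ + N₂) :
    (∃ C : Matrix (Fin n) (Fin n) k, InClosure B₁ C ∧ InClosure B₂ C) ↔
      ∃ A : Matrix (Fin n) (Fin n) k, IsUnit A.det ∧ A * S₁ * A⁻¹ = S₂ := by
  have h₁ := inClosure_semisimple B₁ S₁ N₁ hS₁ hN₁ hc₁ hB₁
  have h₂ := inClosure_semisimple B₂ S₂ N₂ hS₂ hN₂ hc₂ hB₂
  constructor
  · rintro ⟨C, hC₁, hC₂⟩
    apply exists_conj_matrix S₁ S₂ hS₁ hS₂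
    rw [charpoly_eq_of_inClosure B₁ S₁ h₁, charpoly_eq_of_inClosure B₂ S₂ h₂,
      ← charpoly_eq_of_inClosure B₁ C hC₁, ← charpoly_eq_of_inClosure B₂ C hC₂]
  · rintro ⟨A, hA, rfl⟩
    exact ⟨_, inClosure_conj B₁ S₁ h₁ A hA, h₂⟩

end Groth.Agent.Lib.Helper6.OrbitClosure
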