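import Groth.Agent.Lib.Helper6.GalDescent
import Mathlib.Algebra.Central.Defs
import Mathlib.RingTheory.SimpleRing.Basic
import Mathlib.LinearAlgebra.GeneralLinearGroup.AlgEquiv
import Mathlib.LinearAlgebra.Matrix.GeneralLinearGroup.Projective
import Mathlib.LinearAlgebra.Matrix.GeneralLinearGroup.Basic
import Mathlib.RingTheory.Flat.Basic
import Mathlib.Tactic

set_option autoImplicit false
set_option linter.unusedSectionVars false
universe u v w

namespace Groth.Agent.Helper6.PGLDescent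

open scoped TensorProduct MatrixGroups
attribute [local instance] CSAGal.matrixAction GpH1.unitsAction CSAGal.pglAction CSAGal.tensorAction

section Fixed

variable (k : Type u) [Field k] (K : Type v) [Field K] [Algebra k K]
variable (A : Type w) [Ring A] [Algebra k A]

theorem smul_tmul_eq (σ : K ≃ₐ[k] K) (x : K) (a : A) :
    σ • (x ⊗ₜ[k] a) = (σ x) ⊗ₜ[k] a := by
  rw [CSAGal.smul_eq_map, Algebra.TensorProduct.map_tmul]
  rfl

theorem repr_smul {ι : Type*} (b : Module.Basis ι k A) (σ : K ≃ₐ[k] K) (t : K ⊗[k] A) (i : ι) :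
    (Algebra.TensorProduct.basis K b).repr (σ • t) i =
      σ ((Algebra.TensorProduct.basis K b).repr t i) := by
  induction t using TensorProduct.induction_on with
  | zero => rw [smul_zero, map_zero]; simp
  | tmul x a =>
    rw [smul_tmul_eq, Algebra.TensorProduct.basis_repr_tmul, Algebra.TensorProduct.basis_repr_tmul]
    simp only [Finsupp.smul_apply, Finsupp.mapRange_apply, smul_eq_mul, map_mul, AlgEquiv.commutes]
  | add x y hx hy =>
    rw [smul_add, map_add, map_add, Finsupp.add_apply, Finsupp.add_apply, hx, hy, map_add]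

variable [FiniteDimensional k K] [IsGalois k K]

theorem fixed_tensor (t : K ⊗[k] A) (ht : ∀ σ : K ≃ₐ[k] K, σ • t = t) :
    ∃ a : A, t = (1 : K) ⊗ₜ[k] a := by
  let b := Module.Free.chooseBasis k A
  let B := Algebra.TensorProduct.basis K b
  have hfix : ∀ i, B.repr t i ∈ Set.range (algebraMap k K) := by
    intro i
    rw [IsGalois.mem_range_algebraMap_iff_fixed]
    intro σ
    have := repr_smul k K A b σ t i
    rw [ht σ] at this
    exact this.symm
  choose c hc using hfix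
  refine ⟨∑ i ∈ (B.repr t).support, c i • b i, ?_⟩
  conv_lhs => rw [← B.linearCombination_repr t]
  rw [Finsupp.linearCombination_apply, Finsupp.sum, TensorProduct.tmul_sum]
  refine Finset.sum_congr rfl fun i _ => ?_
  rw [Algebra.TensorProduct.basis_apply, ← hc i, TensorProduct.tmul_smul,
    ← algebraMap_smul K (c i) ((1 : K) ⊗ₜ[k] b i)]

end Fixed

section Equiv

variable {k : Type u} [Field k] {K : Type v} [Field K] [Algebra k K]
  [FiniteDimensional k K] [IsGalois k K]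
variable {A : Type w} [Ring A] [Algebra k A] {A' : Type w} [Ring A'] [Algebra k A']

theorem includeRight_inj (A : Type w) [Ring A] [Algebra k A] :
    Function.Injective (Algebra.TensorProduct.includeRight : A →ₐ[k] K ⊗[k] A) :=
  Algebra.TensorProduct.includeRight_injective (algebraMap k K).injective

/-- An equivariant `K`-algebra isomorphism of base changes descends. -/
theorem nonempty_algEquiv_of_equivariant (Ψ : K ⊗[k] A ≃ₐ[K] K ⊗[k] A')
    (hΨ : ∀ (σ : K ≃ₐ[k] K) (t : K ⊗[k] A), Ψ (σ • t) = σ • Ψ t) :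
    Nonempty (A ≃ₐ[k] A') := by
  let R : Subalgebra k (K ⊗[k] A) := (Algebra.TensorProduct.includeRight : A →ₐ[k] K ⊗[k] A).range
  let R' : Subalgebra k (K ⊗[k] A') :=
    (Algebra.TensorProduct.includeRight : A' →ₐ[k] K ⊗[k] A').range
  let Ψ₀ : K ⊗[k] A ≃ₐ[k] K ⊗[k] A' := Ψ.restrictScalars k
  have hΨ' : ∀ (σ : K ≃ₐ[k] K) (t : K ⊗[k] A'), Ψ.symm (σ • t) = σ • Ψ.symm t := by
    intro σ t
    apply Ψ.injective
    rw [hΨ, Ψ.apply_symm_apply, Ψ.apply_symm_apply]
  have hmap : R.map (Ψ₀ : K ⊗[k] A →ₐ[k] K ⊗[k] A') = R' := by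
    apply le_antisymm
    · rintro _ ⟨_, ⟨a, rfl⟩, rfl⟩
      have hfix : ∀ σ : K ≃ₐ[k] K, σ • Ψ ((1 : K) ⊗ₜ[k] a) = Ψ ((1 : K) ⊗ₜ[k] a) := by
        intro σ
        rw [← hΨ, smul_tmul_eq, map_one]
      obtain ⟨a', ha'⟩ := fixed_tensor k K A' _ hfix
      exact ⟨a', ha'.symm⟩
    · rintro _ ⟨a', rfl⟩
      have hfix : ∀ σ : K ≃ₐ[k] K, σ • Ψ.symm ((1 : K) ⊗ₜ[k] a') = Ψ.symm ((1 : K) ⊗ₜ[k] a') := by
        intro σ
        rw [← hΨ', smul_tmul_eq, map_one]
      obtain ⟨a, ha⟩ := fixed_tensor k K A _ hfix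
      refine ⟨(1 : K) ⊗ₜ[k] a, ⟨a, rfl⟩, ?_⟩
      show Ψ ((1 : K) ⊗ₜ[k] a) = _
      rw [← ha, Ψ.apply_symm_apply]
      rfl
  let e1 : A ≃ₐ[k] R := AlgEquiv.ofInjective _ (includeRight_inj A)
  let e2 : R ≃ₐ[k] R.map (Ψ₀ : K ⊗[k] A →ₐ[k] K ⊗[k] A') := Ψ₀.subalgebraMap R
  let e3 : R.map (Ψ₀ : K ⊗[k] A →ₐ[k] K ⊗[k] A') ≃ₐ[k] R' := Subalgebra.equivOfEq _ _ hmap
  let e4 : A' ≃ₐ[k] R' := AlgEquiv.ofInjective _ (includeRight_inj A')
  exact ⟨e1.trans (e2.trans (e3.trans e4.symm))⟩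

end Equiv

end Groth.Agent.Helper6.PGLDescent
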