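import Groth.Agent.Lib.Helper6.PGLDescent
import Mathlib.LinearAlgebra.Matrix.ToLin

set_option autoImplicit false
set_option linter.unusedSectionVars false
universe u v w

namespace Groth.Agent.Helper6.PGLDescent

open scoped TensorProduct MatrixGroups
attribute [local instance] CSAGal.matrixAction GpH1.unitsAction CSAGal.pglAction CSAGal.tensorAction

section SN

variable {K : Type v} [Field K] {n : ℕ}

/-- conjugation by an invertible matrix, as a function on matrices -/
def cj (g : GL (Fin n) K) (M : Matrix (Fin n) (Fin n) K) : Matrix (Fin n) (Fin n) K :=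
  (g : Matrix (Fin n) (Fin n) K) * M * ((g⁻¹ : GL (Fin n) K) : Matrix (Fin n) (Fin n) K)

theorem cj_mul (g h : GL (Fin n) K) (M : Matrix (Fin n) (Fin n) K) :
    cj (g * h) M = cj g (cj h M) := by
  unfold cj
  rw [mul_inv_rev, Units.val_mul, Units.val_mul]
  simp only [mul_assoc]

theorem cj_inv_cj (g : GL (Fin n) K) (M : Matrix (Fin n) (Fin n) K) :
    cj g⁻¹ (cj g M) = M := by
  rw [← cj_mul, inv_mul_cancel]
  simp [cj]

theorem cj_cj_inv (g : GL (Fin n) K) (M : Matrix (Fin n) (Fin n) K) :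
    cj g (cj g⁻¹ M) = M := by
  rw [← cj_mul, mul_inv_cancel]
  simp [cj]

theorem cj_center (z : GL (Fin n) K) (hz : z ∈ Subgroup.center (GL (Fin n) K))
    (M : Matrix (Fin n) (Fin n) K) : cj z M = M := by
  rw [Matrix.GeneralLinearGroup.center_eq_range_scalar] at hz
  obtain ⟨u, rfl⟩ := hz
  unfold cj
  rw [← map_inv, Matrix.GeneralLinearGroup.coe_scalar, Matrix.GeneralLinearGroup.coe_scalar]
  rw [Matrix.scalar_comm _ (fun _ => Commute.all _ _), mul_assoc, ← map_mul]
  simp

theorem cj_eq_of_mk_eq (g g' : GL (Fin n) K)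
    (h : Matrix.ProjGenLinGroup.mk g = Matrix.ProjGenLinGroup.mk g')
    (M : Matrix (Fin n) (Fin n) K) : cj g M = cj g' M := by
  rw [Matrix.ProjGenLinGroup.mk_eq_mk_iff'] at h
  obtain ⟨z, hz, rfl⟩ := h
  rw [cj_mul, cj_center z hz]

/-- conjugation as an algebra automorphism -/
def cjEquiv (g : GL (Fin n) K) : Matrix (Fin n) (Fin n) K ≃ₐ[K] Matrix (Fin n) (Fin n) K where
  toFun := cj g
  invFun := cj g⁻¹
  left_inv := cj_inv_cj g
  right_inv := cj_cj_inv g
  map_mul' M N := by
    unfold cj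
    have : ((g⁻¹ : GL (Fin n) K) : Matrix (Fin n) (Fin n) K) * (g : Matrix (Fin n) (Fin n) K) = 1 := by
      rw [← Units.val_mul, inv_mul_cancel]; rfl
    calc (g : Matrix (Fin n) (Fin n) K) * (M * N) * ((g⁻¹ : GL (Fin n) K) : Matrix (Fin n) (Fin n) K)
        = (g : Matrix (Fin n) (Fin n) K) * M * (1 : Matrix (Fin n) (Fin n) K) * N * ((g⁻¹ : GL (Fin n) K) : Matrix (Fin n) (Fin n) K) := by
          simp only [mul_one, mul_assoc]
      _ = _ := by rw [← this]; simp only [mul_assoc]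
  map_add' M N := by
    unfold cj
    rw [mul_add, add_mul]
  commutes' x := by
    unfold cj
    rw [Algebra.algebraMap_eq_smul_one, mul_smul_comm, mul_one, smul_mul_assoc, ← Units.val_mul,
      mul_inv_cancel]
    rfl

theorem cjEquiv_apply (g : GL (Fin n) K) (M : Matrix (Fin n) (Fin n) K) : cjEquiv g M = cj g M := rfl

/-- Skolem–Noether for a full matrix algebra over a field. -/
theorem exists_cj_eq (θ : Matrix (Fin n) (Fin n) K ≃ₐ[K] Matrix (Fin n) (Fin n) K) :
    ∃ h : GL (Fin n) K, ∀ M, θ M = cj h M := by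
  let L : Matrix (Fin n) (Fin n) K ≃ₐ[K] Module.End K (Fin n → K) := Matrix.toLinAlgEquiv'
  let θ' : Module.End K (Fin n → K) ≃ₐ[K] Module.End K (Fin n → K) := L.symm.trans (θ.trans L)
  obtain ⟨T, hT⟩ := θ'.eq_linearEquivConjAlgEquiv
  let hm : Matrix (Fin n) (Fin n) K := LinearMap.toMatrix' (T : (Fin n → K) →ₗ[K] (Fin n → K))
  let hm' : Matrix (Fin n) (Fin n) K := LinearMap.toMatrix' (T.symm : (Fin n → K) →ₗ[K] (Fin n → K))
  have h1 : hm * hm' = 1 := by
    rw [← LinearMap.toMatrix'_comp]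
    simp
  have h2 : hm' * hm = 1 := by
    rw [← LinearMap.toMatrix'_comp]
    simp
  let h : GL (Fin n) K := ⟨hm, hm', h1, h2⟩
  refine ⟨h, fun M => ?_⟩
  have h3 : θ' (L M) = L (θ M) := by
    show L (θ (L.symm (L M))) = L (θ M)
    rw [L.symm_apply_apply]
  rw [hT, LinearEquiv.conjAlgEquiv_apply] at h3
  apply L.injective
  rw [← h3]
  unfold cj
  show _ = L (hm * M * hm')
  rw [map_mul, map_mul]
  have e1 : L hm = (T : (Fin n → K) →ₗ[K] (Fin n → K)) := by
    show Matrix.toLin' (LinearMap.toMatrix' _) = _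
    rw [Matrix.toLin'_toMatrix']
  have e2 : L hm' = (T.symm : (Fin n → K) →ₗ[K] (Fin n → K)) := by
    show Matrix.toLin' (LinearMap.toMatrix' _) = _
    rw [Matrix.toLin'_toMatrix']
  rw [e1, e2]
  rfl

end SN

end Groth.Agent.Helper6.PGLDescent
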