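import Mathlib

/-! Lattices in `R⟦X⟧^n`: helper for S19306. -/

set_option linter.unusedSectionVars false
set_option linter.style.haveILetI false

namespace Groth.Agent.Lib.Helper6.PSLattice
open PowerSeries TensorProduct

universe u
variable {R : Type u} [CommRing R] {n : ℕ} (M : ℕ)

/-- truncated coordinates -/
abbrev G (R : Type u) [CommRing R] (n M : ℕ) := Fin n → Polynomial.degreeLT R M

noncomputable def τ : (Fin n → R⟦X⟧) →ₗ[R] G R n M where
  toFun v c := ⟨trunc M (v c), Polynomial.mem_degreeLT.mpr (degree_trunc_lt _ _)⟩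
  map_add' := by
    intro v w; ext c : 2
    simp only [Pi.add_apply, map_add, Submodule.coe_add]
  map_smul' := by
    intro r v; ext c : 2
    simp only [Pi.smul_apply, map_smul, RingHom.id_apply, Submodule.coe_smul]

noncomputable def σ : G R n M →ₗ[R] (Fin n → R⟦X⟧) where
  toFun g c := ((g c : Polynomial R) : R⟦X⟧)
  map_add' := by
    intro v w; ext c : 1
    simp only [Pi.add_apply, Submodule.coe_add, Polynomial.coe_add]
  map_smul' := by
    intro r v; ext c : 1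
    simp only [Pi.smul_apply, Submodule.coe_smul, RingHom.id_apply]
    rw [Polynomial.smul_eq_C_mul, Polynomial.coe_mul, Polynomial.coe_C, ← PowerSeries.smul_eq_C_mul]

@[simp] lemma τ_apply (v : Fin n → R⟦X⟧) (c : Fin n) : ((τ M v) c : Polynomial R) = trunc M (v c) := rfl
@[simp] lemma σ_apply (g : G R n M) (c : Fin n) : (σ M g) c = ((g c : Polynomial R) : R⟦X⟧) := rfl

lemma decomp (v : Fin n → R⟦X⟧) :
    ∃ u : Fin n → R⟦X⟧, v = σ M (τ M v) + ((X : R⟦X⟧) ^ M) • u := by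
  refine ⟨fun c => PowerSeries.mk fun i => coeff (i + M) (v c), ?_⟩
  ext c : 1
  simp only [Pi.add_apply, σ_apply, τ_apply, Pi.smul_apply, smul_eq_mul]
  rw [add_comm]
  exact eq_X_pow_mul_shift_add_trunc M (v c)

lemma τ_X_pow_smul (u : Fin n → R⟦X⟧) : τ M (((X : R⟦X⟧) ^ M) • u) = 0 := by
  ext c : 2
  simp only [τ_apply, Pi.smul_apply, smul_eq_mul, trunc_X_pow_self_mul, Pi.zero_apply,
    ZeroMemClass.coe_zero]

lemma τ_σ (g : G R n M) : τ M (σ M g) = g := by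
  ext c : 2
  simp only [τ_apply, σ_apply]
  ext m
  rw [coeff_trunc, Polynomial.coeff_coe]
  split_ifs with h
  · rfl
  · symm
    apply Polynomial.coeff_eq_zero_of_degree_lt
    exact lt_of_lt_of_le (Polynomial.mem_degreeLT.mp (g c).2) (by exact_mod_cast not_lt.mp h)

/-- shift by `M` -/
noncomputable def sh : R⟦X⟧ →ₗ[R] R⟦X⟧ where
  toFun φ := PowerSeries.mk fun i => coeff (i + M) φ
  map_add' := by intro a b; ext i; simp
  map_smul' := by intro r a; ext i; simp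

lemma sh_X_pow_mul (a : R⟦X⟧) : sh M ((X : R⟦X⟧) ^ M * a) = a := by
  ext i
  simp only [sh, LinearMap.coe_mk, AddHom.coe_mk, coeff_mk]
  rw [coeff_X_pow_mul]


section forward
variable {M}
variable (Λ : Submodule R⟦X⟧ (Fin n → R⟦X⟧))
  (hΛ : ∀ v : Fin n → R⟦X⟧, ((X : R⟦X⟧) ^ M) • v ∈ Λ)

include hΛ in
lemma key [Module.Finite R⟦X⟧ Λ] [Module.Projective R⟦X⟧ Λ] {l : ℕ} (f : Fin l → R)
    (w : Fin l → (Fin n → R⟦X⟧)) (hw : ∑ i, f i • w i ∈ Λ) :
    ∃ μ : Fin l → (Fin n → R⟦X⟧), (∀ i, μ i ∈ Λ) ∧ ∑ i, f i • w i = ∑ i, f i • μ i := by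
  obtain ⟨r, p, ι, -, -, hpι⟩ := Module.Finite.exists_comp_eq_id_of_projective R⟦X⟧ Λ
  set lam : Λ := ⟨∑ i, f i • w i, hw⟩ with hlam
  let μ' : Fin l → Λ := fun i => ⟨((X : R⟦X⟧) ^ M) • w i, hΛ _⟩
  have h1 : ((X : R⟦X⟧) ^ M) • lam = ∑ i, f i • μ' i := by
    apply Subtype.ext
    simp only [Submodule.coe_smul, hlam, μ', Submodule.coe_sum, Submodule.coe_smul_of_tower]
    rw [Finset.smul_sum]
    refine Finset.sum_congr rfl fun i _ => ?_
    rw [smul_comm]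
  have h2 : ((X : R⟦X⟧) ^ M) • ι lam = ∑ i, f i • ι (μ' i) := by
    rw [← map_smul, h1, map_sum]
    refine Finset.sum_congr rfl fun i _ => ?_
    rw [LinearMap.map_smul_of_tower]
  -- coordinatewise division by X^M
  let q : Fin l → (Fin r → R⟦X⟧) := fun i c => sh M (ι (μ' i) c)
  have h3 : ι lam = ∑ i, f i • q i := by
    ext c : 1
    have := congrFun h2 c
    simp only [Pi.smul_apply, smul_eq_mul, Finset.sum_apply] at this
    rw [← sh_X_pow_mul M (ι lam c), this, map_sum, Finset.sum_apply]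
    refine Finset.sum_congr rfl fun i _ => ?_
    rw [Pi.smul_apply, map_smul]
  refine ⟨fun i => (p (q i) : Fin n → R⟦X⟧), fun i => (p (q i)).2, ?_⟩
  have h4 : lam = p (ι lam) := by
    have := congrArg (fun g => g lam) hpι
    simpa using this.symm
  have h5 : (lam : Fin n → R⟦X⟧) = ∑ i, f i • w i := rfl
  rw [← h5, h4, h3, map_sum, Submodule.coe_sum]
  refine Finset.sum_congr rfl fun i _ => ?_
  rw [LinearMap.map_smul_of_tower, Submodule.coe_smul_of_tower]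


include hΛ in
lemma mk_eq_mk_σ_τ (v : Fin n → R⟦X⟧) :
    (Submodule.Quotient.mk v : (Fin n → R⟦X⟧) ⧸ Λ) = Submodule.Quotient.mk (σ M (τ M v)) := by
  obtain ⟨u, hu⟩ := decomp M v
  rw [Submodule.Quotient.eq]
  have : v - σ M (τ M v) = ((X : R⟦X⟧) ^ M) • u := by
    nth_rewrite 1 [hu]; abel
  rw [this]
  exact hΛ u

include hΛ in
theorem flat_quot [Module.Finite R⟦X⟧ Λ] [Module.Projective R⟦X⟧ Λ] :
    Module.Flat R ((Fin n → R⟦X⟧) ⧸ Λ) := by
  rw [Module.Flat.iff_forall_isTrivialRelation]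
  intro l f x hx
  choose w hw using fun i => Submodule.Quotient.mk_surjective Λ (x i)
  have h1 : ∑ i, f i • w i ∈ Λ := by
    rw [← Submodule.Quotient.mk_eq_zero Λ, ← hx]
    rw [show (Submodule.Quotient.mk (∑ i, f i • w i) : (Fin n → R⟦X⟧) ⧸ Λ)
      = Λ.mkQ (∑ i, f i • w i) from rfl, map_sum]
    refine Finset.sum_congr rfl fun i _ => ?_
    rw [← hw i]
    rfl
  obtain ⟨μ, hμ, hsum⟩ := key Λ hΛ f w h1
  have h2 : ∑ i, f i • τ M (w i - μ i) = 0 := by
    simp_rw [← map_smul, ← map_sum, smul_sub, Finset.sum_sub_distrib, hsum, sub_self, map_zero]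
  obtain ⟨k, a, y, hy, ha⟩ := Module.Flat.iff_forall_isTrivialRelation.mp
    (inferInstance : Module.Flat R (G R n M)) h2
  refine ⟨k, a, fun j => Submodule.Quotient.mk (σ M (y j)), fun i => ?_, ha⟩
  have h3 : x i = Submodule.Quotient.mk (w i - μ i) := by
    rw [← hw i, eq_comm, Submodule.Quotient.eq]
    simpa using hμ i
  have hy' : τ M (w i - μ i) = ∑ j, a i j • y j := hy i
  rw [h3, mk_eq_mk_σ_τ Λ hΛ, hy', map_sum]
  simp only
  rw [show (Submodule.Quotient.mk (∑ j, σ M (a i j • y j)) : (Fin n → R⟦X⟧) ⧸ Λ)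
      = Λ.mkQ (∑ j, σ M (a i j • y j)) from rfl, map_sum]
  refine Finset.sum_congr rfl fun j _ => ?_
  rw [map_smul]
  rfl


/-- the presentation map -/
noncomputable def lmap : G R n M →ₗ[R] (Fin n → R⟦X⟧) ⧸ Λ :=
  (Λ.mkQ.restrictScalars R) ∘ₗ σ M

lemma lmap_apply (g : G R n M) : lmap Λ g = Submodule.Quotient.mk (σ M g) := rfl

include hΛ in
lemma lmap_surj : Function.Surjective (lmap (M := M) Λ) := by
  intro x
  obtain ⟨v, rfl⟩ := Submodule.Quotient.mk_surjective Λ x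
  exact ⟨τ M v, (mk_eq_mk_σ_τ Λ hΛ v).symm⟩

include hΛ in
lemma ker_lmap_fg [Module.Finite R⟦X⟧ Λ] : (LinearMap.ker (lmap (M := M) Λ)).FG := by
  obtain ⟨r, p, hp⟩ := Module.Finite.exists_fin' R⟦X⟧ Λ
  let φ : G R r M →ₗ[R] G R n M := τ M ∘ₗ ((Λ.subtype ∘ₗ p).restrictScalars R) ∘ₗ σ M
  have hker : LinearMap.ker (lmap (M := M) Λ) = LinearMap.range φ := by
    ext g
    rw [LinearMap.mem_ker, lmap_apply, Submodule.Quotient.mk_eq_zero, LinearMap.mem_range]
    constructor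
    · intro hg
      obtain ⟨e, he⟩ := hp ⟨σ M g, hg⟩
      obtain ⟨u, hu⟩ := decomp M e
      refine ⟨τ M e, ?_⟩
      have h1 : σ M g = (p e : Fin n → R⟦X⟧) := by rw [he]
      have h2 : (p e : Fin n → R⟦X⟧) = (p (σ M (τ M e)) : Fin n → R⟦X⟧)
          + ((X : R⟦X⟧) ^ M) • (p u : Fin n → R⟦X⟧) := by
        nth_rewrite 1 [hu]
        rw [map_add, map_smul, Submodule.coe_add, Submodule.coe_smul]
      have h3 : φ (τ M e) = τ M (p (σ M (τ M e)) : Fin n → R⟦X⟧) := rfl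
      rw [h3, ← τ_σ M g, h1, h2, map_add, τ_X_pow_smul, add_zero]
    · rintro ⟨g', rfl⟩
      have h3 : φ g' = τ M (p (σ M g') : Fin n → R⟦X⟧) := rfl
      obtain ⟨u, hu⟩ := decomp M (p (σ M g') : Fin n → R⟦X⟧)
      have : σ M (φ g') = (p (σ M g') : Fin n → R⟦X⟧) - ((X : R⟦X⟧) ^ M) • u := by
        rw [h3]; nth_rewrite 2 [hu]; abel
      rw [this]
      exact Λ.sub_mem (p (σ M g')).2 (hΛ u)
  rw [hker, LinearMap.range_eq_map]
  exact Submodule.FG.map _ Module.Finite.fg_top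

include hΛ in
theorem projective_quot [Module.Finite R⟦X⟧ Λ] [Module.Projective R⟦X⟧ Λ] :
    Module.Projective R ((Fin n → R⟦X⟧) ⧸ Λ) := by
  haveI := flat_quot Λ hΛ
  haveI : Module.FinitePresentation R ((Fin n → R⟦X⟧) ⧸ Λ) :=
    Module.finitePresentation_of_free_of_surjective (lmap (M := M) Λ) (lmap_surj Λ hΛ)
      (ker_lmap_fg Λ hΛ)
  exact Module.Flat.projective_of_finitePresentation

include hΛ in
theorem finite_quot : Module.Finite R ((Fin n → R⟦X⟧) ⧸ Λ) :=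
  Module.Finite.of_surjective (lmap (M := M) Λ) (lmap_surj Λ hΛ)

end forward

section schanuel
variable {P : Type*} [CommRing P] {F T : Type*} [AddCommGroup F] [Module P F]
  [AddCommGroup T] [Module P T] (Λ : Submodule P F)

/-- Schanuel-type splitting: if `F/Λ` has a resolution `0 → T → T → F/Λ → 0` with `T`, `F`
projective, then `Λ` is a retract of `T × F`. -/
theorem schanuel_split [Module.Projective P F] [Module.Projective P T]
    (ε : T →ₗ[P] F ⧸ Λ) (δ : T →ₗ[P] T) (hε : Function.Surjective ε)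
    (hδ : Function.Injective δ) (hεδ : ∀ t, ε (δ t) = 0)
    (hex : ∀ t, ε t = 0 → ∃ t', δ t' = t) :
    ∃ (i : Λ →ₗ[P] (T × F)) (r : (T × F) →ₗ[P] Λ), r ∘ₗ i = LinearMap.id := by
  obtain ⟨s, hs⟩ := Module.projective_lifting_property Λ.mkQ ε (Submodule.mkQ_surjective Λ)
  obtain ⟨s', hs'⟩ := Module.projective_lifting_property ε Λ.mkQ hε
  have hs_apply : ∀ t, Λ.mkQ (s t) = ε t := fun t => congrArg (fun g => g t) hs
  have hs'_apply : ∀ v, ε (s' v) = Λ.mkQ v := fun v => congrArg (fun g => g v) hs'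
  let r0 : (T × F) →ₗ[P] F :=
    LinearMap.snd P T F - s ∘ₗ (δ ∘ₗ LinearMap.fst P T F + s' ∘ₗ LinearMap.snd P T F)
  have hr0 : ∀ x, r0 x ∈ Λ := by
    rintro ⟨t', v⟩
    rw [← Submodule.Quotient.mk_eq_zero Λ]
    change Λ.mkQ (v - s (δ t' + s' v)) = 0
    rw [map_sub, hs_apply, map_add, hεδ, hs'_apply, zero_add, sub_self]
  let r : (T × F) →ₗ[P] Λ := LinearMap.codRestrict Λ r0 hr0
  let δ0 : T →ₗ[P] LinearMap.ker ε := LinearMap.codRestrict _ δ (fun t => hεδ t)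
  have hδ0 : Function.Bijective δ0 := by
    constructor
    · intro a b hab
      exact hδ (congrArg Subtype.val hab)
    · rintro ⟨y, hy⟩
      obtain ⟨t', ht'⟩ := hex y hy
      exact ⟨t', Subtype.ext ht'⟩
  let δ' : T ≃ₗ[P] LinearMap.ker ε := LinearEquiv.ofBijective δ0 hδ0
  let s'' : Λ →ₗ[P] LinearMap.ker ε := LinearMap.codRestrict _ (s' ∘ₗ Λ.subtype) (by
    intro lam
    rw [LinearMap.mem_ker]
    change ε (s' lam) = 0
    rw [hs'_apply]
    exact (Submodule.Quotient.mk_eq_zero Λ).mpr lam.2)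
  let i : Λ →ₗ[P] (T × F) := LinearMap.prod (-(δ'.symm.toLinearMap ∘ₗ s'')) Λ.subtype
  refine ⟨i, r, ?_⟩
  ext lam
  have h1 : δ (δ'.symm (s'' lam)) = s' lam := by
    have := congrArg Subtype.val (δ'.apply_symm_apply (s'' lam))
    exact this
  change (lam : F) - s (δ (-(δ'.symm (s'' lam))) + s' lam) = lam
  rw [map_neg, h1, neg_add_cancel, map_zero, sub_zero]

end schanuel

section resolution
variable {Q : Type*} [AddCommGroup Q] [Module R Q] [Module R⟦X⟧ Q] [IsScalarTower R R⟦X⟧ Q]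

variable (R Q) in
/-- augmentation `R⟦X⟧ ⊗ Q → Q` -/
noncomputable def eps : R⟦X⟧ ⊗[R] Q →ₗ[R⟦X⟧] Q :=
  LinearMap.liftBaseChange R⟦X⟧ (LinearMap.id : Q →ₗ[R] Q)

@[simp] lemma eps_tmul (p : R⟦X⟧) (q : Q) : eps R Q (p ⊗ₜ q) = p • q := rfl

variable (R Q) in
/-- multiplication by `X` on `Q` as an `R`-endomorphism -/
noncomputable def xQ : Q →ₗ[R] Q := (LinearMap.lsmul R⟦X⟧ Q X).restrictScalars R

@[simp] lemma xQ_apply (q : Q) : xQ R Q q = (X : R⟦X⟧) • q := rfl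

lemma xQ_pow_apply (k : ℕ) (q : Q) : ((xQ R Q) ^ k) q = ((X : R⟦X⟧) ^ k) • q := by
  induction k generalizing q with
  | zero => simp
  | succ k ih => rw [pow_succ, Module.End.mul_apply, ih, xQ_apply, smul_smul, ← pow_succ]

variable (R Q) in
/-- the map `X ⊗ 1 - 1 ⊗ X` -/
noncomputable def del : R⟦X⟧ ⊗[R] Q →ₗ[R⟦X⟧] R⟦X⟧ ⊗[R] Q :=
  (X : R⟦X⟧) • LinearMap.id - (xQ R Q).baseChange R⟦X⟧

lemma del_tmul (p : R⟦X⟧) (q : Q) :
    del R Q (p ⊗ₜ q) = (X * p) ⊗ₜ q - p ⊗ₜ ((X : R⟦X⟧) • q) := by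
  simp [del, TensorProduct.smul_tmul']

lemma eps_del (t : R⟦X⟧ ⊗[R] Q) : eps R Q (del R Q t) = 0 := by
  induction t with
  | zero => simp
  | add a b ha hb => rw [map_add, map_add, ha, hb, add_zero]
  | tmul p q => rw [del_tmul, map_sub, eps_tmul, eps_tmul, mul_comm, mul_smul, sub_self]

lemma eps_surj : Function.Surjective (eps R Q) := fun q => ⟨1 ⊗ₜ q, by simp⟩

lemma exact_aux (j : ℕ) : ∀ (p : R⟦X⟧) (q : Q), ((X : R⟦X⟧) ^ j) • q = 0 →
    p ⊗ₜ[R] q - (1 : R⟦X⟧) ⊗ₜ[R] (p • q) ∈ LinearMap.range (del R Q) := by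
  induction j with
  | zero =>
    intro p q hq
    rw [pow_zero, one_smul] at hq
    rw [hq, smul_zero, tmul_zero, tmul_zero, sub_zero]
    exact zero_mem _
  | succ j ih =>
    intro p q hq
    have hp := eq_X_mul_shift_add_const p
    set p' : R⟦X⟧ := PowerSeries.mk fun i => coeff (i + 1) p with hp'
    set c : R := constantCoeff p
    have hc : (C c : R⟦X⟧) ⊗ₜ[R] q = (1 : R⟦X⟧) ⊗ₜ[R] ((C c : R⟦X⟧) • q) := by
      have e1 : (C c : R⟦X⟧) = c • (1 : R⟦X⟧) := by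
        rw [PowerSeries.smul_eq_C_mul, mul_one]
      have e2 : (C c : R⟦X⟧) • q = c • q := by
        rw [e1, smul_assoc, one_smul]
      rw [e2, e1, TensorProduct.smul_tmul]
    have hq' : ((X : R⟦X⟧) ^ j) • ((X : R⟦X⟧) • q) = 0 := by
      rw [smul_smul, ← pow_succ]; exact hq
    have h1 := ih p' ((X : R⟦X⟧) • q) hq'
    have h2 : (p ⊗ₜ[R] q - (1 : R⟦X⟧) ⊗ₜ[R] (p • q)) =
        del R Q (p' ⊗ₜ q) + (p' ⊗ₜ[R] ((X : R⟦X⟧) • q)
          - (1 : R⟦X⟧) ⊗ₜ[R] (p' • ((X : R⟦X⟧) • q))) := by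
      rw [del_tmul]
      nth_rewrite 1 [hp]
      nth_rewrite 1 [hp]
      rw [add_tmul, add_smul, tmul_add, hc, smul_smul, mul_smul, mul_comm p' X, mul_smul]
      abel
    rw [h2]
    exact Submodule.add_mem _ ⟨_, rfl⟩ h1

lemma exact_del_eps {M : ℕ} (hX : ∀ q : Q, ((X : R⟦X⟧) ^ M) • q = 0) (t : R⟦X⟧ ⊗[R] Q)
    (ht : eps R Q t = 0) : ∃ t', del R Q t' = t := by
  have key : ∀ t : R⟦X⟧ ⊗[R] Q,
      t - (1 : R⟦X⟧) ⊗ₜ[R] (eps R Q t) ∈ LinearMap.range (del R Q) := by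
    intro t
    induction t with
    | zero => simp
    | add a b ha hb =>
      rw [map_add, tmul_add]
      have : a + b - ((1 : R⟦X⟧) ⊗ₜ[R] (eps R Q a) + (1 : R⟦X⟧) ⊗ₜ[R] (eps R Q b)) =
        (a - (1 : R⟦X⟧) ⊗ₜ[R] (eps R Q a)) + (b - (1 : R⟦X⟧) ⊗ₜ[R] (eps R Q b)) := by abel
      rw [this]
      exact Submodule.add_mem _ ha hb
    | tmul p q => exact exact_aux M p q (hX q)
  have := key t
  rw [ht, tmul_zero, sub_zero] at this
  exact this

lemma X_pow_mul_inj (M : ℕ) : Function.Injective (LinearMap.mulLeft R ((X : R⟦X⟧) ^ M)) := by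
  rw [injective_iff_map_eq_zero]
  intro a ha
  rw [LinearMap.mulLeft_apply] at ha
  ext i
  have := congrArg (coeff (i + M)) ha
  rwa [coeff_X_pow_mul, map_zero] at this

lemma del_inj [Module.Flat R Q] {M : ℕ} (hX : ∀ q : Q, ((X : R⟦X⟧) ^ M) • q = 0) :
    Function.Injective (del R Q) := by
  rw [injective_iff_map_eq_zero]
  intro t ht
  have h1 : (X : R⟦X⟧) • t = (xQ R Q).baseChange R⟦X⟧ t := by
    have : del R Q t = (X : R⟦X⟧) • t - (xQ R Q).baseChange R⟦X⟧ t := rfl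
    rw [this, sub_eq_zero] at ht
    exact ht
  have h2 : ∀ k : ℕ, ((X : R⟦X⟧) ^ k) • t = (((xQ R Q).baseChange R⟦X⟧) ^ k) t := by
    intro k
    induction k with
    | zero => simp
    | succ k ih =>
      rw [pow_succ, mul_smul, h1, ← map_smul, ih, pow_succ', Module.End.mul_apply]
  have h3 : ((xQ R Q) ^ M) = 0 := by
    ext q
    rw [xQ_pow_apply, hX, LinearMap.zero_apply]
  have h4 : ((X : R⟦X⟧) ^ M) • t = 0 := by
    rw [h2, ← LinearMap.baseChange_pow, h3, LinearMap.baseChange_zero, LinearMap.zero_apply]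
  have h5 : ∀ t : R⟦X⟧ ⊗[R] Q,
      (LinearMap.mulLeft R ((X : R⟦X⟧) ^ M)).rTensor Q t = ((X : R⟦X⟧) ^ M) • t := by
    intro t
    induction t with
    | zero => simp
    | add a b ha hb => rw [map_add, smul_add, ha, hb]
    | tmul p q => rw [LinearMap.rTensor_tmul, LinearMap.mulLeft_apply, TensorProduct.smul_tmul',
        smul_eq_mul]
  have h6 := Module.Flat.rTensor_preserves_injective_linearMap (M := Q)
    (LinearMap.mulLeft R ((X : R⟦X⟧) ^ M)) (X_pow_mul_inj M)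
  apply h6
  rw [h5, h4, map_zero]

end resolution


section backward
variable {n M : ℕ} (Λ : Submodule R⟦X⟧ (Fin n → R⟦X⟧))
  (hΛ : ∀ v : Fin n → R⟦X⟧, ((X : R⟦X⟧) ^ M) • v ∈ Λ)

include hΛ in
theorem finite_projective_of_quot [Module.Projective R ((Fin n → R⟦X⟧) ⧸ Λ)] :
    Module.Finite R⟦X⟧ Λ ∧ Module.Projective R⟦X⟧ Λ := by
  have hX : ∀ q : (Fin n → R⟦X⟧) ⧸ Λ, ((X : R⟦X⟧) ^ M) • q = 0 := by
    intro q
    obtain ⟨v, rfl⟩ := Submodule.Quotient.mk_surjective Λ q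
    rw [← Submodule.Quotient.mk_smul, Submodule.Quotient.mk_eq_zero]
    exact hΛ v
  haveI : Module.Finite R ((Fin n → R⟦X⟧) ⧸ Λ) := finite_quot Λ hΛ
  obtain ⟨i, r, h⟩ := schanuel_split (T := R⟦X⟧ ⊗[R] ((Fin n → R⟦X⟧) ⧸ Λ)) Λ
    (eps R _) (del R _) eps_surj (del_inj hX) eps_del (exact_del_eps hX)
  have hr : Function.Surjective r := fun lam => ⟨i lam, congrArg (fun g => g lam) h⟩
  exact ⟨Module.Finite.of_surjective r hr, Module.Projective.of_split i r h⟩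

include hΛ in
theorem main : (Module.Finite R⟦X⟧ Λ ∧ Module.Projective R⟦X⟧ Λ) ↔
    Module.Projective R ((Fin n → R⟦X⟧) ⧸ Λ) := by
  constructor
  · rintro ⟨h1, h2⟩
    exact projective_quot Λ hΛ
  · intro h
    exact finite_projective_of_quot Λ hΛ

end backward

end Groth.Agent.Lib.Helper6.PSLattice
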