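import Mathlib

set_option autoImplicit false
set_option linter.unusedSectionVars false

/-! The localization `S⟦X⟧[1/X]` of a power series ring over a domain: membership in `S⟦X⟧`. -/

namespace Groth.Agent.Helper6.PSLoc

theorem D1 {α : Type*} [CommRing α] [IsDomain α] {π a : α} (hπ : Prime π) (k N : ℕ) (hN : N ≠ 0)
    (h : π ^ (k * N) ∣ a ^ N) : π ^ k ∣ a := by
  rw [pow_dvd_iff_le_emultiplicity, emultiplicity_pow hπ] at h
  rw [pow_dvd_iff_le_emultiplicity]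
  rcases eq_or_ne (emultiplicity π a) ⊤ with h' | h'
  · rw [h']; exact le_top
  · obtain ⟨e', he'⟩ := ENat.ne_top_iff_exists.mp h'
    rw [← he'] at h ⊢
    norm_cast at h ⊢
    rw [mul_comm] at h
    exact Nat.le_of_mul_le_mul_left h (Nat.pos_of_ne_zero hN)

theorem D2 {α : Type*} [CommRing α] [IsDomain α] {π a : α} (hπ : Prime π) (J q : ℕ)
    (hq : ¬ q ∣ J) (h : π ^ J ∣ a ^ q) : π ^ (J + 1) ∣ a ^ q := by
  rw [pow_dvd_iff_le_emultiplicity, emultiplicity_pow hπ] at h ⊢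
  rcases eq_or_ne (emultiplicity π a) ⊤ with h' | h'
  · rw [h'] at h ⊢
    rcases Nat.eq_zero_or_pos q with rfl | hq0
    · exact absurd (zero_dvd_iff.mpr (by
        simp at h
        exact h)) hq
    · rw [ENat.mul_top (by exact_mod_cast hq0.ne')]
      exact le_top
  · obtain ⟨e', he'⟩ := ENat.ne_top_iff_exists.mp h'
    rw [← he'] at h ⊢
    norm_cast at h ⊢
    rcases h.lt_or_eq with h1 | h1
    · exact h1
    · exact absurd ⟨e', h1⟩ hq

open PowerSeries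

variable {S B : Type*} [CommRing S] [IsDomain S] [CommRing B] [Algebra (PowerSeries S) B]
  [IsLocalization.Away (PowerSeries.X : PowerSeries S) B] (u : Bˣ)
  (hu : (u : B) = algebraMap (PowerSeries S) B PowerSeries.X)

theorem inj : Function.Injective (algebraMap (PowerSeries S) B) :=
  IsLocalization.injective B
    (powers_le_nonZeroDivisors_of_noZeroDivisors (PowerSeries.X_ne_zero))

include hu

theorem u_pow (k : ℕ) : ((u ^ (k : ℤ) : Bˣ) : B) = algebraMap (PowerSeries S) B (X ^ k) := by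
  rw [zpow_natCast, Units.val_pow_eq_pow_val, hu, map_pow]

theorem map_mul_zpow_neg (a : PowerSeries S) (k : ℕ) :
    algebraMap (PowerSeries S) B (X ^ k * a) * ((u ^ (-(k : ℤ)) : Bˣ) : B)
      = algebraMap (PowerSeries S) B a := by
  rw [map_mul, ← u_pow u hu, mul_comm (((u ^ (k : ℤ) : Bˣ)) : B), mul_assoc, ← Units.val_mul,
    ← zpow_add, add_neg_cancel, zpow_zero, Units.val_one, mul_one]

theorem exists_rep (y : B) (K : ℕ) : ∃ k, K ≤ k ∧ ∃ a : PowerSeries S,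
    y = algebraMap (PowerSeries S) B a * ((u ^ (-(k : ℤ)) : Bˣ) : B) := by
  obtain ⟨k, a, hka⟩ := IsLocalization.Away.surj (PowerSeries.X : PowerSeries S) y
  refine ⟨k + K, Nat.le_add_left _ _, X ^ K * a, ?_⟩
  have hka' : y * ((u ^ (k : ℤ) : Bˣ) : B) = algebraMap (PowerSeries S) B a := by
    rw [u_pow u hu, map_pow]; exact hka
  rw [map_mul, ← hka', ← u_pow u hu]
  have : ((u ^ (K : ℤ) : Bˣ) : B) * (y * ((u ^ (k : ℤ) : Bˣ) : B))
      * ((u ^ (-((k + K : ℕ) : ℤ)) : Bˣ) : B)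
      = y * (((u ^ (K : ℤ) * u ^ (k : ℤ) * u ^ (-((k + K : ℕ) : ℤ)) : Bˣ)) : B) := by
    simp only [Units.val_mul]
    ring
  rw [this, ← zpow_add, ← zpow_add]
  have : (K : ℤ) + (k : ℤ) + -((k + K : ℕ) : ℤ) = 0 := by push_cast; ring
  rw [this, zpow_zero, Units.val_one, mul_one]

theorem mem_range_mul_zpow_neg_iff (a : PowerSeries S) (k : ℕ) :
    algebraMap (PowerSeries S) B a * ((u ^ (-(k : ℤ)) : Bˣ) : B) ∈ (algebraMap (PowerSeries S) B).range
      ↔ X ^ k ∣ a := by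
  constructor
  · rintro ⟨a', ha'⟩
    refine ⟨a', ?_⟩
    apply inj (B := B)
    rw [map_mul, ← u_pow u hu, ha', mul_comm (((u ^ (k : ℤ) : Bˣ)) : B), mul_assoc, ← Units.val_mul,
      ← zpow_add, neg_add_cancel, zpow_zero, Units.val_one, mul_one]
  · rintro ⟨a', rfl⟩
    exact ⟨a', (map_mul_zpow_neg u hu a' k).symm⟩

theorem zpow_mem_range (j : ℤ) (hj : 0 ≤ j) :
    ((u ^ j : Bˣ) : B) ∈ (algebraMap (PowerSeries S) B).range := by
  obtain ⟨k, rfl⟩ := Int.eq_ofNat_of_zero_le hj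
  exact ⟨X ^ k, (u_pow u hu k).symm⟩

/-- `S⟦X⟧` is closed under extraction of roots inside `S⟦X⟧[1/X]`. -/
theorem hcl (y : B) (N : ℕ) (hN : N ≠ 0) (h : y ^ N ∈ (algebraMap (PowerSeries S) B).range) :
    y ∈ (algebraMap (PowerSeries S) B).range := by
  obtain ⟨k, -, a, rfl⟩ := exists_rep u hu y 0
  rw [mem_range_mul_zpow_neg_iff u hu]
  have h1 : (algebraMap (PowerSeries S) B a * ((u ^ (-(k : ℤ)) : Bˣ) : B)) ^ N
      = algebraMap (PowerSeries S) B (a ^ N) * ((u ^ (-((k * N : ℕ) : ℤ)) : Bˣ) : B) := by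
    rw [mul_pow, map_pow, ← Units.val_pow_eq_pow_val, ← zpow_natCast, ← zpow_mul]
    congr 3
    push_cast
    ring
  rw [h1, mem_range_mul_zpow_neg_iff u hu] at h
  exact D1 PowerSeries.X_prime k N hN h

theorem const_mul_inv (σ : S)
    (h : algebraMap (PowerSeries S) B (C σ) * ((u⁻¹ : Bˣ) : B)
      ∈ (algebraMap (PowerSeries S) B).range) : σ = 0 := by
  have h1 : ((u⁻¹ : Bˣ) : B) = ((u ^ (-((1 : ℕ) : ℤ)) : Bˣ) : B) := by simp
  rw [h1, mem_range_mul_zpow_neg_iff u hu, pow_one, PowerSeries.X_dvd_iff] at h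
  simpa using h

theorem exists_const (t : B) (ht : t ∈ (algebraMap (PowerSeries S) B).range) :
    ∃ σ : S, (t - algebraMap (PowerSeries S) B (C σ)) * ((u⁻¹ : Bˣ) : B)
      ∈ (algebraMap (PowerSeries S) B).range := by
  obtain ⟨a, rfl⟩ := ht
  refine ⟨constantCoeff a, ?_⟩
  have h1 : ((u⁻¹ : Bˣ) : B) = ((u ^ (-((1 : ℕ) : ℤ)) : Bˣ) : B) := by simp
  rw [h1, ← map_sub, mem_range_mul_zpow_neg_iff u hu, pow_one, PowerSeries.X_dvd_iff]
  simp

/-- integrality of the `X`-adic valuation -/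
theorem integrality (y : B) (q : ℕ) (hq0 : q ≠ 0) (i : ℤ) (hi : ¬ (q : ℤ) ∣ i)
    (h : y ^ q * ((u ^ (-i) : Bˣ) : B) ∈ (algebraMap (PowerSeries S) B).range) :
    y ^ q * ((u ^ (-i - 1) : Bˣ) : B) ∈ (algebraMap (PowerSeries S) B).range := by
  obtain ⟨k, hk, a, rfl⟩ := exists_rep u hu y (i.natAbs + 1)
  have hJ : 0 ≤ (k : ℤ) * q + i := by
    have h1 : (i.natAbs : ℤ) + 1 ≤ k := by exact_mod_cast hk
    have h2 : (k : ℤ) ≤ (k : ℤ) * q := by
      have : (1 : ℤ) ≤ q := by exact_mod_cast Nat.pos_of_ne_zero hq0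
      nlinarith
    have h3 : -(i.natAbs : ℤ) ≤ i := by
      rw [← Int.abs_eq_natAbs]; exact neg_abs_le i
    omega
  obtain ⟨J, hJ'⟩ := Int.eq_ofNat_of_zero_le hJ
  have e1 : ∀ r : ℤ, (algebraMap (PowerSeries S) B a * ((u ^ (-(k : ℤ)) : Bˣ) : B)) ^ q
      * ((u ^ r : Bˣ) : B)
      = algebraMap (PowerSeries S) B (a ^ q) * ((u ^ (-((k : ℤ) * q) + r) : Bˣ) : B) := by
    intro r
    rw [mul_pow, map_pow, ← Units.val_pow_eq_pow_val, ← zpow_natCast, ← zpow_mul, mul_assoc,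
      ← Units.val_mul, ← zpow_add]
    congr 4
    ring
  rw [e1] at h ⊢
  have e2 : -((k : ℤ) * q) + -i = -((J : ℕ) : ℤ) := by omega
  have e3 : -((k : ℤ) * q) + (-i - 1) = -((J + 1 : ℕ) : ℤ) := by push_cast; omega
  rw [e2, mem_range_mul_zpow_neg_iff u hu] at h
  rw [e3, mem_range_mul_zpow_neg_iff u hu]
  apply D2 PowerSeries.X_prime J q _ h
  intro hdvd
  apply hi
  have : (q : ℤ) ∣ (J : ℤ) := by exact_mod_cast hdvd
  have h4 : i = (J : ℤ) - (k : ℤ) * q := by omega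
  rw [h4]
  exact dvd_sub this (Dvd.intro_left _ rfl)

end Groth.Agent.Helper6.PSLoc
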