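import Groth.Prelude.Def_W4c1imperftorsorsPerf
import Mathlib

set_option linter.unusedSectionVars false
set_option autoImplicit false
set_option maxHeartbeats 400000

noncomputable section

universe u v w

namespace Groth.Agent.Lib.Helper6.PerfTorsor

open TensorProduct W4c1imperftorsors Polynomial

section general

variable (p : ℕ) [Fact p.Prime] (R : Type u) [CommRing R] [CharP R p]
  (A : Type v) [CommRing A] [Algebra R A] (i : ℕ)

/-- The pure tensor `r ⊗ a` in the `i`-th twist. -/
def tm (r : R) (a : A) : Twist p R A i := r ⊗ₜ[Src p R i] ((aEquiv p R A i).symm a)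

theorem tm_smul (s r : R) (a : A) :
    tm p R A i r (algebraMap R A s * a) = tm p R A i (s ^ (p ^ i) * r) a := by
  have h := TensorProduct.smul_tmul (R := Src p R i) (R' := Src p R i)
    ((srcEquiv p R i).symm s) r ((aEquiv p R A i).symm a)
  exact h.symm

theorem tm_add_left (r r' : R) (a : A) :
    tm p R A i (r + r') a = tm p R A i r a + tm p R A i r' a :=
  TensorProduct.add_tmul _ _ _

theorem tm_add_right (r : R) (a a' : A) :
    tm p R A i r (a + a') = tm p R A i r a + tm p R A i r a' :=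
  TensorProduct.tmul_add _ _ _

theorem tm_zero_left (a : A) : tm p R A i 0 a = 0 := TensorProduct.zero_tmul _ _

theorem tm_zero_right (r : R) : tm p R A i r 0 = 0 := TensorProduct.tmul_zero _ _

theorem algebraMap_eq_tm (r : R) : algebraMap R (Twist p R A i) r = tm p R A i r 1 := by
  rw [Algebra.TensorProduct.algebraMap_apply]
  rfl

theorem induction_tm {motive : Twist p R A i → Prop} (h0 : motive 0)
    (htm : ∀ r a, motive (tm p R A i r a))
    (hadd : ∀ x y, motive x → motive y → motive (x + y)) (x : Twist p R A i) : motive x := by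
  induction x using TensorProduct.induction_on with
  | zero => exact h0
  | tmul r a => exact htm r ((aEquiv p R A i) a)
  | add x y hx hy => exact hadd x y hx hy

variable {T : Type w} [CommRing T]

/-- The additive map `r ⊗ a ↦ f r * g a` out of the `i`-th twist. -/
def Phi (f : R →+* T) (g : A →+* T) (hfg : ∀ s, g (algebraMap R A s) = f (s ^ p ^ i)) :
    Twist p R A i →+ T :=
  TensorProduct.liftAddHom
    (((AddMonoidHom.mul (R := T)).comp f.toAddMonoidHom).compl₂
      (g.toAddMonoidHom.comp (aEquiv p R A i).toAddMonoidHom))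
    (by
      intro s r a
      change f (algebraMap (Src p R i) R s * r) * g (aEquiv p R A i a) =
        f r * g (aEquiv p R A i (algebraMap (Src p R i) (ASrc p R A i) s * a))
      rw [algebraMap_src, algebraMap_aSrc, map_mul, map_mul, map_mul, RingEquiv.apply_symm_apply,
        hfg]
      ring)

theorem Phi_tm (f : R →+* T) (g : A →+* T) (hfg : ∀ s, g (algebraMap R A s) = f (s ^ p ^ i))
    (r : R) (a : A) : Phi p R A i f g hfg (tm p R A i r a) = f r * g a := rfl

variable [CharP A p]

theorem relFrob_tm (r : R) (a : A) :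
    relFrob p R A i (tm p R A (i + 1) r a) = tm p R A i r (a ^ p) := by
  change relFrobAux p R A i (r ⊗ₜ[Src p R (i + 1)] ((aEquiv p R A (i + 1)).symm a)) = _
  rw [relFrobAux, Algebra.TensorProduct.lift_tmul]
  change algebraMap R (Twist p R A i) r * ((1 : R) ⊗ₜ[Src p R i] ((aEquiv p R A i).symm (a ^ p)))
    = _
  rw [Algebra.TensorProduct.algebraMap_apply, Algebra.TensorProduct.tmul_mul_tmul, one_mul]
  simp [tm]

theorem mem_prePerf_iff (x : Π j : ℕ, Twist p R A j) :
    x ∈ prePerf p R A ↔ ∀ j, relFrob p R A j (x (j + 1)) = x j := by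
  unfold prePerf
  rw [Algebra.mem_iInf]
  exact forall_congr' fun j => AlgHom.mem_equalizer _ _ _

end general


section specific

variable (p : ℕ) [Fact p.Prime] (R : Type u) [CommRing R] [CharP R p] (u v : R)

/-- The ideal `(uX, X² − v²)` of `R[X]`. -/
abbrev II : Ideal R[X] := Ideal.span {(C u * X : R[X]), X ^ 2 - C (v ^ 2)}

/-- The algebra `B = R[α]/(uα, α² − v²)`. -/
abbrev BB : Type u := R[X] ⧸ II R u v

/-- The class `α` of `X`. -/
def al : BB R u v := Ideal.Quotient.mk (II R u v) X

theorem algebraMap_BB (c : R) :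
    algebraMap R (BB R u v) c = Ideal.Quotient.mk (II R u v) (C c) := rfl

theorem u_al : algebraMap R (BB R u v) u * al R u v = 0 := by
  rw [algebraMap_BB, al, ← map_mul, Ideal.Quotient.eq_zero_iff_mem]
  exact Ideal.subset_span (by simp)

theorem al_sq : al R u v ^ 2 = algebraMap R (BB R u v) (v ^ 2) := by
  rw [algebraMap_BB, al, ← map_pow, ← sub_eq_zero, ← map_sub, Ideal.Quotient.eq_zero_iff_mem]
  exact Ideal.subset_span (by simp)

theorem al_pow_succ (n : ℕ) : ∃ c₁ c₂ : R, al R u v ^ n =
    algebraMap R (BB R u v) c₁ + algebraMap R (BB R u v) c₂ * al R u v := by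
  induction n with
  | zero => exact ⟨1, 0, by simp⟩
  | succ n ih =>
    obtain ⟨c₁, c₂, h⟩ := ih
    refine ⟨c₂ * v ^ 2, c₁, ?_⟩
    rw [pow_succ, h, add_mul, mul_assoc, ← pow_two, al_sq, map_mul]
    ring

theorem exists_repr (b : BB R u v) : ∃ c₁ c₂ : R, b =
    algebraMap R (BB R u v) c₁ + algebraMap R (BB R u v) c₂ * al R u v := by
  obtain ⟨f, rfl⟩ := Ideal.Quotient.mk_surjective b
  induction f using Polynomial.induction_on' with
  | add f g hf hg =>
    obtain ⟨c₁, c₂, h⟩ := hf
    obtain ⟨d₁, d₂, h'⟩ := hg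
    refine ⟨c₁ + d₁, c₂ + d₂, ?_⟩
    rw [map_add, h, h', map_add, map_add]
    ring
  | monomial n a =>
    obtain ⟨c₁, c₂, h⟩ := al_pow_succ R u v n
    refine ⟨a * c₁, a * c₂, ?_⟩
    rw [← C_mul_X_pow_eq_monomial, map_mul, map_pow, ← algebraMap_BB]
    change algebraMap R (BB R u v) a * al R u v ^ n = _
    rw [h, map_mul, map_mul]
    ring

theorem al_pow_p (hp : p ≠ 2) : al R u v ^ p =
    algebraMap R (BB R u v) (v ^ (p - 1)) * al R u v := by
  obtain ⟨m, hm⟩ := ((Fact.out : p.Prime).eq_two_or_odd'.resolve_left hp)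
  have h1 : p - 1 = 2 * m := by omega
  rw [h1, hm, pow_succ, pow_mul, al_sq, pow_mul, map_pow, map_pow, map_pow]

/-- The retraction `B → R`, `α ↦ v ^ p ^ i`, semilinear along the `i`-th Frobenius. -/
def gEps (huv : u * v = 0) (i : ℕ) : BB R u v →+* R :=
  Ideal.Quotient.lift (II R u v) (eval₂RingHom (iterateFrobenius R p i) (v ^ p ^ i)) (by
    intro f hf
    have hle : II R u v ≤ RingHom.ker (eval₂RingHom (iterateFrobenius R p i) (v ^ p ^ i)) := by
      rw [Ideal.span_le]
      intro g hg
      rcases hg with rfl | hg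
      · rw [SetLike.mem_coe, RingHom.mem_ker]
        simp only [coe_eval₂RingHom, eval₂_mul, eval₂_C, eval₂_X, iterateFrobenius_def]
        rw [← mul_pow, huv, zero_pow (pow_ne_zero _ (Fact.out : p.Prime).ne_zero)]
      · rw [Set.mem_singleton_iff] at hg
        subst hg
        rw [SetLike.mem_coe, RingHom.mem_ker]
        simp only [coe_eval₂RingHom, eval₂_sub, eval₂_pow, eval₂_C, eval₂_X, iterateFrobenius_def]
        ring
    exact hle hf)

theorem gEps_algebraMap (huv : u * v = 0) (i : ℕ) (s : R) :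
    gEps p R u v huv i (algebraMap R (BB R u v) s) = s ^ p ^ i := by
  rw [algebraMap_BB, gEps, Ideal.Quotient.lift_mk]
  simp [iterateFrobenius_def]


/-- `R / (u ^ p ^ i)`. -/
abbrev Rbar (i : ℕ) : Type u := R ⧸ Ideal.span {u ^ p ^ i}

/-- The monic polynomial `X² − v^(2 p^i)` over `R / (u ^ p ^ i)`. -/
def qq (i : ℕ) : (Rbar p R u i)[X] :=
  X ^ 2 - C (Ideal.Quotient.mk (Ideal.span {u ^ p ^ i}) ((v ^ 2) ^ p ^ i))

theorem qq_monic (i : ℕ) : (qq p R u v i).Monic := monic_X_pow_sub_C _ two_ne_zero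

/-- `R → (R / u ^ p ^ i)[X] / (X² − v ^ (2 p ^ i))`. -/
def fT (i : ℕ) : R →+* AdjoinRoot (qq p R u v i) :=
  (AdjoinRoot.of (qq p R u v i)).comp (Ideal.Quotient.mk (Ideal.span {u ^ p ^ i}))

theorem fT_u (i : ℕ) : fT p R u v i (u ^ p ^ i) = 0 := by
  rw [fT, RingHom.comp_apply, Ideal.Quotient.eq_zero_iff_mem.2
    (Ideal.mem_span_singleton_self _), map_zero]

theorem root_sq (i : ℕ) : AdjoinRoot.root (qq p R u v i) ^ 2 = fT p R u v i ((v ^ 2) ^ p ^ i) := by
  have h : AdjoinRoot.mk (qq p R u v i)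
      (X ^ 2 - C (Ideal.Quotient.mk (Ideal.span {u ^ p ^ i}) ((v ^ 2) ^ p ^ i))) = 0 :=
    AdjoinRoot.mk_self
  rw [map_sub, AdjoinRoot.mk_C, sub_eq_zero, map_pow (AdjoinRoot.mk _) X, AdjoinRoot.mk_X] at h
  exact h

/-- `B → (R / u ^ p ^ i)[X] / (X² − v ^ (2 p ^ i))`, `α ↦ X`, semilinear along Frobenius. -/
def gT (i : ℕ) : BB R u v →+* AdjoinRoot (qq p R u v i) :=
  Ideal.Quotient.lift (II R u v)
    (eval₂RingHom ((fT p R u v i).comp (iterateFrobenius R p i)) (AdjoinRoot.root (qq p R u v i)))
    (by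
      intro f hf
      have hle : II R u v ≤ RingHom.ker (eval₂RingHom ((fT p R u v i).comp
          (iterateFrobenius R p i)) (AdjoinRoot.root (qq p R u v i))) := by
        rw [Ideal.span_le]
        intro g hg
        rcases hg with rfl | hg
        · rw [SetLike.mem_coe, RingHom.mem_ker]
          simp only [coe_eval₂RingHom, eval₂_mul, eval₂_C, eval₂_X, RingHom.comp_apply,
            iterateFrobenius_def]
          rw [fT_u, zero_mul]
        · rw [Set.mem_singleton_iff] at hg
          subst hg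
          rw [SetLike.mem_coe, RingHom.mem_ker]
          simp only [coe_eval₂RingHom, eval₂_sub, eval₂_pow, eval₂_C, eval₂_X,
            RingHom.comp_apply, iterateFrobenius_def]
          rw [root_sq, sub_self]
      exact hle hf)

theorem gT_algebraMap (i : ℕ) (s : R) :
    gT p R u v i (algebraMap R (BB R u v) s) = fT p R u v i (s ^ p ^ i) := by
  rw [algebraMap_BB, gT, Ideal.Quotient.lift_mk]
  simp [iterateFrobenius_def]

theorem gT_al (i : ℕ) : gT p R u v i (al R u v) = AdjoinRoot.root (qq p R u v i) := by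
  rw [al, gT, Ideal.Quotient.lift_mk]
  simp

theorem gEps_al (huv : u * v = 0) (i : ℕ) : gEps p R u v huv i (al R u v) = v ^ p ^ i := by
  rw [al, gEps, Ideal.Quotient.lift_mk]
  simp

theorem mem_of_fT_eq_zero (i : ℕ) (a b : R)
    (h : fT p R u v i a + fT p R u v i b * AdjoinRoot.root (qq p R u v i) = 0) :
    b ∈ Ideal.span {u ^ p ^ i} := by
  rcases subsingleton_or_nontrivial (Rbar p R u i) with hs | hn
  · exact Ideal.Quotient.eq_zero_iff_mem.1 (Subsingleton.elim _ _)
  · rw [← Ideal.Quotient.eq_zero_iff_mem]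
    set a' := Ideal.Quotient.mk (Ideal.span {u ^ p ^ i}) a with ha'
    set b' := Ideal.Quotient.mk (Ideal.span {u ^ p ^ i}) b with hb'
    have h1 : AdjoinRoot.mk (qq p R u v i) (C b' * X + C a') = 0 := by
      rw [map_add, map_mul, AdjoinRoot.mk_C, AdjoinRoot.mk_C, AdjoinRoot.mk_X, add_comm]
      exact h
    rw [AdjoinRoot.mk_eq_zero] at h1
    by_contra hb
    have hne : (C b' * X + C a' : (Rbar p R u i)[X]) ≠ 0 := by
      intro h0
      apply hb
      have := congrArg (fun f => coeff f 1) h0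
      simpa using this
    refine (qq_monic p R u v i).not_dvd_of_natDegree_lt hne ?_ h1
    have h2 : (qq p R u v i).natDegree = 2 := natDegree_X_pow_sub_C
    rw [h2]
    exact lt_of_le_of_lt (natDegree_linear_le) (by norm_num)

section main

variable (hp : p ≠ 2) (huv : u * v = 0) [CharP (BB R u v) p]

/-- The retraction of the `i`-th twist onto `R`. -/
def ret (huv : u * v = 0) (i : ℕ) : Twist p R (BB R u v) i →+ R :=
  Phi p R (BB R u v) i (RingHom.id R) (gEps p R u v huv i) (gEps_algebraMap p R u v huv i)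

/-- The map of the `i`-th twist to `(R / u ^ p ^ i)[X] / (X² − v ^ (2 p ^ i))`. -/
def PhiT (i : ℕ) : Twist p R (BB R u v) i →+ AdjoinRoot (qq p R u v i) :=
  Phi p R (BB R u v) i (fT p R u v i) (gT p R u v i) (gT_algebraMap p R u v i)

theorem exists_tm_repr (i : ℕ) (y : Twist p R (BB R u v) i) : ∃ a b : R,
    y = tm p R (BB R u v) i a 1 + tm p R (BB R u v) i b (al R u v) := by
  induction y using induction_tm with
  | h0 => exact ⟨0, 0, by rw [tm_zero_left, tm_zero_left, add_zero]⟩
  | htm r b =>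
    obtain ⟨c₁, c₂, h⟩ := exists_repr R u v b
    refine ⟨c₁ ^ p ^ i * r, c₂ ^ p ^ i * r, ?_⟩
    rw [← tm_smul, ← tm_smul, ← tm_add_right, mul_one, ← h]
  | hadd x y hx hy =>
    obtain ⟨a, b, h⟩ := hx
    obtain ⟨a', b', h'⟩ := hy
    refine ⟨a + a', b + b', ?_⟩
    rw [h, h', tm_add_left, tm_add_left]
    abel

theorem sub_mem_of_eq (i : ℕ) (a b a' b' : R)
    (h : tm p R (BB R u v) i a 1 + tm p R (BB R u v) i b (al R u v) =
      tm p R (BB R u v) i a' 1 + tm p R (BB R u v) i b' (al R u v)) :
    b - b' ∈ Ideal.span {u ^ p ^ i} := by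
  have h1 := congrArg (PhiT p R u v i) h
  rw [map_add, map_add, PhiT, Phi_tm, Phi_tm, Phi_tm, Phi_tm, map_one, mul_one, mul_one,
    gT_al] at h1
  apply mem_of_fT_eq_zero p R u v i (a - a') (b - b')
  rw [map_sub, map_sub, sub_mul]
  linear_combination h1

include hp huv in
theorem main
    (hsep : ∀ N : ℕ, 1 ≤ N → ∀ g : R,
      (∀ n : ℕ, g ∈ Ideal.span {v ^ n} ⊔ Ideal.span {u ^ N}) → g ∈ Ideal.span {u ^ N}) :
    Function.Bijective (algebraMap R ↥(prePerf p R (BB R u v))) := by
  have hpp : (Fact.out : p.Prime) = (Fact.out : p.Prime) := rfl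
  have hp1 : 1 ≤ p - 1 := by have := (Fact.out : p.Prime).two_le; omega
  have hret : ∀ (i : ℕ) (a a' : R), tm p R (BB R u v) i a 1 = tm p R (BB R u v) i a' 1 →
      a = a' := by
    intro i a a' h
    have h1 := congrArg (ret p R u v huv i) h
    rw [ret, Phi_tm, Phi_tm, map_one, mul_one, mul_one] at h1
    exact h1
  constructor
  · intro a a' h
    have h0 : algebraMap R (Twist p R (BB R u v) 0) a = algebraMap R (Twist p R (BB R u v) 0) a' :=
      congrArg (fun x : ↥(prePerf p R (BB R u v)) => x.1 0) h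
    rw [algebraMap_eq_tm, algebraMap_eq_tm] at h0
    exact hret 0 a a' h0
  · rintro ⟨x, hx⟩
    rw [mem_prePerf_iff] at hx
    have hrep : ∀ i, ∃ a b : R,
        x i = tm p R (BB R u v) i a 1 + tm p R (BB R u v) i b (al R u v) :=
      fun i => exists_tm_repr p R u v i (x i)
    choose a b hab using hrep
    have hstep : ∀ i, relFrob p R (BB R u v) i (x (i + 1)) =
        tm p R (BB R u v) i (a (i + 1)) 1 +
          tm p R (BB R u v) i ((v ^ (p - 1)) ^ p ^ i * b (i + 1)) (al R u v) := by
      intro i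
      rw [hab (i + 1), map_add, relFrob_tm, relFrob_tm, one_pow, al_pow_p p R u v hp, tm_smul]
    have hb : ∀ i, (v ^ (p - 1)) ^ p ^ i * b (i + 1) - b i ∈ Ideal.span {u ^ p ^ i} := by
      intro i
      apply sub_mem_of_eq p R u v i (a (i + 1)) _ (a i) _
      rw [← hstep, hx i, hab i]
    have hbn : ∀ n i, b i ∈ Ideal.span {v ^ n} ⊔ Ideal.span {u ^ p ^ i} := by
      intro n
      induction n with
      | zero =>
        intro i
        rw [pow_zero, Ideal.span_singleton_one, top_sup_eq]
        trivial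
      | succ n ih =>
        intro i
        have h1 : b i = (v ^ (p - 1)) ^ p ^ i * b (i + 1) -
            ((v ^ (p - 1)) ^ p ^ i * b (i + 1) - b i) := by ring
        rw [h1]
        refine sub_mem ?_ (Ideal.mem_sup_right (hb i))
        obtain ⟨y, hy, z, hz, hyz⟩ := Submodule.mem_sup.1 (ih (i + 1))
        rw [← hyz, mul_add]
        refine add_mem (Ideal.mem_sup_left ?_) (Ideal.mem_sup_right ?_)
        · obtain ⟨c, rfl⟩ := Ideal.mem_span_singleton'.1 hy
          rw [Ideal.mem_span_singleton']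
          have hpos : 1 ≤ (p - 1) * p ^ i :=
            Nat.one_le_iff_ne_zero.2 (Nat.mul_ne_zero (by omega)
              (pow_ne_zero _ (Fact.out : p.Prime).ne_zero))
          refine ⟨c * v ^ ((p - 1) * p ^ i - 1), ?_⟩
          rw [← pow_mul]
          have h2 : (p - 1) * p ^ i = ((p - 1) * p ^ i - 1) + 1 := by omega
          conv_rhs => rw [h2]
          ring
        · have hle : Ideal.span {u ^ p ^ (i + 1)} ≤ Ideal.span {u ^ p ^ i} :=
            Ideal.span_singleton_le_span_singleton.2
              (pow_dvd_pow u (Nat.pow_le_pow_right (Fact.out : p.Prime).pos (Nat.le_succ i)))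
          exact Ideal.mul_mem_left _ _ (hle hz)
    have hbz : ∀ i, b i ∈ Ideal.span {u ^ p ^ i} := fun i =>
      hsep (p ^ i) (Nat.one_le_pow _ _ (Fact.out : p.Prime).pos) (b i) (fun n => hbn n i)
    have hbα : ∀ i, tm p R (BB R u v) i (b i) (al R u v) = 0 := by
      intro i
      obtain ⟨c, hc⟩ := Ideal.mem_span_singleton'.1 (hbz i)
      rw [← hc, mul_comm, ← tm_smul, u_al, tm_zero_right]
    have hx' : ∀ i, x i = tm p R (BB R u v) i (a i) 1 := by
      intro i
      rw [hab i, hbα i, add_zero]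
    have ha : ∀ i, a (i + 1) = a i := by
      intro i
      apply hret i
      have h2 := hx i
      rw [hx' (i + 1), hx' i, relFrob_tm, one_pow] at h2
      exact h2
    have ha0 : ∀ i, a i = a 0 := by
      intro i
      induction i with
      | zero => rfl
      | succ i ih => rw [ha i, ih]
    refine ⟨a 0, Subtype.ext (funext fun i => ?_)⟩
    change algebraMap R (Twist p R (BB R u v) i) (a 0) = x i
    rw [algebraMap_eq_tm, hx' i, ha0 i]

end main

end specific

end Groth.Agent.Lib.Helper6.PerfTorsor
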