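import Mathlib

/-!
Picard group and nilpotent thickenings: `Pic R → Pic (R ⧸ I)` is bijective for `I` nilpotent.
-/

namespace Groth.Agent.Helper6.PicNil

open TensorProduct Module

universe u

section
variable {R : Type u} [CommRing R] (I : Ideal R)

/-- Nakayama for a nilpotent ideal (no finiteness). -/
theorem eq_top_of_sup_smul (hI : IsNilpotent I) {M : Type*} [AddCommGroup M] [Module R M]
    (N : Submodule R M) (h : N ⊔ I • (⊤ : Submodule R M) = ⊤) : N = ⊤ := by
  obtain ⟨k, hk⟩ := hI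
  have key : ∀ j : ℕ, N ⊔ (I ^ j) • (⊤ : Submodule R M) = ⊤ := by
    intro j
    induction j with
    | zero => simp
    | succ j ih =>
      rw [eq_top_iff]
      calc (⊤ : Submodule R M) = N ⊔ I • (⊤ : Submodule R M) := h.symm
        _ = N ⊔ I • (N ⊔ (I ^ j) • (⊤ : Submodule R M)) := by rw [ih]
        _ = N ⊔ (I • N ⊔ I • ((I ^ j) • (⊤ : Submodule R M))) := by rw [Submodule.smul_sup]
        _ ≤ N ⊔ (I ^ (j+1)) • (⊤ : Submodule R M) := by
          rw [← mul_smul, ← pow_succ']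
          exact sup_le le_sup_left
            (sup_le (le_sup_of_le_left Submodule.smul_le_right) le_sup_right)
  have := key k
  rw [hk] at this
  simpa using this

theorem exists_one_tmul {M : Type*} [AddCommGroup M] [Module R M] (z : (R ⧸ I) ⊗[R] M) :
    ∃ m : M, z = 1 ⊗ₜ m := by
  induction z using TensorProduct.induction_on with
  | zero => exact ⟨0, by simp⟩
  | tmul a x =>
    obtain ⟨r, rfl⟩ := Ideal.Quotient.mk_surjective a
    refine ⟨r • x, ?_⟩
    rw [← TensorProduct.smul_tmul]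
    congr 1
    simp [Algebra.smul_def]
  | add x y hx hy =>
    obtain ⟨a, rfl⟩ := hx
    obtain ⟨b, rfl⟩ := hy
    exact ⟨a + b, by rw [tmul_add]⟩

theorem one_tmul_eq_zero {M : Type*} [AddCommGroup M] [Module R M] (m : M)
    (h : (1 : R ⧸ I) ⊗ₜ[R] m = 0) : m ∈ I • (⊤ : Submodule R M) := by
  have := congrArg (quotTensorEquivQuotSMul M I) h
  rw [quotTensorEquivQuotSMul_mk_one_tmul, map_zero, Submodule.Quotient.mk_eq_zero] at this
  exact this

/-- Lemma Q: a projective module whose reduction mod a nilpotent ideal is free of rank one is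
free of rank one. -/
theorem nonempty_equiv_of_baseChange (hI : IsNilpotent I) (P : Type*) [AddCommGroup P] [Module R P]
    [Module.Projective R P] (e : (R ⧸ I) ⊗[R] P ≃ₗ[R ⧸ I] (R ⧸ I)) : Nonempty (P ≃ₗ[R] R) := by
  obtain ⟨p, hp⟩ := exists_one_tmul I (e.symm 1)
  have hp1 : e (1 ⊗ₜ p) = 1 := by rw [← hp]; simp
  have hsm : ∀ (r : R) (x : P), e (1 ⊗ₜ (r • x)) = Ideal.Quotient.mk I r * e (1 ⊗ₜ x) := by
    intro r x
    have : (1 : R ⧸ I) ⊗ₜ[R] (r • x) = (Ideal.Quotient.mk I r) • ((1 : R ⧸ I) ⊗ₜ[R] x) := by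
      rw [TensorProduct.smul_tmul', ← TensorProduct.smul_tmul]
      congr 1
    rw [this, map_smul, smul_eq_mul]
  let φ : R →ₗ[R] P := LinearMap.toSpanSingleton R P p
  have hφ : Function.Surjective φ := by
    rw [← LinearMap.range_eq_top]
    apply eq_top_of_sup_smul I hI
    rw [eq_top_iff]
    intro x _
    obtain ⟨r, hr⟩ := Ideal.Quotient.mk_surjective (e (1 ⊗ₜ x))
    have h0 : (1 : R ⧸ I) ⊗ₜ[R] (x - r • p) = 0 := by
      apply e.injective
      rw [tmul_sub, map_sub, hsm, hp1, mul_one, hr, sub_self, map_zero]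
    have hx : x = φ r + (x - r • p) := by simp [φ]
    rw [hx]
    exact Submodule.add_mem_sup ⟨r, rfl⟩ (one_tmul_eq_zero I _ h0)
  obtain ⟨ψ, hψ⟩ := Module.projective_lifting_property φ LinearMap.id hφ
  have hcp : ψ p • p = p := by
    have := LinearMap.congr_fun hψ p
    simpa [φ] using this
  have hcc : ψ p * ψ p = ψ p := by
    have h1 : ψ (ψ p • p) = ψ p • ψ p := map_smul ψ (ψ p) p
    rw [hcp, smul_eq_mul] at h1
    exact h1.symm
  have hc1 : Ideal.Quotient.mk I (ψ p) = 1 := by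
    have := hsm (ψ p) p
    rw [hcp, hp1, mul_one] at this
    exact this.symm
  have hc : ψ p = 1 := by
    have hmem : 1 - ψ p ∈ I := by
      rw [← Ideal.Quotient.eq_zero_iff_mem, map_sub, hc1, map_one, sub_self]
    have hid : IsIdempotentElem (1 - ψ p) := IsIdempotentElem.one_sub (show IsIdempotentElem (ψ p) from hcc)
    obtain ⟨k, hk⟩ := hI
    have hpow : (1 - ψ p) ^ (k + 1) ∈ I ^ k := by
      rw [pow_succ]
      exact Ideal.mul_mem_right _ _ (Ideal.pow_mem_pow hmem k)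
    rw [hk, hid.pow_succ_eq] at hpow
    have : 1 - ψ p = 0 := by simpa using hpow
    exact (sub_eq_zero.mp this).symm
  refine ⟨LinearEquiv.ofLinearMap ψ φ ?_ hψ⟩
  apply LinearMap.ext_ring
  simp [φ, hc]

/-- Two retracts of the same module cut out by the same idempotent are isomorphic. -/
theorem nonempty_equiv_of_retracts {A : Type*} [Ring A] {M N X : Type*} [AddCommGroup M]
    [AddCommGroup N] [AddCommGroup X] [Module A M] [Module A N] [Module A X]
    (i : M →ₗ[A] X) (r : X →ₗ[A] M) (j : N →ₗ[A] X) (s : X →ₗ[A] N)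
    (hri : r ∘ₗ i = .id) (hsj : s ∘ₗ j = .id) (h : i ∘ₗ r = j ∘ₗ s) : Nonempty (M ≃ₗ[A] N) := by
  refine ⟨LinearEquiv.ofLinearMap (s ∘ₗ i) (r ∘ₗ j) ?_ ?_⟩
  · calc (s ∘ₗ i) ∘ₗ (r ∘ₗ j) = s ∘ₗ (i ∘ₗ r) ∘ₗ j := by simp [LinearMap.comp_assoc]
      _ = s ∘ₗ (j ∘ₗ s) ∘ₗ j := by rw [h]
      _ = (s ∘ₗ j) ∘ₗ (s ∘ₗ j) := by simp [LinearMap.comp_assoc]
      _ = .id := by rw [hsj]; rfl
  · calc (r ∘ₗ j) ∘ₗ (s ∘ₗ i) = r ∘ₗ (j ∘ₗ s) ∘ₗ i := by simp [LinearMap.comp_assoc]
      _ = r ∘ₗ (i ∘ₗ r) ∘ₗ i := by rw [h]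
      _ = (r ∘ₗ i) ∘ₗ (r ∘ₗ i) := by simp [LinearMap.comp_assoc]
      _ = .id := by rw [hri]; rfl

theorem matrix_pow_mem {n : Type*} [Fintype n] [DecidableEq n] (x : Matrix n n R)
    (hx : ∀ a b, x a b ∈ I) (j : ℕ) : ∀ a b, (x ^ j) a b ∈ I ^ j := by
  induction j with
  | zero => intro a b; simp
  | succ j ih =>
    intro a b
    have h1 : x ^ (j + 1) = x ^ j * x := pow_succ x j
    have h2 : I ^ (j + 1) = I ^ j * I := pow_succ I j
    rw [h1, h2, Matrix.mul_apply]
    refine Ideal.sum_mem _ fun c _ => ?_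
    exact Ideal.mul_mem_mul (ih a c) (hx c b)

/-- Lemma P: finite projective modules lift along nilpotent thickenings. -/
theorem exists_lift_projective (hI : IsNilpotent I) (L : Type u) [AddCommGroup L]
    [Module (R ⧸ I) L] [Module.Finite (R ⧸ I) L] [Module.Projective (R ⧸ I) L] :
    ∃ (L' : Type u) (_ : AddCommGroup L') (_ : Module R L'), Module.Finite R L' ∧
      Module.Projective R L' ∧ Nonempty ((R ⧸ I) ⊗[R] L' ≃ₗ[R ⧸ I] L) := by
  classical
  obtain ⟨n, f, g, hf, hg, hfg⟩ := Module.Finite.exists_comp_eq_id_of_projective (R ⧸ I) L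
  set E : Matrix (Fin n) (Fin n) (R ⧸ I) := LinearMap.toMatrix' (g ∘ₗ f) with hE
  have hEid : IsIdempotentElem E := by
    unfold IsIdempotentElem
    rw [hE, ← LinearMap.toMatrix'_comp]
    congr 1
    rw [LinearMap.comp_assoc, ← LinearMap.comp_assoc f g f, hfg, LinearMap.id_comp]
  have hker : ∀ x ∈ RingHom.ker ((Ideal.Quotient.mk I).mapMatrix (m := Fin n)), IsNilpotent x := by
    intro x hx
    obtain ⟨k, hk⟩ := hI
    refine ⟨k, ?_⟩
    have hx' : ∀ a b, x a b ∈ I := by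
      intro a b
      rw [RingHom.mem_ker] at hx
      have := congrFun (congrFun hx a) b
      simpa [Ideal.Quotient.eq_zero_iff_mem] using this
    ext a b
    have := matrix_pow_mem I x hx' k a b
    rw [hk] at this
    simpa using this
  have hsurj : E ∈ ((Ideal.Quotient.mk I).mapMatrix (m := Fin n)).range := by
    rw [RingHom.mem_range]
    refine ⟨Matrix.of fun a b => Classical.choose (Ideal.Quotient.mk_surjective (E a b)), ?_⟩
    ext a b
    simpa using Classical.choose_spec (Ideal.Quotient.mk_surjective (E a b))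
  obtain ⟨E', hE'id, hE'⟩ := exists_isIdempotentElem_eq_of_ker_isNilpotent _ hker E hsurj hEid
  let L' : Submodule R (Fin n → R) := LinearMap.range (Matrix.toLin' E')
  let i0 : L' →ₗ[R] (Fin n → R) := L'.subtype
  let r0 : (Fin n → R) →ₗ[R] L' := (Matrix.toLin' E').rangeRestrict
  have hr0i0 : r0 ∘ₗ i0 = LinearMap.id := by
    ext ⟨v, w, rfl⟩ : 1
    apply Subtype.ext
    change Matrix.toLin' E' (Matrix.toLin' E' w) = Matrix.toLin' E' w
    rw [← LinearMap.comp_apply, ← Matrix.toLin'_mul, hE'id.eq]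
  have hi0r0 : i0 ∘ₗ r0 = Matrix.toLin' E' := by
    ext v : 1
    rfl
  refine ⟨L', inferInstance, inferInstance, ?_, ?_, ?_⟩
  · exact Module.Finite.range _
  · exact Module.Projective.of_split i0 r0 hr0i0
  · let psr := TensorProduct.piScalarRight R (R ⧸ I) (R ⧸ I) (Fin n)
    refine nonempty_equiv_of_retracts (LinearMap.baseChange (R ⧸ I) i0)
      (LinearMap.baseChange (R ⧸ I) r0) (psr.symm.toLinearMap ∘ₗ g) (f ∘ₗ psr.toLinearMap) ?_ ?_ ?_
    · rw [← LinearMap.baseChange_comp, hr0i0, LinearMap.baseChange_id]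
    · rw [LinearMap.comp_assoc, ← LinearMap.comp_assoc g, LinearEquiv.comp_coe,
        LinearEquiv.symm_trans_self, LinearEquiv.refl_toLinearMap, LinearMap.id_comp, hfg]
    · rw [← LinearMap.baseChange_comp, hi0r0]
      have key : psr.toLinearMap ∘ₗ LinearMap.baseChange (R ⧸ I) (Matrix.toLin' E') =
          (g ∘ₗ f) ∘ₗ psr.toLinearMap := by
        have hgf : g ∘ₗ f = Matrix.toLin' E := by rw [hE, Matrix.toLin'_toMatrix']
        rw [hgf, ← hE']
        apply TensorProduct.AlgebraTensorModule.ext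
        intro a v
        ext i
        simp [psr, Matrix.mulVec, dotProduct, Algebra.smul_def]
        rw [Finset.sum_mul]
        simp [mul_assoc]
      refine LinearMap.ext fun z => ?_
      have := LinearMap.congr_fun key z
      simp only [LinearMap.comp_apply, LinearEquiv.coe_coe] at this ⊢
      rw [← this, LinearEquiv.symm_apply_apply]

open CommRing in
theorem mapAlgebra_bijective (hI : IsNilpotent I) :
    Function.Bijective (Pic.mapAlgebra R (R ⧸ I)) := by
  constructor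
  · rw [injective_iff_map_eq_one]
    intro M hM
    rw [Pic.mapAlgebra_apply, Pic.mk_eq_one_iff] at hM
    obtain ⟨e⟩ := hM
    obtain ⟨e'⟩ := nonempty_equiv_of_baseChange I hI M e
    rw [← Pic.mk_eq_self (M := M), Pic.mk_eq_one_iff]
    exact ⟨e'⟩
  · intro L
    obtain ⟨L', _, _, hfin, hproj, ⟨eL⟩⟩ := exists_lift_projective I hI L
    obtain ⟨K', _, _, hfinK, hprojK, ⟨eK⟩⟩ := exists_lift_projective I hI (L⁻¹ : Pic (R ⧸ I))
    have hKL : Nonempty ((L⁻¹ : Pic (R ⧸ I)) ⊗[R ⧸ I] L ≃ₗ[R ⧸ I] (R ⧸ I)) := by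
      rw [← Pic.mk_eq_one_iff, Pic.mk_tensor, Pic.mk_eq_self, Pic.mk_eq_self, inv_mul_cancel]
    obtain ⟨eKL⟩ := hKL
    let e1 : (R ⧸ I) ⊗[R] (K' ⊗[R] L') ≃ₗ[R ⧸ I] (R ⧸ I) :=
      (AlgebraTensorModule.distribBaseChange R (R ⧸ I) K' L') ≪≫ₗ
        (TensorProduct.congr eK eL) ≪≫ₗ eKL
    obtain ⟨e2⟩ := nonempty_equiv_of_baseChange I hI (K' ⊗[R] L') e1
    have : Module.Invertible R L' := Module.Invertible.right e2
    refine ⟨Pic.mk R L', ?_⟩
    rw [Pic.mapAlgebra_apply, Pic.mk_eq_iff]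
    exact ⟨(AlgebraTensorModule.congr (.refl _ _) (Pic.mk.linearEquiv R L')) ≪≫ₗ eL⟩

end

end Groth.Agent.Helper6.PicNil
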