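import Mathlib

/-!
# Injectivity of the Plücker map in matrix form (helper6)
-/

open Matrix

universe u

namespace Groth.Agent.Lib.Helper6.PluckerInj

variable {K : Type u} [Field K] {d n : ℕ}

/-- Step 1: the minor relation for arbitrary row selections. -/
theorem minor_rel (A A' : Matrix (Fin n) (Fin d) K) (c : K)
    (h : ∀ θ : {a : Fin d → Fin n // StrictMono a},
      (A.submatrix θ.1 id).det = c * (A'.submatrix θ.1 id).det) (τ : Fin d → Fin n) :
    (A.submatrix τ id).det = c * (A'.submatrix τ id).det := by
  by_cases hinj : Function.Injective τ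
  · have hmono : Monotone (τ ∘ Tuple.sort τ) := Tuple.monotone_sort τ
    have hstrict : StrictMono (τ ∘ Tuple.sort τ) :=
      hmono.strictMono_of_injective (hinj.comp (Tuple.sort τ).injective)
    have key : ∀ B : Matrix (Fin n) (Fin d) K, (B.submatrix τ id).det =
        Equiv.Perm.sign (Tuple.sort τ)⁻¹ * (B.submatrix (τ ∘ Tuple.sort τ) id).det := by
      intro B
      rw [← Matrix.det_permute]
      congr 1
      ext i j
      simp [Matrix.submatrix_apply]
    rw [key A, key A', h ⟨_, hstrict⟩]
    ring
  · rw [Function.Injective] at hinj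
    push Not at hinj
    obtain ⟨i, j, hij, hne⟩ := hinj
    rw [Matrix.det_zero_of_row_eq hne, Matrix.det_zero_of_row_eq hne, mul_zero]
    · ext l
      simp [hij]
    · ext l
      simp [hij]

/-- Step 2: Cramer-type identity. -/
theorem mul_adjugate_submatrix (B : Matrix (Fin n) (Fin d) K) (τ : Fin d → Fin n)
    (i : Fin n) (l : Fin d) :
    (B * (B.submatrix τ id).adjugate) i l = (B.submatrix (Function.update τ l i) id).det := by
  have h1 : (B * (B.submatrix τ id).adjugate) i l =
      ((B.submatrix τ id)ᵀ.adjugate *ᵥ (B i)) l := by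
    rw [← Matrix.adjugate_transpose, Matrix.mul_apply, Matrix.mulVec, dotProduct]
    apply Finset.sum_congr rfl
    intro m _
    rw [Matrix.transpose_apply, mul_comm]
  rw [h1, ← Matrix.cramer_eq_adjugate_mulVec, Matrix.cramer_apply, ← Matrix.det_transpose]
  congr 1
  ext r s
  rw [Matrix.transpose_apply, Matrix.updateCol_apply, Matrix.submatrix_apply]
  by_cases hr : r = l
  · subst hr
    simp
  · simp [hr]

/-- Step 3: a matrix with independent columns has a nonzero maximal minor. -/
theorem exists_minor_ne_zero (B : Matrix (Fin n) (Fin d) K) (hB : LinearIndependent K B.transpose) :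
    ∃ τ : Fin d → Fin n, (B.submatrix τ id).det ≠ 0 := by
  have hrank : Module.finrank K (Submodule.span K (Set.range B.row)) = d := by
    rw [← Matrix.rank_eq_finrank_span_row, ← Matrix.rank_transpose,
      LinearIndependent.rank_matrix (M := Bᵀ) hB, Fintype.card_fin]
  obtain ⟨f, hf, -, hfind⟩ := Submodule.exists_fun_fin_finrank_span_eq K (Set.range B.row)
  choose τ' hτ' using hf
  let τ : Fin d → Fin n := fun l => τ' (Fin.cast hrank.symm l)
  refine ⟨τ, ?_⟩
  have hind : LinearIndependent K (B.submatrix τ id).row := by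
    have h1 : (B.submatrix τ id).row = f ∘ (Fin.cast hrank.symm) := by
      funext l
      show B.row (τ' (Fin.cast hrank.symm l)) = f (Fin.cast hrank.symm l)
      exact hτ' _
    rw [h1]
    exact hfind.comp _ (Fin.cast_injective _)
  rw [Matrix.linearIndependent_rows_iff_isUnit, Matrix.isUnit_iff_isUnit_det] at hind
  exact hind.ne_zero

/-- Step 4: one inclusion. -/
theorem span_le (A A' : Matrix (Fin n) (Fin d) K) (hA' : LinearIndependent K A'.transpose)
    (c : K) (hc : c ≠ 0)
    (h : ∀ τ : Fin d → Fin n, (A.submatrix τ id).det = c * (A'.submatrix τ id).det) :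
    Submodule.span K (Set.range A.transpose) ≤ Submodule.span K (Set.range A'.transpose) := by
  obtain ⟨τ, hτ⟩ := exists_minor_ne_zero A' hA'
  set G := A'.submatrix τ id with hG
  set H := A.submatrix τ id with hH
  have key1 : A' * G.adjugate = c⁻¹ • (A * H.adjugate) := by
    ext i l
    rw [Matrix.smul_apply, mul_adjugate_submatrix, mul_adjugate_submatrix, h, smul_eq_mul,
      ← mul_assoc, inv_mul_cancel₀ hc, one_mul]
  have key2 : A' * (G.adjugate * H) = G.det • A := by
    rw [← Matrix.mul_assoc, key1, Matrix.smul_mul, Matrix.mul_assoc, Matrix.adjugate_mul,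
      Matrix.mul_smul, Matrix.mul_one, smul_smul, hH, h τ, ← mul_assoc, inv_mul_cancel₀ hc,
      one_mul]
  have key3 : A = A' * (G.det⁻¹ • (G.adjugate * H)) := by
    rw [Matrix.mul_smul, key2, smul_smul, inv_mul_cancel₀ hτ, one_smul]
  rw [Submodule.span_le]
  rintro _ ⟨j, rfl⟩
  have : A.transpose j = ∑ m, (G.det⁻¹ • (G.adjugate * H)) m j • A'.transpose m := by
    funext i
    rw [Matrix.transpose_apply]
    conv_lhs => rw [key3]
    rw [Matrix.mul_apply, Finset.sum_apply]
    apply Finset.sum_congr rfl
    intro m _
    rw [Pi.smul_apply, Matrix.transpose_apply, smul_eq_mul, mul_comm]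
  rw [this]
  exact Submodule.sum_mem _ fun m _ =>
    Submodule.smul_mem _ _ (Submodule.subset_span ⟨m, rfl⟩)

/-- Injectivity of the Plücker map, matrix form. -/
theorem span_eq (A A' : Matrix (Fin n) (Fin d) K) (hA : LinearIndependent K A.transpose)
    (hA' : LinearIndependent K A'.transpose) (c : K) (hc : c ≠ 0)
    (h : ∀ θ : {a : Fin d → Fin n // StrictMono a},
      (A.submatrix θ.1 id).det = c * (A'.submatrix θ.1 id).det) :
    Submodule.span K (Set.range A.transpose) = Submodule.span K (Set.range A'.transpose) := by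
  have h1 := minor_rel A A' c h
  apply le_antisymm
  · exact span_le A A' hA' c hc h1
  · apply span_le A' A hA c⁻¹ (inv_ne_zero hc)
    intro τ
    rw [h1 τ, ← mul_assoc, inv_mul_cancel₀ hc, one_mul]

end Groth.Agent.Lib.Helper6.PluckerInj
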