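import Groth.Agent.Lib.Helper6.W2Ghost
import Groth.Agent.S13137

/-!
# Frobenius lifts on `W₂(k)[x]/J'` (helper for S13138)
-/

set_option autoImplicit false
set_option linter.unusedSectionVars false
set_option linter.style.haveILetI false
universe u
open FrobAlg MvPolynomial

namespace Groth.Agent.Lib.Helper6.W2Arith

section Poly

variable (p : ℕ) [hp : Fact p.Prime] (k : Type u) [Field k] [CharP k p] [PerfectRing k p] {n : ℕ}

local notation "W" => W2 p k
local notation "R'" => MvPolynomial (Fin n) (W2 p k)

theorem pR_sq : (p : R') * (p : R') = 0 := by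
  have := congrArg (C : W →+* R') (p_mul_p p k)
  simpa using this

theorem p_mul_add_pow (a b : R') : (p : R') * (a + b) ^ p = (p : R') * (a ^ p + b ^ p) := by
  obtain ⟨r, hr⟩ := exists_add_pow_prime_eq hp.out a b
  rw [hr, mul_add ((p : R')) (a ^ p + b ^ p), ← mul_assoc, ← mul_assoc, ← mul_assoc, pR_sq,
    zero_mul, zero_mul, zero_mul, add_zero]

theorem sigma_sub_pow_mem (c : W) : sigma p k c - c ^ p ∈ Ideal.span {(p : W)} := by
  rw [← ker_res_eq, RingHom.mem_ker, map_sub, map_pow, res_apply, res_apply, WittGrp.coeff_frob,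
    sub_self]

/-- `F'(g) ≡ g^p` modulo `p`. -/
theorem polyFrob_sub_pow_mem (g : R') : polyFrob p k (Fin n) g - g ^ p ∈ Ideal.span {(p : R')} := by
  induction g using MvPolynomial.induction_on with
  | C c =>
    have h1 : polyFrob p k (Fin n) (C c) = C (sigma p k c) := by
      simp [polyFrob]
    rw [h1, ← map_pow, ← map_sub]
    obtain ⟨d, hd⟩ := Ideal.mem_span_singleton'.mp (sigma_sub_pow_mem p k c)
    rw [← hd, map_mul, map_natCast]
    exact Ideal.mul_mem_left _ _ (Ideal.subset_span rfl)
  | add f g hf hg =>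
    obtain ⟨r, hr⟩ := exists_add_pow_prime_eq hp.out f g
    rw [map_add, hr]
    have : polyFrob p k (Fin n) f + polyFrob p k (Fin n) g - (f ^ p + g ^ p + (p : R') * f * g * r) =
        (polyFrob p k (Fin n) f - f ^ p) + (polyFrob p k (Fin n) g - g ^ p) - (p : R') * (f * g * r) := by
      ring
    rw [this]
    exact Ideal.sub_mem _ (Ideal.add_mem _ hf hg)
      (Ideal.mul_mem_right _ _ (Ideal.subset_span rfl))
  | mul_X f i hf =>
    have h1 : polyFrob p k (Fin n) (X i) = X i ^ p := by simp [polyFrob]
    rw [map_mul, h1, mul_pow, ← sub_mul]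
    exact Ideal.mul_mem_right _ _ hf

theorem p_mul_polyFrob (g : R') : (p : R') * polyFrob p k (Fin n) g = (p : R') * g ^ p := by
  obtain ⟨d, hd⟩ := Ideal.mem_span_singleton'.mp (polyFrob_sub_pow_mem p k g)
  have : polyFrob p k (Fin n) g = g ^ p + d * (p : R') := by rw [hd]; ring
  rw [this, mul_add, mul_comm d, ← mul_assoc, pR_sq, zero_mul, add_zero]

/-- The perturbed Frobenius lift `x_j ↦ x_j^p + p h_j`. -/
noncomputable def PsiH (h : Fin n → R') : R' →+* R' :=
  MvPolynomial.eval₂Hom (MvPolynomial.C.comp (sigma p k)) fun i => X i ^ p + (p : R') * h i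

theorem PsiH_C (h : Fin n → R') (c : W) : PsiH p k h (C c) = C (sigma p k c) := by
  simp [PsiH]

theorem PsiH_X (h : Fin n → R') (i : Fin n) : PsiH p k h (X i) = X i ^ p + (p : R') * h i := by
  simp [PsiH]

/-- Taylor expansion modulo `p²`. -/
theorem PsiH_eq (h : Fin n → R') (g : R') :
    PsiH p k h g = polyFrob p k (Fin n) g + (p : R') * ∑ j, pderiv j g ^ p * h j := by
  induction g using MvPolynomial.induction_on with
  | C c =>
    have h1 : polyFrob p k (Fin n) (C c) = C (sigma p k c) := by simp [polyFrob]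
    rw [PsiH_C, h1]
    simp [zero_pow hp.out.ne_zero]
  | add f g hf hg =>
    rw [map_add, map_add, hf, hg]
    have : ∀ j, (p : R') * (pderiv j (f + g) ^ p * h j) =
        (p : R') * (pderiv j f ^ p * h j) + (p : R') * (pderiv j g ^ p * h j) := by
      intro j
      rw [map_add, ← mul_assoc, p_mul_add_pow, mul_assoc, add_mul, mul_add]
    rw [Finset.mul_sum, Finset.mul_sum, Finset.mul_sum, Finset.sum_congr rfl (fun j _ => this j),
      Finset.sum_add_distrib]
    ring
  | mul_X f i hf =>
    have h1 : polyFrob p k (Fin n) (X i) = X i ^ p := by simp [polyFrob]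
    rw [map_mul, map_mul, hf, PsiH_X, h1]
    have hd : ∀ j, (p : R') * (pderiv j (f * X i) ^ p * h j) =
        (p : R') * (pderiv j f ^ p * h j) * X i ^ p +
          (if j = i then (p : R') * f ^ p * h i else 0) := by
      intro j
      rw [pderiv_mul, pderiv_X, ← mul_assoc, p_mul_add_pow]
      by_cases hji : j = i
      · subst hji
        simp only [Pi.single_eq_same, mul_one, if_true, mul_pow]
        ring
      · rw [Pi.single_eq_of_ne (fun h => hji h.symm), mul_zero, zero_pow hp.out.ne_zero, add_zero, if_neg hji,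
          add_zero, mul_pow]
        ring
    rw [Finset.mul_sum ( Finset.univ) (fun j => pderiv j (f * X i) ^ p * h j),
      Finset.sum_congr rfl (fun j _ => hd j), Finset.sum_add_distrib, Finset.sum_ite_eq' Finset.univ i,
      if_pos (Finset.mem_univ i), ← Finset.sum_mul, ← Finset.mul_sum]
    have e1 : (polyFrob p k (Fin n) f + (p : R') * ∑ j, pderiv j f ^ p * h j) *
        (X i ^ p + (p : R') * h i) =
        polyFrob p k (Fin n) f * X i ^ p + ((p : R') * ∑ j, pderiv j f ^ p * h j) * X i ^ p +
          (p : R') * polyFrob p k (Fin n) f * h i +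
            (p : R') * (p : R') * ((∑ j, pderiv j f ^ p * h j) * h i) := by ring
    rw [e1, pR_sq, zero_mul, add_zero, p_mul_polyFrob]
    ring

end Poly

section Main

variable (p : ℕ) [hp : Fact p.Prime] (k : Type u) [Field k] [CharP k p] [PerfectRing k p] {n m : ℕ}
  (f' : Fin m → MvPolynomial (Fin n) (W2 p k))

local notation "W" => W2 p k
local notation "R'" => MvPolynomial (Fin n) (W2 p k)

theorem inf_eq_mul_of_flat
    (hflat : ((Ideal.Quotient.mk (Ideal.span (Set.range f'))).comp
      (MvPolynomial.C : W →+* R')).Flat) :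
    Ideal.span {(p : R')} ⊓ Ideal.span (Set.range f') =
      Ideal.span {(p : R')} * Ideal.span (Set.range f') := by
  have halg : ((Ideal.Quotient.mk (Ideal.span (Set.range f'))).comp
      (MvPolynomial.C : W →+* R')).toAlgebra =
      (Ideal.Quotient.algebra W : Algebra W (R' ⧸ Ideal.span (Set.range f'))) :=
    Algebra.algebra_ext _ _ (fun r => rfl)
  have h1 : @Module.Flat W (R' ⧸ Ideal.span (Set.range f')) _ _
      (@Algebra.toModule _ _ _ _ ((Ideal.Quotient.mk (Ideal.span (Set.range f'))).comp
      (MvPolynomial.C : W →+* R')).toAlgebra) := hflat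
  rw [halg] at h1
  exact (Groth.Agent.S13137.result p k R' (Ideal.span (Set.range f'))).mp h1

theorem map_res_p : MvPolynomial.map (res p k) (p : R') = 0 := by
  rw [map_natCast, ← map_natCast (C : k →+* MvPolynomial (Fin n) k), CharP.cast_eq_zero k p,
    map_zero]

theorem res_surjective : Function.Surjective (res p k) := fun x =>
  ⟨tau p x, by rw [res_apply, tau_coeff_zero]⟩

/-- Elements reducing into `J` lie in `J' + p R'`. -/
theorem exists_decomp_of_map_mem (g : R')
    (hg : MvPolynomial.map (res p k) g ∈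
      (Ideal.span (Set.range f')).map (MvPolynomial.map (res p k))) :
    ∃ g' ∈ Ideal.span (Set.range f'), ∃ u : R', g = g' + (p : R') * u := by
  have hsurj : Function.Surjective (MvPolynomial.map (σ := Fin n) (res p k)) :=
    MvPolynomial.map_surjective _ (res_surjective p k)
  obtain ⟨g', hg', hgg'⟩ := (Ideal.mem_map_iff_of_surjective _ hsurj).mp hg
  have hker : g - g' ∈ RingHom.ker (MvPolynomial.map (σ := Fin n) (res p k)) := by
    rw [RingHom.mem_ker, map_sub, hgg', sub_self]
  rw [MvPolynomial.ker_map, ker_res_eq, Ideal.map_span, Set.image_singleton, map_natCast,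
    Ideal.mem_span_singleton'] at hker
  obtain ⟨u, hu⟩ := hker
  exact ⟨g', hg', u, by rw [mul_comm, hu]; ring⟩

theorem main13138
    (hflat : ((Ideal.Quotient.mk (Ideal.span (Set.range f'))).comp
      (MvPolynomial.C : W →+* R')).Flat) :
    (∃ Φ : (R' ⧸ Ideal.span (Set.range f')) →+* (R' ⧸ Ideal.span (Set.range f')),
      Φ.comp ((Ideal.Quotient.mk (Ideal.span (Set.range f'))).comp MvPolynomial.C) =
        ((Ideal.Quotient.mk (Ideal.span (Set.range f'))).comp MvPolynomial.C).comp (sigma p k) ∧
      ∀ b, Ideal.quotientMap ((Ideal.span (Set.range f')).map (MvPolynomial.map (res p k)))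
          (MvPolynomial.map (res p k)) Ideal.le_comap_map (Φ b) =
        (Ideal.quotientMap ((Ideal.span (Set.range f')).map (MvPolynomial.map (res p k)))
          (MvPolynomial.map (res p k)) Ideal.le_comap_map b) ^ p) ↔
    ∃ h : Fin n → R', ∀ i,
      polyFrob p k (Fin n) (f' i) - f' i ^ p
        - (p : R') * ∑ j, MvPolynomial.pderiv j (f' i) ^ p * h j
        ∈ Ideal.span {(p : R')} * Ideal.span (Set.range f') := by
  have hppos : 0 < p := hp.out.pos
  have hfi : ∀ i, f' i ∈ Ideal.span (Set.range f') := fun i => Ideal.subset_span ⟨i, rfl⟩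
  constructor
  · rintro ⟨Φ, hsemi, hred⟩
    -- lift `Φ (x_j)`
    have hex : ∀ j : Fin n, ∃ u : R', Φ (Ideal.Quotient.mk _ (X j)) =
        Ideal.Quotient.mk (Ideal.span (Set.range f')) (X j ^ p + (p : R') * u) := by
      intro j
      obtain ⟨g, hg⟩ := Ideal.Quotient.mk_surjective (Φ (Ideal.Quotient.mk _ (X j)))
      have h1 := hred (Ideal.Quotient.mk _ (X j))
      rw [← hg, Ideal.quotientMap_mk, Ideal.quotientMap_mk, ← map_pow, ← map_pow, ← sub_eq_zero,
        ← map_sub, ← map_sub, Ideal.Quotient.eq_zero_iff_mem] at h1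
      obtain ⟨g', hg', u, hu⟩ := exists_decomp_of_map_mem p k f' _ h1
      refine ⟨u, ?_⟩
      rw [← hg, Ideal.Quotient.eq]
      have : g - (X j ^ p + (p : R') * u) = g' := by rw [← sub_sub, hu]; ring
      rw [this]
      exact hg'
    choose u hu using hex
    have hcomp : Φ.comp (Ideal.Quotient.mk (Ideal.span (Set.range f'))) =
        (Ideal.Quotient.mk (Ideal.span (Set.range f'))).comp (PsiH p k u) := by
      apply MvPolynomial.ringHom_ext
      · intro c
        have := congrArg (fun g => g c) hsemi
        simp only [RingHom.comp_apply] at this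
        rw [RingHom.comp_apply, RingHom.comp_apply, PsiH_C, this]
      · intro j
        rw [RingHom.comp_apply, RingHom.comp_apply, PsiH_X, hu]
    have hPsi : ∀ i, PsiH p k u (f' i) ∈ Ideal.span (Set.range f') := by
      intro i
      have := congrArg (fun g => g (f' i)) hcomp
      simp only [RingHom.comp_apply] at this
      rw [← Ideal.Quotient.eq_zero_iff_mem, ← this, Ideal.Quotient.eq_zero_iff_mem.mpr (hfi i),
        map_zero]
    refine ⟨fun j => -u j, fun i => ?_⟩
    rw [← inf_eq_mul_of_flat p k f' hflat]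
    have hD : polyFrob p k (Fin n) (f' i) - f' i ^ p
        - (p : R') * ∑ j, MvPolynomial.pderiv j (f' i) ^ p * (-u j) =
        PsiH p k u (f' i) - f' i ^ p := by
      rw [PsiH_eq]
      simp only [mul_neg, Finset.sum_neg_distrib]
      ring
    constructor
    · have h2 : polyFrob p k (Fin n) (f' i) - f' i ^ p
          - (p : R') * ∑ j, MvPolynomial.pderiv j (f' i) ^ p * (-u j) ∈ Ideal.span {(p : R')} :=
        Ideal.sub_mem _ (polyFrob_sub_pow_mem p k (f' i))
          (Ideal.mul_mem_right _ _ (Ideal.subset_span rfl))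
      exact h2
    · change _ ∈ Ideal.span (Set.range f')
      rw [hD]
      exact Ideal.sub_mem _ (hPsi i) (Ideal.pow_mem_of_mem _ (hfi i) p hppos)
  · rintro ⟨h, hh⟩
    have hPsi : ∀ i, PsiH p k (fun j => -h j) (f' i) ∈ Ideal.span (Set.range f') := by
      intro i
      have hD : PsiH p k (fun j => -h j) (f' i) =
          (polyFrob p k (Fin n) (f' i) - f' i ^ p
            - (p : R') * ∑ j, MvPolynomial.pderiv j (f' i) ^ p * h j) + f' i ^ p := by
        rw [PsiH_eq]
        simp only [mul_neg, Finset.sum_neg_distrib]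
        ring
      rw [hD]
      have h3 : polyFrob p k (Fin n) (f' i) - f' i ^ p
            - (p : R') * ∑ j, MvPolynomial.pderiv j (f' i) ^ p * h j ∈ Ideal.span (Set.range f') :=
        (Ideal.mul_le_right (I := Ideal.span {(p : R')}) (J := Ideal.span (Set.range f'))) (hh i)
      exact Ideal.add_mem _ h3 (Ideal.pow_mem_of_mem _ (hfi i) p hppos)
    have hle : Ideal.span (Set.range f') ≤
        Ideal.comap (PsiH p k (fun j => -h j)) (Ideal.span (Set.range f')) := by
      rw [Ideal.span_le]
      rintro _ ⟨i, rfl⟩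
      exact hPsi i
    let Φ : (R' ⧸ Ideal.span (Set.range f')) →+* (R' ⧸ Ideal.span (Set.range f')) :=
      Ideal.quotientMap (Ideal.span (Set.range f')) (PsiH p k (fun j => -h j)) hle
    have hΦ : ∀ g : R', Φ (Ideal.Quotient.mk _ g) =
        Ideal.Quotient.mk _ (PsiH p k (fun j => -h j) g) := fun g => Ideal.quotientMap_mk
    refine ⟨Φ, ?_, ?_⟩
    · ext c
      simp only [RingHom.comp_apply]
      rw [hΦ, PsiH_C]
    · intro b
      obtain ⟨g, rfl⟩ := Ideal.Quotient.mk_surjective b
      rw [hΦ, Ideal.quotientMap_mk, Ideal.quotientMap_mk, ← map_pow, ← map_pow]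
      congr 1
      obtain ⟨d, hd⟩ := Ideal.mem_span_singleton'.mp (polyFrob_sub_pow_mem p k g)
      have : PsiH p k (fun j => -h j) g =
          g ^ p + (p : R') * (d + ∑ j, MvPolynomial.pderiv j g ^ p * (-h j)) := by
        rw [PsiH_eq, mul_add, mul_comm (p : R') d, hd]
        ring
      rw [this, map_add, map_mul, map_res_p, zero_mul, add_zero]

end Main

end Groth.Agent.Lib.Helper6.W2Arith
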