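import Mathlib

/-! Polynomial laws are determined by / can be built from compatible families on
polynomial rings in finitely many variables (helper6). -/

set_option autoImplicit false
universe u v w
open scoped TensorProduct
open LinearMap MvPolynomial

namespace Groth.Agent.Lib.Helper6.PolyLawFam

section Exact
variable {R : Type*} [CommRing R] {P : Type*} [AddCommGroup P] [Module R P]
  {B : Type*} [AddCommMonoid B] [Module R B] (g : P →ₗ[R] B) (hg : Function.Surjective g)
  (M : Type*) [AddCommGroup M] [Module R M]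

include hg in
theorem exists_ker_tensor (x y : P ⊗[R] M) (h : rTensor M g x = rTensor M g y) :
    ∃ w : (LinearMap.ker g) ⊗[R] M, x = y + rTensor M (LinearMap.ker g).subtype w := by
  letI : AddCommGroup B := Module.addCommMonoidToAddCommGroup R
  have hex : Function.Exact (rTensor M (LinearMap.ker g).subtype) (rTensor M g) :=
    rTensor_exact M (LinearMap.exact_subtype_ker_map g) hg
  have : rTensor M g (x - y) = 0 := by rw [map_sub, h, sub_self]
  obtain ⟨w, hw⟩ := (hex (x - y)).1 this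
  exact ⟨w, by rw [hw]; abel⟩
end Exact

variable {A : Type u} [CommRing A] {M : Type v} [AddCommGroup M] [Module A M]
  {N : Type w} [AddCommGroup N] [Module A N]

variable (T : ∀ n : ℕ, MvPolynomial (Fin n) A ⊗[A] M → MvPolynomial (Fin n) A ⊗[A] N)
  (hT : ∀ (n m : ℕ) (φ : MvPolynomial (Fin n) A →ₐ[A] MvPolynomial (Fin m) A),
            φ.toLinearMap.rTensor N ∘ T n = T m ∘ φ.toLinearMap.rTensor M)

/-- evaluation of the family along an algebra map out of a polynomial ring -/
noncomputable def ev {S : Type*} [CommSemiring S] [Algebra A S] {n : ℕ}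
    (ψ : MvPolynomial (Fin n) A →ₐ[A] S) (p : MvPolynomial (Fin n) A ⊗[A] M) : S ⊗[A] N :=
  ψ.toLinearMap.rTensor N (T n p)

include hT in
theorem ev_comp {S : Type*} [CommSemiring S] [Algebra A S] {n m : ℕ}
    (φ : MvPolynomial (Fin n) A →ₐ[A] MvPolynomial (Fin m) A)
    (ψ : MvPolynomial (Fin m) A →ₐ[A] S) (p : MvPolynomial (Fin n) A ⊗[A] M) :
    ev T (ψ.comp φ) p = ev T ψ (φ.toLinearMap.rTensor M p) := by
  unfold ev
  rw [AlgHom.comp_toLinearMap, rTensor_comp, LinearMap.comp_apply]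
  congr 1
  exact congrFun (hT n m φ) p

include hT in
theorem ev_add_tmul {S : Type*} [CommSemiring S] [Algebra A S] {m : ℕ}
    (Ψ : MvPolynomial (Fin m) A →ₐ[A] S) (k : MvPolynomial (Fin m) A) (hk : Ψ k = 0) (mm : M)
    (q : MvPolynomial (Fin m) A ⊗[A] M) : ev T Ψ (q + k ⊗ₜ mm) = ev T Ψ q := by
  let ι₁ : MvPolynomial (Fin m) A →ₐ[A] MvPolynomial (Fin (m + 1)) A := rename Fin.castSucc
  let α : MvPolynomial (Fin (m + 1)) A →ₐ[A] MvPolynomial (Fin m) A :=
    aeval (Fin.snoc (α := fun _ => MvPolynomial (Fin m) A) (fun i => X i) k)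
  let β : MvPolynomial (Fin (m + 1)) A →ₐ[A] MvPolynomial (Fin m) A :=
    aeval (Fin.snoc (α := fun _ => MvPolynomial (Fin m) A) (fun i => X i) 0)
  let w' : MvPolynomial (Fin (m + 1)) A ⊗[A] M :=
    rTensor M ι₁.toLinearMap q + (X (Fin.last m)) ⊗ₜ mm
  have hα : α.comp ι₁ = AlgHom.id A _ := by
    ext i
    simp [α, ι₁]
  have hβ : β.comp ι₁ = AlgHom.id A _ := by
    ext i
    simp [β, ι₁]
  have h1 : rTensor M α.toLinearMap w' = q + k ⊗ₜ mm := by
    simp only [w', map_add, rTensor_tmul, ← LinearMap.comp_apply, ← rTensor_comp,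
      ← AlgHom.comp_toLinearMap, hα]
    simp [α]
  have h2 : rTensor M β.toLinearMap w' = q := by
    simp only [w', map_add, rTensor_tmul, ← LinearMap.comp_apply, ← rTensor_comp,
      ← AlgHom.comp_toLinearMap, hβ]
    simp [β]
  have h3 : Ψ.comp α = Ψ.comp β := by
    ext j
    refine Fin.lastCases ?_ (fun i => ?_) j <;> simp [α, β, hk]
  rw [← h1, ← ev_comp T hT, h3, ev_comp T hT, h2]

include hT in
theorem ev_add_ker {S : Type*} [CommSemiring S] [Algebra A S] {m : ℕ}
    (Ψ : MvPolynomial (Fin m) A →ₐ[A] S) (K : Submodule A (MvPolynomial (Fin m) A))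
    (hK : ∀ k ∈ K, Ψ k = 0) (w : K ⊗[A] M) :
    ∀ q : MvPolynomial (Fin m) A ⊗[A] M, ev T Ψ (q + rTensor M K.subtype w) = ev T Ψ q := by
  induction w using TensorProduct.induction_on with
  | zero => intro q; simp
  | tmul k mm => intro q; exact ev_add_tmul T hT Ψ k.1 (hK k.1 k.2) mm q
  | add w1 w2 h1 h2 => intro q; rw [map_add, ← add_assoc, h2, h1]


include hT in
theorem ev_wd {S : Type*} [CommSemiring S] [Algebra A S] {n n' : ℕ}
    (ψ : MvPolynomial (Fin n) A →ₐ[A] S) (ψ' : MvPolynomial (Fin n') A →ₐ[A] S)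
    (p : MvPolynomial (Fin n) A ⊗[A] M) (p' : MvPolynomial (Fin n') A ⊗[A] M)
    (h : rTensor M ψ.toLinearMap p = rTensor M ψ'.toLinearMap p') :
    ev T ψ p = ev T ψ' p' := by
  classical
  have hFG : ψ.range.FG := by
    rw [← Algebra.map_top]; exact Subalgebra.FG.map _ Algebra.FiniteType.out
  have hFG' : ψ'.range.FG := by
    rw [← Algebra.map_top]; exact Subalgebra.FG.map _ Algebra.FiniteType.out
  have htt' : rTensor M ψ.range.val.toLinearMap (rTensor M ψ.rangeRestrict.toLinearMap p) =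
      rTensor M ψ'.range.val.toLinearMap (rTensor M ψ'.rangeRestrict.toLinearMap p') := by
    simp only [← LinearMap.comp_apply, ← rTensor_comp, ← AlgHom.comp_toLinearMap,
      AlgHom.val_comp_rangeRestrict, h]
  obtain ⟨B, hAB, hA'B, ⟨s, hs⟩, hB⟩ :=
    TensorProduct.Algebra.eq_of_fg_of_subtype_eq' hFG hFG' htt'
  -- a finite generating set of `B` containing the images of the variables
  let s'' : Finset S := s ∪ (Finset.univ.image (fun i => ψ (X i)) ∪
    Finset.univ.image (fun i => ψ' (X i)))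
  have hmem : ∀ i, ψ (X i) ∈ s'' := fun i =>
    Finset.mem_union_right _ (Finset.mem_union_left _ (Finset.mem_image_of_mem _ (Finset.mem_univ i)))
  have hmem' : ∀ i, ψ' (X i) ∈ s'' := fun i =>
    Finset.mem_union_right _ (Finset.mem_union_right _ (Finset.mem_image_of_mem _ (Finset.mem_univ i)))
  have hs'' : Algebra.adjoin A (s'' : Set S) = B := by
    apply le_antisymm
    · rw [Algebra.adjoin_le_iff]
      intro x hx
      simp only [s'', Finset.coe_union, Finset.coe_image, Finset.coe_univ, Set.image_univ,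
        Set.mem_union, Set.mem_range] at hx
      rcases hx with hx | ⟨i, rfl⟩ | ⟨i, rfl⟩
      · rw [← hs]; exact Algebra.subset_adjoin hx
      · exact hAB ⟨X i, rfl⟩
      · exact hA'B ⟨X i, rfl⟩
    · rw [← hs]
      exact Algebra.adjoin_mono (by simp [s''])
  let Ψ := PolynomialLaw.φ A s''
  have hΨ : Ψ.range = B := by rw [PolynomialLaw.range_φ, hs'']
  let ι : MvPolynomial (Fin n) A →ₐ[A] MvPolynomial (Fin s''.card) A :=
    aeval (fun i => X (s''.equivFin ⟨ψ (X i), hmem i⟩))
  let ι' : MvPolynomial (Fin n') A →ₐ[A] MvPolynomial (Fin s''.card) A :=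
    aeval (fun i => X (s''.equivFin ⟨ψ' (X i), hmem' i⟩))
  have hι : Ψ.comp ι = ψ := by
    ext i
    simp [Ψ, ι, PolynomialLaw.φ]
  have hι' : Ψ.comp ι' = ψ' := by
    ext i
    simp [Ψ, ι', PolynomialLaw.φ]
  -- corestriction to `B`
  let ΨB : MvPolynomial (Fin s''.card) A →ₐ[A] B :=
    Ψ.codRestrict B (fun x => by rw [← hΨ]; exact ⟨x, rfl⟩)
  have hΨB : Function.Surjective ΨB := by
    rintro ⟨b, hb⟩
    rw [← hΨ] at hb
    obtain ⟨x, rfl⟩ := hb
    exact ⟨x, rfl⟩
  have e1 : ΨB.comp ι = (Subalgebra.inclusion hAB).comp ψ.rangeRestrict := by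
    ext i
    simp [ΨB, Ψ, ι, PolynomialLaw.φ]
  have e2 : ΨB.comp ι' = (Subalgebra.inclusion hA'B).comp ψ'.rangeRestrict := by
    ext i
    simp [ΨB, Ψ, ι', PolynomialLaw.φ]
  have hker : rTensor M ΨB.toLinearMap (rTensor M ι.toLinearMap p) =
      rTensor M ΨB.toLinearMap (rTensor M ι'.toLinearMap p') := by
    simp only [← LinearMap.comp_apply, ← rTensor_comp, ← AlgHom.comp_toLinearMap, e1, e2]
    simpa only [AlgHom.comp_toLinearMap, rTensor_comp, LinearMap.comp_apply] using hB
  obtain ⟨w, hw⟩ := exists_ker_tensor ΨB.toLinearMap hΨB M _ _ hker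
  have hK : ∀ k ∈ LinearMap.ker ΨB.toLinearMap, Ψ k = 0 := by
    intro k hk
    have : ΨB k = 0 := hk
    simpa [ΨB] using congrArg Subtype.val this
  rw [← hι, ev_comp T hT, hw, ev_add_ker T hT Ψ _ hK w, ← ev_comp T hT, hι']


/-- value of the law on an arbitrary algebra, via a chosen lift -/
noncomputable def lawFun (S : Type u) [CommSemiring S] [Algebra A S] (t : S ⊗[A] M) : S ⊗[A] N :=
  ev T (PolynomialLaw.exists_lift (R := A) t).choose_spec.choose
    (PolynomialLaw.exists_lift (R := A) t).choose_spec.choose_spec.choose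

include hT in
theorem lawFun_eq (S : Type u) [CommSemiring S] [Algebra A S] {n : ℕ}
    (ψ : MvPolynomial (Fin n) A →ₐ[A] S) (p : MvPolynomial (Fin n) A ⊗[A] M) :
    lawFun T S (rTensor M ψ.toLinearMap p) = ev T ψ p := by
  unfold lawFun
  exact ev_wd T hT _ _ _ _
    (PolynomialLaw.exists_lift (R := A) (rTensor M ψ.toLinearMap p)).choose_spec.choose_spec.choose_spec

/-- the polynomial law attached to a compatible family -/
noncomputable def law (hT : ∀ (n m : ℕ) (φ : MvPolynomial (Fin n) A →ₐ[A] MvPolynomial (Fin m) A),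
      φ.toLinearMap.rTensor N ∘ T n = T m ∘ φ.toLinearMap.rTensor M) : M →ₚₗ[A] N where
  toFun' S _ _ := lawFun T S
  isCompat' {S _ _ S' _ _} h := by
    funext t
    obtain ⟨n, ψ, p, rfl⟩ := PolynomialLaw.exists_lift (R := A) t
    simp only [Function.comp_apply]
    rw [lawFun_eq T hT, ← LinearMap.comp_apply, ← rTensor_comp, ← AlgHom.comp_toLinearMap,
      lawFun_eq T hT]
    unfold ev
    rw [AlgHom.comp_toLinearMap, rTensor_comp, LinearMap.comp_apply]

include hT in
theorem law_toFun' (n : ℕ) : (law T hT).toFun' (MvPolynomial (Fin n) A) = T n := by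
  funext t
  show lawFun T _ t = T n t
  have := lawFun_eq T hT (MvPolynomial (Fin n) A) (AlgHom.id A _) t
  simp only [AlgHom.toLinearMap_id, rTensor_id, LinearMap.id_coe, id_eq] at this
  rw [this]
  unfold ev
  simp

theorem law_ext {F G : M →ₚₗ[A] N}
    (h : ∀ n : ℕ, F.toFun' (MvPolynomial (Fin n) A) = G.toFun' (MvPolynomial (Fin n) A)) :
    F = G := by
  ext S _ _ t
  obtain ⟨n, ψ, p, rfl⟩ := PolynomialLaw.exists_lift (R := A) t
  rw [← PolynomialLaw.isCompat_apply', ← PolynomialLaw.isCompat_apply', h]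

end Groth.Agent.Lib.Helper6.PolyLawFam
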