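import Mathlib

open Finset

universe u

namespace Groth.Agent.Helper6.PosInv

lemma bound {E : Type*} [AddCommGroup E] [Module ℚ E] [FiniteDimensional ℚ E]
    (B : LinearMap.BilinForm ℚ E) (hB : ∀ x, x ≠ 0 → 0 < B x x) (ρ : E →ₗ[ℚ] ℂ) :
    ∃ C : ℝ, 0 ≤ C ∧ ∀ y : E, ‖ρ y‖ ^ 2 ≤ C * ((B y y : ℚ) : ℝ) := by
  classical
  have hsymm : LinearMap.IsSymm (B + B.flip) := by
    rw [LinearMap.isSymm_def]
    intro x y
    simp [add_comm]
  obtain ⟨v, hv⟩ := LinearMap.BilinForm.exists_orthogonal_basis hsymm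
  rw [LinearMap.isOrthoᵢ_def] at hv
  have hd : ∀ i, 0 < B (v i) (v i) := fun i => hB _ (v.ne_zero i)
  have key : ∀ y : E, B y y = ∑ i, (v.repr y i) ^ 2 * B (v i) (v i) := by
    intro y
    have h2 : (B + B.flip) y y = ∑ i, (v.repr y i)^2 * (B + B.flip) (v i) (v i) := by
      conv_lhs => rw [← v.sum_repr y]
      simp only [map_sum, LinearMap.sum_apply, map_smul, LinearMap.smul_apply, smul_eq_mul]
      apply Finset.sum_congr rfl
      intro i _
      rw [Finset.sum_eq_single i]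
      · ring
      · intro j _ hji
        rw [hv j i hji]; ring
      · intro h; exact absurd (Finset.mem_univ i) h
    simp only [LinearMap.add_apply] at h2
    have hfl : ∀ a b : E, B.flip a b = B b a := fun a b => rfl
    simp only [hfl] at h2
    have h3 : (2:ℚ) * B y y = 2 * ∑ i, (v.repr y i) ^ 2 * B (v i) (v i) := by
      rw [Finset.mul_sum, two_mul, h2]
      apply Finset.sum_congr rfl
      intro i _; ring
    linarith
  refine ⟨∑ i, ‖ρ (v i)‖ ^ 2 / ((B (v i) (v i) : ℚ) : ℝ), ?_, fun y => ?_⟩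
  · apply Finset.sum_nonneg
    intro i _
    apply div_nonneg (sq_nonneg _)
    exact_mod_cast (hd i).le
  · have h1 : ρ y = ∑ i, ((v.repr y i : ℚ) : ℂ) * ρ (v i) := by
      conv_lhs => rw [← v.sum_repr y]
      rw [map_sum]
      apply Finset.sum_congr rfl
      intro i _
      rw [map_smul]
      rw [show ((v.repr y i : ℚ) • ρ (v i)) = ((v.repr y i : ℚ) : ℂ) * ρ (v i) from by
        rw [Rat.smul_def]]
    have h2 : ‖ρ y‖ ≤ ∑ i, |((v.repr y i : ℚ) : ℝ)| * ‖ρ (v i)‖ := by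
      rw [h1]
      refine (norm_sum_le _ _).trans ?_
      apply Finset.sum_le_sum
      intro i _
      rw [norm_mul]
      apply le_of_eq
      congr 1
      rw [show ((v.repr y i : ℚ) : ℂ) = (((v.repr y i : ℚ) : ℝ) : ℂ) by push_cast; rfl]
      rw [Complex.norm_real, Real.norm_eq_abs]
    have h3 : (∑ i, |((v.repr y i : ℚ) : ℝ)| * ‖ρ (v i)‖) ^ 2 ≤
        (∑ i, ‖ρ (v i)‖ ^ 2 / ((B (v i) (v i) : ℚ) : ℝ)) *
          ∑ i, ((v.repr y i : ℚ) : ℝ) ^ 2 * ((B (v i) (v i) : ℚ) : ℝ) := by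
      apply Finset.sum_sq_le_sum_mul_sum_of_sq_le_mul
      · intro i _
        apply div_nonneg (sq_nonneg _)
        exact_mod_cast (hd i).le
      · intro i _
        apply mul_nonneg (sq_nonneg _)
        exact_mod_cast (hd i).le
      · intro i _
        have hdi : ((B (v i) (v i) : ℚ) : ℝ) ≠ 0 := by
          have := hd i
          exact_mod_cast this.ne'
        apply le_of_eq
        rw [mul_pow, sq_abs]
        field_simp
    calc ‖ρ y‖ ^ 2 ≤ (∑ i, |((v.repr y i : ℚ) : ℝ)| * ‖ρ (v i)‖) ^ 2 := by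
          apply pow_le_pow_left₀ (norm_nonneg _) h2
      _ ≤ _ := h3
      _ = _ := by
          congr 1
          rw [key y]
          push_cast
          rfl

lemma le_one_of_pow_bounded (r M : ℝ) (h : ∀ n : ℕ, r ^ n ≤ M) : r ≤ 1 := by
  by_contra hr
  push Not at hr
  obtain ⟨n, hn⟩ := pow_unbounded_of_one_lt M hr
  exact absurd (h n) (not_le.mpr hn)

theorem main (R : Type u) [Ring R] [Algebra ℚ R]
    [Module.Finite ℚ R] [StarRing R] [StarModule ℚ R]
    (σ : R →ₗ[ℚ] ℚ) (hpos : ∀ x : R, x ≠ 0 → 0 < σ (x * star x))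
    (α : R) (q : ℚ) (hα : α * star α = algebraMap ℚ R q) :
    ∃ hmem : star α ∈ Algebra.adjoin ℚ ({α} : Set R),
      ∀ ρ : Algebra.adjoin ℚ ({α} : Set R) →ₐ[ℚ] ℂ,
        ρ ⟨star α, hmem⟩ = starRingEnd ℂ (ρ ⟨α, Algebra.self_mem_adjoin_singleton ℚ α⟩) ∧
          ‖ρ ⟨α, Algebra.self_mem_adjoin_singleton ℚ α⟩‖ ^ 2 = (q : ℝ) := by
  classical
  rcases subsingleton_or_nontrivial R with hsub | hnt
  · have hmem : star α ∈ Algebra.adjoin ℚ ({α} : Set R) := by
      rw [Subsingleton.elim (star α) α]; exact Algebra.self_mem_adjoin_singleton ℚ α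
    refine ⟨hmem, fun ρ => ?_⟩
    exfalso
    have h1 : ρ 1 = 1 := map_one ρ
    have h0 : (1 : Algebra.adjoin ℚ ({α} : Set R)) = 0 := Subtype.ext (Subsingleton.elim _ _)
    rw [h0, map_zero] at h1
    exact zero_ne_one h1
  have hσ1 : 0 < σ 1 := by
    have := hpos 1 one_ne_zero
    simpa using this
  by_cases hq : q = 0
  · have hα0 : α = 0 := by
      by_contra hne
      have := hpos α hne
      rw [hα, hq, map_zero, map_zero] at this
      exact lt_irrefl _ this
    subst hα0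
    have hmem : star (0:R) ∈ Algebra.adjoin ℚ ({(0:R)} : Set R) := by
      rw [star_zero]; exact zero_mem _
    refine ⟨hmem, fun ρ => ?_⟩
    have e1 : (⟨star (0:R), hmem⟩ : Algebra.adjoin ℚ ({(0:R)} : Set R)) = 0 :=
      Subtype.ext (star_zero R)
    have e2 : (⟨0, Algebra.self_mem_adjoin_singleton ℚ (0:R)⟩ :
        Algebra.adjoin ℚ ({(0:R)} : Set R)) = 0 := rfl
    rw [e1, e2, map_zero, hq]
    simp
  -- main case
  have hαne : α ≠ 0 := by
    rintro rfl
    rw [zero_mul] at hα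
    have : algebraMap ℚ R q = algebraMap ℚ R 0 := by rw [← hα, map_zero]
    exact hq ((algebraMap ℚ R).injective this)
  have hqpos : 0 < q := by
    have := hpos α hαne
    rw [hα, Algebra.algebraMap_eq_smul_one, map_smul, smul_eq_mul] at this
    exact (pos_iff_pos_of_mul_pos this).mpr hσ1
  set β : R := q⁻¹ • star α with hβ
  have hαβ : α * β = 1 := by
    rw [hβ, mul_smul_comm, hα, Algebra.algebraMap_eq_smul_one, smul_smul, inv_mul_cancel₀ hq,
      one_smul]
  have : IsArtinianRing R := IsArtinianRing.of_finite ℚ R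
  have hβα : β * α = 1 := mul_eq_one_comm.mp hαβ
  have hstar : star α = q • β := by
    rw [hβ, smul_smul, mul_inv_cancel₀ hq, one_smul]
  have hα' : star α * α = algebraMap ℚ R q := by
    rw [hstar, smul_mul_assoc, hβα, Algebra.algebraMap_eq_smul_one]
  have hcomm : Commute α (star α) := by
    rw [Commute, SemiconjBy, hα, hα']
  set E := Algebra.adjoin ℚ ({α} : Set R) with hE
  set a : E := ⟨α, Algebra.self_mem_adjoin_singleton ℚ α⟩ with ha
  have : FiniteDimensional ℚ E := inferInstance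
  -- β ∈ E
  have hβmem : β ∈ E := by
    have hinj : Function.Injective (LinearMap.mulLeft ℚ a) := by
      rw [← LinearMap.ker_eq_bot, LinearMap.ker_eq_bot']
      intro x hx
      have hx' : α * (x : R) = 0 := congrArg Subtype.val hx
      apply Subtype.ext
      show (x : R) = 0
      calc (x : R) = β * α * x := by rw [hβα, one_mul]
        _ = 0 := by rw [mul_assoc, hx', mul_zero]
    have hsurj : Function.Surjective (LinearMap.mulLeft ℚ a) :=
      LinearMap.surjective_of_injective hinj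
    obtain ⟨x, hx⟩ := hsurj 1
    have hx' : α * (x : R) = 1 := congrArg Subtype.val hx
    have : (x : R) = β := by
      calc (x : R) = β * α * x := by rw [hβα, one_mul]
        _ = β := by rw [mul_assoc, hx', mul_one]
    rw [← this]; exact x.2
  have hmem : star α ∈ E := by
    rw [hstar]; exact Subalgebra.smul_mem _ hβmem q
  refine ⟨hmem, fun ρ => ?_⟩
  set b : E := ⟨star α, hmem⟩ with hb
  set lam : ℂ := ρ a with hlam
  have hab : a * b = algebraMap ℚ E q := Subtype.ext hα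
  have hlamb : lam * ρ b = (q : ℂ) := by
    rw [hlam, ← map_mul, hab, AlgHom.commutes]
    simp
  have hqC : (q : ℂ) ≠ 0 := by exact_mod_cast hq
  have hlam0 : lam ≠ 0 := fun h0 => hqC (by rw [← hlamb, h0, zero_mul])
  -- bilinear form
  let B : LinearMap.BilinForm ℚ E := LinearMap.mk₂ ℚ (fun x y => σ ((x : R) * star (y : R)))
    (by intro x y z; simp [add_mul]) (by intro c x y; simp)
    (by intro x y z; simp [mul_add]) (by intro c x y; simp)
  have hBpos : ∀ x : E, x ≠ 0 → 0 < B x x := by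
    intro x hx
    apply hpos
    intro h0
    exact hx (Subtype.ext h0)
  obtain ⟨C, hC0, hC⟩ := bound B hBpos ρ.toLinearMap
  have hBa : ∀ n : ℕ, B (a ^ n) (a ^ n) = q ^ n * σ 1 := by
    intro n
    show σ (((a ^ n : E) : R) * star ((a ^ n : E) : R)) = _
    rw [SubmonoidClass.coe_pow]
    show σ (α ^ n * star (α ^ n)) = _
    rw [star_pow, ← hcomm.mul_pow, hα, ← map_pow, Algebra.algebraMap_eq_smul_one, map_smul,
      smul_eq_mul]
  have hBb : ∀ n : ℕ, B (b ^ n) (b ^ n) = q ^ n * σ 1 := by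
    intro n
    show σ (((b ^ n : E) : R) * star ((b ^ n : E) : R)) = _
    rw [SubmonoidClass.coe_pow]
    show σ (star α ^ n * star (star α ^ n)) = _
    rw [star_pow, star_star, ← hcomm.symm.mul_pow, hα', ← map_pow, Algebra.algebraMap_eq_smul_one,
      map_smul, smul_eq_mul]
  have hqR : (0:ℝ) < (q:ℝ) := by exact_mod_cast hqpos
  have hMa : ∀ n : ℕ, (‖lam‖ ^ 2 / q) ^ n ≤ C * (σ 1 : ℝ) := by
    intro n
    have h1 := hC (a ^ n)
    rw [hBa n] at h1
    have h2 : ρ.toLinearMap (a ^ n) = lam ^ n := by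
      show ρ (a ^ n) = _
      rw [map_pow]
    rw [h2, norm_pow] at h1
    push_cast at h1
    have hqn : (0:ℝ) < (q:ℝ) ^ n := pow_pos hqR n
    rw [div_pow, div_le_iff₀ hqn]
    calc (‖lam‖ ^ 2) ^ n = (‖lam‖ ^ n) ^ 2 := by ring
      _ ≤ C * ((q:ℝ) ^ n * (σ 1 : ℝ)) := h1
      _ = C * σ 1 * q ^ n := by ring
  have hMb : ∀ n : ℕ, (‖ρ b‖ ^ 2 / q) ^ n ≤ C * (σ 1 : ℝ) := by
    intro n
    have h1 := hC (b ^ n)
    rw [hBb n] at h1
    have h2 : ρ.toLinearMap (b ^ n) = (ρ b) ^ n := by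
      show ρ (b ^ n) = _
      rw [map_pow]
    rw [h2, norm_pow] at h1
    push_cast at h1
    have hqn : (0:ℝ) < (q:ℝ) ^ n := pow_pos hqR n
    rw [div_pow, div_le_iff₀ hqn]
    calc (‖ρ b‖ ^ 2) ^ n = (‖ρ b‖ ^ n) ^ 2 := by ring
      _ ≤ C * ((q:ℝ) ^ n * (σ 1 : ℝ)) := h1
      _ = C * σ 1 * q ^ n := by ring
  have hra := le_one_of_pow_bounded _ _ hMa
  have hrb := le_one_of_pow_bounded _ _ hMb
  have hnorm : ‖lam‖ * ‖ρ b‖ = q := by
    rw [← norm_mul, hlamb]
    rw [show ((q:ℚ):ℂ) = (((q:ℚ):ℝ):ℂ) by push_cast; rfl, Complex.norm_real, Real.norm_eq_abs,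
      abs_of_pos hqR]
  have hlamn : 0 < ‖lam‖ := norm_pos_iff.mpr hlam0
  have hsq : ‖lam‖ ^ 2 = q := by
    apply le_antisymm
    · rwa [div_le_one hqR] at hra
    · rw [div_le_one hqR] at hrb
      have h3 : ‖ρ b‖ = q / ‖lam‖ := by
        rw [eq_div_iff hlamn.ne', mul_comm]; exact hnorm
      rw [h3, div_pow, div_le_iff₀ (pow_pos hlamn 2)] at hrb
      -- q^2 ≤ q * ‖lam‖^2
      have : (q:ℝ) * q ≤ q * ‖lam‖ ^ 2 := by nlinarith
      exact le_of_mul_le_mul_left this hqR
  refine ⟨?_, hsq⟩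
  have h4 : lam * (starRingEnd ℂ) lam = (q : ℂ) := by
    rw [Complex.mul_conj, Complex.normSq_eq_norm_sq]
    rw [hsq]
    push_cast; rfl
  have h5 : lam * ρ b = lam * (starRingEnd ℂ) lam := by rw [hlamb, h4]
  exact mul_left_cancel₀ hlam0 h5

end Groth.Agent.Helper6.PosInv
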