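import Mathlib

open CategoryTheory ProfiniteGrp ProfiniteGrp.ProfiniteCompletion

universe u

namespace Groth.Agent.Helper6.ProCompl

set_option backward.isDefEq.respectTransparency false in
/-- basic neighbourhoods -/
lemma nbhd_basis (G : GrpCat.{u}) (x : completion G) (U : Set (completion G)) (hU : IsOpen U) (hx : x ∈ U) :
    ∃ H : FiniteIndexNormalSubgroup G, ∀ y : completion G, y.1 H = x.1 H → y ∈ U := by
  obtain ⟨s, hsO, hsv⟩ := hU
  rw [← hsv, Set.mem_preimage] at hx
  rcases (isOpen_pi_iff.mp hsO) _ hx with ⟨J, fJ, hJ1, hJ2⟩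
  let M : Subgroup G := iInf fun (j : J) => j.val
  have hM : M.Normal := Subgroup.normal_iInf_normal fun j => inferInstance
  have hMFinite : M.FiniteIndex := by
    apply Subgroup.finiteIndex_iInf
    infer_instance
  let m : FiniteIndexNormalSubgroup G := { toSubgroup := M }
  refine ⟨m, fun y hy => ?_⟩
  rw [← hsv]
  apply hJ2
  intro a a_in_J
  let M_to_Na : m ⟶ a := (iInf_le (fun (j : J) => (j.val.toSubgroup)) ⟨a, a_in_J⟩).hom
  have h1 := y.property M_to_Na
  have h2 := x.property M_to_Na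
  have : y.1 a = x.1 a := by
    rw [← h1, ← h2, hy]
  show y.1 a ∈ fJ a
  rw [this]
  exact (hJ1 a a_in_J).2

lemma lift_eta_apply {G : GrpCat.{u}} {P : ProfiniteGrp.{u}} (f : G ⟶ GrpCat.of P) (g : G) :
    (lift f).hom (etaFn G g) = f.hom g := by
  have := ConcreteCategory.congr_hom (lift_eta f) g
  exact this

lemma map_eta {G H : GrpCat.{u}} (f : G ⟶ H) (g : G) :
    (profiniteCompletion.map f).hom (etaFn G g) = etaFn H (f.hom g) := by
  have := lift_eta_apply (f ≫ eta H) g
  exact this

lemma map_surjective {G H : GrpCat.{u}} (f : G ⟶ H) (hf : Function.Surjective f.hom) :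
    Function.Surjective (profiniteCompletion.map f).hom := by
  have hcl : IsClosed (Set.range (profiniteCompletion.map f).hom) :=
    (profiniteCompletion.map f).hom.continuous_toFun.isClosedMap.isClosed_range
  have hsub : Set.range (etaFn H) ⊆ Set.range (profiniteCompletion.map f).hom := by
    rintro _ ⟨h, rfl⟩
    obtain ⟨g, rfl⟩ := hf h
    exact ⟨etaFn G g, map_eta f g⟩
  have hd : Dense (Set.range (profiniteCompletion.map f).hom) := (denseRange H).mono hsub
  rw [← Set.range_eq_univ, ← hcl.closure_eq, hd.closure_eq]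

lemma component_eq_one {A : Type u} [Group A] (N : Subgroup A) [N.Normal]
    (H' : FiniteIndexNormalSubgroup (GrpCat.of A)) (hN : N ≤ H'.toSubgroup)
    (x : completion (GrpCat.of A))
    (hx : (profiniteCompletion.map (GrpCat.ofHom (QuotientGroup.mk' N))).hom x = 1) :
    x.1 H' = 1 := by
  let P : ProfiniteGrp.{u} := (diagram (GrpCat.of A)).obj H'
  have hker : N ≤ (QuotientGroup.mk' (H'.toSubgroup : Subgroup A)).ker := fun a ha => by
    rw [QuotientGroup.ker_mk']; exact hN ha
  let ψ₀ : A ⧸ N →* P := QuotientGroup.lift N (QuotientGroup.mk' (H'.toSubgroup : Subgroup A)) hker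
  let ψ : GrpCat.of (A ⧸ N) ⟶ GrpCat.of P := GrpCat.ofHom ψ₀
  let f₁ : completion (GrpCat.of A) ⟶ P := (limitCone (diagram (GrpCat.of A))).π.app H'
  let f₂ : completion (GrpCat.of A) ⟶ P :=
    profiniteCompletion.map (GrpCat.ofHom (QuotientGroup.mk' N)) ≫ lift ψ
  have key : (f₁.hom : completion (GrpCat.of A) → P) = f₂.hom := by
    refine (denseRange (G := GrpCat.of A)).equalizer f₁.hom.continuous_toFun
      f₂.hom.continuous_toFun (funext fun g => ?_)
    show f₁.hom (etaFn _ g) = (lift ψ).hom ((profiniteCompletion.map _).hom (etaFn _ g))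
    rw [map_eta, lift_eta_apply]
    rfl
  have h2 : f₂.hom x = 1 := by
    show (lift ψ).hom ((profiniteCompletion.map _).hom x) = 1
    rw [hx]
    exact map_one (lift ψ).hom
  have h1 : f₁.hom x = x.1 H' := rfl
  rw [← h1, key, h2]


lemma ker_le (A : Type u) [CommGroup A] (A' : Subgroup A) (x : completion (GrpCat.of A))
    (hx : (profiniteCompletion.map (GrpCat.ofHom (QuotientGroup.mk' A'))).hom x = 1) :
    ∃ y : completion (GrpCat.of A'), (profiniteCompletion.map (GrpCat.ofHom A'.subtype)).hom y = x := by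
  have hcl : IsClosed (Set.range (profiniteCompletion.map (GrpCat.ofHom A'.subtype)).hom) :=
    (profiniteCompletion.map (GrpCat.ofHom A'.subtype)).hom.continuous_toFun.isClosedMap.isClosed_range
  have hsub : Set.range (fun a' : A' => etaFn (GrpCat.of A) (a' : A)) ⊆
      Set.range (profiniteCompletion.map (GrpCat.ofHom A'.subtype)).hom := by
    rintro _ ⟨a', rfl⟩
    exact ⟨etaFn _ a', map_eta (GrpCat.ofHom A'.subtype) a'⟩
  have hmem : x ∈ closure (Set.range (fun a' : A' => etaFn (GrpCat.of A) (a' : A))) := by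
    rw [mem_closure_iff]
    intro U hU hxU
    obtain ⟨H, hH⟩ := nbhd_basis _ x U hU hxU
    obtain ⟨a, ha⟩ := QuotientGroup.mk_surjective (x.1 H)
    have hfi : (A' ⊔ H.toSubgroup : Subgroup A).FiniteIndex :=
      Subgroup.finiteIndex_of_le (H := H.toSubgroup) le_sup_right
    let H' : FiniteIndexNormalSubgroup (GrpCat.of A) :=
      { toSubgroup := (A' ⊔ H.toSubgroup : Subgroup A)
        isNormal' := Subgroup.normal_of_isMulCommutative _
        isFiniteIndex' := hfi }
    have hHH' : H ≤ H' := fun z hz => (le_sup_right : H.toSubgroup ≤ A' ⊔ H.toSubgroup) hz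
    have h1 : x.1 H' = 1 := component_eq_one A' H' le_sup_left x hx
    have h2 := x.property hHH'.hom
    have h3 : (QuotientGroup.mk a : A ⧸ (A' ⊔ H.toSubgroup : Subgroup A)) = 1 := by
      rw [← ha] at h2
      exact h2.trans h1
    rw [QuotientGroup.eq_one_iff, Subgroup.mem_sup] at h3
    obtain ⟨a', ha', h, hh, rfl⟩ := h3
    refine ⟨etaFn (GrpCat.of A) a', hH _ ?_, ⟨⟨a', ha'⟩, rfl⟩⟩
    rw [← ha]
    show (QuotientGroup.mk a' : A ⧸ H.toSubgroup) = QuotientGroup.mk (a' * h)
    rw [QuotientGroup.eq]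
    simpa using hh
  exact closure_minimal hsub hcl hmem

lemma range_le (A : Type u) [CommGroup A] (A' : Subgroup A) (y : completion (GrpCat.of A')) :
    (profiniteCompletion.map (GrpCat.ofHom (QuotientGroup.mk' A'))).hom
      ((profiniteCompletion.map (GrpCat.ofHom A'.subtype)).hom y) = 1 := by
  refine (denseRange (GrpCat.of A')).induction_on y ?_ ?_
  · exact isClosed_eq
      ((profiniteCompletion.map (GrpCat.ofHom (QuotientGroup.mk' A'))).hom.continuous_toFun.comp
        (profiniteCompletion.map (GrpCat.ofHom A'.subtype)).hom.continuous_toFun) continuous_const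
  · intro a'
    rw [map_eta, map_eta]
    have : (GrpCat.ofHom (QuotientGroup.mk' A')).hom ((GrpCat.ofHom A'.subtype).hom a') = 1 := by
      show (QuotientGroup.mk (a' : A) : A ⧸ A') = 1
      rw [QuotientGroup.eq_one_iff]; exact a'.2
    rw [this]
    rfl

theorem main (A : Type u) [CommGroup A] (A' : Subgroup A) :
    Function.Surjective (profiniteCompletion.map (GrpCat.ofHom (QuotientGroup.mk' A'))).hom ∧
      (profiniteCompletion.map (GrpCat.ofHom (QuotientGroup.mk' A'))).hom.toMonoidHom.ker =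
        (profiniteCompletion.map (GrpCat.ofHom A'.subtype)).hom.toMonoidHom.range := by
  refine ⟨map_surjective _ (QuotientGroup.mk'_surjective A'), ?_⟩
  apply le_antisymm
  · intro x hx
    exact ker_le A A' x hx
  · rintro _ ⟨y, rfl⟩
    exact range_le A A' y

/-- Abelian groups of bounded exponent are residually finite. -/
lemma exists_hom_finite_range {B : Type*} [CommGroup B] (m : ℕ) (hm : 0 < m)
    (hB : ∀ b : B, b ^ m = 1) {b₀ : B} (hb₀ : b₀ ≠ 1) :
    ∃ χ : B →* Multiplicative (AddCircle (1 : ℚ)), Finite χ.range ∧ χ b₀ ≠ 1 := by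
  obtain ⟨c, hc⟩ := CharacterModule.exists_character_apply_ne_zero_of_ne_zero
    (A := Additive B) (a := Additive.ofMul b₀) (by simpa using hb₀)
  let χ : B →* Multiplicative (AddCircle (1 : ℚ)) := AddMonoidHom.toMultiplicativeRight c
  refine ⟨χ, ?_, ?_⟩
  · have hsub : (χ.range : Set (Multiplicative (AddCircle (1 : ℚ)))) ⊆
        Multiplicative.toAdd ⁻¹' {u : AddCircle (1 : ℚ) | m • u = 0} := by
      rintro _ ⟨b, rfl⟩
      show m • (c (Additive.ofMul b)) = 0
      rw [← map_nsmul, ← ofMul_pow, hB]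
      simp
    have hfin : (Multiplicative.toAdd ⁻¹' {u : AddCircle (1 : ℚ) | m • u = 0}).Finite :=
      (AddCircle.finite_torsion (1 : ℚ) hm).preimage (Multiplicative.toAdd.injective.injOn)
    exact (hfin.subset hsub).to_subtype
  · intro h
    apply hc
    exact h

lemma exists_finiteIndex_sep (A : Type u) [CommGroup A] (A' : Subgroup A)
    (htors : ∃ N : ℕ, 0 < N ∧ ∀ x : A ⧸ A', IsOfFinOrder x → x ^ N = 1)
    (H' : Subgroup A') [H'.FiniteIndex] :
    ∃ H : Subgroup A, H.FiniteIndex ∧ ∀ a' : A', (a' : A) ∈ H → a' ∈ H' := by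
  obtain ⟨N, hN, htors⟩ := htors
  have hn : 0 < H'.index := Nat.pos_of_ne_zero Subgroup.FiniteIndex.index_ne_zero
  set n := H'.index with hndef
  set m := N * n with hmdef
  have hm : 0 < m := Nat.mul_pos hN hn
  let L : Subgroup A := H'.map A'.subtype ⊔ (powMonoidHom m : A →* A).range
  have hL : ∀ a' : A', (a' : A) ∈ L → a' ∈ H' := by
    intro a' ha'
    rw [Subgroup.mem_sup] at ha'
    obtain ⟨x, ⟨h', hh', rfl⟩, y, ⟨b, rfl⟩, hxy⟩ := ha'
    simp only [powMonoidHom_apply, Subgroup.subtype_apply] at hxy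
    have hbm : b ^ m ∈ A' := by
      have : b ^ m = (h' : A)⁻¹ * a' := by rw [← hxy]; group
      rw [this]
      exact A'.mul_mem (A'.inv_mem h'.2) a'.2
    have hbN : b ^ N ∈ A' := by
      have h1 : IsOfFinOrder (QuotientGroup.mk b : A ⧸ A') := by
        rw [isOfFinOrder_iff_pow_eq_one]
        refine ⟨m, hm, ?_⟩
        rw [← QuotientGroup.mk_pow, QuotientGroup.eq_one_iff]
        exact hbm
      have h2 := htors _ h1
      rwa [← QuotientGroup.mk_pow, QuotientGroup.eq_one_iff] at h2
    have h3 : (⟨b ^ N, hbN⟩ : A') ^ n ∈ H' := Subgroup.pow_index_mem H' _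
    have h4 : a' = h' * (⟨b ^ N, hbN⟩ : A') ^ n := by
      apply Subtype.ext
      simp only [Subgroup.coe_mul, Subgroup.coe_pow]
      rw [← hxy, ← pow_mul]
    rw [h4]
    exact H'.mul_mem hh' h3
  have hBm : ∀ b : A ⧸ L, b ^ m = 1 := by
    intro b
    obtain ⟨a, rfl⟩ := QuotientGroup.mk_surjective b
    rw [← QuotientGroup.mk_pow, QuotientGroup.eq_one_iff]
    exact (le_sup_right : (powMonoidHom m : A →* A).range ≤ L) ⟨a, rfl⟩
  have key : ∀ a' : A', ∃ K : Subgroup A, K.FiniteIndex ∧ H'.map A'.subtype ≤ K ∧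
      (a' ∉ H' → (a' : A) ∉ K) := by
    intro a'
    by_cases h : a' ∈ H'
    · exact ⟨⊤, inferInstance, le_top, fun h' => absurd h h'⟩
    · have hne : (QuotientGroup.mk (a' : A) : A ⧸ L) ≠ 1 := by
        rw [Ne, QuotientGroup.eq_one_iff]
        exact fun hh => h (hL a' hh)
      obtain ⟨χ, hχfin, hχ⟩ := exists_hom_finite_range m hm hBm hne
      let φ : A →* Multiplicative (AddCircle (1 : ℚ)) := χ.comp (QuotientGroup.mk' L)
      have : Finite φ.range := by
        have hle : φ.range ≤ χ.range := by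
          rintro _ ⟨a, rfl⟩; exact ⟨_, rfl⟩
        exact Finite.of_injective (Subgroup.inclusion hle) (Subgroup.inclusion_injective hle)
      refine ⟨φ.ker, inferInstance, ?_, fun _ hmem => hχ ?_⟩
      · rintro _ ⟨h', hh', rfl⟩
        rw [MonoidHom.mem_ker]
        show χ (QuotientGroup.mk (h' : A)) = 1
        have : (QuotientGroup.mk (h' : A) : A ⧸ L) = 1 := by
          rw [QuotientGroup.eq_one_iff]
          exact (le_sup_left : H'.map A'.subtype ≤ L) ⟨h', hh', rfl⟩
        rw [this, map_one]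
      · exact hmem
  choose K hK1 hK2 hK3 using key
  have : Finite (A' ⧸ H') := Subgroup.finite_quotient_of_finiteIndex
  refine ⟨⨅ q : A' ⧸ H', K q.out, Subgroup.finiteIndex_iInf (fun q => hK1 _), ?_⟩
  intro a' ha'
  by_contra hcon
  rw [Subgroup.mem_iInf] at ha'
  have h1 := ha' (QuotientGroup.mk a')
  set r := (QuotientGroup.mk a' : A' ⧸ H').out with hr
  have h2 : r⁻¹ * a' ∈ H' := by
    rw [← QuotientGroup.eq]
    exact QuotientGroup.out_eq' _
  have h3 : r ∉ H' := by
    intro hr'
    apply hcon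
    have : a' = r * (r⁻¹ * a') := by group
    rw [this]
    exact H'.mul_mem hr' h2
  apply hK3 r h3
  have h4 : ((r⁻¹ * a' : A') : A) ∈ K r := hK2 r ⟨_, h2, rfl⟩
  have : (r : A) = (a' : A) * ((r⁻¹ * a' : A') : A)⁻¹ := by
    simp
  rw [this]
  exact (K r).mul_mem h1 ((K r).inv_mem h4)


lemma map_component {G K : GrpCat.{u}} (f : G ⟶ K) (H : FiniteIndexNormalSubgroup K)
    (x : completion G) :
    ((profiniteCompletion.map f).hom x).1 H =
      QuotientGroup.map (H.comap f.hom).toSubgroup H.toSubgroup f.hom (le_refl _)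
        (x.1 (H.comap f.hom)) := by
  let P : ProfiniteGrp.{u} := (diagram K).obj H
  let P₀ : ProfiniteGrp.{u} := (diagram G).obj (H.comap f.hom)
  let q : P₀ ⟶ P := (forget₂ FiniteGrp ProfiniteGrp).map (FiniteGrp.ofHom
    (QuotientGroup.map (H.comap f.hom).toSubgroup H.toSubgroup f.hom (le_refl _)))
  let f₁ : completion G ⟶ P := profiniteCompletion.map f ≫ (limitCone (diagram K)).π.app H
  let f₂ : completion G ⟶ P := (limitCone (diagram G)).π.app (H.comap f.hom) ≫ q
  have key : (f₁.hom : completion G → P) = f₂.hom := by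
    refine (denseRange (G := G)).equalizer f₁.hom.continuous_toFun
      f₂.hom.continuous_toFun (funext fun g => ?_)
    show ((profiniteCompletion.map f).hom (etaFn _ g)).1 H = _
    rw [map_eta]
    rfl
  exact congrFun key x


theorem inj_main (A : Type u) [CommGroup A] (A' : Subgroup A)
    (sep : ∀ (H' : Subgroup A') [H'.FiniteIndex],
      ∃ H : Subgroup A, H.FiniteIndex ∧ ∀ a' : A', (a' : A) ∈ H → a' ∈ H') :
    Function.Injective (profiniteCompletion.map (GrpCat.ofHom A'.subtype)).hom := by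
  rw [injective_iff_map_eq_one]
  intro y hy
  apply ProfiniteGrp.limit_ext
  intro H'
  have : (H'.toSubgroup : Subgroup A').FiniteIndex := H'.isFiniteIndex'
  obtain ⟨H, hHfi, hH⟩ := sep H'.toSubgroup
  let Hn : FiniteIndexNormalSubgroup (GrpCat.of A) :=
    { toSubgroup := H
      isNormal' := Subgroup.normal_of_isMulCommutative _
      isFiniteIndex' := hHfi }
  have h1 := map_component (GrpCat.ofHom A'.subtype) Hn y
  rw [hy] at h1
  set H₀ := Hn.comap (GrpCat.ofHom A'.subtype).hom with hH₀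
  have h2 : y.1 H₀ = 1 := by
    obtain ⟨a', ha'⟩ := QuotientGroup.mk_surjective (y.1 H₀)
    rw [← ha'] at h1 ⊢
    have h3 : (QuotientGroup.mk ((a' : A)) : A ⧸ H) = 1 := h1.symm
    rw [QuotientGroup.eq_one_iff] at h3
    show (QuotientGroup.mk a' : A' ⧸ H₀.toSubgroup) = 1
    rw [QuotientGroup.eq_one_iff]
    exact h3
  have hle : H₀ ≤ H' := fun a' ha' => hH a' ha'
  have h4 := y.property hle.hom
  rw [← h4, h2]
  rfl



/-- additive: a character with finite range nonvanishing at a given nonzero element. -/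
lemma exists_addHom_finite_range {B : Type*} [AddCommGroup B] (m : ℕ) (hm : 0 < m)
    (hB : ∀ b : B, m • b = 0) {b₀ : B} (hb₀ : b₀ ≠ 0) :
    ∃ χ : B →+ AddCircle (1 : ℚ), Finite χ.range ∧ χ b₀ ≠ 0 := by
  obtain ⟨c, hc⟩ := CharacterModule.exists_character_apply_ne_zero_of_ne_zero
    (A := B) (a := b₀) hb₀
  refine ⟨c, ?_, hc⟩
  have hsub : (AddMonoidHom.range (c : B →+ AddCircle (1 : ℚ)) : Set (AddCircle (1 : ℚ))) ⊆
      {u : AddCircle (1 : ℚ) | m • u = 0} := by
    rintro _ ⟨b, rfl⟩
    show m • (c b) = 0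
    rw [← map_nsmul, hB, map_zero]
  exact ((AddCircle.finite_torsion (1 : ℚ) hm).subset hsub).to_subtype


end Groth.Agent.Helper6.ProCompl
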