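import Mathlib

set_option linter.unusedSectionVars false
set_option linter.unusedVariables false
set_option autoImplicit false
set_option maxHeartbeats 400000

noncomputable section

namespace Groth.Agent.Lib.Helper6.ProjNormal

open DirectSum

universe u

variable {A : Type u} [CommRing A] (𝒜 : ℕ → AddSubgroup A) [GradedRing 𝒜]

/-- homogeneous elements outside the prime `p`. -/
def hS (p : Ideal A) [p.IsPrime] : Submonoid A where
  carrier := {s | SetLike.IsHomogeneousElem 𝒜 s ∧ s ∉ p}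
  one_mem' := ⟨SetLike.isHomogeneousElem_one 𝒜, fun h => (inferInstance : p.IsPrime).ne_top
    ((Ideal.eq_top_iff_one p).2 h)⟩
  mul_mem' := fun {a b} ha hb => ⟨ha.1.mul hb.1, fun h =>
    ((inferInstance : p.IsPrime).mem_or_mem h).elim ha.2 hb.2⟩

theorem hS_le (p : Ideal A) [p.IsPrime] : hS 𝒜 p ≤ p.primeCompl := fun s hs => hs.2

/-- annihilators of homogeneous elements are homogeneous -/
theorem ann_component {h : A} {d : ℕ} (hh : h ∈ 𝒜 d) {u : A} (hu : u * h = 0) (i : ℕ) :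
    (decompose 𝒜 u i : A) * h = 0 := by
  rw [← coe_decompose_mul_add_of_right_mem 𝒜 hh, hu, decompose_zero]
  rfl

theorem ann_component' {s : A} {e : ℕ} (hs : s ∈ 𝒜 e) {a : A} (ha : s * a = 0) (i : ℕ) :
    s * (decompose 𝒜 a i : A) = 0 := by
  rw [← coe_decompose_mul_add_of_left_mem 𝒜 hs, ha, decompose_zero]
  rfl

theorem exists_component_notMem (p : Ideal A) {u : A} (hu : u ∉ p) :
    ∃ i, (decompose 𝒜 u i : A) ∉ p := by
  classical
  by_contra hcon
  push Not at hcon
  apply hu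
  rw [← sum_support_decompose 𝒜 u]
  exact Ideal.sum_mem _ fun i _ => hcon i

/-- key lemma: a homogeneous element killed by something outside `p` is killed by a homogeneous
element outside `p`. -/
theorem exists_hS_mul_eq_zero (p : Ideal A) [p.IsPrime] {h : A} {d : ℕ} (hh : h ∈ 𝒜 d) {u : A}
    (hu : u ∉ p) (huh : u * h = 0) : ∃ s ∈ hS 𝒜 p, s * h = 0 := by
  obtain ⟨i, hi⟩ := exists_component_notMem 𝒜 p hu
  exact ⟨(decompose 𝒜 u i : A), ⟨⟨i, (decompose 𝒜 u i).2⟩, hi⟩, ann_component 𝒜 hh huh i⟩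

/-- the homogeneous localization ring `T`. -/
abbrev T (p : Ideal A) [p.IsPrime] : Type u := Localization (hS 𝒜 p)

theorem mem_ker_iff (p : Ideal A) [p.IsPrime] (a : A) :
    algebraMap A (T 𝒜 p) a = 0 ↔ ∃ s ∈ hS 𝒜 p, s * a = 0 := by
  rw [IsLocalization.map_eq_zero_iff (hS 𝒜 p)]
  constructor
  · rintro ⟨m, hm⟩; exact ⟨m.1, m.2, hm⟩
  · rintro ⟨s, hs, h⟩; exact ⟨⟨s, hs⟩, h⟩

theorem ker_isPrime (p : Ideal A) [p.IsPrime] (hdom : IsDomain (Localization.AtPrime p)) :
    (RingHom.ker (algebraMap A (T 𝒜 p))).IsPrime := by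
  have hI : (RingHom.ker (algebraMap A (T 𝒜 p))).IsHomogeneous 𝒜 := by
    intro i r hr
    rw [RingHom.mem_ker, mem_ker_iff] at hr ⊢
    obtain ⟨s, hs, h⟩ := hr
    obtain ⟨e, he⟩ := hs.1
    exact ⟨s, hs, ann_component' 𝒜 he h i⟩
  refine hI.isPrime_of_homogeneous_mem_or_mem ?_ ?_
  · intro htop
    have h1 : (1 : A) ∈ RingHom.ker (algebraMap A (T 𝒜 p)) := by rw [htop]; trivial
    rw [RingHom.mem_ker, mem_ker_iff] at h1
    obtain ⟨s, hs, h⟩ := h1
    rw [mul_one] at h
    exact hs.2 (h ▸ p.zero_mem)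
  · intro x y hx hy hxy
    rw [RingHom.mem_ker, mem_ker_iff] at hxy
    obtain ⟨s, hs, h⟩ := hxy
    have h1 : algebraMap A (Localization.AtPrime p) s *
        (algebraMap A (Localization.AtPrime p) x * algebraMap A (Localization.AtPrime p) y) = 0 := by
      rw [← map_mul, ← map_mul, h, map_zero]
    have hsu : IsUnit (algebraMap A (Localization.AtPrime p) s) :=
      IsLocalization.map_units (Localization.AtPrime p) (⟨s, hs.2⟩ : p.primeCompl)
    have h2 := (hsu.mul_right_eq_zero).1 h1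
    rcases mul_eq_zero.1 h2 with h3 | h3
    · left
      rw [IsLocalization.map_eq_zero_iff p.primeCompl] at h3
      obtain ⟨u, hu⟩ := h3
      obtain ⟨d, hd⟩ := hx
      rw [RingHom.mem_ker, mem_ker_iff]
      exact exists_hS_mul_eq_zero 𝒜 p hd u.2 hu
    · right
      rw [IsLocalization.map_eq_zero_iff p.primeCompl] at h3
      obtain ⟨u, hu⟩ := h3
      obtain ⟨d, hd⟩ := hy
      rw [RingHom.mem_ker, mem_ker_iff]
      exact exists_hS_mul_eq_zero 𝒜 p hd u.2 hu

theorem T_isDomain (p : Ideal A) [p.IsPrime] (hdom : IsDomain (Localization.AtPrime p)) :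
    IsDomain (T 𝒜 p) := by
  have hker := ker_isPrime 𝒜 p hdom
  haveI : Nontrivial (T 𝒜 p) := by
    refine ⟨⟨0, 1, fun h => ?_⟩⟩
    have : algebraMap A (T 𝒜 p) 1 = 0 := by rw [map_one]; exact h.symm
    exact hker.ne_top ((Ideal.eq_top_iff_one _).2 (RingHom.mem_ker.2 this))
  haveI : NoZeroDivisors (T 𝒜 p) := by
    refine ⟨fun {x y} hxy => ?_⟩
    obtain ⟨a, s, rfl⟩ := IsLocalization.exists_mk'_eq (hS 𝒜 p) x
    obtain ⟨b, t, rfl⟩ := IsLocalization.exists_mk'_eq (hS 𝒜 p) y
    rw [← IsLocalization.mk'_mul, IsLocalization.mk'_eq_zero_iff] at hxy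
    obtain ⟨m, hm⟩ := hxy
    have hab : a * b ∈ RingHom.ker (algebraMap A (T 𝒜 p)) := by
      rw [RingHom.mem_ker, mem_ker_iff]; exact ⟨m.1, m.2, hm⟩
    rcases hker.mem_or_mem hab with h | h
    · left
      rw [RingHom.mem_ker, mem_ker_iff] at h
      obtain ⟨s', hs', h'⟩ := h
      rw [IsLocalization.mk'_eq_zero_iff]; exact ⟨⟨s', hs'⟩, h'⟩
    · right
      rw [RingHom.mem_ker, mem_ker_iff] at h
      obtain ⟨s', hs', h'⟩ := h
      rw [IsLocalization.mk'_eq_zero_iff]; exact ⟨⟨s', hs'⟩, h'⟩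
  exact NoZeroDivisors.to_isDomain _

theorem T_isIntegrallyClosed (p : Ideal A) [p.IsPrime]
    (hA : ∀ (q : Ideal A) [q.IsPrime], IsDomain (Localization.AtPrime q) ∧
      IsIntegrallyClosed (Localization.AtPrime q)) :
    haveI := T_isDomain 𝒜 p (hA p).1
    IsIntegrallyClosed (T 𝒜 p) := by
  haveI := T_isDomain 𝒜 p (hA p).1
  refine IsIntegrallyClosed.of_localization_maximal fun m _ hm => ?_
  haveI : m.IsPrime := hm.isPrime
  set q : Ideal A := m.comap (algebraMap A (T 𝒜 p)) with hq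
  haveI : q.IsPrime := Ideal.comap_isPrime _ _
  haveI := (hA q).2
  haveI : IsLocalization.AtPrime (Localization.AtPrime m) q :=
    IsLocalization.isLocalization_atPrime_localization_atPrime (hS 𝒜 p) m
  exact IsIntegrallyClosed.of_equiv
    (IsLocalization.algEquiv q.primeCompl (Localization.AtPrime q)
      (Localization.AtPrime m)).toRingEquiv


/-- the degree-zero part of `T`. -/
abbrev T0 (p : Ideal A) [p.IsPrime] : Type u := HomogeneousLocalization 𝒜 (hS 𝒜 p)

/-- the comparison map to the homogeneous localization at `p`. -/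
def cmp (p : Ideal A) [p.IsPrime] : T0 𝒜 p →+* HomogeneousLocalization.AtPrime 𝒜 p :=
  HomogeneousLocalization.mapId 𝒜 (hS_le 𝒜 p)

theorem val_cmp_mk (p : Ideal A) [p.IsPrime] (c : HomogeneousLocalization.NumDenSameDeg 𝒜 (hS 𝒜 p)) :
    (cmp 𝒜 p (HomogeneousLocalization.mk c)).val =
      Localization.mk (c.num : A) ⟨c.den, hS_le 𝒜 p c.den_mem⟩ := by
  unfold cmp
  rw [HomogeneousLocalization.map_mk, HomogeneousLocalization.val_mk]
  rfl

theorem cmp_injective (p : Ideal A) [p.IsPrime] : Function.Injective (cmp 𝒜 p) := by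
  intro x y hxy
  obtain ⟨c, rfl⟩ := HomogeneousLocalization.mk_surjective x
  obtain ⟨c', rfl⟩ := HomogeneousLocalization.mk_surjective y
  have h1 := congrArg HomogeneousLocalization.val hxy
  rw [val_cmp_mk, val_cmp_mk, Localization.mk_eq_mk_iff, Localization.r_iff_exists] at h1
  obtain ⟨u, hu⟩ := h1
  simp only at hu
  apply HomogeneousLocalization.val_injective
  rw [HomogeneousLocalization.val_mk, HomogeneousLocalization.val_mk, Localization.mk_eq_mk_iff,
    Localization.r_iff_exists]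
  -- the difference is homogeneous
  have hh : (c'.den : A) * c.num - c.den * c'.num ∈ 𝒜 (c.deg + c'.deg) := by
    refine sub_mem ?_ ?_
    · rw [add_comm]; exact SetLike.GradedMul.mul_mem c'.den.2 c.num.2
    · exact SetLike.GradedMul.mul_mem c.den.2 c'.num.2
  have hz : (u : A) * ((c'.den : A) * c.num - c.den * c'.num) = 0 := by
    rw [mul_sub, sub_eq_zero]; exact hu
  obtain ⟨s, hs, hs0⟩ := exists_hS_mul_eq_zero 𝒜 p hh u.2 hz
  refine ⟨⟨s, hs⟩, ?_⟩
  simp only
  rw [mul_sub, sub_eq_zero] at hs0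
  exact hs0

theorem cmp_surjective (p : Ideal A) [p.IsPrime] : Function.Surjective (cmp 𝒜 p) := by
  intro y
  obtain ⟨c, rfl⟩ := HomogeneousLocalization.mk_surjective y
  refine ⟨HomogeneousLocalization.mk ⟨c.deg, c.num, c.den, ⟨⟨c.deg, c.den.2⟩, c.den_mem⟩⟩, ?_⟩
  apply HomogeneousLocalization.val_injective
  rw [val_cmp_mk, HomogeneousLocalization.val_mk]

/-- the ring isomorphism `T0 ≃ A_(p)`. -/
def cmpEquiv (p : Ideal A) [p.IsPrime] : T0 𝒜 p ≃+* HomogeneousLocalization.AtPrime 𝒜 p :=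
  RingEquiv.ofBijective (cmp 𝒜 p) ⟨cmp_injective 𝒜 p, cmp_surjective 𝒜 p⟩

/-- the inclusion `T0 → T` as a ring hom. -/
def valHom (p : Ideal A) [p.IsPrime] : T0 𝒜 p →+* T 𝒜 p where
  toFun := HomogeneousLocalization.val
  map_one' := HomogeneousLocalization.val_one
  map_mul' := HomogeneousLocalization.val_mul
  map_zero' := HomogeneousLocalization.val_zero
  map_add' := HomogeneousLocalization.val_add

theorem valHom_injective (p : Ideal A) [p.IsPrime] : Function.Injective (valHom 𝒜 p) :=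
  HomogeneousLocalization.val_injective _

/-- (**) an element of `T` which is a quotient of two elements of `T0` lies in `T0`. -/
theorem mem_T0_of_mul_eq (p : Ideal A) [p.IsPrime] (hdom : IsDomain (T 𝒜 p))
    (y : T 𝒜 p) (a b : T0 𝒜 p) (hb : b ≠ 0) (h : y * valHom 𝒜 p b = valHom 𝒜 p a) :
    ∃ w : T0 𝒜 p, valHom 𝒜 p w = y := by
  obtain ⟨ca, rfl⟩ := HomogeneousLocalization.mk_surjective a
  obtain ⟨cb, rfl⟩ := HomogeneousLocalization.mk_surjective b
  obtain ⟨c, ⟨s, hs⟩, rfl⟩ := IsLocalization.exists_mk'_eq (hS 𝒜 p) y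
  obtain ⟨k, hk⟩ := hs.1
  -- candidate
  let w : T0 𝒜 p := HomogeneousLocalization.mk
    ⟨k, ⟨(decompose 𝒜 c k : A), (decompose 𝒜 c k).2⟩, ⟨s, hk⟩, hs⟩
  have hvb : valHom 𝒜 p (HomogeneousLocalization.mk cb) ≠ 0 := fun h0 =>
    hb (valHom_injective 𝒜 p (by rw [h0, map_zero]))
  suffices hw : valHom 𝒜 p w * valHom 𝒜 p (HomogeneousLocalization.mk cb) =
      valHom 𝒜 p (HomogeneousLocalization.mk ca) by
    refine ⟨w, ?_⟩
    have h3 : (valHom 𝒜 p w - IsLocalization.mk' (T 𝒜 p) c ⟨s, hs⟩) *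
        valHom 𝒜 p (HomogeneousLocalization.mk cb) = 0 := by
      rw [sub_mul, hw, h, sub_self]
    rcases mul_eq_zero.1 h3 with h4 | h4
    · exact sub_eq_zero.1 h4
    · exact absurd h4 hvb
  -- unfold everything to A
  show HomogeneousLocalization.val w * HomogeneousLocalization.val (HomogeneousLocalization.mk cb) =
    HomogeneousLocalization.val (HomogeneousLocalization.mk ca)
  change IsLocalization.mk' (T 𝒜 p) c ⟨s, hs⟩ *
    HomogeneousLocalization.val (HomogeneousLocalization.mk cb) =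
    HomogeneousLocalization.val (HomogeneousLocalization.mk ca) at h
  rw [HomogeneousLocalization.val_mk, HomogeneousLocalization.val_mk, ← Localization.mk_eq_mk',
    Localization.mk_mul, Localization.mk_eq_mk_iff, Localization.r_iff_exists] at h
  rw [HomogeneousLocalization.val_mk, HomogeneousLocalization.val_mk,
    HomogeneousLocalization.val_mk, Localization.mk_mul, Localization.mk_eq_mk_iff,
    Localization.r_iff_exists]
  obtain ⟨⟨u, hu⟩, hu'⟩ := h
  obtain ⟨e, he⟩ := hu.1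
  simp only [Submonoid.coe_mul] at hu' ⊢
  refine ⟨⟨u, hu⟩, ?_⟩
  simp only
  -- take the component of degree (e + ca.deg + cb.deg) + k
  have hL : u * ((ca.den : A) * (c * cb.num)) = (u * ca.den * cb.num) * c := by ring
  have hR : u * (s * (cb.den : A) * ca.num) ∈ 𝒜 ((e + ca.deg + cb.deg) + k) := by
    have : u * (s * (cb.den : A) * ca.num) = (u * ca.num * cb.den) * s := by ring
    rw [this]
    exact SetLike.GradedMul.mul_mem (SetLike.GradedMul.mul_mem
      (SetLike.GradedMul.mul_mem he ca.num.2) cb.den.2) hk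
  have hhom : u * (ca.den : A) * cb.num ∈ 𝒜 (e + ca.deg + cb.deg) :=
    SetLike.GradedMul.mul_mem (SetLike.GradedMul.mul_mem he ca.den.2) cb.num.2
  have h5 := congrArg (fun z => (decompose 𝒜 z ((e + ca.deg + cb.deg) + k) : A)) hu'
  simp only at h5
  rw [hL, coe_decompose_mul_add_of_left_mem 𝒜 hhom, decompose_of_mem_same 𝒜 hR] at h5
  rw [← h5]; ring


theorem T0_isDomain (p : Ideal A) [p.IsPrime] (hdom : IsDomain (T 𝒜 p)) : IsDomain (T0 𝒜 p) :=
  (valHom_injective 𝒜 p).isDomain (valHom 𝒜 p)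

theorem T0_isIntegrallyClosed (p : Ideal A) [p.IsPrime] (hdom : IsDomain (T 𝒜 p))
    (hnor : IsIntegrallyClosed (T 𝒜 p)) :
    haveI := T0_isDomain 𝒜 p hdom
    IsIntegrallyClosed (T0 𝒜 p) := by
  haveI := T0_isDomain 𝒜 p hdom
  rw [isIntegrallyClosed_iff (FractionRing (T0 𝒜 p))]
  intro x hx
  -- the field embedding
  let L := FractionRing (T 𝒜 p)
  let g : T0 𝒜 p →+* L := (algebraMap (T 𝒜 p) L).comp (valHom 𝒜 p)
  have hg : Function.Injective g :=
    (IsFractionRing.injective (T 𝒜 p) L).comp (valHom_injective 𝒜 p)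
  let j : FractionRing (T0 𝒜 p) →+* L := IsFractionRing.lift hg
  have hj : ∀ r : T0 𝒜 p, j (algebraMap _ _ r) = g r := fun r => IsFractionRing.lift_algebraMap hg r
  -- j x integral over T
  have hint : IsIntegral (T 𝒜 p) (j x) := by
    obtain ⟨P, hP, hPx⟩ := hx
    refine ⟨P.map (valHom 𝒜 p), hP.map _, ?_⟩
    rw [Polynomial.eval₂_map]
    have : Polynomial.eval₂ ((algebraMap (T 𝒜 p) L).comp (valHom 𝒜 p)) (j x) P =
        j (Polynomial.eval₂ (algebraMap (T0 𝒜 p) (FractionRing (T0 𝒜 p))) x P) := by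
      rw [Polynomial.hom_eval₂]
      congr 1
      ext r
      exact (hj r).symm
    rw [this, hPx, map_zero]
  obtain ⟨y, hy⟩ := (IsIntegrallyClosed.isIntegral_iff (R := T 𝒜 p) (K := L)).1 hint
  -- write x as a fraction
  obtain ⟨a, b, hxab⟩ := IsLocalization.exists_mk'_eq (nonZeroDivisors (T0 𝒜 p)) x
  have hb : (b : T0 𝒜 p) ≠ 0 := nonZeroDivisors.ne_zero b.2
  have hmul : x * algebraMap _ _ (b : T0 𝒜 p) = algebraMap _ _ a := by
    rw [← hxab, IsLocalization.mk'_spec]
  have h1 : y * valHom 𝒜 p b = valHom 𝒜 p a := by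
    apply IsFractionRing.injective (T 𝒜 p) L
    rw [map_mul, hy]
    have := congrArg j hmul
    rw [map_mul, hj, hj] at this
    exact this
  obtain ⟨w, hw⟩ := mem_T0_of_mul_eq 𝒜 p hdom y a b hb h1
  refine ⟨w, ?_⟩
  apply j.injective
  rw [hj, ← hy, ← hw]
  rfl

/-- Main theorem: the homogeneous localization at a homogeneous prime of a locally normal graded
ring is a normal domain. -/
theorem atPrime_normal (p : Ideal A) [p.IsPrime]
    (hA : ∀ (q : Ideal A) [q.IsPrime], IsDomain (Localization.AtPrime q) ∧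
      IsIntegrallyClosed (Localization.AtPrime q)) :
    IsDomain (HomogeneousLocalization.AtPrime 𝒜 p) ∧
      IsIntegrallyClosed (HomogeneousLocalization.AtPrime 𝒜 p) := by
  have hdom := T_isDomain 𝒜 p (hA p).1
  have hnor := T_isIntegrallyClosed 𝒜 p hA
  haveI := T0_isDomain 𝒜 p hdom
  haveI := T0_isIntegrallyClosed 𝒜 p hdom hnor
  exact ⟨(cmpEquiv 𝒜 p).toMulEquiv.isDomain_iff.1 inferInstance,
    IsIntegrallyClosed.of_equiv (cmpEquiv 𝒜 p)⟩

end Groth.Agent.Lib.Helper6.ProjNormal
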