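import Mathlib

/-! Projectivity of a module from projectivity modulo two ideals meeting in zero. -/

open scoped TensorProduct
set_option linter.unusedSectionVars false
set_option autoImplicit false
noncomputable section

namespace Groth.Agent.Lib.Helper6.ProjGlue

universe u
variable {R : Type u} [CommRing R]

section Lift
variable {P : Type*} [AddCommGroup P] [Module R P]

/-- lifting property for `R`-linear maps from `P` into modules killed by `J` -/
lemma lift_of_proj (J : Ideal R) (hJ : Module.Projective (R ⧸ J) ((R ⧸ J) ⊗[R] P))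
    {M N : Type*} [AddCommGroup M] [Module R M] [AddCommGroup N] [Module R N]
    (g : M →ₗ[R] N) (hg : Function.Surjective g) (hM : ∀ j ∈ J, ∀ m : M, j • m = 0)
    (f : P →ₗ[R] N) : ∃ f' : P →ₗ[R] M, g ∘ₗ f' = f := by
  have hN : ∀ j ∈ J, ∀ n : N, j • n = 0 := by
    intro j hj n
    obtain ⟨m, rfl⟩ := hg n
    rw [← map_smul, hM j hj, map_zero]
  have hM' : Module.IsTorsionBySet R M (J : Set R) := fun m j => hM j.1 j.2 m
  have hN' : Module.IsTorsionBySet R N (J : Set R) := fun n j => hN j.1 j.2 n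
  letI : Module (R ⧸ J) M := hM'.module
  letI : Module (R ⧸ J) N := hN'.module
  haveI : IsScalarTower R (R ⧸ J) M := hM'.isScalarTower
  haveI : IsScalarTower R (R ⧸ J) N := hN'.isScalarTower
  let gJ : M →ₗ[R ⧸ J] N :=
    { toFun := g
      map_add' := g.map_add
      map_smul' := by
        intro c m
        obtain ⟨r, rfl⟩ := Ideal.Quotient.mk_surjective c
        show g (Ideal.Quotient.mk J r • m) = Ideal.Quotient.mk J r • g m
        rw [Module.IsTorsionBySet.mk_smul hM', Module.IsTorsionBySet.mk_smul hN', map_smul] }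
  let fJ : (R ⧸ J) ⊗[R] P →ₗ[R ⧸ J] N := LinearMap.liftBaseChange (R ⧸ J) f
  obtain ⟨h, hh⟩ := Module.projective_lifting_property gJ fJ hg
  refine ⟨(h.restrictScalars R) ∘ₗ (TensorProduct.mk R (R ⧸ J) P 1), ?_⟩
  ext p
  have := LinearMap.congr_fun hh ((1 : R ⧸ J) ⊗ₜ[R] p)
  simpa [fJ, gJ] using this

end Lift

section Main

lemma kills (I : Ideal R) {M : Type*} [AddCommGroup M] [Module R M] :
    ∀ j ∈ I, ∀ m : M ⧸ (I • ⊤ : Submodule R M), j • m = 0 := by
  intro j hj m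
  obtain ⟨x, rfl⟩ := Submodule.Quotient.mk_surjective _ m
  rw [← Submodule.Quotient.mk_smul, Submodule.Quotient.mk_eq_zero]
  exact Submodule.smul_mem_smul hj Submodule.mem_top

lemma finsupp_inter (I J : Ideal R) {ι : Type*} (hIJ : I ⊓ J = ⊥) (f : ι →₀ R)
    (h1 : f ∈ (I • ⊤ : Submodule R (ι →₀ R))) (h2 : f ∈ (J • ⊤ : Submodule R (ι →₀ R))) :
    f = 0 := by
  ext i
  have hI : ∀ (K : Ideal R) (g : ι →₀ R), g ∈ (K • ⊤ : Submodule R (ι →₀ R)) → g i ∈ K := by
    intro K g hg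
    refine Submodule.smul_induction_on hg (fun r hr n _ => ?_) (fun x y hx hy => ?_)
    · rw [Finsupp.smul_apply, smul_eq_mul]
      exact K.mul_mem_right _ hr
    · rw [Finsupp.add_apply]
      exact K.add_mem hx hy
  have : f i ∈ I ⊓ J := ⟨hI I f h1, hI J f h2⟩
  rw [hIJ] at this
  simpa using this

lemma smul_smul_zero (I J : Ideal R) (hIJ : I ⊓ J = ⊥) {M : Type*} [AddCommGroup M] [Module R M]
    (a : R) (ha : a ∈ I) (y : M) (hy : y ∈ (J • ⊤ : Submodule R M)) : a • y = 0 := by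
  refine Submodule.smul_induction_on hy (fun j hj z _ => ?_) (fun x y hx hy => ?_)
  · have : a * j ∈ I ⊓ J := ⟨I.mul_mem_right _ ha, J.mul_mem_left _ hj⟩
    rw [hIJ] at this
    rw [smul_smul, (Submodule.mem_bot R).1 this, zero_smul]
  · rw [smul_add, hx, hy, add_zero]

lemma map_smul_top_eq {M N : Type*} [AddCommGroup M] [Module R M] [AddCommGroup N] [Module R N]
    (I : Ideal R) (π : M →ₗ[R] N) (hπ : Function.Surjective π) :
    Submodule.map π (I • ⊤ : Submodule R M) = I • ⊤ := by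
  rw [Submodule.map_smul'', Submodule.map_top, LinearMap.range_eq_top.2 hπ]

theorem projective_of_inf_eq_bot (I J : Ideal R) (hIJ : I ⊓ J = ⊥) (P : Type u) [AddCommGroup P]
    [Module R P] (hI : Module.Projective (R ⧸ I) ((R ⧸ I) ⊗[R] P))
    (hJ : Module.Projective (R ⧸ J) ((R ⧸ J) ⊗[R] P)) : Module.Projective R P := by
  let π : (P →₀ R) →ₗ[R] P := Finsupp.linearCombination R id
  have hπ : Function.Surjective π := fun p => ⟨Finsupp.single p 1, by simp [π]⟩
  let FI : Submodule R (P →₀ R) := I • ⊤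
  let FJ : Submodule R (P →₀ R) := J • ⊤
  let PI : Submodule R P := I • ⊤
  let PJ : Submodule R P := J • ⊤
  have hmI : Submodule.map π FI = PI := map_smul_top_eq I π hπ
  have hmJ : Submodule.map π FJ = PJ := map_smul_top_eq J π hπ
  have hπI : FI ≤ PI.comap π := by
    rw [← Submodule.map_le_iff_le_comap, hmI]
  have hπJ : FJ ≤ PJ.comap π := by
    rw [← Submodule.map_le_iff_le_comap, hmJ]
  have hπK : FI ⊔ FJ ≤ (PI ⊔ PJ).comap π := by
    rw [← Submodule.map_le_iff_le_comap, Submodule.map_sup, hmI, hmJ]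
  let πI : (P →₀ R) ⧸ FI →ₗ[R] P ⧸ PI := Submodule.mapQ FI PI π hπI
  let πJ : (P →₀ R) ⧸ FJ →ₗ[R] P ⧸ PJ := Submodule.mapQ FJ PJ π hπJ
  let πK : (P →₀ R) ⧸ (FI ⊔ FJ) →ₗ[R] P ⧸ (PI ⊔ PJ) := Submodule.mapQ _ _ π hπK
  have hπIs : Function.Surjective πI := by
    intro y
    obtain ⟨p, rfl⟩ := Submodule.Quotient.mk_surjective _ y
    obtain ⟨f, rfl⟩ := hπ p
    exact ⟨Submodule.Quotient.mk f, rfl⟩
  have hπJs : Function.Surjective πJ := by
    intro y
    obtain ⟨p, rfl⟩ := Submodule.Quotient.mk_surjective _ y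
    obtain ⟨f, rfl⟩ := hπ p
    exact ⟨Submodule.Quotient.mk f, rfl⟩
  obtain ⟨t1, ht1⟩ := lift_of_proj I hI πI hπIs (kills I) PI.mkQ
  obtain ⟨t2, ht2⟩ := lift_of_proj J hJ πJ hπJs (kills J) PJ.mkQ
  let qI : (P →₀ R) ⧸ FI →ₗ[R] (P →₀ R) ⧸ (FI ⊔ FJ) := Submodule.factor le_sup_left
  let qJ : (P →₀ R) ⧸ FJ →ₗ[R] (P →₀ R) ⧸ (FI ⊔ FJ) := Submodule.factor le_sup_right
  -- compatibility of the projections
  have hqI : ∀ x, πK (qI x) = Submodule.factor (le_sup_left : PI ≤ PI ⊔ PJ) (πI x) := by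
    intro x
    obtain ⟨f, rfl⟩ := Submodule.Quotient.mk_surjective _ x
    rfl
  have hqJ : ∀ x, πK (qJ x) = Submodule.factor (le_sup_right : PJ ≤ PI ⊔ PJ) (πJ x) := by
    intro x
    obtain ⟨f, rfl⟩ := Submodule.Quotient.mk_surjective _ x
    rfl
  let δ : P →ₗ[R] (P →₀ R) ⧸ (FI ⊔ FJ) := qI ∘ₗ t1 - qJ ∘ₗ t2
  have hδ : ∀ p, δ p ∈ LinearMap.ker πK := by
    intro p
    rw [LinearMap.mem_ker]
    show πK (qI (t1 p) - qJ (t2 p)) = 0
    rw [map_sub, hqI, hqJ]
    have h1 : πI (t1 p) = PI.mkQ p := LinearMap.congr_fun ht1 p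
    have h2 : πJ (t2 p) = PJ.mkQ p := LinearMap.congr_fun ht2 p
    rw [h1, h2, Submodule.factor_mk, Submodule.factor_mk, sub_self]
  -- the restriction to kernels
  have hr : ∀ x ∈ LinearMap.ker πJ, qJ x ∈ LinearMap.ker πK := by
    intro x hx
    rw [LinearMap.mem_ker] at hx ⊢
    rw [hqJ, hx, map_zero]
  let r : ↥(LinearMap.ker πJ) →ₗ[R] ↥(LinearMap.ker πK) := qJ.restrict hr
  have hrs : Function.Surjective r := by
    rintro ⟨d, hd⟩
    obtain ⟨f, rfl⟩ := Submodule.Quotient.mk_surjective _ d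
    rw [LinearMap.mem_ker] at hd
    have hd' : π f ∈ PI ⊔ PJ := by
      have : (Submodule.Quotient.mk (π f) : P ⧸ (PI ⊔ PJ)) = 0 := hd
      exact (Submodule.Quotient.mk_eq_zero _).1 this
    obtain ⟨a, ha, b, hb, hab⟩ := Submodule.mem_sup.1 hd'
    rw [← hmI] at ha
    rw [← hmJ] at hb
    obtain ⟨fa, hfa, rfl⟩ := ha
    obtain ⟨fb, hfb, rfl⟩ := hb
    have h0 : π (f - fa - fb) = 0 := by
      rw [map_sub, map_sub, ← hab]
      abel
    refine ⟨⟨Submodule.Quotient.mk (f - fa - fb), ?_⟩, ?_⟩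
    · rw [LinearMap.mem_ker]
      show (Submodule.Quotient.mk (π (f - fa - fb)) : P ⧸ PJ) = 0
      rw [h0]
      rfl
    · apply Subtype.ext
      show (Submodule.Quotient.mk (f - fa - fb) : (P →₀ R) ⧸ (FI ⊔ FJ)) = Submodule.Quotient.mk f
      rw [Submodule.Quotient.eq]
      have : f - fa - fb - f = -(fa + fb) := by abel
      rw [this]
      exact Submodule.neg_mem _ (Submodule.add_mem _ (Submodule.mem_sup_left hfa)
        (Submodule.mem_sup_right hfb))
  obtain ⟨η, hη⟩ := lift_of_proj J hJ r hrs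
    (fun j hj m => Subtype.ext (by
      rw [Submodule.coe_smul, kills J j hj]
      rfl))
    (δ.codRestrict (LinearMap.ker πK) hδ)
  let t2' : P →ₗ[R] (P →₀ R) ⧸ FJ := t2 + (LinearMap.ker πJ).subtype ∘ₗ η
  have ht2' : ∀ p, πJ (t2' p) = PJ.mkQ p := by
    intro p
    show πJ (t2 p + (η p : (P →₀ R) ⧸ FJ)) = _
    rw [map_add, LinearMap.mem_ker.1 (η p).2, add_zero]
    exact LinearMap.congr_fun ht2 p
  have hcompat : ∀ p, qI (t1 p) = qJ (t2' p) := by
    intro p
    show qI (t1 p) = qJ (t2 p + (η p : (P →₀ R) ⧸ FJ))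
    rw [map_add]
    have h3 : (r (η p) : (P →₀ R) ⧸ (FI ⊔ FJ)) = δ p := by
      have := LinearMap.congr_fun hη p
      exact congrArg Subtype.val this
    have h4 : (r (η p) : (P →₀ R) ⧸ (FI ⊔ FJ)) = qJ (η p : (P →₀ R) ⧸ FJ) := rfl
    rw [← h4, h3]
    show qI (t1 p) = qJ (t2 p) + (qI (t1 p) - qJ (t2 p))
    abel
  -- gluing
  have hex : ∀ p, ∃ f : P →₀ R, FI.mkQ f = t1 p ∧ FJ.mkQ f = t2' p := by
    intro p
    obtain ⟨f1, hf1⟩ := Submodule.Quotient.mk_surjective _ (t1 p)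
    obtain ⟨f2, hf2⟩ := Submodule.Quotient.mk_surjective _ (t2' p)
    have h5 : f1 - f2 ∈ FI ⊔ FJ := by
      rw [← Submodule.Quotient.eq]
      have := hcompat p
      rw [← hf1, ← hf2] at this
      exact this
    obtain ⟨u, hu, v, hv, huv⟩ := Submodule.mem_sup.1 h5
    refine ⟨f1 - u, ?_, ?_⟩
    · rw [← hf1]
      show (Submodule.Quotient.mk (f1 - u) : (P →₀ R) ⧸ FI) = Submodule.Quotient.mk f1
      rw [Submodule.Quotient.eq]
      have : f1 - u - f1 = -u := by abel
      rw [this]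
      exact Submodule.neg_mem _ hu
    · rw [← hf2]
      show (Submodule.Quotient.mk (f1 - u) : (P →₀ R) ⧸ FJ) = Submodule.Quotient.mk f2
      rw [Submodule.Quotient.eq]
      have : f1 - u - f2 = v := by
        have h8 : f1 - u - f2 = (f1 - f2) - u := by abel
        rw [h8, ← huv]
        abel
      rw [this]
      exact hv
  choose s hs1 hs2 using hex
  have huniq : ∀ f g : P →₀ R, FI.mkQ f = FI.mkQ g → FJ.mkQ f = FJ.mkQ g → f = g := by
    intro f g h1 h2
    have := finsupp_inter I J hIJ (f - g) ((Submodule.Quotient.eq _).1 h1)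
      ((Submodule.Quotient.eq _).1 h2)
    exact sub_eq_zero.1 this
  let sL : P →ₗ[R] (P →₀ R) :=
    { toFun := s
      map_add' := fun p q => huniq _ _ (by rw [hs1, map_add, map_add, hs1, hs1])
        (by rw [hs2, map_add, map_add, hs2, hs2])
      map_smul' := fun c p => huniq _ _ (by rw [hs1, map_smul, RingHom.id_apply, map_smul, hs1])
        (by rw [hs2, map_smul, RingHom.id_apply, map_smul, hs2]) }
  let e : P →ₗ[R] P := π ∘ₗ sL - LinearMap.id
  have heI : ∀ p, e p ∈ PI := by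
    intro p
    show π (s p) - p ∈ PI
    rw [← Submodule.Quotient.eq]
    have h6 : πI (FI.mkQ (s p)) = PI.mkQ p := by
      rw [hs1]
      exact LinearMap.congr_fun ht1 p
    exact h6
  have heJ : ∀ p, e p ∈ PJ := by
    intro p
    show π (s p) - p ∈ PJ
    rw [← Submodule.Quotient.eq]
    have h6 : πJ (FJ.mkQ (s p)) = PJ.mkQ p := by
      rw [hs2]
      exact ht2' p
    exact h6
  have he0 : ∀ x ∈ PI, e x = 0 := by
    intro x hx
    refine Submodule.smul_induction_on hx (fun a ha z _ => ?_) (fun x y hx hy => ?_)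
    · rw [map_smul]
      exact smul_smul_zero I J hIJ a ha (e z) (heJ z)
    · rw [map_add, hx, hy, add_zero]
  have hee : ∀ p, e (e p) = 0 := fun p => he0 _ (heI p)
  refine Module.Projective.of_split (sL ∘ₗ (LinearMap.id - e)) π ?_
  ext p
  show π (sL (p - e p)) = p
  have h7 : ∀ q, π (sL q) = q + e q := by
    intro q
    show π (sL q) = q + (π (sL q) - q)
    abel
  rw [h7, map_sub, hee]
  abel

end Main

end Groth.Agent.Lib.Helper6.ProjGlue
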