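import Mathlib.Tactic
import Mathlib.Algebra.Module.Projective
import Mathlib.LinearAlgebra.FreeModule.Basic
import Mathlib.LinearAlgebra.TensorProduct.Basic
import Mathlib.LinearAlgebra.Finsupp.LinearCombination
import Groth.Agent.Lib.Helper6.McCoy
import Mathlib.LinearAlgebra.TensorProduct.Finiteness
import Mathlib.LinearAlgebra.FreeModule.Finite.Basic
import Mathlib.LinearAlgebra.TensorProduct.RightExactness

/-! Rings in which every proper finitely generated ideal has a nonzero annihilator ("property P"):
injective maps between projective modules are locally split. -/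

set_option autoImplicit false

namespace Groth.Agent.Helper6.PropP

open Matrix Groth.Agent.Helper6.McCoy

universe u
variable {R : Type u} [CommRing R]

/-- property (P) -/
def P (R : Type u) [CommRing R] : Prop := ∀ I : Ideal R, I.FG → I ≠ ⊤ → I.annihilator ≠ ⊥

/-- Step 1: an injective matrix has a left inverse. -/
theorem exists_leftInverse (hP : P R) {m k : ℕ} (M : Matrix (Fin m) (Fin k) R)
    (hinj : Function.Injective M.mulVecLin) : ∃ L : Matrix (Fin k) (Fin m) R, L * M = 1 := by
  classical
  let d : (Fin k → Fin m) → R := fun f => (M.submatrix f id).det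
  have hfg : (Ideal.span (Set.range d)).FG := ⟨Finset.univ.image d, by simp⟩
  have hann : (Ideal.span (Set.range d)).annihilator = ⊥ := by
    rw [eq_bot_iff]
    intro a ha
    rw [Ideal.span, Submodule.mem_annihilator_span] at ha
    have hk : Kills M a k := by
      intro f g
      by_cases hg : Function.Injective g
      · have hb : Function.Bijective g := Finite.injective_iff_bijective.mp hg
        let σ : Equiv.Perm (Fin k) := Equiv.ofBijective g hb
        have e1 : M.submatrix f g = (M.submatrix f id).submatrix id σ := by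
          ext x y; rfl
        rw [e1, Matrix.det_permute']
        have := ha ⟨d f, Set.mem_range_self f⟩
        simp only [smul_eq_mul, d] at this
        calc a * (((Equiv.Perm.sign σ : ℤ) : R) * (M.submatrix f id).det)
            = ((Equiv.Perm.sign σ : ℤ) : R) * (a * (M.submatrix f id).det) := by ring
          _ = 0 := by rw [this, mul_zero]
      · rw [Function.Injective] at hg
        push Not at hg
        obtain ⟨i, i', hii, hne⟩ := hg
        rw [Matrix.det_zero_of_column_eq hne, mul_zero]
        intro l
        simp [Matrix.submatrix_apply, hii]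
    have := eq_zero_of_injective M hinj a hk
    rw [this]; exact Submodule.zero_mem _
  have htop : Ideal.span (Set.range d) = ⊤ := by
    by_contra hne
    exact hP _ hfg hne hann
  have h1 : (1 : R) ∈ Ideal.span (Set.range d) := by rw [htop]; trivial
  rw [Ideal.mem_span_range_iff_exists_fun] at h1
  obtain ⟨c, hc⟩ := h1
  refine ⟨∑ f, c f • ((M.submatrix f id).adjugate * (1 : Matrix (Fin m) (Fin m) R).submatrix f id), ?_⟩
  rw [Matrix.sum_mul]
  have hterm : ∀ f : Fin k → Fin m,
      (c f • ((M.submatrix f id).adjugate * (1 : Matrix (Fin m) (Fin m) R).submatrix f id)) * M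
        = (c f * d f) • (1 : Matrix (Fin k) (Fin k) R) := by
    intro f
    have e2 : (1 : Matrix (Fin m) (Fin m) R).submatrix f id * M = M.submatrix f id := by
      ext x y
      simp [Matrix.mul_apply, Matrix.one_apply]
    rw [Matrix.smul_mul, Matrix.mul_assoc, e2, Matrix.adjugate_mul, smul_smul]
  simp_rw [hterm]
  rw [← Finset.sum_smul, hc, one_smul]

/-- Step 3: local splitting for an injective map between free modules given by finitely
supported functions. -/
theorem exists_local_retraction_finsupp (hP : P R) {I J : Type u}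
    (w : (I →₀ R) →ₗ[R] (J →₀ R)) (hw : Function.Injective w) {k : ℕ} (xI : Fin k → I)
    (hxI : Function.Injective xI) :
    ∃ ρ : (J →₀ R) →ₗ[R] (I →₀ R), ∀ y : Fin k → R,
      ρ (w (∑ i, y i • Finsupp.single (xI i) (1 : R))) = ∑ i, y i • Finsupp.single (xI i) (1 : R) := by
  classical
  let J₀ : Finset J := Finset.univ.biUnion fun i : Fin k => (w (Finsupp.single (xI i) 1)).support
  let m := J₀.card
  let eJ : J₀ ≃ Fin m := J₀.equivFin
  let xJ : Fin m → J := fun j => (eJ.symm j : J)
  have hxJ : ∀ j ∈ J₀, ∃ j', xJ j' = j := by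
    intro j hj
    exact ⟨eJ ⟨j, hj⟩, by simp [xJ]⟩
  have hout : ∀ j, j ∉ J₀ → ∀ i, (w (Finsupp.single (xI i) 1)) j = 0 := by
    intro j hj i
    by_contra hne
    apply hj
    simp only [J₀, Finset.mem_biUnion, Finset.mem_univ, true_and]
    exact ⟨i, Finsupp.mem_support_iff.mpr hne⟩
  let M : Matrix (Fin m) (Fin k) R := fun j i => (w (Finsupp.single (xI i) 1)) (xJ j)
  have hwx : ∀ (y : Fin k → R) (j' : Fin m),
      (w (∑ i, y i • Finsupp.single (xI i) (1 : R))) (xJ j') = (M *ᵥ y) j' := by
    intro y j'
    rw [map_sum]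
    simp only [map_smul, Finsupp.coe_finsetSum, Finsupp.coe_smul, Finset.sum_apply, Pi.smul_apply,
      smul_eq_mul, Matrix.mulVec, dotProduct, M]
    refine Finset.sum_congr rfl fun i _ => ?_
    ring
  have hMinj : Function.Injective M.mulVecLin := by
    rw [injective_iff_map_eq_zero]
    intro y hy
    have hy' : M *ᵥ y = 0 := hy
    have hx0 : w (∑ i, y i • Finsupp.single (xI i) (1 : R)) = 0 := by
      ext j
      by_cases hj : j ∈ J₀
      · obtain ⟨j', rfl⟩ := hxJ j hj
        rw [hwx, hy']; rfl
      · rw [map_sum]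
        simp only [map_smul, Finsupp.coe_finsetSum, Finsupp.coe_smul, Finset.sum_apply,
          Pi.smul_apply, smul_eq_mul, Finsupp.coe_zero, Pi.zero_apply]
        apply Finset.sum_eq_zero
        intro i _
        rw [hout j hj i, mul_zero]
    have hx : (∑ i, y i • Finsupp.single (xI i) (1 : R)) = 0 := hw (by rw [hx0, map_zero])
    funext i
    have := DFunLike.congr_fun hx (xI i)
    simp only [Finsupp.coe_finsetSum, Finsupp.coe_smul, Finset.sum_apply, Pi.smul_apply,
      smul_eq_mul, Finsupp.coe_zero, Pi.zero_apply] at this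
    rw [Finset.sum_eq_single i] at this
    · simpa using this
    · intro b _ hb
      rw [Finsupp.single_apply, if_neg (fun h => hb (hxI h)), mul_zero]
    · intro h; exact absurd (Finset.mem_univ i) h
  obtain ⟨L, hL⟩ := exists_leftInverse hP M hMinj
  let ρ : (J →₀ R) →ₗ[R] (I →₀ R) :=
    ∑ i : Fin k, ∑ j : Fin m,
      (L i j) • ((LinearMap.toSpanSingleton R (I →₀ R) (Finsupp.single (xI i) (1 : R))) ∘ₗ
        (Finsupp.lapply (xJ j)))
  refine ⟨ρ, ?_⟩
  intro y
  simp only [ρ, LinearMap.sum_apply, LinearMap.smul_apply, LinearMap.comp_apply,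
    Finsupp.lapply_apply, LinearMap.toSpanSingleton_apply]
  refine Finset.sum_congr rfl fun i _ => ?_
  simp_rw [hwx, smul_smul]
  rw [← Finset.sum_smul]
  congr 1
  have : (L * M) *ᵥ y = y := by rw [hL, Matrix.one_mulVec]
  have h2 := congrFun this i
  rw [← Matrix.mulVec_mulVec] at h2
  simpa [Matrix.mulVec, dotProduct] using h2


/-- Step 3': the same with an arbitrary free target. -/
theorem exists_local_retraction_free (hP : P R) {I : Type u} {G : Type u} [AddCommGroup G]
    [Module R G] [Module.Free R G]
    (w : (I →₀ R) →ₗ[R] G) (hw : Function.Injective w) {k : ℕ} (xI : Fin k → I)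
    (hxI : Function.Injective xI) :
    ∃ ρ : G →ₗ[R] (I →₀ R), ∀ y : Fin k → R,
      ρ (w (∑ i, y i • Finsupp.single (xI i) (1 : R))) = ∑ i, y i • Finsupp.single (xI i) (1 : R) := by
  let b := Module.Free.chooseBasis R G
  have hw' : Function.Injective (b.repr.toLinearMap ∘ₗ w) := by
    intro x y hxy
    apply hw
    exact b.repr.injective hxy
  obtain ⟨ρ, hρ⟩ := exists_local_retraction_finsupp hP _ hw' xI hxI
  exact ⟨ρ ∘ₗ b.repr.toLinearMap, fun y => hρ y⟩

/-- Step 4: an injective map between projective modules is locally split. -/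
theorem exists_local_retraction (hP : P R) {N M : Type u} [AddCommGroup N] [Module R N]
    [Module.Projective R N] [AddCommGroup M] [Module R M] [Module.Projective R M]
    (u : N →ₗ[R] M) (hu : Function.Injective u) (S : Finset N) :
    ∃ r : M →ₗ[R] N, ∀ x ∈ S, r (u x) = x := by
  classical
  obtain ⟨sN, hsN⟩ := Module.projective_def'.mp (inferInstance : Module.Projective R N)
  obtain ⟨sM, hsM⟩ := Module.projective_def'.mp (inferInstance : Module.Projective R M)
  set πN : (N →₀ R) →ₗ[R] N := Finsupp.linearCombination R id with hπN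
  have hsN' : ∀ x, πN (sN x) = x := fun x => LinearMap.congr_fun hsN x
  have hsM' : ∀ x, Finsupp.linearCombination R id (sM x) = x := fun x => LinearMap.congr_fun hsM x
  have hsMinj : Function.Injective sM := by
    intro a b hab
    rw [← hsM' a, ← hsM' b, hab]
  let w : (N →₀ R) →ₗ[R] (M →₀ R) × (N →₀ R) :=
    LinearMap.prod (sM ∘ₗ u ∘ₗ πN) (LinearMap.id - sN ∘ₗ πN)
  have hw : Function.Injective w := by
    rw [injective_iff_map_eq_zero]
    intro x hx
    have h1 : sM (u (πN x)) = 0 := congrArg Prod.fst hx
    have h2 : x - sN (πN x) = 0 := congrArg Prod.snd hx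
    have h3 : πN x = 0 := by
      apply hu
      rw [map_zero]
      apply hsMinj
      rw [map_zero]; exact h1
    rw [h3, map_zero, sub_zero] at h2
    exact h2
  let I₀ : Finset N := S.biUnion fun x => (sN x).support
  let k := I₀.card
  let eI : I₀ ≃ Fin k := I₀.equivFin
  let xI : Fin k → N := fun l => (eI.symm l : N)
  have hxI : Function.Injective xI := by
    intro a b hab
    have : eI.symm a = eI.symm b := Subtype.ext hab
    exact eI.symm.injective this
  obtain ⟨ρ, hρ⟩ := exists_local_retraction_free hP w hw xI hxI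
  refine ⟨πN ∘ₗ ρ ∘ₗ LinearMap.inl R (M →₀ R) (N →₀ R) ∘ₗ sM, ?_⟩
  intro x hx
  -- write `sN x` in terms of the `xI`
  have hsupp : (sN x).support ⊆ I₀ := by
    intro a ha
    simp only [I₀, Finset.mem_biUnion]
    exact ⟨x, hx, ha⟩
  have hrep : sN x = ∑ l, (sN x) (xI l) • Finsupp.single (xI l) (1 : R) := by
    have h1 : sN x = ∑ a ∈ I₀, (sN x) a • Finsupp.single a (1 : R) := by
      conv_lhs => rw [← Finsupp.sum_single (sN x)]
      rw [Finsupp.sum]
      rw [Finset.sum_subset hsupp]
      · refine Finset.sum_congr rfl fun a _ => ?_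
        rw [Finsupp.smul_single, smul_eq_mul, mul_one]
      · intro a _ ha
        rw [Finsupp.notMem_support_iff.mp ha, Finsupp.single_zero]
    refine h1.trans ?_
    rw [← Finset.sum_coe_sort I₀]
    apply Fintype.sum_equiv eI
    intro a
    simp [xI]
  have hwx : w (sN x) = (sM (u x), 0) := by
    apply Prod.ext
    · show sM (u (πN (sN x))) = sM (u x)
      rw [hsN']
    · show sN x - sN (πN (sN x)) = 0
      rw [hsN', sub_self]
  have h4 := hρ (fun l => (sN x) (xI l))
  rw [← hrep, hwx] at h4
  simp only [LinearMap.comp_apply, LinearMap.inl_apply]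
  rw [h4, hsN']

open TensorProduct in
/-- Step 5: locally split maps are universally injective. -/
theorem rTensor_injective_of_local_retraction {N M : Type u} [AddCommGroup N] [Module R N]
    [AddCommGroup M] [Module R M] (u : N →ₗ[R] M)
    (h : ∀ S : Finset N, ∃ r : M →ₗ[R] N, ∀ x ∈ S, r (u x) = x)
    (Q : Type u) [AddCommGroup Q] [Module R Q] : Function.Injective (u.rTensor Q) := by
  classical
  rw [injective_iff_map_eq_zero]
  intro z hz
  obtain ⟨T, hT⟩ := TensorProduct.exists_finset z
  obtain ⟨r, hr⟩ := h (T.image Prod.fst)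
  have h1 : (r.rTensor Q) ((u.rTensor Q) z) = z := by
    rw [hT, map_sum, map_sum]
    refine Finset.sum_congr rfl fun p hp => ?_
    rw [LinearMap.rTensor_tmul, LinearMap.rTensor_tmul, hr]
    exact Finset.mem_image_of_mem _ hp
  rw [← h1, hz, map_zero]

end Groth.Agent.Helper6.PropP
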