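import Mathlib
import Groth.Prelude.Def_W4c5quivmodgenus0Quiv

set_option linter.unusedSectionVars false
set_option linter.unusedVariables false
set_option autoImplicit false
set_option maxHeartbeats 400000

noncomputable section

namespace Groth.Agent.Lib.Helper6.PtQuivL

open PtQuiv

variable {K : Type*} [Field K] {ι : Type*} [Fintype ι]

theorem finrank_cases (L : Submodule K (Fin 2 → K)) :
    Module.finrank K L = 0 ∨ Module.finrank K L = 1 ∨ Module.finrank K L = 2 := by
  have hle : Module.finrank K L ≤ 2 := by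
    have := Submodule.finrank_le L
    simpa using this
  omega

theorem le_span_of_finrank_one (L : Submodule K (Fin 2 → K)) (h : Module.finrank K L = 1) :
    ∃ v : Fin 2 → K, v ≠ 0 ∧ L = K ∙ v := by
  obtain ⟨v, hv0, hv⟩ := finrank_eq_one_iff'.1 h
  refine ⟨v, ?_, ?_⟩
  · intro h0
    apply hv0
    exact Subtype.ext h0
  · apply le_antisymm
    · intro x hx
      obtain ⟨c, hc⟩ := hv ⟨x, hx⟩
      rw [Submodule.mem_span_singleton]
      exact ⟨c, by simpa using congrArg Subtype.val hc⟩
    · rw [Submodule.span_singleton_le_iff_mem]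
      exact v.2

theorem top_of_finrank_two (L : Submodule K (Fin 2 → K)) (h : Module.finrank K L = 2) :
    L = ⊤ := by
  apply Submodule.eq_top_of_finrank_eq
  rw [h]
  simp

theorem mem_span_symm {x y : Fin 2 → K} (hx : x ≠ 0) (h : x ∈ K ∙ y) : y ∈ K ∙ x := by
  rw [Submodule.mem_span_singleton] at h ⊢
  obtain ⟨c, hc⟩ := h
  have hc0 : c ≠ 0 := by
    rintro rfl
    apply hx
    rw [← hc, zero_smul]
  exact ⟨c⁻¹, by rw [← hc, smul_smul, inv_mul_cancel₀ hc0, one_smul]⟩

/-- sufficient criterion for stability. -/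
theorem qstable_of (s : ι → (Fin 2 → K)) (hs : ∀ i, s i ≠ 0) (θ : ι → ℚ)
    (h2 : ∑ i, θ i = 2) (hpos : ∀ l, 0 < θ l)
    (hcl : ∀ (J : Finset ι) (v : Fin 2 → K), (∀ i ∈ J, s i ∈ K ∙ v) → ∑ i ∈ J, θ i < 1) :
    QStable (-1) θ s := by
  have hsum_le : ∀ I : Finset ι, ∑ i ∈ I, θ i ≤ 2 := by
    intro I
    rw [← h2]
    exact Finset.sum_le_sum_of_subset_of_nonneg (Finset.subset_univ I) (fun i _ _ => (hpos i).le)
  have hbotI : ∀ (L : Submodule K (Fin 2 → K)) (I : Finset ι), QSubrep s L I → L = ⊥ → I = ∅ := by
    intro L I hLI hbot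
    apply Finset.eq_empty_of_forall_notMem
    intro i hi
    have := hLI i hi
    rw [hbot] at this
    exact hs i (by simpa using this)
  refine ⟨⟨by rw [h2]; norm_num, ?_⟩, ?_⟩
  · intro L I hLI
    unfold QWt
    rcases finrank_cases L with h | h | h
    · have hbot : L = ⊥ := Submodule.finrank_eq_zero.1 h
      rw [h, hbotI L I hLI hbot]
      simp
    · obtain ⟨v, hv0, hv⟩ := le_span_of_finrank_one L h
      have := hcl I v (fun i hi => hv ▸ hLI i hi)
      rw [h]
      push_cast
      linarith
    · rw [h]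
      push_cast
      linarith [hsum_le I]
  · intro L I hLI hw
    unfold QWt at hw
    rcases finrank_cases L with h | h | h
    · left
      have hbot : L = ⊥ := Submodule.finrank_eq_zero.1 h
      exact ⟨hbot, hbotI L I hLI hbot⟩
    · exfalso
      obtain ⟨v, hv0, hv⟩ := le_span_of_finrank_one L h
      have := hcl I v (fun i hi => hv ▸ hLI i hi)
      rw [h] at hw
      push_cast at hw
      linarith
    · right
      refine ⟨top_of_finrank_two L h, ?_⟩
      rw [h] at hw
      push_cast at hw
      have hI : ∑ i ∈ I, θ i = ∑ i, θ i := by rw [h2]; linarith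
      by_contra hne
      have hss : I ⊂ Finset.univ := Finset.ssubset_iff_subset_ne.2 ⟨Finset.subset_univ I, hne⟩
      have := Finset.sum_lt_sum_of_subset (f := θ) (Finset.subset_univ I)
        (i := (Finset.exists_of_ssubset hss).choose) (Finset.mem_univ _)
        (Finset.exists_of_ssubset hss).choose_spec.2 (hpos _) (fun j _ _ => (hpos j).le)
      linarith

/-- necessary condition for stability. -/
theorem lt_one_of_qstable (s : ι → (Fin 2 → K)) (hs : ∀ i, s i ≠ 0) (θ : ι → ℚ)
    (hst : QStable (-1) θ s) (J : Finset ι) (v : Fin 2 → K) (hJ : ∀ i ∈ J, s i ∈ K ∙ v) :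
    ∑ i ∈ J, θ i < 1 := by
  by_cases hv : v = 0
  · have : J = ∅ := by
      apply Finset.eq_empty_of_forall_notMem
      intro i hi
      have h := hJ i hi
      rw [hv] at h
      simp at h
      exact hs i h
    rw [this]
    simp
  · have hsub : QSubrep s (K ∙ v) J := hJ
    have h := hst.1.2 (K ∙ v) J hsub
    unfold QWt at h
    rw [finrank_span_singleton hv] at h
    push_cast at h
    have hle : ∑ i ∈ J, θ i ≤ 1 := by linarith
    rcases lt_or_eq_of_le hle with hlt | heq
    · exact hlt
    · exfalso
      have hw : QWt K (-1) θ (K ∙ v) J = 0 := by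
        unfold QWt
        rw [finrank_span_singleton hv, heq]
        norm_num
      have hfr : Module.finrank K (K ∙ v) = 1 := finrank_span_singleton hv
      rcases hst.2 (K ∙ v) J hsub hw with ⟨hbot, _⟩ | ⟨htop, _⟩
      · rw [hbot] at hfr
        simp at hfr
      · rw [htop] at hfr
        simp at hfr

end Groth.Agent.Lib.Helper6.PtQuivL
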