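import Mathlib
import Groth.Prelude.Def_W4c5quivmodgenus0Quiv
import Groth.Agent.Lib.Helper6.PtQuivL

set_option linter.unusedSectionVars false
set_option linter.unusedVariables false
set_option autoImplicit false
set_option maxHeartbeats 400000

noncomputable section

namespace Groth.Agent.Lib.Helper6.PtQuivL2

open PtQuiv Groth.Agent.Lib.Helper6.PtQuivL

variable {K : Type*} [Field K] {κ : Type*} [Fintype κ] [DecidableEq κ]

theorem sumsplit (a b : κ) (hab : a ≠ b) (θ : κ → ℚ) (I : Finset κ) :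
    ∑ i ∈ I, θ i = (if a ∈ I then θ a else 0) + (if b ∈ I then θ b else 0) +
      ∑ i ∈ I.subtype (fun i => i ≠ a ∧ i ≠ b), θ i.1 := by
  rw [Finset.sum_subtype_eq_sum_filter]
  rw [← Finset.sum_filter_add_sum_filter_not I (fun i => i ≠ a ∧ i ≠ b) θ]
  have h1 : I.filter (fun i => ¬ (i ≠ a ∧ i ≠ b)) = I.filter (fun i => i = a) ∪ I.filter (fun i => i = b) := by
    ext i
    simp only [Finset.mem_filter, Finset.mem_union]
    constructor
    · rintro ⟨hi, h⟩
      by_cases hia : i = a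
      · exact Or.inl ⟨hi, hia⟩
      · by_cases hib : i = b
        · exact Or.inr ⟨hi, hib⟩
        · exact absurd ⟨hia, hib⟩ h
    · rintro (⟨hi, h⟩ | ⟨hi, h⟩)
      · exact ⟨hi, fun h' => h'.1 h⟩
      · exact ⟨hi, fun h' => h'.2 h⟩
  have hdisj : Disjoint (I.filter (fun i => i = a)) (I.filter (fun i => i = b)) := by
    rw [Finset.disjoint_left]
    intro i hi hi'
    rw [Finset.mem_filter] at hi hi'
    exact hab (hi.2.symm.trans hi'.2)
  have hf : ∀ c : κ, ∑ i ∈ I.filter (fun i => i = c), θ i = if c ∈ I then θ c else 0 := by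
    intro c
    rw [Finset.sum_filter, Finset.sum_ite_eq']
  rw [h1, Finset.sum_union hdisj, hf a, hf b]
  ring

theorem sub_eq_bot_or_top (U : Submodule K K) : U = ⊥ ∨ U = ⊤ :=
  Ideal.eq_bot_or_top U

theorem finrank_sub (U : Submodule K K) [Decidable (U = ⊤)] :
    (Module.finrank K U : ℚ) = if U = ⊤ then 1 else 0 := by
  rcases sub_eq_bot_or_top U with h | h
  · have : U ≠ ⊤ := by rw [h]; exact bot_ne_top
    rw [if_neg this, h, finrank_bot]
    simp
  · rw [if_pos h, h, finrank_top, Module.finrank_self]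
    simp


section PQ

variable (a b : κ) (s : κ → (Fin 2 → K))

open Classical in
/-- the plane subspace attached to a `P`-subrepresentation. -/
def QL (U : Fin 2 → Submodule K K) : Submodule K (Fin 2 → K) :=
  (if U 0 = ⊤ then K ∙ s a else ⊥) ⊔ (if U 1 = ⊤ then K ∙ s b else ⊥)

open Classical in
/-- the index set attached to a `P`-subrepresentation. -/
def QI (U : Fin 2 → Submodule K K) (I : Finset {i : κ // i ≠ a ∧ i ≠ b}) : Finset κ :=
  (I.map (Function.Embedding.subtype _) ∪ (if U 0 = ⊤ then {a} else ∅)) ∪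
    (if U 1 = ⊤ then {b} else ∅)

variable {a b}

theorem mem_QI (U : Fin 2 → Submodule K K) (I : Finset {i : κ // i ≠ a ∧ i ≠ b}) (x : κ) :
    x ∈ QI a b U I ↔ (∃ h : x ≠ a ∧ x ≠ b, (⟨x, h⟩ : {i : κ // i ≠ a ∧ i ≠ b}) ∈ I) ∨
      (U 0 = ⊤ ∧ x = a) ∨ (U 1 = ⊤ ∧ x = b) := by
  classical
  unfold QI
  rw [Finset.mem_union, Finset.mem_union, Finset.mem_map]
  constructor
  · rintro ((⟨y, hy, rfl⟩ | h) | h)
    · exact Or.inl ⟨y.2, hy⟩
    · by_cases hU : U 0 = ⊤
      · rw [if_pos hU, Finset.mem_singleton] at h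
        exact Or.inr (Or.inl ⟨hU, h⟩)
      · rw [if_neg hU] at h
        simp at h
    · by_cases hU : U 1 = ⊤
      · rw [if_pos hU, Finset.mem_singleton] at h
        exact Or.inr (Or.inr ⟨hU, h⟩)
      · rw [if_neg hU] at h
        simp at h
  · rintro (⟨h, hx⟩ | ⟨hU, rfl⟩ | ⟨hU, rfl⟩)
    · exact Or.inl (Or.inl ⟨⟨x, h⟩, hx, rfl⟩)
    · refine Or.inl (Or.inr ?_)
      rw [if_pos hU]
      exact Finset.mem_singleton_self _
    · refine Or.inr ?_
      rw [if_pos hU]
      exact Finset.mem_singleton_self _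

theorem a_mem_QI (hab : a ≠ b) (U : Fin 2 → Submodule K K) (I : Finset {i : κ // i ≠ a ∧ i ≠ b}) :
    a ∈ QI a b U I ↔ U 0 = ⊤ := by
  rw [mem_QI]
  constructor
  · rintro (⟨h, _⟩ | ⟨hU, _⟩ | ⟨_, h⟩)
    · exact absurd rfl h.1
    · exact hU
    · exact absurd h hab
  · intro hU
    exact Or.inr (Or.inl ⟨hU, rfl⟩)

theorem b_mem_QI (hab : a ≠ b) (U : Fin 2 → Submodule K K) (I : Finset {i : κ // i ≠ a ∧ i ≠ b}) :
    b ∈ QI a b U I ↔ U 1 = ⊤ := by
  rw [mem_QI]
  constructor
  · rintro (⟨h, _⟩ | ⟨_, h⟩ | ⟨hU, _⟩)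
    · exact absurd rfl h.2
    · exact absurd h.symm hab
    · exact hU
  · intro hU
    exact Or.inr (Or.inr ⟨hU, rfl⟩)

theorem QI_subtype (U : Fin 2 → Submodule K K) (I : Finset {i : κ // i ≠ a ∧ i ≠ b}) :
    (QI a b U I).subtype (fun i => i ≠ a ∧ i ≠ b) = I := by
  ext x
  rw [Finset.mem_subtype, mem_QI]
  constructor
  · rintro (⟨h, hx⟩ | ⟨_, h⟩ | ⟨_, h⟩)
    · exact hx
    · exact absurd h x.2.1
    · exact absurd h x.2.2
  · intro hx
    exact Or.inl ⟨x.2, hx⟩

theorem sa_ne_zero (hli : LinearIndependent K ![s a, s b]) : s a ≠ 0 := hli.ne_zero 0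

theorem sb_ne_zero (hli : LinearIndependent K ![s a, s b]) : s b ≠ 0 := hli.ne_zero 1

theorem span_sup_eq_top (hli : LinearIndependent K ![s a, s b]) :
    (K ∙ s a) ⊔ (K ∙ s b) = ⊤ := by
  have h := hli.span_eq_top_of_card_eq_finrank' (by simp)
  rw [← h]
  have : Set.range ![s a, s b] = {s a, s b} := by
    ext x
    simp only [Set.mem_range, Set.mem_insert_iff, Set.mem_singleton_iff]
    constructor
    · rintro ⟨i, rfl⟩
      fin_cases i
      · exact Or.inl rfl
      · exact Or.inr rfl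
    · rintro (rfl | rfl)
      · exact ⟨0, rfl⟩
      · exact ⟨1, rfl⟩
  rw [this, Submodule.span_insert]

open Classical in
theorem finrank_QL (hli : LinearIndependent K ![s a, s b]) (U : Fin 2 → Submodule K K) :
    (Module.finrank K (QL a b s U) : ℚ) = (if U 0 = ⊤ then 1 else 0) + (if U 1 = ⊤ then 1 else 0) := by
  unfold QL
  by_cases h0 : U 0 = ⊤ <;> by_cases h1 : U 1 = ⊤
  · rw [if_pos h0, if_pos h1, if_pos h0, if_pos h1, span_sup_eq_top s hli, finrank_top]
    simp
    norm_num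
  · rw [if_pos h0, if_neg h1, if_pos h0, if_neg h1, sup_bot_eq,
      finrank_span_singleton (sa_ne_zero s hli)]
    simp
  · rw [if_neg h0, if_pos h1, if_neg h0, if_pos h1, bot_sup_eq,
      finrank_span_singleton (sb_ne_zero s hli)]
    simp
  · rw [if_neg h0, if_neg h1, if_neg h0, if_neg h1, sup_bot_eq, finrank_bot]
    simp

theorem qsubrep_QL (t : {i : κ // i ≠ a ∧ i ≠ b} → (Fin 2 → K))
    (ht : ∀ i, s i.1 = t i 0 • s a + t i 1 • s b)
    (U : Fin 2 → Submodule K K) (I : Finset {i : κ // i ≠ a ∧ i ≠ b}) (h : PSubrep t U I) :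
    QSubrep s (QL a b s U) (QI a b U I) := by
  classical
  intro x hx
  rw [mem_QI] at hx
  unfold QL
  rcases hx with ⟨hp, hxI⟩ | ⟨hU, rfl⟩ | ⟨hU, rfl⟩
  · have h1 := ht ⟨x, hp⟩
    simp only at h1
    rw [h1]
    apply Submodule.add_mem_sup
    · by_cases hU : U 0 = ⊤
      · rw [if_pos hU]
        exact Submodule.smul_mem _ _ (Submodule.mem_span_singleton_self _)
      · rw [if_neg hU]
        have hb : U 0 = ⊥ := (sub_eq_bot_or_top (U 0)).resolve_right hU
        have := h ⟨x, hp⟩ hxI 0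
        rw [hb, Submodule.mem_bot] at this
        rw [this, zero_smul]
        exact Submodule.zero_mem _
    · by_cases hU : U 1 = ⊤
      · rw [if_pos hU]
        exact Submodule.smul_mem _ _ (Submodule.mem_span_singleton_self _)
      · rw [if_neg hU]
        have hb : U 1 = ⊥ := (sub_eq_bot_or_top (U 1)).resolve_right hU
        have := h ⟨x, hp⟩ hxI 1
        rw [hb, Submodule.mem_bot] at this
        rw [this, zero_smul]
        exact Submodule.zero_mem _
  · rw [if_pos hU]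
    exact Submodule.mem_sup_left (Submodule.mem_span_singleton_self _)
  · rw [if_pos hU]
    exact Submodule.mem_sup_right (Submodule.mem_span_singleton_self _)


/-- the `P`-weights attached to `θ`. -/
def etaP (a b : κ) (θ : κ → ℚ) : Fin 2 → ℚ :=
  ![(2 - θ a - θ b)⁻¹ * (θ a - 1), (2 - θ a - θ b)⁻¹ * (θ b - 1)]

def thetaP (a b : κ) (θ : κ → ℚ) : {i : κ // i ≠ a ∧ i ≠ b} → ℚ :=
  fun i => (2 - θ a - θ b)⁻¹ * θ i.1

open Classical in
theorem pwt_eq (θ : κ → ℚ) (hθ' : θ a + θ b < 2) (U : Fin 2 → Submodule K K)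
    (I : Finset {i : κ // i ≠ a ∧ i ≠ b}) :
    (2 - θ a - θ b) * PWt K (etaP a b θ) (thetaP a b θ) U I =
      (θ a - 1) * (if U 0 = ⊤ then 1 else 0) + (θ b - 1) * (if U 1 = ⊤ then 1 else 0) +
        ∑ i ∈ I, θ i.1 := by
  have hd : (2 - θ a - θ b) ≠ 0 := by linarith
  unfold PWt etaP thetaP
  rw [Fin.sum_univ_two, finrank_sub, finrank_sub, ← Finset.mul_sum]
  simp only [Matrix.cons_val_zero, Matrix.cons_val_one]
  field_simp

open Classical in
theorem qwt_eq (hab : a ≠ b) (hli : LinearIndependent K ![s a, s b]) (θ : κ → ℚ)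
    (hθ' : θ a + θ b < 2) (U : Fin 2 → Submodule K K) (I : Finset {i : κ // i ≠ a ∧ i ≠ b}) :
    QWt K (-1) θ (QL a b s U) (QI a b U I) =
      (2 - θ a - θ b) * PWt K (etaP a b θ) (thetaP a b θ) U I := by
  rw [pwt_eq θ hθ']
  unfold QWt
  rw [finrank_QL s hli, sumsplit a b hab θ, QI_subtype]
  simp only [a_mem_QI hab, b_mem_QI hab]
  by_cases h0 : U 0 = ⊤ <;> by_cases h1 : U 1 = ⊤ <;> simp [h0, h1] <;> ring

theorem sum_kappa' (hab : a ≠ b) (θ : κ → ℚ) (h2 : ∑ i, θ i = 2) :
    ∑ i : {i : κ // i ≠ a ∧ i ≠ b}, θ i.1 = 2 - θ a - θ b := by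
  have h := sumsplit a b hab θ Finset.univ
  rw [h2, Finset.subtype_univ] at h
  simp only [Finset.mem_univ, if_true] at h
  linarith

theorem P2Q_bot (hli : LinearIndependent K ![s a, s b]) (U : Fin 2 → Submodule K K)
    (I : Finset {i : κ // i ≠ a ∧ i ≠ b}) (h : QL a b s U = ⊥ ∧ QI a b U I = ∅) :
    U = ⊥ ∧ I = ∅ := by
  classical
  obtain ⟨hL, hI⟩ := h
  have h0 : U 0 ≠ ⊤ := by
    intro hU
    have : s a ∈ QL a b s U := by
      unfold QL
      rw [if_pos hU]
      exact Submodule.mem_sup_left (Submodule.mem_span_singleton_self _)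
    rw [hL, Submodule.mem_bot] at this
    exact sa_ne_zero s hli this
  have h1 : U 1 ≠ ⊤ := by
    intro hU
    have : s b ∈ QL a b s U := by
      unfold QL
      rw [if_pos hU]
      exact Submodule.mem_sup_right (Submodule.mem_span_singleton_self _)
    rw [hL, Submodule.mem_bot] at this
    exact sb_ne_zero s hli this
  refine ⟨?_, ?_⟩
  · funext j
    fin_cases j
    · exact (sub_eq_bot_or_top (U 0)).resolve_right h0
    · exact (sub_eq_bot_or_top (U 1)).resolve_right h1
  · apply Finset.eq_empty_of_forall_notMem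
    intro x hx
    have : x.1 ∈ QI a b U I := (mem_QI U I x.1).2 (Or.inl ⟨x.2, hx⟩)
    rw [hI] at this
    simp at this

theorem P2Q_top (hli : LinearIndependent K ![s a, s b]) (U : Fin 2 → Submodule K K)
    (I : Finset {i : κ // i ≠ a ∧ i ≠ b}) (h : QL a b s U = ⊤ ∧ QI a b U I = Finset.univ) :
    U = ⊤ ∧ I = Finset.univ := by
  classical
  obtain ⟨hL, hI⟩ := h
  have hfr := finrank_QL s hli U
  rw [hL, finrank_top] at hfr
  have h2 : (Module.finrank K (Fin 2 → K) : ℚ) = 2 := by simp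
  rw [h2] at hfr
  have h0 : U 0 = ⊤ := by
    by_contra hU
    rw [if_neg hU] at hfr
    by_cases hU1 : U 1 = ⊤
    · rw [if_pos hU1] at hfr; norm_num at hfr
    · rw [if_neg hU1] at hfr; norm_num at hfr
  have h1 : U 1 = ⊤ := by
    by_contra hU
    rw [if_neg hU, if_pos h0] at hfr
    norm_num at hfr
  refine ⟨?_, ?_⟩
  · funext j
    fin_cases j
    · exact h0
    · exact h1
  · apply Finset.eq_univ_of_forall
    intro x
    have : x.1 ∈ QI a b U I := by rw [hI]; exact Finset.mem_univ _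
    rw [mem_QI] at this
    rcases this with ⟨_, hx⟩ | ⟨_, h⟩ | ⟨_, h⟩
    · exact hx
    · exact absurd h x.2.1
    · exact absurd h x.2.2


theorem t_zero_of (hli : LinearIndependent K ![s a, s b])
    (t : {i : κ // i ≠ a ∧ i ≠ b} → (Fin 2 → K))
    (ht : ∀ i, s i.1 = t i 0 • s a + t i 1 • s b) (i : {i : κ // i ≠ a ∧ i ≠ b})
    (h : s i.1 = 0) : t i 0 = 0 ∧ t i 1 = 0 := by
  rw [LinearIndependent.pair_iff] at hli
  apply hli
  rw [← ht i, h]

theorem t1_zero_of (hli : LinearIndependent K ![s a, s b])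
    (t : {i : κ // i ≠ a ∧ i ≠ b} → (Fin 2 → K))
    (ht : ∀ i, s i.1 = t i 0 • s a + t i 1 • s b) (i : {i : κ // i ≠ a ∧ i ≠ b})
    (h : s i.1 ∈ K ∙ s a) : t i 1 = 0 := by
  rw [LinearIndependent.pair_iff] at hli
  rw [Submodule.mem_span_singleton] at h
  obtain ⟨c, hc⟩ := h
  have := hli (t i 0 - c) (t i 1) (by rw [sub_smul, hc, sub_add_eq_add_sub, ← ht i, sub_self])
  exact this.2

theorem t0_zero_of (hli : LinearIndependent K ![s a, s b])
    (t : {i : κ // i ≠ a ∧ i ≠ b} → (Fin 2 → K))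
    (ht : ∀ i, s i.1 = t i 0 • s a + t i 1 • s b) (i : {i : κ // i ≠ a ∧ i ≠ b})
    (h : s i.1 ∈ K ∙ s b) : t i 0 = 0 := by
  rw [LinearIndependent.pair_iff] at hli
  rw [Submodule.mem_span_singleton] at h
  obtain ⟨c, hc⟩ := h
  have := hli (t i 0) (t i 1 - c) (by rw [sub_smul, hc, ← add_sub_assoc, ← ht i, sub_self])
  exact this.1

theorem not_mem_span_of_li (hli : LinearIndependent K ![s a, s b]) : s b ∉ K ∙ s a := by
  rw [LinearIndependent.pair_iff] at hli
  intro h
  rw [Submodule.mem_span_singleton] at h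
  obtain ⟨c, hc⟩ := h
  have := hli c (-1) (by rw [hc, neg_smul, one_smul, add_neg_cancel])
  have h1 := this.2
  norm_num at h1

theorem not_mem_span_of_li' (hli : LinearIndependent K ![s a, s b]) : s a ∉ K ∙ s b := by
  intro h
  exact not_mem_span_of_li s hli (mem_span_symm (sa_ne_zero s hli) h)

theorem bot_ne_top_pi : (⊥ : Fin 2 → Submodule K K) ≠ ⊤ := by
  intro h
  have : (⊥ : Submodule K K) = ⊤ := congrFun h 0
  exact bot_ne_top this

theorem pwt_bot (θ : κ → ℚ) (hθ' : θ a + θ b < 2) (I : Finset {i : κ // i ≠ a ∧ i ≠ b}) :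
    (2 - θ a - θ b) * PWt K (etaP a b θ) (thetaP a b θ) (⊥ : Fin 2 → Submodule K K) I =
      ∑ i ∈ I, θ i.1 := by
  classical
  rw [pwt_eq θ hθ']
  have e0 : ¬ ((⊥ : Fin 2 → Submodule K K) 0 = ⊤) := fun h => (bot_ne_top : (⊥ : Submodule K K) ≠ ⊤) h
  have e1 : ¬ ((⊥ : Fin 2 → Submodule K K) 1 = ⊤) := fun h => (bot_ne_top : (⊥ : Submodule K K) ≠ ⊤) h
  rw [if_neg e0, if_neg e1]
  ring

theorem pwt_top (θ : κ → ℚ) (hθ' : θ a + θ b < 2) (I : Finset {i : κ // i ≠ a ∧ i ≠ b}) :
    (2 - θ a - θ b) * PWt K (etaP a b θ) (thetaP a b θ) (⊤ : Fin 2 → Submodule K K) I =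
      (θ a - 1) + (θ b - 1) + ∑ i ∈ I, θ i.1 := by
  classical
  rw [pwt_eq θ hθ']
  have e0 : ((⊤ : Fin 2 → Submodule K K) 0 = ⊤) := rfl
  have e1 : ((⊤ : Fin 2 → Submodule K K) 1 = ⊤) := rfl
  rw [if_pos e0, if_pos e1]
  ring

theorem pwt_10 (θ : κ → ℚ) (hθ' : θ a + θ b < 2) (I : Finset {i : κ // i ≠ a ∧ i ≠ b}) :
    (2 - θ a - θ b) * PWt K (etaP a b θ) (thetaP a b θ) (![⊤, ⊥] : Fin 2 → Submodule K K) I =
      (θ a - 1) + ∑ i ∈ I, θ i.1 := by
  classical
  rw [pwt_eq θ hθ']
  have e0 : ((![⊤, ⊥] : Fin 2 → Submodule K K) 0 = ⊤) := rfl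
  have e1 : ¬ ((![⊤, ⊥] : Fin 2 → Submodule K K) 1 = ⊤) := fun h => (bot_ne_top : (⊥ : Submodule K K) ≠ ⊤) h
  rw [if_pos e0, if_neg e1]
  ring

theorem pwt_01 (θ : κ → ℚ) (hθ' : θ a + θ b < 2) (I : Finset {i : κ // i ≠ a ∧ i ≠ b}) :
    (2 - θ a - θ b) * PWt K (etaP a b θ) (thetaP a b θ) (![⊥, ⊤] : Fin 2 → Submodule K K) I =
      (θ b - 1) + ∑ i ∈ I, θ i.1 := by
  classical
  rw [pwt_eq θ hθ']
  have e0 : ¬ ((![⊥, ⊤] : Fin 2 → Submodule K K) 0 = ⊤) := fun h => (bot_ne_top : (⊥ : Submodule K K) ≠ ⊤) h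
  have e1 : ((![⊥, ⊤] : Fin 2 → Submodule K K) 1 = ⊤) := rfl
  rw [if_neg e0, if_pos e1]
  ring

open Classical in
theorem Q2P (hab : a ≠ b) (hli : LinearIndependent K ![s a, s b]) (θ : κ → ℚ)
    (h0 : ∀ i, 0 ≤ θ i) (h1 : ∀ i, θ i ≤ 1) (h2 : ∑ i, θ i = 2) (hθ : 1 < θ a + θ b)
    (hθ' : θ a + θ b < 2)
    (t : {i : κ // i ≠ a ∧ i ≠ b} → (Fin 2 → K))
    (ht : ∀ i, s i.1 = t i 0 • s a + t i 1 • s b)
    (L : Submodule K (Fin 2 → K)) (I : Finset κ) (hLI : QSubrep s L I) :
    ∃ (U : Fin 2 → Submodule K K) (I₀ : Finset {i : κ // i ≠ a ∧ i ≠ b}), PSubrep t U I₀ ∧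
      QWt K (-1) θ L I ≤ (2 - θ a - θ b) * PWt K (etaP a b θ) (thetaP a b θ) U I₀ ∧
      (QWt K (-1) θ L I = 0 → ((U = ⊥ ∧ I₀ = ∅) → (L = ⊥ ∧ I = ∅)) ∧
        ((U = ⊤ ∧ I₀ = Finset.univ) → (L = ⊤ ∧ I = Finset.univ))) := by
  have hθa : 0 < θ a := by linarith [h1 b]
  have hθb : 0 < θ b := by linarith [h1 a]
  have hsplit := sumsplit a b hab θ I
  have hsub_le : ∑ i ∈ I.subtype (fun i => i ≠ a ∧ i ≠ b), θ i.1 ≤ 2 - θ a - θ b := by
    rw [← sum_kappa' hab θ h2]
    exact Finset.sum_le_sum_of_subset_of_nonneg (Finset.subset_univ _) (fun i _ _ => h0 i.1)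
  rcases finrank_cases L with hfr | hfr | hfr
  · -- dimension 0
    have hbot : L = ⊥ := Submodule.finrank_eq_zero.1 hfr
    have hz : ∀ i ∈ I, s i = 0 := by
      intro i hi
      have := hLI i hi
      rw [hbot, Submodule.mem_bot] at this
      exact this
    have haI : a ∉ I := fun h => sa_ne_zero s hli (hz a h)
    have hbI : b ∉ I := fun h => sb_ne_zero s hli (hz b h)
    refine ⟨⊥, I.subtype (fun i => i ≠ a ∧ i ≠ b), ?_, ?_, ?_⟩
    · intro i hi j
      rw [Finset.mem_subtype] at hi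
      have := t_zero_of s hli t ht i (hz i.1 hi)
      show t i j ∈ (⊥ : Submodule K K)
      rw [Submodule.mem_bot]
      fin_cases j
      · exact this.1
      · exact this.2
    · rw [pwt_bot θ hθ']
      unfold QWt
      rw [hfr, hsplit, if_neg haI, if_neg hbI]
      push_cast
      linarith
    · intro _
      refine ⟨?_, ?_⟩
      · rintro ⟨_, hI₀⟩
        refine ⟨hbot, ?_⟩
        apply Finset.eq_empty_of_forall_notMem
        intro x hx
        by_cases hp : x ≠ a ∧ x ≠ b
        · have : (⟨x, hp⟩ : {i : κ // i ≠ a ∧ i ≠ b}) ∈ I.subtype (fun i => i ≠ a ∧ i ≠ b) :=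
            Finset.mem_subtype.2 hx
          rw [hI₀] at this
          simp at this
        · rw [not_and_or, not_not, not_not] at hp
          rcases hp with rfl | rfl
          · exact haI hx
          · exact hbI hx
      · rintro ⟨hU, _⟩
        exact absurd hU bot_ne_top_pi
  · -- dimension 1
    obtain ⟨v, hv0, hv⟩ := le_span_of_finrank_one L hfr
    by_cases haI : a ∈ I
    · have hav : s a ∈ K ∙ v := hv ▸ hLI a haI
      have hva : v ∈ K ∙ s a := mem_span_symm (sa_ne_zero s hli) hav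
      have hLa : L ≤ K ∙ s a := by
        rw [hv, Submodule.span_singleton_le_iff_mem]
        exact hva
      have hbI : b ∉ I := fun h => not_mem_span_of_li s hli (hLa (hLI b h))
      refine ⟨![⊤, ⊥], I.subtype (fun i => i ≠ a ∧ i ≠ b), ?_, ?_, ?_⟩
      · intro i hi j
        rw [Finset.mem_subtype] at hi
        fin_cases j
        · exact Submodule.mem_top
        · have := t1_zero_of s hli t ht i (hLa (hLI i.1 hi))
          show t i 1 ∈ (⊥ : Submodule K K)
          rw [this]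
          exact Submodule.zero_mem _
      · rw [pwt_10 θ hθ']
        unfold QWt
        rw [hfr, hsplit, if_pos haI, if_neg hbI]
        push_cast
        linarith
      · intro _
        refine ⟨?_, ?_⟩
        · rintro ⟨hU, _⟩
          have : (⊤ : Submodule K K) = ⊥ := congrFun hU 0
          exact absurd this.symm bot_ne_top
        · rintro ⟨hU, _⟩
          have : (⊥ : Submodule K K) = ⊤ := congrFun hU 1
          exact absurd this bot_ne_top
    · by_cases hbI : b ∈ I
      · have hbv : s b ∈ K ∙ v := hv ▸ hLI b hbI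
        have hvb : v ∈ K ∙ s b := mem_span_symm (sb_ne_zero s hli) hbv
        have hLb : L ≤ K ∙ s b := by
          rw [hv, Submodule.span_singleton_le_iff_mem]
          exact hvb
        refine ⟨![⊥, ⊤], I.subtype (fun i => i ≠ a ∧ i ≠ b), ?_, ?_, ?_⟩
        · intro i hi j
          rw [Finset.mem_subtype] at hi
          fin_cases j
          · have := t0_zero_of s hli t ht i (hLb (hLI i.1 hi))
            show t i 0 ∈ (⊥ : Submodule K K)
            rw [this]
            exact Submodule.zero_mem _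
          · exact Submodule.mem_top
        · rw [pwt_01 θ hθ']
          unfold QWt
          rw [hfr, hsplit, if_neg haI, if_pos hbI]
          push_cast
          linarith
        · intro _
          refine ⟨?_, ?_⟩
          · rintro ⟨hU, _⟩
            have : (⊤ : Submodule K K) = ⊥ := congrFun hU 1
            exact absurd this.symm bot_ne_top
          · rintro ⟨hU, _⟩
            have : (⊥ : Submodule K K) = ⊤ := congrFun hU 0
            exact absurd this bot_ne_top
      · have hneg : QWt K (-1) θ L I < 0 := by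
          unfold QWt
          rw [hfr, hsplit, if_neg haI, if_neg hbI]
          push_cast
          linarith
        refine ⟨⊥, ∅, ?_, ?_, ?_⟩
        · intro i hi
          simp at hi
        · rw [pwt_bot θ hθ', Finset.sum_empty]
          exact hneg.le
        · intro h
          rw [h] at hneg
          exact absurd hneg (lt_irrefl _)
  · -- dimension 2
    have htop : L = ⊤ := top_of_finrank_two L hfr
    refine ⟨⊤, I.subtype (fun i => i ≠ a ∧ i ≠ b), ?_, ?_, ?_⟩
    · intro i _ j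
      exact Submodule.mem_top
    · rw [pwt_top θ hθ']
      unfold QWt
      rw [hfr, hsplit]
      push_cast
      have e1 : (if a ∈ I then θ a else 0) ≤ θ a := by
        split_ifs
        · exact le_refl _
        · exact hθa.le
      have e2 : (if b ∈ I then θ b else 0) ≤ θ b := by
        split_ifs
        · exact le_refl _
        · exact hθb.le
      linarith
    · intro hw
      refine ⟨?_, ?_⟩
      · rintro ⟨hU, _⟩
        exact absurd hU.symm bot_ne_top_pi
      · rintro ⟨_, hI₀⟩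
        refine ⟨htop, ?_⟩
        unfold QWt at hw
        rw [hfr, hsplit, hI₀, sum_kappa' hab θ h2] at hw
        push_cast at hw
        have haI : a ∈ I := by
          by_contra h
          rw [if_neg h] at hw
          have e2 : (if b ∈ I then θ b else 0) ≤ θ b := by
            split_ifs
            · exact le_refl _
            · exact hθb.le
          linarith
        have hbI : b ∈ I := by
          by_contra h
          rw [if_neg h, if_pos haI] at hw
          linarith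
        apply Finset.eq_univ_of_forall
        intro x
        by_cases hp : x ≠ a ∧ x ≠ b
        · have : (⟨x, hp⟩ : {i : κ // i ≠ a ∧ i ≠ b}) ∈ I.subtype (fun i => i ≠ a ∧ i ≠ b) := by
            rw [hI₀]
            exact Finset.mem_univ _
          exact Finset.mem_subtype.1 this
        · rw [not_and_or, not_not, not_not] at hp
          rcases hp with rfl | rfl
          · exact haI
          · exact hbI


theorem finrank_span_singleton_le_one (v : Fin 2 → K) : Module.finrank K (K ∙ v) ≤ 1 := by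
  by_cases hv : v = 0
  · rw [hv, Submodule.span_zero_singleton, finrank_bot]
    exact Nat.zero_le _
  · rw [finrank_span_singleton hv]

theorem li_of_semistable (hab : a ≠ b) (θ : κ → ℚ) (h0 : ∀ i, 0 ≤ θ i) (hθ : 1 < θ a + θ b)
    (hss : QSemistable (-1) θ s) : LinearIndependent K ![s a, s b] := by
  classical
  by_contra hli
  rw [LinearIndependent.pair_iff] at hli
  push Not at hli
  obtain ⟨x, y, hxy, hne⟩ := hli
  have key : ∃ v : Fin 2 → K, s a ∈ K ∙ v ∧ s b ∈ K ∙ v := by
    by_cases hx : x = 0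
    · have hy : y ≠ 0 := hne hx
      rw [hx, zero_smul, zero_add] at hxy
      have hsb : s b = 0 := by
        rcases smul_eq_zero.1 hxy with h | h
        · exact absurd h hy
        · exact h
      exact ⟨s a, Submodule.mem_span_singleton_self _, by rw [hsb]; exact Submodule.zero_mem _⟩
    · refine ⟨s b, ?_, Submodule.mem_span_singleton_self _⟩
      rw [Submodule.mem_span_singleton]
      refine ⟨-(x⁻¹ * y), ?_⟩
      have : x • s a = -(y • s b) := eq_neg_of_add_eq_zero_left hxy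
      calc -(x⁻¹ * y) • s b = x⁻¹ • (-(y • s b)) := by rw [neg_smul, mul_smul, smul_neg]
        _ = x⁻¹ • (x • s a) := by rw [this]
        _ = s a := by rw [smul_smul, inv_mul_cancel₀ hx, one_smul]
  obtain ⟨v, hav, hbv⟩ := key
  have hsub : QSubrep s (K ∙ v) {a, b} := by
    intro i hi
    rw [Finset.mem_insert, Finset.mem_singleton] at hi
    rcases hi with rfl | rfl
    · exact hav
    · exact hbv
  have h := hss.2 (K ∙ v) {a, b} hsub
  unfold QWt at h
  rw [Finset.sum_pair hab] at h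
  have hle : (Module.finrank K (K ∙ v) : ℚ) ≤ 1 := by
    exact_mod_cast finrank_span_singleton_le_one v
  linarith

theorem exists_t (hli : LinearIndependent K ![s a, s b]) :
    ∃ t : {i : κ // i ≠ a ∧ i ≠ b} → (Fin 2 → K), ∀ i, s i.1 = t i 0 • s a + t i 1 • s b := by
  have htop := span_sup_eq_top s hli
  have hex : ∀ w : Fin 2 → K, ∃ x y : K, w = x • s a + y • s b := by
    intro w
    have hw : w ∈ (K ∙ s a) ⊔ (K ∙ s b) := by rw [htop]; exact Submodule.mem_top
    rw [Submodule.mem_sup] at hw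
    obtain ⟨u, hu, u', hu', rfl⟩ := hw
    rw [Submodule.mem_span_singleton] at hu hu'
    obtain ⟨x, rfl⟩ := hu
    obtain ⟨y, rfl⟩ := hu'
    exact ⟨x, y, rfl⟩
  choose X Y hXY using hex
  exact ⟨fun i => ![X (s i.1), Y (s i.1)], fun i => hXY (s i.1)⟩

theorem pss_total (hab : a ≠ b) (θ : κ → ℚ) (h2 : ∑ i, θ i = 2) (hθ' : θ a + θ b < 2) :
    (∑ j, etaP a b θ j) + ∑ i, thetaP a b θ i = 0 := by
  have hd : (2 - θ a - θ b) ≠ 0 := by linarith
  unfold etaP thetaP
  rw [Fin.sum_univ_two, ← Finset.mul_sum, sum_kappa' hab θ h2]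
  simp only [Matrix.cons_val_zero, Matrix.cons_val_one]
  field_simp
  ring

theorem semistable_iff (hab : a ≠ b) (θ : κ → ℚ)
    (h0 : ∀ i, 0 ≤ θ i) (h1 : ∀ i, θ i ≤ 1) (h2 : ∑ i, θ i = 2) (hθ : 1 < θ a + θ b)
    (hθ' : θ a + θ b < 2) :
    QSemistable (-1) θ s ↔
      (LinearIndependent K ![s a, s b] ∧
        ∀ t : {i : κ // i ≠ a ∧ i ≠ b} → (Fin 2 → K),
          (∀ i, s i.1 = t i 0 • s a + t i 1 • s b) →
            PSemistable (etaP a b θ) (thetaP a b θ) t) := by
  have hd : 0 < 2 - θ a - θ b := by linarith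
  constructor
  · intro hss
    have hli := li_of_semistable s hab θ h0 hθ hss
    refine ⟨hli, fun t ht => ⟨pss_total hab θ h2 hθ', ?_⟩⟩
    intro U I hUI
    have hq := hss.2 _ _ (qsubrep_QL s t ht U I hUI)
    rw [qwt_eq s hab hli θ hθ'] at hq
    by_contra hcon
    push Not at hcon
    have := mul_pos hd hcon
    linarith
  · rintro ⟨hli, hP⟩
    obtain ⟨t, ht⟩ := exists_t s hli
    have hPt := hP t ht
    refine ⟨by rw [h2]; norm_num, ?_⟩
    intro L I hLI
    obtain ⟨U, I₀, hsub, hle, _⟩ := Q2P s hab hli θ h0 h1 h2 hθ hθ' t ht L I hLI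
    have := hPt.2 U I₀ hsub
    have h3 : (2 - θ a - θ b) * PWt K (etaP a b θ) (thetaP a b θ) U I₀ ≤ 0 :=
      mul_nonpos_of_nonneg_of_nonpos hd.le this
    linarith

theorem stable_iff (hab : a ≠ b) (θ : κ → ℚ)
    (h0 : ∀ i, 0 ≤ θ i) (h1 : ∀ i, θ i ≤ 1) (h2 : ∑ i, θ i = 2) (hθ : 1 < θ a + θ b)
    (hθ' : θ a + θ b < 2) :
    QStable (-1) θ s ↔
      (LinearIndependent K ![s a, s b] ∧
        ∀ t : {i : κ // i ≠ a ∧ i ≠ b} → (Fin 2 → K),
          (∀ i, s i.1 = t i 0 • s a + t i 1 • s b) →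
            PStable (etaP a b θ) (thetaP a b θ) t) := by
  have hd : 0 < 2 - θ a - θ b := by linarith
  constructor
  · intro hst
    have hss := (semistable_iff s hab θ h0 h1 h2 hθ hθ').1 hst.1
    have hli := hss.1
    refine ⟨hli, fun t ht => ⟨hss.2 t ht, ?_⟩⟩
    intro U I hUI hw
    have hq := qsubrep_QL s t ht U I hUI
    have hw' : QWt K (-1) θ (QL a b s U) (QI a b U I) = 0 := by
      rw [qwt_eq s hab hli θ hθ', hw, mul_zero]
    rcases hst.2 _ _ hq hw' with h | h
    · exact Or.inl (P2Q_bot s hli U I h)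
    · exact Or.inr (P2Q_top s hli U I h)
  · rintro ⟨hli, hP⟩
    obtain ⟨t, ht⟩ := exists_t s hli
    have hPt := hP t ht
    have hss : QSemistable (-1) θ s :=
      (semistable_iff s hab θ h0 h1 h2 hθ hθ').2 ⟨hli, fun t' ht' => (hP t' ht').1⟩
    refine ⟨hss, ?_⟩
    intro L I hLI hw
    obtain ⟨U, I₀, hsub, hle, himp⟩ := Q2P s hab hli θ h0 h1 h2 hθ hθ' t ht L I hLI
    have h3 := hPt.1.2 U I₀ hsub
    have h4 : PWt K (etaP a b θ) (thetaP a b θ) U I₀ = 0 := by
      apply le_antisymm h3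
      by_contra hcon
      push Not at hcon
      have := mul_neg_of_pos_of_neg hd hcon
      rw [hw] at hle
      linarith
    rcases hPt.2 U I₀ hsub h4 with h | h
    · exact Or.inl ((himp hw).1 h)
    · exact Or.inr ((himp hw).2 h)

end PQ

end Groth.Agent.Lib.Helper6.PtQuivL2
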