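import Mathlib.Tactic
import Groth.Prelude.Def_W4c6intromoduliQuartic

/-! Binary quartics: invariants in terms of root cross-differences. -/

set_option autoImplicit false

namespace Groth.Agent.Helper6.Quartic

open W4c6intromoduli Polynomial

universe u
variable {R : Type u} [CommRing R]

theorem rootPoly_eq (la mu : Fin 4 → R) : rootPoly la mu =
    C (mu 0 * mu 1 * mu 2 * mu 3)
    + C (-(la 0 * mu 1 * mu 2 * mu 3 + mu 0 * la 1 * mu 2 * mu 3 + mu 0 * mu 1 * la 2 * mu 3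
        + mu 0 * mu 1 * mu 2 * la 3)) * X
    + C (la 0 * la 1 * mu 2 * mu 3 + la 0 * mu 1 * la 2 * mu 3 + la 0 * mu 1 * mu 2 * la 3
        + mu 0 * la 1 * la 2 * mu 3 + mu 0 * la 1 * mu 2 * la 3 + mu 0 * mu 1 * la 2 * la 3) * X ^ 2
    + C (-(la 0 * la 1 * la 2 * mu 3 + la 0 * la 1 * mu 2 * la 3 + la 0 * mu 1 * la 2 * la 3
        + mu 0 * la 1 * la 2 * la 3)) * X ^ 3
    + C (la 0 * la 1 * la 2 * la 3) * X ^ 4 := by
  unfold rootPoly
  rw [Fin.prod_univ_four]
  simp only [C_mul, C_add, C_neg]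
  ring

theorem coeff_quartic (e0 e1 e2 e3 e4 : R) :
    (C e0 + C e1 * X + C e2 * X ^ 2 + C e3 * X ^ 3 + C e4 * X ^ 4 : R[X]).coeff 0 = e0 ∧
    (C e0 + C e1 * X + C e2 * X ^ 2 + C e3 * X ^ 3 + C e4 * X ^ 4 : R[X]).coeff 1 = e1 ∧
    (C e0 + C e1 * X + C e2 * X ^ 2 + C e3 * X ^ 3 + C e4 * X ^ 4 : R[X]).coeff 2 = e2 ∧
    (C e0 + C e1 * X + C e2 * X ^ 2 + C e3 * X ^ 3 + C e4 * X ^ 4 : R[X]).coeff 3 = e3 ∧
    (C e0 + C e1 * X + C e2 * X ^ 2 + C e3 * X ^ 3 + C e4 * X ^ 4 : R[X]).coeff 4 = e4 := by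
  refine ⟨?_, ?_, ?_, ?_, ?_⟩ <;> simp [coeff_X, coeff_X_pow, coeff_C]

theorem coef0 (la mu : Fin 4 → R) : coef la mu 0 = mu 0 * mu 1 * mu 2 * mu 3 := by
  unfold coef; rw [rootPoly_eq]
  exact (coeff_quartic _ _ _ _ _).1

theorem coef1 (la mu : Fin 4 → R) : coef la mu 1 =
    -(la 0 * mu 1 * mu 2 * mu 3 + mu 0 * la 1 * mu 2 * mu 3 + mu 0 * mu 1 * la 2 * mu 3
        + mu 0 * mu 1 * mu 2 * la 3) := by
  unfold coef; rw [rootPoly_eq]
  exact (coeff_quartic _ _ _ _ _).2.1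

theorem coef2 (la mu : Fin 4 → R) : coef la mu 2 =
    la 0 * la 1 * mu 2 * mu 3 + la 0 * mu 1 * la 2 * mu 3 + la 0 * mu 1 * mu 2 * la 3
        + mu 0 * la 1 * la 2 * mu 3 + mu 0 * la 1 * mu 2 * la 3 + mu 0 * mu 1 * la 2 * la 3 := by
  unfold coef; rw [rootPoly_eq]
  exact (coeff_quartic _ _ _ _ _).2.2.1

theorem coef3 (la mu : Fin 4 → R) : coef la mu 3 =
    -(la 0 * la 1 * la 2 * mu 3 + la 0 * la 1 * mu 2 * la 3 + la 0 * mu 1 * la 2 * la 3
        + mu 0 * la 1 * la 2 * la 3) := by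
  unfold coef; rw [rootPoly_eq]
  exact (coeff_quartic _ _ _ _ _).2.2.2.1

theorem coef4 (la mu : Fin 4 → R) : coef la mu 4 = la 0 * la 1 * la 2 * la 3 := by
  unfold coef; rw [rootPoly_eq]
  exact (coeff_quartic _ _ _ _ _).2.2.2.2

/-- cross difference -/
def D (la mu : Fin 4 → R) (i j : Fin 4) : R := la i * mu j - la j * mu i

theorem ABC (la mu : Fin 4 → R) :
    D la mu 0 1 * D la mu 2 3 + D la mu 0 2 * D la mu 3 1 + D la mu 0 3 * D la mu 1 2 = 0 := by
  unfold D; ring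

theorem two_invI (la mu : Fin 4 → R) : 2 * invI (coef la mu) =
    (D la mu 0 1 * D la mu 2 3) ^ 2 + (D la mu 0 2 * D la mu 3 1) ^ 2 + (D la mu 0 3 * D la mu 1 2) ^ 2 := by
  unfold invI D
  rw [coef0, coef1, coef2, coef3, coef4]
  ring

theorem invJ_eq (la mu : Fin 4 → R) : invJ (coef la mu) =
    (D la mu 0 1 * D la mu 2 3 - D la mu 0 2 * D la mu 3 1) *
    (D la mu 0 2 * D la mu 3 1 - D la mu 0 3 * D la mu 1 2) *
    (D la mu 0 3 * D la mu 1 2 - D la mu 0 1 * D la mu 2 3) := by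
  unfold invJ D
  rw [coef0, coef1, coef2, coef3, coef4]
  ring

theorem D_anti (la mu : Fin 4 → R) (i j : Fin 4) : D la mu j i = -D la mu i j := by
  unfold D; ring

theorem disc_eq (la mu : Fin 4 → R) : disc la mu =
    (D la mu 0 1 * D la mu 2 3) ^ 2 * (D la mu 0 2 * D la mu 3 1) ^ 2 * (D la mu 0 3 * D la mu 1 2) ^ 2 := by
  unfold disc D
  rw [Finset.prod_filter, Fintype.prod_prod_type]
  simp only [Fin.prod_univ_four]
  simp (decide := true) only [if_true, if_false]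
  ring

theorem invI_eq (la mu : Fin 4 → R) : invI (coef la mu) =
    (D la mu 0 1 * D la mu 2 3) ^ 2 + (D la mu 0 1 * D la mu 2 3) * (D la mu 0 2 * D la mu 3 1)
      + (D la mu 0 2 * D la mu 3 1) ^ 2 := by
  unfold invI D
  rw [coef0, coef1, coef2, coef3, coef4]
  ring

theorem disc_identity (la mu : Fin 4 → R) :
    27 * disc la mu = 4 * invI (coef la mu) ^ 3 - invJ (coef la mu) ^ 2 := by
  rw [disc_eq, invI_eq, invJ_eq]
  have h := ABC la mu
  have hC : D la mu 0 3 * D la mu 1 2 = -(D la mu 0 1 * D la mu 2 3) - D la mu 0 2 * D la mu 3 1 := by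
    linear_combination h
  rw [hC]
  ring

section Field
variable {k : Type u} [Field k]

theorem ABC_zero_of_inv (h2 : (2 : k) ≠ 0) (h3 : (3 : k) ≠ 0) (la mu : Fin 4 → k)
    (hI : invI (coef la mu) = 0) (hJ : invJ (coef la mu) = 0) :
    D la mu 0 1 * D la mu 2 3 = 0 ∧ D la mu 0 2 * D la mu 3 1 = 0 ∧ D la mu 0 3 * D la mu 1 2 = 0 := by
  have h1 := two_invI la mu
  have hJ' := invJ_eq la mu
  have h0 := ABC la mu
  rw [hI, mul_zero] at h1
  rw [hJ] at hJ'
  set A := D la mu 0 1 * D la mu 2 3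
  set B := D la mu 0 2 * D la mu 3 1
  set C := D la mu 0 3 * D la mu 1 2
  have h6 : (6 : k) ≠ 0 := by
    have : (6 : k) = 2 * 3 := by norm_num
    rw [this]; exact mul_ne_zero h2 h3
  have key : ∀ x y z : k, x + y + z = 0 → x ^ 2 + y ^ 2 + z ^ 2 = 0 → x = y → x = 0 ∧ y = 0 ∧ z = 0 := by
    intro x y z hs hq hxy
    have hz : z = -2 * x := by rw [← hxy] at hs; linear_combination hs
    have hx : 6 * x ^ 2 = 0 := by
      rw [← hxy, hz] at hq; linear_combination hq
    have hx0 : x = 0 := by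
      rcases mul_eq_zero.mp hx with h | h
      · exact absurd h h6
      · exact pow_eq_zero_iff (two_ne_zero) |>.mp h
    refine ⟨hx0, hxy ▸ hx0, ?_⟩
    rw [hz, hx0, mul_zero]
  rcases mul_eq_zero.mp hJ'.symm with h | h
  · rcases mul_eq_zero.mp h with h | h
    · exact key A B C h0 h1.symm (sub_eq_zero.mp h)
    · have := key B C A (by linear_combination h0) (by linear_combination h1.symm) (sub_eq_zero.mp h)
      exact ⟨this.2.2, this.1, this.2.1⟩
  · have := key C A B (by linear_combination h0) (by linear_combination h1.symm) (sub_eq_zero.mp h)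
    exact ⟨this.2.1, this.2.2, this.1⟩

theorem D_trans (la mu : Fin 4 → k) (i j l : Fin 4) (hne : la j ≠ 0 ∨ mu j ≠ 0)
    (h1 : D la mu i j = 0) (h2 : D la mu j l = 0) : D la mu i l = 0 := by
  unfold D at *
  rcases hne with h | h
  · have : la j * (la i * mu l - la l * mu i) = 0 := by linear_combination (la l) * h1 + (la i) * h2
    exact (mul_eq_zero.mp this).resolve_left h
  · have : mu j * (la i * mu l - la l * mu i) = 0 := by linear_combination (mu l) * h1 + (mu i) * h2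
    exact (mul_eq_zero.mp this).resolve_left h

theorem triple_iff (h2 : (2 : k) ≠ 0) (h3 : (3 : k) ≠ 0) (la mu : Fin 4 → k)
    (hne : ∀ i, la i ≠ 0 ∨ mu i ≠ 0) :
    (invI (coef la mu) = 0 ∧ invJ (coef la mu) = 0) ↔
      ∃ i j l : Fin 4, i ≠ j ∧ j ≠ l ∧ i ≠ l ∧
        la i * mu j = la j * mu i ∧ la j * mu l = la l * mu j := by
  have hD : ∀ i j, D la mu i j = 0 ↔ la i * mu j = la j * mu i := by
    intro i j; unfold D; exact sub_eq_zero
  constructor
  · rintro ⟨hI, hJ⟩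
    obtain ⟨hA, hB, hC⟩ := ABC_zero_of_inv h2 h3 la mu hI hJ
    have anti := D_anti la mu
    rcases mul_eq_zero.mp hA with a | a <;> rcases mul_eq_zero.mp hB with b | b <;>
      rcases mul_eq_zero.mp hC with c | c
    · exact ⟨1, 0, 2, by decide, by decide, by decide, (hD 1 0).mp (by rw [anti, a, neg_zero]), (hD 0 2).mp b⟩
    · exact ⟨1, 0, 2, by decide, by decide, by decide, (hD 1 0).mp (by rw [anti, a, neg_zero]), (hD 0 2).mp b⟩
    · exact ⟨0, 1, 3, by decide, by decide, by decide, (hD 0 1).mp a, (hD 1 3).mp (by rw [anti, b, neg_zero])⟩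
    · exact ⟨0, 1, 3, by decide, by decide, by decide, (hD 0 1).mp a, (hD 1 3).mp (by rw [anti, b, neg_zero])⟩
    · exact ⟨0, 2, 3, by decide, by decide, by decide, (hD 0 2).mp b, (hD 2 3).mp a⟩
    · exact ⟨0, 2, 3, by decide, by decide, by decide, (hD 0 2).mp b, (hD 2 3).mp a⟩
    · exact ⟨1, 3, 2, by decide, by decide, by decide, (hD 1 3).mp (by rw [anti, b, neg_zero]),
        (hD 3 2).mp (by rw [anti, a, neg_zero])⟩
    · exact ⟨1, 3, 2, by decide, by decide, by decide, (hD 1 3).mp (by rw [anti, b, neg_zero]),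
        (hD 3 2).mp (by rw [anti, a, neg_zero])⟩
  · rintro ⟨i, j, l, hij, hjl, hil, e1, e2⟩
    have d1 : D la mu i j = 0 := (hD i j).mpr e1
    have d2 : D la mu j l = 0 := (hD j l).mpr e2
    have d3 : D la mu i l = 0 := D_trans la mu i j l (hne j) d1 d2
    have d1' : D la mu j i = 0 := by rw [D_anti, d1, neg_zero]
    have d2' : D la mu l j = 0 := by rw [D_anti, d2, neg_zero]
    have d3' : D la mu l i = 0 := by rw [D_anti, d3, neg_zero]
    have hABC : D la mu 0 1 * D la mu 2 3 = 0 ∧ D la mu 0 2 * D la mu 3 1 = 0 ∧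
        D la mu 0 3 * D la mu 1 2 = 0 := by
      fin_cases i <;> fin_cases j <;> fin_cases l <;>
        first
        | (exfalso; revert hij hjl hil; decide)
        | (simp only [Fin.zero_eta, Fin.mk_one, Fin.reduceFinMk] at d1 d2 d3 d1' d2' d3'
           simp [d1, d2, d3, d1', d2', d3'])
    obtain ⟨hA, hB, hC⟩ := hABC
    constructor
    · have := two_invI la mu
      rw [hA, hB, hC] at this
      have h : 2 * invI (coef la mu) = 0 := by rw [this]; ring
      exact (mul_eq_zero.mp h).resolve_left h2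
    · rw [invJ_eq, hA, hB, hC]; ring

end Field

end Groth.Agent.Helper6.Quartic
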