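import Mathlib
import Groth.Agent.Lib.Helper6.GeomIrr
import Groth.Agent.Lib.Helper6.GeomIrr2

/-!
# Geometric irreducibility of `K/k` versus `K(t)/k(t)`
-/

set_option autoImplicit false
set_option linter.unusedSectionVars false
universe u

namespace Groth.Agent.Lib.Helper6.RatFuncIrr

open TensorProduct Polynomial

/-- A nonzero localization of a ring with irreducible spectrum has irreducible spectrum. -/
theorem irreducibleSpace_of_isLocalization {R : Type*} [CommRing R] (M : Submonoid R)
    (S : Type*) [CommRing S] [Algebra R S] [IsLocalization M S] [Nontrivial S]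
    (h : IrreducibleSpace (PrimeSpectrum R)) : IrreducibleSpace (PrimeSpectrum S) := by
  rw [GeomIrr2.irreducibleSpace_iff_existsUnique] at h ⊢
  obtain ⟨p, hp, hpu⟩ := h
  have hmin : minimalPrimes S = Ideal.under R ⁻¹' minimalPrimes R := by
    have := IsLocalization.minimalPrimes_map M S (⊥ : Ideal R)
    rwa [Ideal.map_bot] at this
  have hne : (⊥ : Ideal S) ≠ ⊤ := bot_ne_top
  obtain ⟨⟨q, hq⟩⟩ := Ideal.nonempty_minimalPrimes hne
  refine ⟨q, hq, ?_⟩
  intro q' hq'
  have hq0 : q ∈ minimalPrimes S := hq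
  have h1 : q.under R = p := hpu _ (by rw [hmin] at hq0; exact hq0)
  have h2 : q'.under R = p := hpu _ (by rw [hmin] at hq'; exact hq')
  rw [← IsLocalization.map_under M S q', ← IsLocalization.map_under M S q, h1, h2]

section Core

variable {k K kt Kt : Type u} [Field k] [Field K] [Field kt] [Field Kt] [Algebra k K]
  [Algebra k kt] [Algebra k Kt] [Algebra K Kt] [Algebra kt Kt] [IsScalarTower k K Kt]
  [IsScalarTower k kt Kt]

variable (k K kt Kt) in
/-- The canonical map `k(t) ⊗_k K → K(t)`. -/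
noncomputable def psi : kt ⊗[k] K →ₐ[kt] Kt :=
  Algebra.TensorProduct.productLeftAlgHom (Algebra.ofId kt Kt) (IsScalarTower.toAlgHom k K Kt)

@[simp] theorem psi_tmul (f : kt) (a : K) :
    psi k K kt Kt (f ⊗ₜ a) = algebraMap kt Kt f * algebraMap K Kt a := by
  simp [psi]

set_option backward.isDefEq.respectTransparency false in
theorem irreducibleSpace_of_locData (hinj : Function.Injective (psi k K kt Kt))
    (hfrac : ∀ z : Kt, ∃ x y : kt ⊗[k] K, psi k K kt Kt y ≠ 0 ∧
      z * psi k K kt Kt y = psi k K kt Kt x)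
    (L : Type u) [Field L] [Algebra kt L] [Algebra k L] [IsScalarTower k kt L]
    (h : IrreducibleSpace (PrimeSpectrum (L ⊗[k] K))) :
    IrreducibleSpace (PrimeSpectrum (L ⊗[kt] Kt)) := by
  let _ : Algebra (kt ⊗[k] K) Kt := (psi k K kt Kt).toRingHom.toAlgebra
  have hamap : ∀ x : kt ⊗[k] K, algebraMap (kt ⊗[k] K) Kt x = psi k K kt Kt x := fun _ => rfl
  have hst : IsScalarTower kt (kt ⊗[k] K) Kt :=
    IsScalarTower.of_algebraMap_eq fun x => ((psi k K kt Kt).commutes x).symm
  let M : Submonoid (kt ⊗[k] K) := (IsUnit.submonoid Kt).comap (algebraMap (kt ⊗[k] K) Kt)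
  have hloc : IsLocalization M Kt :=
    { map_units := fun y => y.2
      surj := by
        intro z
        obtain ⟨x, y, hy, hxy⟩ := hfrac z
        exact ⟨(x, ⟨y, (isUnit_iff_ne_zero.mpr hy : IsUnit (psi k K kt Kt y))⟩), hxy⟩
      exists_of_eq := by
        intro x y hxy
        exact ⟨1, by rw [hinj hxy]⟩ }
  let _ : Algebra (L ⊗[kt] (kt ⊗[k] K)) (L ⊗[kt] Kt) :=
    (Algebra.TensorProduct.map (AlgHom.id kt L)
      (IsScalarTower.toAlgHom kt (kt ⊗[k] K) Kt)).toAlgebra
  have hamap2 : ∀ x : L ⊗[kt] (kt ⊗[k] K), algebraMap (L ⊗[kt] (kt ⊗[k] K)) (L ⊗[kt] Kt) x =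
      Algebra.TensorProduct.map (AlgHom.id kt L)
        (IsScalarTower.toAlgHom kt (kt ⊗[k] K) Kt) x := fun _ => rfl
  have hst2 : IsScalarTower L (L ⊗[kt] (kt ⊗[k] K)) (L ⊗[kt] Kt) :=
by
      refine IsScalarTower.of_algebraMap_eq (R := L) (S := L ⊗[kt] (kt ⊗[k] K))
        (A := L ⊗[kt] Kt) ?_
      intro x
      rw [hamap2]
      simp
  have hloc2 := IsLocalization.tensorProduct_tensorProduct_right kt L M Kt
    (by
      refine RingHom.ext fun x => ?_
      simp only [RingHom.coe_comp, Function.comp_apply, AlgHom.toRingHom_eq_coe, RingHom.coe_coe,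
        hamap2, Algebra.TensorProduct.includeRight_apply, Algebra.TensorProduct.map_tmul,
        map_one, IsScalarTower.coe_toAlgHom'])
  let e : L ⊗[kt] (kt ⊗[k] K) ≃ₐ[L] L ⊗[k] K := Algebra.TensorProduct.cancelBaseChange k kt L L K
  have hirr : IrreducibleSpace (PrimeSpectrum (L ⊗[kt] (kt ⊗[k] K))) :=
    GeomIrr2.irreducibleSpace_of_surjective
      (PrimeSpectrum.homeomorphOfRingEquiv e.symm.toRingEquiv)
      (PrimeSpectrum.homeomorphOfRingEquiv e.symm.toRingEquiv).continuous
      (PrimeSpectrum.homeomorphOfRingEquiv e.symm.toRingEquiv).surjective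
  have hnt : Nontrivial (L ⊗[kt] Kt) :=
    Algebra.TensorProduct.nontrivial_of_algebraMap_injective_of_flat_left kt L Kt
      (algebraMap kt Kt).injective
  exact irreducibleSpace_of_isLocalization
    (M.map (Algebra.TensorProduct.includeRight (R := kt) (A := L))) (L ⊗[kt] Kt) hirr

end Core

section Concrete

variable {k K : Type u} [Field k] [Field K] [Algebra k K]
  (kt Kt : Type u) [Field kt] [Field Kt] [Algebra k[X] kt] [IsFractionRing k[X] kt]
  [Algebra K[X] Kt] [IsFractionRing K[X] Kt] [Algebra kt Kt]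
  [Algebra k kt] [IsScalarTower k k[X] kt] [Algebra K Kt] [IsScalarTower K K[X] Kt]
  [Algebra k Kt] [IsScalarTower k kt Kt] [IsScalarTower k K Kt]
  (hcompat : ∀ p : k[X], algebraMap kt Kt (algebraMap k[X] kt p) =
    algebraMap K[X] Kt (p.map (algebraMap k K)))

omit [IsFractionRing k[X] kt] [IsFractionRing K[X] Kt] [Algebra k kt] [IsScalarTower k k[X] kt]
  [Algebra k Kt] [IsScalarTower k kt Kt] [IsScalarTower k K Kt] in
theorem algebraMap_C (a : K) : algebraMap K[X] Kt (C a) = algebraMap K Kt a := by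
  rw [C_eq_algebraMap, ← IsScalarTower.algebraMap_apply K K[X] Kt]

include hcompat

theorem linearIndependent_Kt {ι : Type*} (b : ι → K) (hb : LinearIndependent k b) :
    LinearIndependent kt (fun i => algebraMap K Kt (b i)) := by
  classical
  rw [linearIndependent_iff']
  intro s g hg i hi
  obtain ⟨q, hq⟩ := IsLocalization.exist_integer_multiples (nonZeroDivisors k[X]) s g
  have hq' : ∀ i ∈ s, ∃ p : k[X], algebraMap k[X] kt p = (q : k[X]) • g i := fun i hi => hq i hi
  choose! p hp using hq'
  have hsum : algebraMap K[X] Kt (∑ i ∈ s, (p i).map (algebraMap k K) * C (b i)) = 0 := by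
    rw [map_sum]
    have h1 : ∀ i ∈ s, algebraMap K[X] Kt ((p i).map (algebraMap k K) * C (b i)) =
        algebraMap kt Kt (algebraMap k[X] kt (q : k[X])) * (g i • algebraMap K Kt (b i)) := by
      intro i hi
      rw [map_mul, ← hcompat, hp i hi, Algebra.smul_def (q : k[X]), map_mul, Algebra.smul_def,
        algebraMap_C Kt]
      ring
    rw [Finset.sum_congr rfl h1, ← Finset.mul_sum, hg, mul_zero]
  have hsum0 : ∑ i ∈ s, (p i).map (algebraMap k K) * C (b i) = 0 :=
    (IsFractionRing.injective K[X] Kt) (by rw [hsum, map_zero])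
  have hp0 : ∀ i ∈ s, p i = 0 := by
    intro i hi
    ext j
    have h2 := congrArg (fun f => f.coeff j) hsum0
    simp only [finsetSum_coeff, coeff_mul_C, coeff_map, coeff_zero] at h2
    have h3 : ∑ i ∈ s, (p i).coeff j • b i = 0 := by
      rw [← h2]
      exact Finset.sum_congr rfl fun i _ => Algebra.smul_def _ _
    exact linearIndependent_iff'.mp hb s (fun i => (p i).coeff j) h3 i hi
  have h4 := hp i hi
  rw [hp0 i hi, map_zero, Algebra.smul_def] at h4
  have hq0 : algebraMap k[X] kt (q : k[X]) ≠ 0 := by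
    intro h0
    have := (IsFractionRing.injective k[X] kt) (h0.trans (map_zero _).symm)
    exact nonZeroDivisors.ne_zero q.2 this
  exact (mul_eq_zero.mp h4.symm).resolve_left hq0

theorem psi_injective : Function.Injective (psi k K kt Kt) := by
  classical
  let b := Module.Free.chooseBasis k K
  let B := Algebra.TensorProduct.basis kt b
  have hli := linearIndependent_Kt kt Kt hcompat b b.linearIndependent
  rw [injective_iff_map_eq_zero]
  intro x hx
  have hx' := B.linearCombination_repr x
  rw [← hx', Finsupp.linearCombination_apply, Finsupp.sum, map_sum] at hx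
  have h1 : ∀ i, psi k K kt Kt (B.repr x i • B i) = B.repr x i • algebraMap K Kt (b i) := by
    intro i
    rw [map_smul, Algebra.TensorProduct.basis_apply, psi_tmul, map_one, one_mul]
  simp_rw [h1] at hx
  have h2 := linearIndependent_iff'.mp hli _ _ hx
  have h3 : B.repr x = 0 := by
    ext i
    by_cases hi : i ∈ (B.repr x).support
    · exact h2 i hi
    · simpa using hi
  simpa using h3

theorem algebraMap_poly_mem_range (p : K[X]) :
    ∃ x : kt ⊗[k] K, psi k K kt Kt x = algebraMap K[X] Kt p := by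
  induction p using Polynomial.induction_on' with
  | add p q hp hq =>
    obtain ⟨x, hx⟩ := hp
    obtain ⟨y, hy⟩ := hq
    exact ⟨x + y, by rw [map_add, map_add, hx, hy]⟩
  | monomial n a =>
    refine ⟨algebraMap k[X] kt (X ^ n) ⊗ₜ a, ?_⟩
    rw [psi_tmul, hcompat, Polynomial.map_pow, map_X, ← C_mul_X_pow_eq_monomial, map_mul,
      algebraMap_C Kt, mul_comm]

theorem psi_frac (z : Kt) : ∃ x y : kt ⊗[k] K, psi k K kt Kt y ≠ 0 ∧
    z * psi k K kt Kt y = psi k K kt Kt x := by
  obtain ⟨p, q, hq, rfl⟩ := IsFractionRing.div_surjective (A := K[X]) z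
  obtain ⟨x, hx⟩ := algebraMap_poly_mem_range kt Kt hcompat p
  obtain ⟨y, hy⟩ := algebraMap_poly_mem_range kt Kt hcompat q
  have hq0 : algebraMap K[X] Kt q ≠ 0 := by
    intro h0
    have := (IsFractionRing.injective K[X] Kt) (h0.trans (map_zero _).symm)
    exact nonZeroDivisors.ne_zero hq this
  refine ⟨x, y, ?_, ?_⟩
  · rw [hy]; exact hq0
  · rw [hx, hy, div_mul_cancel₀ _ hq0]

theorem mem_range_of_mem_kt (α : K) (f : kt) (h : algebraMap kt Kt f = algebraMap K Kt α) :
    α ∈ Set.range (algebraMap k K) := by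
  obtain ⟨p, q, hq, rfl⟩ := IsFractionRing.div_surjective (A := k[X]) f
  have hq0 : q ≠ 0 := nonZeroDivisors.ne_zero hq
  have hq1 : algebraMap k[X] kt q ≠ 0 := by
    intro h0
    exact hq0 ((IsFractionRing.injective k[X] kt) (h0.trans (map_zero _).symm))
  have h1 : algebraMap kt Kt (algebraMap k[X] kt p) =
      algebraMap K Kt α * algebraMap kt Kt (algebraMap k[X] kt q) := by
    rw [← h, ← map_mul, div_mul_cancel₀ _ hq1]
  rw [hcompat, hcompat, ← algebraMap_C Kt, ← map_mul] at h1
  have h2 := (IsFractionRing.injective K[X] Kt) h1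
  have h3 := congrArg (fun f => f.coeff q.natDegree) h2
  simp only [coeff_C_mul, coeff_map, coeff_natDegree] at h3
  have hlc : q.leadingCoeff ≠ 0 := leadingCoeff_ne_zero.mpr hq0
  refine ⟨p.coeff q.natDegree / q.leadingCoeff, ?_⟩
  rw [map_div₀, h3, mul_div_cancel_right₀]
  exact (_root_.map_ne_zero _).mpr hlc

end Concrete

end Groth.Agent.Lib.Helper6.RatFuncIrr
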