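import Groth.Prelude.Def_GSzCSA
import Mathlib.LinearAlgebra.Matrix.StdBasis
import Mathlib.LinearAlgebra.Matrix.Kronecker
import Mathlib.RingTheory.Norm.Basic
import Mathlib.RingTheory.Trace.Basic
import Mathlib.RingTheory.TensorProduct.Free
import Mathlib.Tactic

set_option autoImplicit false
set_option linter.unusedSectionVars false
universe u v w

namespace Groth.Agent.Helper6.RedNorm

open scoped TensorProduct Kronecker

section Mat

variable {K : Type v} [Field K] {n : ℕ}

theorem stdBasis_repr (M : Matrix (Fin n) (Fin n) K) (i j : Fin n) :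
    (Matrix.stdBasis K (Fin n) (Fin n)).repr M (i, j) = M i j := by
  simp [Matrix.stdBasis]

theorem leftMulMatrix_stdBasis (M : Matrix (Fin n) (Fin n) K) :
    Algebra.leftMulMatrix (Matrix.stdBasis K (Fin n) (Fin n)) M
      = M ⊗ₖ (1 : Matrix (Fin n) (Fin n) K) := by
  ext ⟨i, j⟩ ⟨i', j'⟩
  rw [Algebra.leftMulMatrix_eq_repr_mul, stdBasis_repr, Matrix.stdBasis_eq_single,
    Matrix.kroneckerMap_apply, Matrix.one_apply]
  by_cases h : j = j'
  · subst h
    simp
  · simp [h, Matrix.mul_apply, Ne.symm h]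

theorem norm_matrix (M : Matrix (Fin n) (Fin n) K) :
    Algebra.norm K M = M.det ^ n := by
  rw [Algebra.norm_eq_matrix_det (Matrix.stdBasis K (Fin n) (Fin n)), leftMulMatrix_stdBasis,
    Matrix.det_kronecker]
  simp

theorem trace_mulLeft_eq {R : Type*} {S : Type*} [CommRing R] [Ring S] [Algebra R S]
    {ι : Type*} [Fintype ι] [DecidableEq ι] (b : Module.Basis ι R S) (x : S) :
    LinearMap.trace R S (LinearMap.mulLeft R x) = Matrix.trace (Algebra.leftMulMatrix b x) := by
  rw [LinearMap.trace_eq_matrix_trace R b, Algebra.leftMulMatrix_apply]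
  rfl

theorem trace_matrix (M : Matrix (Fin n) (Fin n) K) :
    LinearMap.trace K (Matrix (Fin n) (Fin n) K) (LinearMap.mulLeft K M) = n • M.trace := by
  rw [trace_mulLeft_eq (Matrix.stdBasis K (Fin n) (Fin n)), leftMulMatrix_stdBasis,
    Matrix.trace_kronecker]
  simp [mul_comm]

end Mat

section BC

variable {k : Type u} [Field k] {K : Type v} [Field K] [Algebra k K]
variable {A : Type w} [Ring A] [Algebra k A] [FiniteDimensional k A]

theorem leftMulMatrix_tensor {ι : Type*} [Fintype ι] [DecidableEq ι] (b : Module.Basis ι k A) (a : A) :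
    Algebra.leftMulMatrix (Algebra.TensorProduct.basis K b) ((1 : K) ⊗ₜ[k] a)
      = (Algebra.leftMulMatrix b a).map (algebraMap k K) := by
  ext i j
  rw [Algebra.leftMulMatrix_eq_repr_mul, Matrix.map_apply, Algebra.leftMulMatrix_eq_repr_mul,
    Algebra.TensorProduct.basis_apply, Algebra.TensorProduct.tmul_mul_tmul, one_mul,
    Algebra.TensorProduct.basis_repr_tmul]
  simp

theorem norm_tensor (a : A) :
    algebraMap k K (Algebra.norm k a) = Algebra.norm K ((1 : K) ⊗ₜ[k] a) := by
  let b := Module.finBasis k A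
  rw [Algebra.norm_eq_matrix_det b, Algebra.norm_eq_matrix_det (Algebra.TensorProduct.basis K b),
    leftMulMatrix_tensor, RingHom.map_det]
  rfl

theorem trace_tensor (a : A) :
    algebraMap k K (LinearMap.trace k A (LinearMap.mulLeft k a))
      = LinearMap.trace K (K ⊗[k] A) (LinearMap.mulLeft K ((1 : K) ⊗ₜ[k] a)) := by
  let b := Module.finBasis k A
  rw [trace_mulLeft_eq b, trace_mulLeft_eq (Algebra.TensorProduct.basis K b),
    leftMulMatrix_tensor]
  simp [Matrix.trace, map_sum]

theorem trace_algEquiv {R : Type*} {S T : Type*} [CommRing R] [Ring S] [Algebra R S]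
    [Ring T] [Algebra R T] (e : S ≃ₐ[R] T) (x : S) :
    LinearMap.trace R T (LinearMap.mulLeft R (e x)) = LinearMap.trace R S (LinearMap.mulLeft R x) := by
  rw [← LinearMap.trace_conj' (LinearMap.mulLeft R x) e.toLinearEquiv]
  congr 1
  ext y
  simp [LinearEquiv.conj_apply]

theorem norm_via_splitting {m : ℕ} (φ : K ⊗[k] A ≃ₐ[K] Matrix (Fin m) (Fin m) K) (a : A) :
    algebraMap k K (Algebra.norm k a) = (φ ((1 : K) ⊗ₜ[k] a)).det ^ m := by
  rw [norm_tensor (K := K), ← Algebra.norm_eq_of_algEquiv φ, norm_matrix]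

theorem trace_via_splitting {m : ℕ} (φ : K ⊗[k] A ≃ₐ[K] Matrix (Fin m) (Fin m) K) (a : A) :
    algebraMap k K (LinearMap.trace k A (LinearMap.mulLeft k a))
      = m • (φ ((1 : K) ⊗ₜ[k] a)).trace := by
  rw [trace_tensor (K := K), ← trace_algEquiv φ, trace_matrix]

theorem size_eq {m n : ℕ} (φ : K ⊗[k] A ≃ₐ[K] Matrix (Fin m) (Fin m) K)
    (hn : Module.finrank k A = n ^ 2) : m = n := by
  have h1 : Module.finrank K (K ⊗[k] A) = Module.finrank k A := Module.finrank_baseChange
  rw [φ.toLinearEquiv.finrank_eq, Module.finrank_matrix, hn] at h1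
  simp only [Fintype.card_fin, Module.finrank_self, mul_one] at h1
  have : m ^ 2 = n ^ 2 := by rw [sq]; exact h1
  exact Nat.pow_left_injective (by norm_num : 2 ≠ 0) this

end BC

end Groth.Agent.Helper6.RedNorm
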