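import Mathlib

set_option linter.unusedSectionVars false
set_option linter.unusedVariables false
set_option autoImplicit false
set_option maxHeartbeats 400000

noncomputable section

namespace Groth.Agent.Lib.Helper6.RegMat

open Matrix

universe u

section PartA

variable {B : Type u} [CommRing B] {n : ℕ}

/-- Krylov matrix: columns `G^j v`. -/
def Cm (G : Matrix (Fin n) (Fin n) B) (v : Fin n → B) : Matrix (Fin n) (Fin n) B :=
  Matrix.of fun i j => (G ^ (j : ℕ) *ᵥ v) i

/-- polynomial in `G` with coefficient vector `a`. -/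
def Pm (G : Matrix (Fin n) (Fin n) B) (a : Fin n → B) : Matrix (Fin n) (Fin n) B :=
  ∑ j : Fin n, a j • G ^ (j : ℕ)

lemma mul_Cm (G x : Matrix (Fin n) (Fin n) B) (hx : x * G = G * x) (v : Fin n → B) :
    x * Cm G v = Cm G (x *ᵥ v) := by
  ext i j
  have hc : Commute x G := hx
  have h1 : x * G ^ (j : ℕ) = G ^ (j : ℕ) * x := (hc.pow_right _).eq
  have : (x * Cm G v) i j = (x *ᵥ (G ^ (j : ℕ) *ᵥ v)) i := by
    simp only [Matrix.mul_apply, Cm, Matrix.of_apply, Matrix.mulVec, dotProduct]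
  rw [this, Matrix.mulVec_mulVec, h1, ← Matrix.mulVec_mulVec]
  simp [Cm]

lemma Pm_comm (G : Matrix (Fin n) (Fin n) B) (a : Fin n → B) : Pm G a * G = G * Pm G a := by
  unfold Pm
  rw [Finset.sum_mul, Finset.mul_sum]
  refine Finset.sum_congr rfl fun j _ => ?_
  rw [Matrix.smul_mul, Matrix.mul_smul, ← pow_succ, ← pow_succ']

lemma Pm_comm_Pm (G : Matrix (Fin n) (Fin n) B) (a b : Fin n → B) :
    Pm G a * Pm G b = Pm G b * Pm G a := by
  have : Commute (Pm G a) (Pm G b) := by
    unfold Pm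
    refine Commute.sum_left _ _ _ fun i _ => ?_
    refine Commute.sum_right _ _ _ fun j _ => ?_
    exact ((Commute.pow_pow_self G _ _).smul_left _).smul_right _
  exact this.eq

lemma Pm_mulVec (G : Matrix (Fin n) (Fin n) B) (a v : Fin n → B) :
    Pm G a *ᵥ v = Cm G v *ᵥ a := by
  ext i
  unfold Pm
  rw [Matrix.sum_mulVec]
  simp only [Finset.sum_apply, Matrix.smul_mulVec, Pi.smul_apply, smul_eq_mul, Matrix.mulVec,
    dotProduct, Cm, Matrix.of_apply]
  exact Finset.sum_congr rfl fun j _ => mul_comm _ _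

lemma Cm_smul (G : Matrix (Fin n) (Fin n) B) (d : B) (w : Fin n → B) :
    Cm G (d • w) = d • Cm G w := by
  ext i j
  simp [Cm, Matrix.mulVec_smul]

lemma key_A (G x : Matrix (Fin n) (Fin n) B) (hx : x * G = G * x) (v : Fin n → B) :
    ∃ a : Fin n → B, (Cm G v).det • Pm G a = ((Cm G v).det ^ 2) • x := by
  refine ⟨(Cm G v).adjugate *ᵥ (x *ᵥ v), ?_⟩
  set a := (Cm G v).adjugate *ᵥ (x *ᵥ v) with ha
  set Δ := (Cm G v).det with hΔ
  have h1 : Pm G a *ᵥ v = Δ • (x *ᵥ v) := by
    rw [Pm_mulVec, ha, Matrix.mulVec_mulVec, Matrix.mul_adjugate, Matrix.smul_mulVec,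
      Matrix.one_mulVec]
  have h2 : Pm G a * Cm G v = Δ • (x * Cm G v) := by
    rw [mul_Cm G (Pm G a) (Pm_comm G a) v, h1, Cm_smul, mul_Cm G x hx v]
  have h3 : Pm G a * Cm G v * (Cm G v).adjugate = Δ • (x * Cm G v) * (Cm G v).adjugate := by
    rw [h2]
  rw [Matrix.mul_assoc, Matrix.mul_adjugate, Matrix.smul_mul, Matrix.mul_assoc,
    Matrix.mul_adjugate] at h3
  rw [Matrix.mul_smul, Matrix.mul_smul, mul_one, mul_one, smul_smul] at h3
  rw [h3, sq]

lemma key_A2 (G x y : Matrix (Fin n) (Fin n) B) (hx : x * G = G * x) (hy : y * G = G * y)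
    (v : Fin n → B) : ((Cm G v).det ^ 4) • (x * y - y * x) = 0 := by
  obtain ⟨a, ha⟩ := key_A G x hx v
  obtain ⟨b, hb⟩ := key_A G y hy v
  set Δ := (Cm G v).det with hΔ
  have h1 : (Δ ^ 4) • (x * y) = (Δ ^ 2 • x) * (Δ ^ 2 • y) := by
    rw [Matrix.smul_mul, Matrix.mul_smul, smul_smul]; ring_nf
  have h2 : (Δ ^ 4) • (y * x) = (Δ ^ 2 • y) * (Δ ^ 2 • x) := by
    rw [Matrix.smul_mul, Matrix.mul_smul, smul_smul]; ring_nf
  rw [smul_sub, h1, h2, ← ha, ← hb, Matrix.smul_mul, Matrix.mul_smul, Matrix.smul_mul,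
    Matrix.mul_smul, Pm_comm_Pm G a b, sub_self]

end PartA

section PartC

open Polynomial

variable {K : Type u} [Field K] {n : ℕ}

lemma quot_smul_eq {R : Type u} [CommRing R] (I : Ideal R) (r : R) (z : R ⧸ I) :
    r • z = Ideal.Quotient.mk I r * z := by
  obtain ⟨s, rfl⟩ := Ideal.Quotient.mk_surjective z
  rw [← map_mul]
  rfl

lemma exists_model (h : Matrix (Fin n) (Fin n) K) :
    ∃ (ι : Type u) (_ : Fintype ι) (q : ι → K[X]) (_ : ∀ i, q i ≠ 0)
      (φ : (Fin n → K) ≃ₗ[K] (∀ i, K[X] ⧸ Ideal.span {q i})),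
      ∀ (f : K[X]) w, φ (aeval h f *ᵥ w) = (fun i => Ideal.Quotient.mk (Ideal.span {q i}) f) * φ w := by
  classical
  have htors : Module.IsTorsion K[X] (Module.AEval' (Matrix.toLin' h)) :=
    Module.AEval.isTorsion_of_finiteDimensional K _ (Matrix.toLin' h)
  obtain ⟨ι, hι, p, hp, e, ⟨E⟩⟩ := Module.equiv_directSum_of_isTorsion htors
  let E' : Module.AEval' (Matrix.toLin' h) ≃ₗ[K[X]] (∀ i, K[X] ⧸ Ideal.span {p i ^ e i}) :=
    E.trans (DirectSum.linearEquivFunOnFintype K[X] ι _)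
  refine ⟨ι, hι, fun i => p i ^ e i, fun i => pow_ne_zero _ (hp i).ne_zero,
    (Module.AEval'.of (Matrix.toLin' h)).trans (E'.restrictScalars K), ?_⟩
  intro f w
  have h0 : aeval (Matrix.toLin' h) f = Matrix.toLin' (aeval h f) := by
    have := Polynomial.aeval_algHom_apply (Matrix.toLinAlgEquiv' (R := K) (n := Fin n)) h f
    exact this
  have h1 : aeval h f *ᵥ w = aeval (Matrix.toLin' h) f • w := by
    rw [h0]; exact (Matrix.toLin'_apply _ w).symm
  rw [h1]
  simp only [LinearEquiv.trans_apply, LinearEquiv.restrictScalars_apply]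
  have h2 : Module.AEval'.of (Matrix.toLin' h) (aeval (Matrix.toLin' h) f • w) =
      f • Module.AEval'.of (Matrix.toLin' h) w := Module.AEval.of_aeval_smul _ f w
  rw [h2, map_smul]
  ext i
  simp only [Pi.smul_apply, Pi.mul_apply]
  exact quot_smul_eq _ _ _

section Abstract

variable {ι : Type u} [Fintype ι] [DecidableEq ι] (q : ι → K[X]) (hq : ∀ i, q i ≠ 0)
  (h : Matrix (Fin n) (Fin n) K)
  (φ : (Fin n → K) ≃ₗ[K] (∀ i, K[X] ⧸ Ideal.span {q i}))
  (hφ : ∀ (f : K[X]) w, φ (aeval h f *ᵥ w) = (fun i => Ideal.Quotient.mk (Ideal.span {q i}) f) * φ w)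

/-- the K-linear equivalence End(P) ≃ matrices. -/
def Theta : Module.End K (∀ i, K[X] ⧸ Ideal.span {q i}) ≃ₗ[K] Matrix (Fin n) (Fin n) K :=
  φ.symm.conj.trans LinearMap.toMatrix'

lemma Theta_mulVec (ψ : Module.End K (∀ i, K[X] ⧸ Ideal.span {q i})) (w : Fin n → K) :
    Theta q φ ψ *ᵥ w = φ.symm (ψ (φ w)) := by
  unfold Theta
  rw [LinearEquiv.trans_apply, LinearMap.toMatrix'_mulVec, LinearEquiv.conj_apply_apply]
  simp

include hφ in
lemma Theta_comm (ψ : Module.End K (∀ i, K[X] ⧸ Ideal.span {q i}))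
    (hψ : ∀ p, ψ ((fun i => Ideal.Quotient.mk (Ideal.span {q i}) X) * p) =
      (fun i => Ideal.Quotient.mk (Ideal.span {q i}) X) * ψ p) :
    h * Theta q φ ψ = Theta q φ ψ * h := by
  have hX : ∀ w, φ (h *ᵥ w) = (fun i => Ideal.Quotient.mk (Ideal.span {q i}) X) * φ w := by
    intro w
    have := hφ X w
    rwa [aeval_X] at this
  apply Matrix.toLin'.injective
  apply LinearMap.ext
  intro w
  rw [Matrix.toLin'_apply, Matrix.toLin'_apply, ← Matrix.mulVec_mulVec, ← Matrix.mulVec_mulVec,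
    Theta_mulVec, Theta_mulVec, hX, hψ]
  apply φ.injective
  rw [hX]
  simp

end Abstract

section Abstract2
set_option linter.unusedSectionVars false

variable {ι : Type u} [Fintype ι] [DecidableEq ι] (q : ι → K[X]) (hq : ∀ i, q i ≠ 0)
  (h : Matrix (Fin n) (Fin n) K)
  (φ : (Fin n → K) ≃ₗ[K] (∀ i, K[X] ⧸ Ideal.span {q i}))
  (hφ : ∀ (f : K[X]) w, φ (aeval h f *ᵥ w) = (fun i => Ideal.Quotient.mk (Ideal.span {q i}) f) * φ w)
  (hfin : Module.finrank K (Subalgebra.centralizer K ({h} : Set (Matrix (Fin n) (Fin n) K))) = n)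

include hφ hfin in
/-- Every endomorphism commuting with `X` is a multiplication. -/
lemma exists_mul_eq (ψ : Module.End K (∀ i, K[X] ⧸ Ideal.span {q i}))
    (hψ : ∀ p, ψ ((fun i => Ideal.Quotient.mk (Ideal.span {q i}) X) * p) =
      (fun i => Ideal.Quotient.mk (Ideal.span {q i}) X) * ψ p) :
    ∃ r : (∀ i, K[X] ⧸ Ideal.span {q i}), ∀ p, ψ p = r * p := by
  set P := (∀ i, K[X] ⧸ Ideal.span {q i}) with hP
  set Cn := Subalgebra.centralizer K ({h} : Set (Matrix (Fin n) (Fin n) K)) with hCn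
  have hmem : ∀ r : P, Theta q φ (LinearMap.mul K P r) ∈ Subalgebra.toSubmodule Cn := by
    intro r
    rw [Subalgebra.mem_toSubmodule, hCn, Subalgebra.mem_centralizer_iff]
    intro g hg
    rw [Set.mem_singleton_iff] at hg
    subst hg
    apply Theta_comm q g φ hφ
    intro p
    show r * (_ * p) = _ * (r * p)
    ring
  let Ψ : P →ₗ[K] Subalgebra.toSubmodule Cn :=
    LinearMap.codRestrict _ ((Theta q φ).toLinearMap ∘ₗ LinearMap.mul K P) hmem
  have hinj : Function.Injective Ψ := by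
    intro r r' hrr
    have h1 : Theta q φ (LinearMap.mul K P r) = Theta q φ (LinearMap.mul K P r') :=
      congrArg Subtype.val hrr
    have h2 := (Theta q φ).injective h1
    have h3 := LinearMap.congr_fun h2 1
    simpa using h3
  haveI : FiniteDimensional K P := LinearEquiv.finiteDimensional φ
  have hdim : Module.finrank K P = Module.finrank K (Subalgebra.toSubmodule Cn) := by
    rw [Subalgebra.finrank_toSubmodule, hfin, ← φ.finrank_eq, Module.finrank_fin_fun]
  have hsurj : Function.Surjective Ψ :=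
    (LinearMap.injective_iff_surjective_of_finrank_eq_finrank hdim).1 hinj
  have hψmem : Theta q φ ψ ∈ Subalgebra.toSubmodule Cn := by
    rw [Subalgebra.mem_toSubmodule, hCn, Subalgebra.mem_centralizer_iff]
    intro g hg
    rw [Set.mem_singleton_iff] at hg
    subst hg
    exact Theta_comm q g φ hφ ψ hψ
  obtain ⟨r, hr⟩ := hsurj ⟨_, hψmem⟩
  refine ⟨r, fun p => ?_⟩
  have h1 : Theta q φ (LinearMap.mul K P r) = Theta q φ ψ := congrArg Subtype.val hr
  have h2 := (Theta q φ).injective h1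
  rw [← h2]
  rfl

end Abstract2

section Abstract3
set_option linter.unusedSectionVars false

variable {ι : Type u} [Fintype ι] [DecidableEq ι] (q : ι → K[X]) (hq : ∀ i, q i ≠ 0)
  (h : Matrix (Fin n) (Fin n) K)
  (φ : (Fin n → K) ≃ₗ[K] (∀ i, K[X] ⧸ Ideal.span {q i}))
  (hφ : ∀ (f : K[X]) w, φ (aeval h f *ᵥ w) = (fun i => Ideal.Quotient.mk (Ideal.span {q i}) f) * φ w)
  (hfin : Module.finrank K (Subalgebra.centralizer K ({h} : Set (Matrix (Fin n) (Fin n) K))) = n)

/-- multiplication by `a` as a map `K[X]/(c) → K[X]/(d)` when `d ∣ a * c`. -/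
def mulQ (c d a : K[X]) (hd : d ∣ a * c) :
    (K[X] ⧸ Ideal.span {c}) →ₗ[K[X]] (K[X] ⧸ Ideal.span {d}) :=
  Submodule.mapQ (Ideal.span {c}) (Ideal.span {d}) (LinearMap.mulLeft K[X] a) (by
    intro z hz
    rw [Ideal.mem_span_singleton] at hz
    obtain ⟨t, rfl⟩ := hz
    rw [Submodule.mem_comap, LinearMap.mulLeft_apply, Ideal.mem_span_singleton]
    obtain ⟨s, hs⟩ := hd
    exact ⟨s * t, by rw [← mul_assoc, hs]; ring⟩)

lemma mulQ_mk (c d a : K[X]) (hd : d ∣ a * c) (f : K[X]) :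
    mulQ c d a hd (Ideal.Quotient.mk _ f) = Ideal.Quotient.mk _ (a * f) := rfl

include hq hφ hfin in
lemma pairwise_coprime (i j : ι) (hij : i ≠ j) : IsCoprime (q i) (q j) := by
  classical
  set g := EuclideanDomain.gcd (q i) (q j) with hg
  obtain ⟨a, ha⟩ := EuclideanDomain.gcd_dvd_left (q i) (q j)
  obtain ⟨b, hb⟩ := EuclideanDomain.gcd_dvd_right (q i) (q j)
  rw [← hg] at ha hb
  have hd : q i ∣ a * q j := ⟨b, by rw [ha, hb]; ring⟩
  set P := (∀ i, K[X] ⧸ Ideal.span {q i}) with hP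
  let N₀ : (K[X] ⧸ Ideal.span {q j}) →ₗ[K] (K[X] ⧸ Ideal.span {q i}) :=
    (mulQ (q j) (q i) a hd).restrictScalars K
  let N : P →ₗ[K] P :=
    (LinearMap.single K (fun i => K[X] ⧸ Ideal.span {q i}) i) ∘ₗ N₀ ∘ₗ (LinearMap.proj j)
  have hN : ∀ p : P, N p = Pi.single i (mulQ (q j) (q i) a hd (p j)) := fun p => rfl
  have hNc : ∀ p : P, N ((fun i => Ideal.Quotient.mk (Ideal.span {q i}) X) * p) =
      (fun i => Ideal.Quotient.mk (Ideal.span {q i}) X) * N p := by
    intro p
    rw [hN, hN]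
    funext k
    show Pi.single (M := fun i => K[X] ⧸ Ideal.span {q i}) i
        (mulQ (q j) (q i) a hd (Ideal.Quotient.mk _ X * p j)) k =
      Ideal.Quotient.mk _ X * Pi.single (M := fun i => K[X] ⧸ Ideal.span {q i}) i
        (mulQ (q j) (q i) a hd (p j)) k
    by_cases hk : k = i
    · subst hk
      rw [Pi.single_eq_same, Pi.single_eq_same, ← quot_smul_eq, ← quot_smul_eq, map_smul]
    · rw [Pi.single_eq_of_ne hk, Pi.single_eq_of_ne hk, mul_zero]
  obtain ⟨r, hr⟩ := exists_mul_eq q h φ hφ hfin N hNc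
  have h1 := congrFun (hr (Pi.single j 1)) i
  rw [hN, Pi.single_eq_same, Pi.single_eq_same, Pi.mul_apply, Pi.single_eq_of_ne hij, mul_zero,
    ← map_one (Ideal.Quotient.mk _), mulQ_mk, mul_one, Ideal.Quotient.eq_zero_iff_mem,
    Ideal.mem_span_singleton] at h1
  have ha0 : a ≠ 0 := by
    rintro rfl
    exact hq i (by rw [ha, mul_zero])
  have h2 : g * a ∣ 1 * a := by rw [one_mul, ← ha]; exact h1
  have h3 : g ∣ 1 := (mul_dvd_mul_iff_right ha0).1 h2
  exact EuclideanDomain.gcd_isUnit_iff.1 (isUnit_of_dvd_one h3)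

end Abstract3

section Abstract4
set_option linter.unusedSectionVars false

variable {ι : Type u} [Fintype ι] [DecidableEq ι] (q : ι → K[X]) (hq : ∀ i, q i ≠ 0)
  (h : Matrix (Fin n) (Fin n) K)
  (φ : (Fin n → K) ≃ₗ[K] (∀ i, K[X] ⧸ Ideal.span {q i}))
  (hφ : ∀ (f : K[X]) w, φ (aeval h f *ᵥ w) = (fun i => Ideal.Quotient.mk (Ideal.span {q i}) f) * φ w)
  (hfin : Module.finrank K (Subalgebra.centralizer K ({h} : Set (Matrix (Fin n) (Fin n) K))) = n)

include hq hφ hfin in
lemma crt_surj (p : ∀ i, K[X] ⧸ Ideal.span {q i}) :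
    ∃ f : K[X], (fun i => Ideal.Quotient.mk (Ideal.span {q i}) f) = p := by
  have hpair : Pairwise (Function.onFun IsCoprime fun i => Ideal.span {q i}) := by
    intro i j hij
    show IsCoprime (Ideal.span {q i}) (Ideal.span {q j})
    rw [Ideal.isCoprime_span_singleton_iff]
    exact pairwise_coprime q hq h φ hφ hfin i j hij
  obtain ⟨z, hz⟩ := Ideal.quotientInfToPiQuotient_surj hpair p
  obtain ⟨f, rfl⟩ := Ideal.Quotient.mk_surjective z
  exact ⟨f, hz⟩

include hq hφ hfin in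
lemma exists_gen : ∃ v : Fin n → K, ∀ w : Fin n → K, ∃ f : K[X], w = aeval h f *ᵥ v := by
  refine ⟨φ.symm 1, fun w => ?_⟩
  obtain ⟨f, hf⟩ := crt_surj q hq h φ hφ hfin (φ w)
  refine ⟨f, ?_⟩
  apply φ.injective
  rw [hφ, LinearEquiv.apply_symm_apply, mul_one, hf]

end Abstract4

lemma aeval_eq_Pm (h : Matrix (Fin n) (Fin n) K) (r : K[X]) (hr : r.natDegree < n) :
    aeval h r = Pm h (fun j : Fin n => r.coeff j) := by
  rw [Polynomial.aeval_eq_sum_range' hr, Pm]
  exact (Fin.sum_univ_eq_sum_range (fun i => r.coeff i • h ^ i) n).symm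

theorem exists_cyclic (h : Matrix (Fin n) (Fin n) K)
    (hfin : Module.finrank K (Subalgebra.centralizer K ({h} : Set (Matrix (Fin n) (Fin n) K))) = n) :
    ∃ v : Fin n → K, (Cm h v).det ≠ 0 := by
  classical
  rcases Nat.eq_zero_or_pos n with hn | hn
  · subst hn
    exact ⟨0, by rw [Matrix.det_isEmpty]; exact one_ne_zero⟩
  obtain ⟨ι, hι, q, hq, φ, hφ⟩ := exists_model h
  obtain ⟨v, hv⟩ := exists_gen q hq h φ hφ hfin
  refine ⟨v, ?_⟩
  have hsurj : Function.Surjective (Cm h v).mulVec := by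
    intro w
    obtain ⟨f, hf⟩ := hv w
    have hmonic : h.charpoly.Monic := Matrix.charpoly_monic h
    have hdeg : h.charpoly.natDegree = n := by
      rw [Matrix.charpoly_natDegree_eq_dim, Fintype.card_fin]
    have hne1 : h.charpoly ≠ 1 := by
      intro h1
      rw [h1, natDegree_one] at hdeg
      omega
    have hlt : (f %ₘ h.charpoly).natDegree < n := by
      have := Polynomial.natDegree_modByMonic_lt f hmonic hne1
      rwa [hdeg] at this
    refine ⟨fun j : Fin n => (f %ₘ h.charpoly).coeff j, ?_⟩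
    rw [← Pm_mulVec, ← aeval_eq_Pm h _ hlt,
      Polynomial.aeval_modByMonic_eq_self_of_root (Matrix.aeval_self_charpoly h), ← hf]
  have hunit : IsUnit (Cm h v) := Matrix.mulVec_surjective_iff_isUnit.1 hsurj
  exact ((Matrix.isUnit_iff_isUnit_det _).1 hunit).ne_zero

end PartC

section PartB

variable {B : Type u} [CommRing B] {n : ℕ}

lemma Cm_map {S : Type u} [CommRing S] (f : B →+* S) (G : Matrix (Fin n) (Fin n) B)
    (v : Fin n → B) : (Cm G v).map f = Cm (G.map f) (f ∘ v) := by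
  ext i j
  simp only [Cm, Matrix.map_apply, Matrix.of_apply]
  have : (G.map f) ^ (j : ℕ) = (G ^ (j : ℕ)).map f := by
    have := map_pow f.mapMatrix G (j : ℕ)
    simpa [RingHom.mapMatrix_apply] using this.symm
  rw [this, RingHom.map_mulVec]

theorem main {A : Type u} [CommRing A] (n : ℕ)
    (g : Matrix (Fin n) (Fin n) A)
    (hreg : ∀ (K : Type u) [Field K] (φ : A →+* K),
      Module.finrank K (Subalgebra.centralizer K ({g.map φ} : Set (Matrix (Fin n) (Fin n) K))) = n)
    (B : Type u) [CommRing B] [Algebra A B] (x y : Matrix (Fin n) (Fin n) B)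
    (hxg : x * g.map (algebraMap A B) = g.map (algebraMap A B) * x)
    (hyg : y * g.map (algebraMap A B) = g.map (algebraMap A B) * y) :
    x * y = y * x := by
  set G := g.map (algebraMap A B) with hG
  -- the ideal generated by all Krylov determinants is the unit ideal
  have htop : Ideal.span (Set.range fun v : Fin n → B => (Cm G v).det) = ⊤ := by
    by_contra hne
    obtain ⟨m, hm, hle⟩ := Ideal.exists_le_maximal _ hne
    letI : Field (B ⧸ m) := Ideal.Quotient.field m
    let φ : A →+* (B ⧸ m) := (Ideal.Quotient.mk m).comp (algebraMap A B)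
    obtain ⟨vbar, hv⟩ := exists_cyclic (g.map φ) (hreg (B ⧸ m) φ)
    choose v hvv using fun i => Ideal.Quotient.mk_surjective (I := m) (vbar i)
    have h1 : g.map φ = G.map (Ideal.Quotient.mk m) := by
      rw [hG, Matrix.map_map]; rfl
    have h2 : (Ideal.Quotient.mk m) ∘ v = vbar := funext hvv
    have h3 : (Ideal.Quotient.mk m) (Cm G v).det = (Cm (g.map φ) vbar).det := by
      rw [RingHom.map_det, RingHom.mapMatrix_apply, Cm_map, h1, h2]
    have h4 : (Cm G v).det ∈ m := hle (Ideal.subset_span ⟨v, rfl⟩)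
    rw [← Ideal.Quotient.eq_zero_iff_mem, h3] at h4
    exact hv h4
  have htop4 := Ideal.span_pow_eq_top _ htop 4
  -- annihilator ideal
  let I : Ideal B :=
    { carrier := {b | b • (x * y - y * x) = 0}
      add_mem' := by
        intro a b ha hb
        simp only [Set.mem_setOf_eq] at ha hb ⊢
        rw [add_smul, ha, hb, add_zero]
      zero_mem' := by simp
      smul_mem' := by
        intro c b hb
        simp only [Set.mem_setOf_eq] at hb ⊢
        rw [smul_eq_mul, mul_smul, hb, smul_zero] }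
  have hI : Ideal.span ((fun b : B => b ^ 4) '' (Set.range fun v : Fin n → B => (Cm G v).det)) ≤ I := by
    rw [Ideal.span_le]
    rintro _ ⟨_, ⟨v, rfl⟩, rfl⟩
    exact key_A2 G x y hxg hyg v
  rw [htop4] at hI
  have h1 : (1 : B) ∈ I := hI trivial
  have h2 : (1 : B) • (x * y - y * x) = 0 := h1
  rw [one_smul, sub_eq_zero] at h2
  exact h2

end PartB

end Groth.Agent.Lib.Helper6.RegMat
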