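import Groth.Agent.Lib.Helper6.RegMat

set_option linter.unusedSectionVars false
set_option linter.unusedVariables false
set_option autoImplicit false
set_option maxHeartbeats 400000

noncomputable section

namespace Groth.Agent.Lib.Helper6.RegMat

open Matrix

universe u

section PartA'

variable {B : Type u} [CommRing B] {n : ℕ}

lemma key_A' (G x : Matrix (Fin n) (Fin n) B) (hx : x * G = G * x) (v : Fin n → B) :
    (Cm G v).det • Pm G ((Cm G v).adjugate *ᵥ (x *ᵥ v)) = ((Cm G v).det ^ 2) • x := by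
  set a := (Cm G v).adjugate *ᵥ (x *ᵥ v) with ha
  set Δ := (Cm G v).det with hΔ
  have h1 : Pm G a *ᵥ v = Δ • (x *ᵥ v) := by
    rw [Pm_mulVec, ha, Matrix.mulVec_mulVec, Matrix.mul_adjugate, Matrix.smul_mulVec,
      Matrix.one_mulVec]
  have h2 : Pm G a * Cm G v = Δ • (x * Cm G v) := by
    rw [mul_Cm G (Pm G a) (Pm_comm G a) v, h1, Cm_smul, mul_Cm G x hx v]
  have h3 : Pm G a * Cm G v * (Cm G v).adjugate = Δ • (x * Cm G v) * (Cm G v).adjugate := by
    rw [h2]
  rw [Matrix.mul_assoc, Matrix.mul_adjugate, Matrix.smul_mul, Matrix.mul_assoc,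
    Matrix.mul_adjugate] at h3
  rw [Matrix.mul_smul, Matrix.mul_smul, mul_one, mul_one, smul_smul] at h3
  rw [h3, sq]

lemma Pm_smul (G : Matrix (Fin n) (Fin n) B) (c : B) (a : Fin n → B) :
    Pm G (c • a) = c • Pm G a := by
  unfold Pm
  rw [Finset.smul_sum]
  refine Finset.sum_congr rfl fun j _ => ?_
  rw [Pi.smul_apply, smul_eq_mul, mul_smul]

/-- if `Δ` is a unit with inverse `u`, then `x = Pm G (u • adj(C) (x v))`. -/
lemma eq_Pm_of_unit (G x : Matrix (Fin n) (Fin n) B) (hx : x * G = G * x) (v : Fin n → B)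
    (u : B) (hu : u * (Cm G v).det = 1) :
    Pm G (u • ((Cm G v).adjugate *ᵥ (x *ᵥ v))) = x := by
  have h := key_A' G x hx v
  have h2 := congrArg (fun M => (u * u) • M) h
  simp only [smul_smul] at h2
  have e1 : u * u * (Cm G v).det = u := by rw [mul_assoc, hu, mul_one]
  have e2 : u * u * (Cm G v).det ^ 2 = 1 := by
    rw [sq, ← mul_assoc, e1, hu]
  rw [e1, e2, one_smul] at h2
  rw [Pm_smul, h2]

lemma Pm_map {S : Type u} [CommRing S] (f : B →+* S) (G : Matrix (Fin n) (Fin n) B)
    (a : Fin n → B) : (Pm G a).map f = Pm (G.map f) (f ∘ a) := by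
  unfold Pm
  have h1 : ∀ j : ℕ, (G.map f) ^ j = (G ^ j).map f := by
    intro j
    have := map_pow f.mapMatrix G j
    simpa [RingHom.mapMatrix_apply] using this.symm
  have h2 : (∑ j : Fin n, a j • G ^ (j : ℕ)).map f = f.mapMatrix (∑ j : Fin n, a j • G ^ (j : ℕ)) :=
    rfl
  rw [h2, map_sum]
  refine Finset.sum_congr rfl fun j _ => ?_
  rw [h1]
  ext i k
  simp [RingHom.mapMatrix_apply]

end PartA'

section Span

variable {A : Type u} [CommRing A] (n : ℕ)

theorem span_det_eq_top (g : Matrix (Fin n) (Fin n) A)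
    (hreg : ∀ (K : Type u) [Field K] (φ : A →+* K),
      Module.finrank K (Subalgebra.centralizer K ({g.map φ} : Set (Matrix (Fin n) (Fin n) K))) = n) :
    Ideal.span (Set.range fun v : Fin n → A => (Cm g v).det) = ⊤ := by
  by_contra hne
  obtain ⟨m, hm, hle⟩ := Ideal.exists_le_maximal _ hne
  letI : Field (A ⧸ m) := Ideal.Quotient.field m
  obtain ⟨vbar, hv⟩ := exists_cyclic (g.map (Ideal.Quotient.mk m)) (hreg (A ⧸ m) (Ideal.Quotient.mk m))
  choose v hvv using fun i => Ideal.Quotient.mk_surjective (I := m) (vbar i)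
  have h2 : (Ideal.Quotient.mk m) ∘ v = vbar := funext hvv
  have h3 : (Ideal.Quotient.mk m) (Cm g v).det = (Cm (g.map (Ideal.Quotient.mk m)) vbar).det := by
    rw [RingHom.map_det, RingHom.mapMatrix_apply, Cm_map, h2]
  have h4 : (Cm g v).det ∈ m := hle (Ideal.subset_span ⟨v, rfl⟩)
  rw [← Ideal.Quotient.eq_zero_iff_mem, h3] at h4
  exact hv h4

end Span

section Flat

open MvPolynomial

variable {A : Type u} [CommRing A] {n : ℕ} (g : Matrix (Fin n) (Fin n) A)

/-- the ideal of relations `X g = g X`. -/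
def relIdeal : Ideal (MvPolynomial (Fin n × Fin n) A) :=
  Ideal.span (Set.range fun ij : Fin n × Fin n =>
    (Matrix.mvPolynomialX (Fin n) (Fin n) A * g.map MvPolynomial.C -
      g.map MvPolynomial.C * Matrix.mvPolynomialX (Fin n) (Fin n) A :
        Matrix (Fin n) (Fin n) (MvPolynomial (Fin n × Fin n) A)) ij.1 ij.2)

abbrev Zr := MvPolynomial (Fin n × Fin n) A ⧸ relIdeal g

variable (v : Fin n → A)

abbrev Wr := Localization.Away (MvPolynomial.C (Cm g v).det : MvPolynomial (Fin n) A)


lemma flat_Wr : Module.Flat A (Wr g v) := by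
  haveI : Module.Flat (MvPolynomial (Fin n) A) (Wr g v) :=
    IsLocalization.flat _ (Submonoid.powers (MvPolynomial.C (Cm g v).det : MvPolynomial (Fin n) A))
  exact Module.Flat.trans A (MvPolynomial (Fin n) A) (Wr g v)

abbrev Zd := Localization.Away (algebraMap A (Zr g) (Cm g v).det)


section Psi

/-- coefficient vector in `Wr`. -/
def aW : Fin n → Wr g v := fun k => algebraMap (MvPolynomial (Fin n) A) (Wr g v) (MvPolynomial.X k)

def psi0 : MvPolynomial (Fin n × Fin n) A →ₐ[A] Wr g v :=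
  MvPolynomial.aeval fun ij => (Pm (g.map (algebraMap A (Wr g v))) (aW g v)) ij.1 ij.2

lemma psi0_X (i j : Fin n) :
    psi0 g v (MvPolynomial.X (i, j)) = (Pm (g.map (algebraMap A (Wr g v))) (aW g v)) i j := by
  unfold psi0
  rw [MvPolynomial.aeval_X]

lemma map_X_psi0 : (Matrix.mvPolynomialX (Fin n) (Fin n) A).map (psi0 g v) =
    Pm (g.map (algebraMap A (Wr g v))) (aW g v) := by
  ext i j
  rw [Matrix.map_apply, Matrix.mvPolynomialX_apply, psi0_X]

lemma map_g_psi0 : (g.map (MvPolynomial.C : A →+* MvPolynomial (Fin n × Fin n) A)).map (psi0 g v) =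
    g.map (algebraMap A (Wr g v)) := by
  ext i j
  simp only [Matrix.map_apply]
  have : (MvPolynomial.C (g i j) : MvPolynomial (Fin n × Fin n) A) =
      algebraMap A _ (g i j) := rfl
  rw [this, AlgHom.commutes]

lemma psi0_rel (p : MvPolynomial (Fin n × Fin n) A) (hp : p ∈ relIdeal g) : psi0 g v p = 0 := by
  have hle : relIdeal g ≤ RingHom.ker (psi0 g v : MvPolynomial (Fin n × Fin n) A →+* Wr g v) := by
    unfold relIdeal
    rw [Ideal.span_le]
    rintro _ ⟨ij, rfl⟩
    rw [SetLike.mem_coe, RingHom.mem_ker]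
    have h1 : ((Matrix.mvPolynomialX (Fin n) (Fin n) A * g.map MvPolynomial.C -
        g.map MvPolynomial.C * Matrix.mvPolynomialX (Fin n) (Fin n) A).map (psi0 g v)) ij.1 ij.2 = 0 := by
      have := Matrix.map_sub (M := Matrix.mvPolynomialX (Fin n) (Fin n) A * g.map MvPolynomial.C)
        (N := g.map MvPolynomial.C * Matrix.mvPolynomialX (Fin n) (Fin n) A)
        (f := (psi0 g v)) (fun a b => map_sub _ a b)
      rw [this, Matrix.map_mul, Matrix.map_mul, map_X_psi0, map_g_psi0, Pm_comm, sub_self]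
      rfl
    exact h1
  exact hle hp

def psi1 : Zr g →ₐ[A] Wr g v := Ideal.Quotient.liftₐ (relIdeal g) (psi0 g v) (psi0_rel g v)

lemma psi1_mk (p : MvPolynomial (Fin n × Fin n) A) :
    psi1 g v (Ideal.Quotient.mk (relIdeal g) p) = psi0 g v p := rfl

lemma isUnit_psi1 : IsUnit (psi1 g v (algebraMap A (Zr g) (Cm g v).det)) := by
  rw [AlgHom.commutes, IsScalarTower.algebraMap_apply A (MvPolynomial (Fin n) A) (Wr g v),
    MvPolynomial.algebraMap_eq]
  exact IsLocalization.Away.algebraMap_isUnit _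

def Psi : Zd g v →ₐ[A] Wr g v :=
  IsLocalization.Away.liftAlgHom (algebraMap A (Zr g) (Cm g v).det) (f := psi1 g v) (isUnit_psi1 g v)

lemma Psi_algebraMap (z : Zr g) : Psi g v (algebraMap (Zr g) (Zd g v) z) = psi1 g v z := by
  unfold Psi
  rw [IsLocalization.Away.liftAlgHom_apply, IsLocalization.Away.lift_eq]
  rfl

end Psi

section Phi

/-- the ring hom `A[x_ij] → Zd`. -/
def theta : MvPolynomial (Fin n × Fin n) A →+* Zd g v :=
  (algebraMap (Zr g) (Zd g v)).comp (Ideal.Quotient.mk (relIdeal g))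

lemma theta_C (a : A) : theta g v (MvPolynomial.C a) = algebraMap A (Zd g v) a := by
  unfold theta
  rw [RingHom.comp_apply, IsScalarTower.algebraMap_apply A (Zr g) (Zd g v)]
  rfl

def XZ : Matrix (Fin n) (Fin n) (Zd g v) :=
  (Matrix.mvPolynomialX (Fin n) (Fin n) A).map (theta g v)

def gZ : Matrix (Fin n) (Fin n) (Zd g v) := g.map (algebraMap A (Zd g v))

def vZ : Fin n → Zd g v := fun k => algebraMap A (Zd g v) (v k)

lemma gZ_eq : gZ g v = (g.map (MvPolynomial.C : A →+* MvPolynomial (Fin n × Fin n) A)).map (theta g v) := by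
  ext i j
  simp only [gZ, Matrix.map_apply, theta_C]

lemma XZ_comm : XZ g v * gZ g v = gZ g v * XZ g v := by
  rw [← sub_eq_zero, gZ_eq, XZ, ← Matrix.map_mul, ← Matrix.map_mul]
  ext i j
  rw [Matrix.sub_apply, Matrix.map_apply, Matrix.map_apply, ← map_sub, ← Matrix.sub_apply,
    Matrix.zero_apply]
  have hmem : (Matrix.mvPolynomialX (Fin n) (Fin n) A * g.map MvPolynomial.C -
      g.map MvPolynomial.C * Matrix.mvPolynomialX (Fin n) (Fin n) A :
        Matrix (Fin n) (Fin n) (MvPolynomial (Fin n × Fin n) A)) i j ∈ relIdeal g :=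
    Ideal.subset_span ⟨(i, j), rfl⟩
  unfold theta
  rw [RingHom.comp_apply, Ideal.Quotient.eq_zero_iff_mem.2 hmem, map_zero]

lemma det_CmZ : (Cm (gZ g v) (vZ g v)).det = algebraMap A (Zd g v) (Cm g v).det := by
  have h := Cm_map (algebraMap A (Zd g v)) g v
  have h2 : (algebraMap A (Zd g v)) ∘ v = vZ g v := rfl
  rw [h2] at h
  rw [gZ, ← h]
  exact (RingHom.map_det (algebraMap A (Zd g v)) (Cm g v)).symm

def uZ : Zd g v := IsLocalization.Away.invSelf (algebraMap A (Zr g) (Cm g v).det)

lemma uZ_mul : uZ g v * (Cm (gZ g v) (vZ g v)).det = 1 := by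
  rw [det_CmZ, IsScalarTower.algebraMap_apply A (Zr g) (Zd g v), mul_comm]
  exact IsLocalization.Away.mul_invSelf _

def aZ : Fin n → Zd g v :=
  uZ g v • ((Cm (gZ g v) (vZ g v)).adjugate *ᵥ (XZ g v *ᵥ vZ g v))

lemma Pm_aZ : Pm (gZ g v) (aZ g v) = XZ g v :=
  eq_Pm_of_unit (gZ g v) (XZ g v) (XZ_comm g v) (vZ g v) (uZ g v) (uZ_mul g v)

def phi0 : MvPolynomial (Fin n) A →ₐ[A] Zd g v := MvPolynomial.aeval (aZ g v)

lemma isUnit_phi0 : IsUnit (phi0 g v (MvPolynomial.C (Cm g v).det)) := by
  have : (MvPolynomial.C (Cm g v).det : MvPolynomial (Fin n) A) = algebraMap A _ (Cm g v).det := rfl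
  rw [this, AlgHom.commutes, IsScalarTower.algebraMap_apply A (Zr g) (Zd g v)]
  exact IsLocalization.Away.algebraMap_isUnit _

def Phi : Wr g v →ₐ[A] Zd g v :=
  IsLocalization.Away.liftAlgHom (MvPolynomial.C (Cm g v).det : MvPolynomial (Fin n) A)
    (f := phi0 g v) (isUnit_phi0 g v)

lemma Phi_aW (k : Fin n) : Phi g v (aW g v k) = aZ g v k := by
  unfold Phi aW
  rw [IsLocalization.Away.liftAlgHom_apply, IsLocalization.Away.lift_eq]
  show phi0 g v (MvPolynomial.X k) = _
  unfold phi0
  rw [MvPolynomial.aeval_X]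

lemma Phi_Psi_X (i j : Fin n) :
    Phi g v (Psi g v (algebraMap (Zr g) (Zd g v)
      (Ideal.Quotient.mk (relIdeal g) (MvPolynomial.X (i, j))))) = XZ g v i j := by
  rw [Psi_algebraMap, psi1_mk, psi0_X]
  have h1 : Phi g v ((Pm (g.map (algebraMap A (Wr g v))) (aW g v)) i j) =
      ((Pm (g.map (algebraMap A (Wr g v))) (aW g v)).map (Phi g v : Wr g v →+* Zd g v)) i j := rfl
  rw [h1, Pm_map]
  have h2 : (g.map (algebraMap A (Wr g v))).map (Phi g v : Wr g v →+* Zd g v) = gZ g v := by
    ext i j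
    simp only [Matrix.map_apply, gZ]
    exact (Phi g v).commutes _
  have h3 : ((Phi g v : Wr g v →+* Zd g v) ∘ aW g v) = aZ g v := by
    funext k
    exact Phi_aW g v k
  rw [h2, h3, Pm_aZ]

lemma Phi_comp_Psi : (Phi g v).comp (Psi g v) = AlgHom.id A (Zd g v) := by
  have hring : ((Phi g v).comp (Psi g v) : Zd g v →+* Zd g v) = RingHom.id _ := by
    apply IsLocalization.ringHom_ext (Submonoid.powers (algebraMap A (Zr g) (Cm g v).det))
    apply Ideal.Quotient.ringHom_ext
    apply MvPolynomial.ringHom_ext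
    · intro a
      simp only [RingHom.comp_apply, RingHom.id_apply]
      have e1 : (Ideal.Quotient.mk (relIdeal g)) (MvPolynomial.C a) = algebraMap A (Zr g) a := rfl
      rw [e1, ← IsScalarTower.algebraMap_apply A (Zr g) (Zd g v)]
      exact ((Phi g v).comp (Psi g v)).commutes a
    · rintro ⟨i, j⟩
      simp only [RingHom.comp_apply, RingHom.id_apply]
      have := Phi_Psi_X g v i j
      have e2 : XZ g v i j = algebraMap (Zr g) (Zd g v)
          (Ideal.Quotient.mk (relIdeal g) (MvPolynomial.X (i, j))) := rfl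
      rw [e2] at this
      exact this
  refine AlgHom.ext fun z => ?_
  exact congrArg (fun f : Zd g v →+* Zd g v => f z) hring

lemma flat_Zd : Module.Flat A (Zd g v) := by
  haveI := flat_Wr g v
  apply Module.Flat.of_retract (Psi g v).toLinearMap (Phi g v).toLinearMap
  refine LinearMap.ext fun z => ?_
  exact congrArg (fun f : Zd g v →ₐ[A] Zd g v => f z) (Phi_comp_Psi g v)

end Phi

section Global

theorem flat_Zr
    (hreg : ∀ (K : Type u) [Field K] (φ : A →+* K),
      Module.finrank K (Subalgebra.centralizer K ({g.map φ} : Set (Matrix (Fin n) (Fin n) K))) = n) :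
    Module.Flat A (Zr g) := by
  have spn := span_det_eq_top n g hreg
  have hloc : ∀ r : (Set.range fun v : Fin n → A => (Cm g v).det),
      IsLocalizedModule (Submonoid.powers r.1)
        (IsScalarTower.toAlgHom A (Zr g) (Localization.Away (algebraMap A (Zr g) r.1))).toLinearMap := by
    intro r
    have hS : Algebra.algebraMapSubmonoid (Zr g) (Submonoid.powers r.1) =
        Submonoid.powers (algebraMap A (Zr g) r.1) := Submonoid.map_powers _ _
    haveI : IsLocalization (Algebra.algebraMapSubmonoid (Zr g) (Submonoid.powers r.1))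
        (Localization.Away (algebraMap A (Zr g) r.1)) := by
      rw [hS]; infer_instance
    infer_instance
  haveI : ∀ r : (Set.range fun v : Fin n → A => (Cm g v).det),
      IsLocalizedModule.Away r.1
        (IsScalarTower.toAlgHom A (Zr g) (Localization.Away (algebraMap A (Zr g) r.1))).toLinearMap :=
    hloc
  refine Module.flat_of_isLocalized_span (R := A) A (Zr g) _ spn
    (fun r => Localization.Away (algebraMap A (Zr g) r.1))
    (fun r => (IsScalarTower.toAlgHom A (Zr g) (Localization.Away (algebraMap A (Zr g) r.1))).toLinearMap)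
    ?_
  rintro ⟨_, v, rfl⟩
  exact flat_Zd g v

theorem flat_main
    (hreg : ∀ (K : Type u) [Field K] (φ : A →+* K),
      Module.finrank K (Subalgebra.centralizer K ({g.map φ} : Set (Matrix (Fin n) (Fin n) K))) = n) :
    Module.Flat A (Localization.Away
      (Ideal.Quotient.mk (Ideal.span (Set.range fun ij : Fin n × Fin n =>
        (Matrix.mvPolynomialX (Fin n) (Fin n) A * g.map MvPolynomial.C -
          g.map MvPolynomial.C * Matrix.mvPolynomialX (Fin n) (Fin n) A :
            Matrix (Fin n) (Fin n) (MvPolynomial (Fin n × Fin n) A)) ij.1 ij.2))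
        (Matrix.mvPolynomialX (Fin n) (Fin n) A).det)) := by
  haveI := flat_Zr g hreg
  set y : Zr g := Ideal.Quotient.mk (relIdeal g) (Matrix.mvPolynomialX (Fin n) (Fin n) A).det with hy
  haveI : Module.Flat (Zr g) (Localization.Away y) :=
    IsLocalization.flat _ (Submonoid.powers y)
  exact Module.Flat.trans A (Zr g) (Localization.Away y)

end Global

end Flat

end Groth.Agent.Lib.Helper6.RegMat
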