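import Groth.Agent.Lib.Helper8.RegularLocal7
import Mathlib.RingTheory.Localization.Ideal

universe u

open IsLocalRing

namespace Groth.Agent.Helper6.Reg

/-- quotient of a regular ring by `f` is regular at primes where `f` is not in the square -/
theorem quotient_regular_of_forall {R : Type u} [CommRing R] [IsRegularRing R] (f : R)
    (h : ∀ (q : Ideal R) [q.IsPrime], f ∈ q →
      algebraMap R (Localization.AtPrime q) f ∉ maximalIdeal (Localization.AtPrime q) ^ 2) :
    IsRegularRing (R ⧸ Ideal.span ({f} : Set R)) := by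
  rw [isRegularRing_iff]
  intro qb hqb
  have hqprime : (qb.comap (Ideal.Quotient.mk (Ideal.span ({f} : Set R)))).IsPrime :=
    Ideal.comap_isPrime _ _
  have hfq : f ∈ qb.comap (Ideal.Quotient.mk (Ideal.span ({f} : Set R))) := by
    rw [Ideal.mem_comap]
    have : Ideal.Quotient.mk (Ideal.span ({f} : Set R)) f = 0 :=
      Ideal.Quotient.eq_zero_iff_mem.mpr (Ideal.mem_span_singleton_self f)
    rw [this]
    exact Ideal.zero_mem _
  generalize hq : qb.comap (Ideal.Quotient.mk (Ideal.span ({f} : Set R))) = q at hqprime hfq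
  have hfm : algebraMap R (Localization.AtPrime q) f ∈ maximalIdeal (Localization.AtPrime q) := by
    rw [← Localization.AtPrime.map_eq_maximalIdeal]
    exact Ideal.mem_map_of_mem _ hfq
  obtain ⟨hreg, -⟩ := Groth.Agent.Helper8.RLR.quotient_singleton hfm (h q hfq)
  have hmap : (Ideal.span ({f} : Set R)).map (algebraMap R (Localization.AtPrime q)) =
      Ideal.span {algebraMap R (Localization.AtPrime q) f} := by
    rw [Ideal.map_span, Set.image_singleton]
  rw [← hmap] at hreg
  -- the quotient of the localization is the localization of the quotient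
  have hloc : IsLocalization (Algebra.algebraMapSubmonoid (R ⧸ Ideal.span ({f} : Set R)) q.primeCompl)
      (Localization.AtPrime q ⧸ (Ideal.span ({f} : Set R)).map (algebraMap R (Localization.AtPrime q))) :=
    inferInstance
  have hsub : Algebra.algebraMapSubmonoid (R ⧸ Ideal.span ({f} : Set R)) q.primeCompl = qb.primeCompl := by
    ext x
    constructor
    · rintro ⟨y, hy, rfl⟩
      intro hmem
      apply hy
      show y ∈ q
      rw [← hq]
      exact hmem
    · intro hx
      obtain ⟨y, rfl⟩ := Ideal.Quotient.mk_surjective x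
      refine ⟨y, ?_, rfl⟩
      intro hmem
      apply hx
      have : y ∈ q := hmem
      rw [← hq] at this
      exact this
  rw [hsub] at hloc
  exact IsRegularLocalRing.of_ringEquiv
    (IsLocalization.algEquiv qb.primeCompl
      (Localization.AtPrime q ⧸ (Ideal.span ({f} : Set R)).map (algebraMap R (Localization.AtPrime q)))
      (Localization.AtPrime qb)).toRingEquiv

/-- derivation criterion -/
theorem notMem_sq_of_derivation {R : Type u} [CommRing R] (f : R) (D : Derivation ℤ R R)
    (hD : IsUnit (Ideal.Quotient.mk (Ideal.span {f}) (D f))) (q : Ideal R) [q.IsPrime] (hfq : f ∈ q) :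
    algebraMap R (Localization.AtPrime q) f ∉ maximalIdeal (Localization.AtPrime q) ^ 2 := by
  intro hmem
  rw [← Localization.AtPrime.map_eq_maximalIdeal, ← Ideal.map_pow,
    IsLocalization.algebraMap_mem_map_algebraMap_iff q.primeCompl] at hmem
  obtain ⟨s, hs, hsf⟩ := hmem
  have h1 := Groth.Agent.Helper8.RLR.derivation_mem_of_mem_sq q D hsf
  rw [D.leibniz, smul_eq_mul, smul_eq_mul] at h1
  have h2 : s * D f ∈ q := by
    have : f * D s ∈ q := Ideal.mul_mem_right _ _ hfq
    exact (Ideal.add_mem_iff_left _ this).mp h1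
  have h3 : D f ∈ q := (Ideal.IsPrime.mem_or_mem inferInstance h2).resolve_left hs
  obtain ⟨g, hg⟩ := hD.exists_right_inv
  obtain ⟨g, rfl⟩ := Ideal.Quotient.mk_surjective g
  rw [← map_mul, ← map_one (Ideal.Quotient.mk (Ideal.span {f})), Ideal.Quotient.eq,
    Ideal.mem_span_singleton] at hg
  obtain ⟨c, hc⟩ := hg
  have h4 : (1 : R) ∈ q := by
    have : (1 : R) = D f * g - f * c := by rw [← hc]; ring
    rw [this]
    exact Ideal.sub_mem _ (Ideal.mul_mem_right _ _ h3) (Ideal.mul_mem_right _ _ hfq)
  exact (Ideal.IsPrime.ne_top inferInstance) ((Ideal.eq_top_iff_one _).mpr h4)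

end Groth.Agent.Helper6.Reg
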