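import Mathlib

/-!
# A height function on the weight lattice positive on positive roots and nonnegative on dominant
weights (helper6): `ω ↦ ⟨ω, 2ρ^∨⟩`.
-/

open Finset

universe u v w

namespace Groth.Agent.Lib.Helper6.RootHeight
variable {ι : Type u} {M : Type v} {N : Type w} [Fintype ι] [AddCommGroup M] [AddCommGroup N]

omit [Fintype ι] in
theorem tf (P : RootPairing ι ℤ M N) : Module.IsTorsionFree ℤ M := by
  have e : M ≃ₗ[ℤ] Module.Dual ℤ N := P.toLinearMap.toPerfPair
  exact e.injective.moduleIsTorsionFree e.toLinearMap (fun _ _ => by simp)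

/-- sum of the pairings of a simple coroot against all positive roots is `2`. -/
theorem sum_pairing_pos (Q : RootPairing ι ℤ M N) [Q.IsReduced] [Q.IsCrystallographic]
    (c : Q.Base) [DecidablePred c.IsPos] [DecidableEq ι] (j : ι) (hj : j ∈ c.support) :
    ∑ i ∈ univ.filter c.IsPos, Q.pairing i j = 2 := by
  have hjpos : j ∈ univ.filter c.IsPos := by
    rw [mem_filter]
    exact ⟨mem_univ _, c.isPos_of_mem_support hj⟩
  rw [← add_sum_erase _ _ hjpos, Q.pairing_same]
  have hneg : ∀ i, Q.pairing (Q.reflectionPerm j i) j = - Q.pairing i j := by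
    intro i
    rw [← Q.pairing_reflectionPerm j i j, Q.pairing_reflectionPerm_self_right]
  have hmem : ∀ i, i ∈ (univ.filter c.IsPos).erase j →
      Q.reflectionPerm j i ∈ (univ.filter c.IsPos).erase j := by
    intro i hi
    rw [mem_erase, mem_filter] at hi ⊢
    obtain ⟨hij, -, hpos⟩ := hi
    refine ⟨?_, mem_univ _, hpos.reflectionPerm hj hij⟩
    intro h
    have h2 : i = Q.reflectionPerm j j := by
      have := congrArg (Q.reflectionPerm j) h
      rw [Q.reflectionPerm_self] at this
      exact this
    have h3 : c.height i = - c.height j := by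
      rw [h2]
      exact c.height_reflectionPerm_self j
    rw [RootPairing.Base.isPos_iff, h3, RootPairing.Base.height_one_of_mem_support hj] at hpos
    omega
  have hS : ∑ i ∈ (univ.filter c.IsPos).erase j, Q.pairing i j =
      ∑ i ∈ (univ.filter c.IsPos).erase j, - Q.pairing i j := by
    refine Finset.sum_equiv (Q.reflectionPerm j) ?_ ?_
    · intro i
      constructor
      · exact hmem i
      · intro h
        have := hmem _ h
        rwa [Q.reflectionPerm_self] at this
    · intro i _
      rw [hneg, neg_neg]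
  rw [sum_neg_distrib] at hS
  omega

theorem main (P : RootPairing ι ℤ M N) [P.IsReduced] [P.IsCrystallographic] (b : P.Base) :
    ∃ h : M →+ ℤ, (∀ i : ι, b.IsPos i → 0 < h (P.root i)) ∧
      ∀ ω : M, (∀ j ∈ b.support, 0 ≤ P.toLinearMap ω (P.coroot j)) → 0 ≤ h ω := by
  classical
  have : Module.IsTorsionFree ℤ M := tf P
  have : Module.IsTorsionFree ℤ N := tf P.flip
  let c := b.flip
  let h : M →+ ℤ := ∑ i ∈ univ.filter c.IsPos, (P.toLinearMap.flip (P.coroot i)).toAddMonoidHom
  have hval : ∀ ω, h ω = ∑ i ∈ univ.filter c.IsPos, P.toLinearMap ω (P.coroot i) := by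
    intro ω
    simp [h]
  have h1 : ∀ j ∈ b.support, h (P.root j) = 2 := by
    intro j hj
    rw [hval]
    have := sum_pairing_pos P.flip c j hj
    exact this
  refine ⟨h, ?_, ?_⟩
  · intro i hi
    obtain ⟨f, hf₀, hf₁, hf₂⟩ := b.exists_root_eq_sum_int i
    have hpos : 0 < ∑ j ∈ b.support, f j := by
      rw [← RootPairing.Base.height_eq_sum hf₂]
      exact hi
    rw [hf₂, map_sum]
    have : ∀ j ∈ b.support, h (f j • P.root j) = f j * 2 := by
      intro j hj
      rw [map_zsmul, h1 j hj, smul_eq_mul]
    rw [sum_congr rfl this, ← sum_mul]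
    omega
  · intro ω hω
    rw [hval]
    apply sum_nonneg
    intro i hi
    rw [mem_filter] at hi
    obtain ⟨g, hg₀, hg₁, hg₂⟩ := c.exists_root_eq_sum_int i
    have hg₂' : P.coroot i = ∑ j ∈ b.support, g j • P.coroot j := hg₂
    have hgpos : 0 < g := by
      refine hg₁.resolve_right ?_
      intro hneg
      have h3 := hi.2
      rw [RootPairing.Base.isPos_iff, RootPairing.Base.height_eq_sum hg₂] at h3
      have h4 : ∑ j ∈ c.support, g j ≤ 0 := sum_nonpos fun j _ => hneg.le j
      omega
    rw [hg₂', map_sum]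
    apply sum_nonneg
    intro j hj
    rw [map_zsmul, smul_eq_mul]
    exact mul_nonneg (hgpos.le j) (hω j hj)
end Groth.Agent.Lib.Helper6.RootHeight
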