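import Mathlib
import Groth.Prelude.Def_Curves

/-!
# Schemes local for Zariski / finite coverings (helper6)
-/

set_option autoImplicit false

namespace Groth.Agent.Lib.Helper6.RqfhLocal

open CategoryTheory CategoryTheory.Limits AlgebraicGeometry TopologicalSpace Polynomial

universe u

/-- `P` is local for `Q`-coverings. -/
def LocalFor (Q : MorphismProperty Scheme.{u}) (P : Scheme.{u}) : Prop :=
  ∀ (X : Scheme.{u}) (R : Presieve X), R ∈ Scheme.precoverage Q X →
    ∀ g : P ⟶ X, ∃ (Y : Scheme.{u}) (w : Y ⟶ X) (h : P ⟶ Y), R w ∧ h ≫ w = g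

lemma LocalFor.of_iso {Q : MorphismProperty Scheme.{u}} {P P' : Scheme.{u}} (e : P ≅ P')
    (h : LocalFor Q P) : LocalFor Q P' := by
  intro X R hR g
  obtain ⟨Y, w, k, hw, hk⟩ := h X R hR (e.hom ≫ g)
  exact ⟨Y, w, e.inv ≫ k, hw, by rw [Category.assoc, hk, e.inv_hom_id_assoc]⟩

lemma isAffine_of_localFor (P : Scheme.{u}) [QuasiSeparatedSpace P]
    (h : LocalFor (@IsOpenImmersion ⊓ @QuasiCompact) P) : IsAffine P := by
  have hcov : Presieve.ofArrows (fun U : P.affineOpens => (U.1 : Scheme.{u})) (fun U => U.1.ι) ∈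
      Scheme.precoverage (@IsOpenImmersion ⊓ @QuasiCompact) P := by
    rw [Scheme.ofArrows_mem_precoverage_iff]
    refine ⟨fun x => ?_, fun U => ⟨inferInstance, ?_⟩⟩
    · obtain ⟨U, hU, hxU, -⟩ := exists_isAffineOpen_mem_and_subset (x := x) (U := ⊤) trivial
      exact ⟨⟨U, hU⟩, ⟨x, hxU⟩, rfl⟩
    · have : IsAffine (U.1 : Scheme.{u}) := U.2
      exact quasiCompact_of_compactSpace _
  obtain ⟨Y, w, k, ⟨U⟩, hk⟩ := h P _ hcov (𝟙 P)
  have : IsAffine (U.1 : Scheme.{u}) := U.2
  have : IsSplitEpi U.1.ι := IsSplitEpi.mk' ⟨k, hk⟩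
  have : IsIso U.1.ι := isIso_of_mono_of_isSplitEpi _
  exact IsAffine.of_isIso (inv U.1.ι)

lemma isLocalRing_of_localFor (A : CommRingCat.{u})
    (h : LocalFor (@IsOpenImmersion ⊓ @QuasiCompact) (Spec A)) : IsLocalRing A := by
  have hne : Nontrivial A := by
    by_contra hA
    rw [not_nontrivial_iff_subsingleton] at hA
    have : IsEmpty (Spec A) := inferInstanceAs (IsEmpty (PrimeSpectrum A))
    obtain ⟨Y, w, k, hw, -⟩ := h (Spec A) ⊥ (Scheme.bot_mem_precoverage _ _) (𝟙 _)
    exact hw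
  refine IsLocalRing.of_isUnit_or_isUnit_one_sub_self fun f => ?_
  let F : Bool → A := fun b => cond b f (1 - f)
  let V : Bool → (Spec A).Opens := fun b => PrimeSpectrum.basicOpen (F b)
  have hcov : Presieve.ofArrows (fun b : Bool => ((V b : (Spec A).Opens) : Scheme.{u}))
      (fun b => (V b).ι) ∈ Scheme.precoverage (@IsOpenImmersion ⊓ @QuasiCompact) (Spec A) := by
    rw [Scheme.ofArrows_mem_precoverage_iff]
    refine ⟨fun x => ?_, fun b => ⟨inferInstance, ?_⟩⟩
    · by_cases hx : f ∈ x.asIdeal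
      · refine ⟨false, ⟨x, ?_⟩, rfl⟩
        show (1 - f) ∉ x.asIdeal
        intro h1
        exact x.isPrime.ne_top ((Ideal.eq_top_iff_one _).2 (by simpa using add_mem hx h1))
      · exact ⟨true, ⟨x, hx⟩, rfl⟩
    · have : IsAffine ((V b : (Spec A).Opens) : Scheme.{u}) := IsAffineOpen.Spec_basicOpen (F b)
      exact quasiCompact_of_compactSpace _
  obtain ⟨Y, w, k, ⟨b⟩, hk⟩ := h _ _ hcov (𝟙 _)
  have htop : ∀ x : Spec A, F b ∉ x.asIdeal := by
    intro x
    have := congrArg (fun φ => φ.base x) hk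
    have h2 : x ∈ V b := by
      rw [← show (V b).ι.base (k.base x) = x from this]
      exact (k.base x).2
    exact h2
  have hu : IsUnit (F b) := by
    by_contra hnu
    obtain ⟨m, hm, hfm⟩ := exists_max_ideal_of_mem_nonunits hnu
    exact htop ⟨m, hm.isPrime⟩ hfm
  cases b with
  | true => exact Or.inl hu
  | false => exact Or.inr hu

/-- a section of `Spec.map φ` gives a retraction of `φ`. -/
lemma exists_retraction_of_section {A B : CommRingCat.{u}} (φ : A ⟶ B) (k : Spec A ⟶ Spec B)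
    (hk : k ≫ Spec.map φ = 𝟙 _) : ∃ ψ : B ⟶ A, φ ≫ ψ = 𝟙 A := by
  refine ⟨Spec.preimage k, Spec.map_injective ?_⟩
  rw [Spec.map_comp, Spec.map_preimage, hk, Spec.map_id]

lemma mem_range_comap_mk {A : Type u} [CommRing A] (x : PrimeSpectrum A) :
    x ∈ Set.range (PrimeSpectrum.comap (Ideal.Quotient.mk x.asIdeal)) := by
  rw [range_comap_of_surjective _ (Ideal.Quotient.mk x.asIdeal) Ideal.Quotient.mk_surjective,
    Ideal.mk_ker, PrimeSpectrum.mem_zeroLocus]

lemma isDomain_of_localFor (A : Type u) [CommRing A]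
    (h : LocalFor @IsFinite (Spec (CommRingCat.of A))) : IsDomain A := by
  have hcov : Presieve.ofArrows
      (fun p : PrimeSpectrum A => Spec (CommRingCat.of (A ⧸ p.asIdeal)))
      (fun p => Spec.map (CommRingCat.ofHom (Ideal.Quotient.mk p.asIdeal))) ∈
      Scheme.precoverage @IsFinite (Spec (CommRingCat.of A)) := by
    refine (Scheme.ofArrows_mem_precoverage_iff _).2 ⟨fun x => ?_, fun p => ?_⟩
    · refine ⟨x, ?_⟩
      exact mem_range_comap_mk (A := A) x
    · rw [IsFinite.SpecMap_iff]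
      exact RingHom.Finite.of_surjective _ Ideal.Quotient.mk_surjective
  obtain ⟨Y, w, k, ⟨p⟩, hk⟩ := h _ _ hcov (𝟙 _)
  obtain ⟨ψ, hψ⟩ := exists_retraction_of_section _ k hk
  have hbot : p.asIdeal = ⊥ := by
    rw [eq_bot_iff]
    intro a ha
    have h1 : ψ.hom (Ideal.Quotient.mk p.asIdeal a) = a := by
      have := congrArg (fun θ => θ.hom a) hψ
      simpa using this
    rw [Ideal.Quotient.eq_zero_iff_mem.2 ha, map_zero] at h1
    exact h1.symm
  have : (⊥ : Ideal A).IsPrime := hbot ▸ p.isPrime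
  exact IsDomain.of_bot_isPrime A

lemma isAIC_of_localFor (A : Type u) [CommRing A] [IsDomain A]
    (h : LocalFor @IsFinite (Spec (CommRingCat.of A))) : Curves.IsAIC A := by
  intro f hf hdeg
  have hfin : Module.Finite A (AdjoinRoot f) := hf.finite_adjoinRoot
  have hcov : Presieve.singleton (Spec.map (CommRingCat.ofHom (AdjoinRoot.of f))) ∈
      Scheme.precoverage @IsFinite (Spec (CommRingCat.of A)) := by
    refine (Scheme.singleton_mem_precoverage_iff _ _).2 ⟨?_, ?_⟩
    · have hint : (AdjoinRoot.of f).IsIntegral := by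
        have : Algebra.IsIntegral A (AdjoinRoot f) := Algebra.IsIntegral.of_finite A _
        exact fun x => Algebra.IsIntegral.isIntegral (R := A) x
      have hinj : Function.Injective (AdjoinRoot.of f) := by
        apply AdjoinRoot.of.injective_of_degree_ne_zero
        intro h0
        rw [Polynomial.natDegree_eq_of_degree_eq_some h0] at hdeg
        exact lt_irrefl _ hdeg
      exact hint.comap_surjective hinj
    · rw [IsFinite.SpecMap_iff]
      exact RingHom.finite_algebraMap.2 hfin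
  obtain ⟨Y, w, k, ⟨⟩, hk⟩ := h _ _ hcov (𝟙 _)
  obtain ⟨ψ, hψ⟩ := exists_retraction_of_section _ k hk
  refine ⟨ψ.hom (AdjoinRoot.root f), ?_⟩
  have h1 : ∀ a : A, ψ.hom (AdjoinRoot.of f a) = a := by
    intro a
    have := congrArg (fun θ => θ.hom a) hψ
    simpa using this
  have h2 : Polynomial.eval₂ (AdjoinRoot.of f) (AdjoinRoot.root f) f = 0 := AdjoinRoot.eval₂_root f
  have h3 := congrArg ψ.hom h2
  rw [Polynomial.hom_eval₂, map_zero] at h3
  have h4 : (ψ.hom.comp (AdjoinRoot.of f)) = RingHom.id A := RingHom.ext h1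
  rw [h4, Polynomial.eval₂_id] at h3
  exact h3

lemma localFor_zariski_of_isLocalRing (A : CommRingCat.{u}) [IsLocalRing A] :
    LocalFor (@IsOpenImmersion ⊓ @QuasiCompact) (Spec A) := by
  intro X R hR g
  let x₀ : Spec A := IsLocalRing.closedPoint A
  obtain ⟨Y, w, hw, y, hy⟩ := (Presieve.mem_comap_jointlySurjectivePrecoverage_iff _).1 hR.1 (g.base x₀)
  have hwo : IsOpenImmersion w := (hR.2 hw).1
  have hsub : Set.range g.base ⊆ Set.range w.base := by
    rintro _ ⟨p, rfl⟩
    have hsp : p ⤳ x₀ := IsLocalRing.specializes_closedPoint (R := A) p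
    have hsp2 : g.base p ⤳ g.base x₀ := hsp.map g.continuous
    exact hsp2.mem_open w.isOpenEmbedding.isOpen_range ⟨y, hy⟩
  exact ⟨Y, w, IsOpenImmersion.lift w g hsub, hw, IsOpenImmersion.lift_fac _ _ _⟩

/-- over an AIC ring, roots of monic polynomials in a domain extension come from the base. -/
lemma mem_range_of_aic {A D : Type*} [CommRing A] [CommRing D] [IsDomain D]
    (hA : Curves.IsAIC A) (θ : A →+* D) :
    ∀ (n : ℕ) (p : A[X]), p.natDegree = n → p.Monic → ∀ c : D, p.eval₂ θ c = 0 →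
      c ∈ Set.range θ := by
  have hnt : Nontrivial A := θ.domain_nontrivial
  intro n
  induction n with
  | zero =>
    intro p hn hp c hc
    rw [hp.natDegree_eq_zero.1 hn] at hc
    simp at hc
  | succ n ih =>
    intro p hn hp c hc
    obtain ⟨r, hr⟩ := hA p hp (by omega)
    have hdiv : (X - C r) * (p /ₘ (X - C r)) = p := mul_divByMonic_eq_iff_isRoot.2 hr
    have hq : (p /ₘ (X - C r)).Monic := by
      have h1 : ((X - C r) * (p /ₘ (X - C r))).Monic := hdiv.symm ▸ hp
      exact (monic_X_sub_C r).of_mul_monic_left h1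
    have hqd : (p /ₘ (X - C r)).natDegree = n := by
      rw [natDegree_divByMonic _ (monic_X_sub_C r), natDegree_X_sub_C, hn]
      rfl
    rw [← hdiv, eval₂_mul, eval₂_sub, eval₂_X, eval₂_C] at hc
    rcases mul_eq_zero.1 hc with h | h
    · exact ⟨r, (sub_eq_zero.1 h).symm⟩
    · exact ih _ hqd hq c h

lemma exists_retraction_of_aic {A B : Type*} [CommRing A] [IsDomain A] (hA : Curves.IsAIC A)
    [CommRing B] (φ : A →+* B) (hφ : φ.Finite) (q : Ideal B) [q.IsPrime]
    (hq : q.comap φ = ⊥) : ∃ ψ : B →+* A, ψ.comp φ = RingHom.id A := by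
  let θ : A →+* B ⧸ q := (Ideal.Quotient.mk q).comp φ
  have hinj : Function.Injective θ := by
    rw [injective_iff_map_eq_zero]
    intro a ha
    have : a ∈ q.comap φ := by
      rw [Ideal.mem_comap]
      exact Ideal.Quotient.eq_zero_iff_mem.1 ha
    rw [hq] at this
    exact this
  have hint : θ.IsIntegral :=
    RingHom.IsIntegral.trans _ _ hφ.to_isIntegral
      (RingHom.isIntegral_of_surjective _ Ideal.Quotient.mk_surjective)
  have hsurj : Function.Surjective θ := by
    intro c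
    obtain ⟨p, hp, hpc⟩ := hint c
    exact mem_range_of_aic hA θ _ p rfl hp c hpc
  let e : A ≃+* B ⧸ q := RingEquiv.ofBijective θ ⟨hinj, hsurj⟩
  refine ⟨(e.symm : B ⧸ q →+* A).comp (Ideal.Quotient.mk q), ?_⟩
  ext a
  simp only [RingHom.coe_comp, Function.comp_apply, RingHom.id_apply, RingHom.coe_coe]
  exact e.symm_apply_apply a

lemma localFor_finite_of_aic (A : CommRingCat.{u}) [IsDomain A] (hA : Curves.IsAIC A) :
    LocalFor @IsFinite (Spec A) := by
  intro X R hR g
  let η : Spec A := (⟨⊥, Ideal.isPrime_bot⟩ : PrimeSpectrum A)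
  obtain ⟨Y, w, hw, y, hy⟩ :=
    (Presieve.mem_comap_jointlySurjectivePrecoverage_iff _).1 hR.1 (g.base η)
  have hwf : IsFinite w := hR.2 hw
  let Z := pullback g w
  have hZ : IsAffine Z := isAffine_of_isAffineHom (pullback.fst g w)
  obtain ⟨z, hz1, hz2⟩ := Scheme.Pullback.exists_preimage_pullback η y hy.symm
  let B := Γ(Z, ⊤)
  let e : Z ≅ Spec B := Z.isoSpec
  let π : Spec B ⟶ Spec A := e.inv ≫ pullback.fst g w
  let φ : A ⟶ B := Spec.preimage π
  have hφ : Spec.map φ = π := Spec.map_preimage π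
  have hfin : φ.hom.Finite := by
    rw [← IsFinite.SpecMap_iff, hφ]
    infer_instance
  let q : Ideal B := (e.hom.base z).asIdeal
  have hqp : q.IsPrime := (e.hom.base z).isPrime
  have hq : q.comap φ.hom = ⊥ := by
    have h1 : (Spec.map φ).base (e.hom.base z) = η := by
      rw [hφ]
      show (e.hom ≫ e.inv ≫ pullback.fst g w).base z = η
      rw [e.hom_inv_id_assoc]
      exact hz1
    have h2 := congrArg PrimeSpectrum.asIdeal h1
    exact h2
  obtain ⟨ψ, hψ⟩ := exists_retraction_of_aic hA φ.hom hfin q hq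
  let s : Spec A ⟶ Z := Spec.map (CommRingCat.ofHom ψ) ≫ e.inv
  have hs : s ≫ pullback.fst g w = 𝟙 _ := by
    show (Spec.map (CommRingCat.ofHom ψ) ≫ e.inv) ≫ pullback.fst g w = 𝟙 _
    rw [Category.assoc]
    show Spec.map (CommRingCat.ofHom ψ) ≫ π = 𝟙 _
    rw [← hφ, ← Spec.map_comp]
    have : φ ≫ CommRingCat.ofHom ψ = 𝟙 A := by
      ext a
      exact congrArg (fun θ => θ a) hψ
    rw [this, Spec.map_id]
    rfl
  refine ⟨Y, w, s ≫ pullback.snd g w, hw, ?_⟩
  rw [Category.assoc, ← pullback.condition, ← Category.assoc, hs, Category.id_comp]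

end Groth.Agent.Lib.Helper6.RqfhLocal
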