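import Mathlib

/-!
# Scheme-theoretic dominance with reduced source (helper6)
-/

open AlgebraicGeometry CategoryTheory TopologicalSpace

universe u

namespace Groth.Agent.Lib.Helper6.SchDense

/-- If the source is reduced, the vanishing ideal of any closed set containing the range is
contained in the kernel. -/
theorem vanishingIdeal_le_ker {Y X : Scheme.{u}} (f : Y ⟶ X) [IsReduced Y] (Z : Closeds X)
    (hZ : Set.range f ⊆ (Z : Set X)) :
    Scheme.IdealSheafData.vanishingIdeal Z ≤ f.ker := by
  refine Scheme.IdealSheafData.le_ofIdeals_iff.mpr fun U s hs => ?_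
  rw [Scheme.IdealSheafData.vanishingIdeal_ideal] at hs
  rw [RingHom.mem_ker]
  apply (basicOpen_eq_bot_iff _).mp
  rw [← Scheme.preimage_basicOpen]
  rw [eq_bot_iff]
  intro y hy
  have hy' : f y ∈ X.basicOpen s := hy
  have hyU : f y ∈ U.1 := X.basicOpen_le s hy'
  set p := U.2.primeIdealOf ⟨f y, hyU⟩ with hp
  have e1 : U.2.fromSpec p = f y := U.2.fromSpec_primeIdealOf ⟨f y, hyU⟩
  have h1 : s ∈ p.asIdeal := by
    rw [PrimeSpectrum.mem_vanishingIdeal] at hs
    apply hs
    show U.2.fromSpec p ∈ (Z : Set X)
    rw [e1]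
    exact hZ ⟨y, rfl⟩
  have h2 : p ∈ U.2.fromSpec ⁻¹ᵁ X.basicOpen s := by
    show U.2.fromSpec p ∈ X.basicOpen s
    rw [e1]
    exact hy'
  rw [U.2.fromSpec_preimage_basicOpen] at h2
  exact (h2 h1).elim

/-- With reduced source: scheme-theoretically dominant iff target reduced and dense range. -/
theorem isSchemeTheoreticallyDominant_iff {Y X : Scheme.{u}} (f : Y ⟶ X) [IsReduced Y] :
    IsSchemeTheoreticallyDominant f ↔ IsReduced X ∧ DenseRange f := by
  constructor
  · intro h
    let Z : Closeds X := ⟨closure (Set.range f), isClosed_closure⟩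
    have h1 : Scheme.IdealSheafData.vanishingIdeal Z ≤ ⊥ := by
      rw [← h.ker_eq_bot]
      exact vanishingIdeal_le_ker f Z subset_closure
    have h2 : X.nilradical = ⊥ := by
      rw [eq_bot_iff, ← Scheme.IdealSheafData.vanishingIdeal_top]
      exact (Scheme.IdealSheafData.vanishingIdeal_antimono le_top).trans h1
    constructor
    · refine ⟨fun U => ⟨fun s hs => ?_⟩⟩
      refine X.IsSheaf.section_ext fun x hx ↦ ?_
      obtain ⟨_, ⟨V, hV, rfl⟩, hxV, hVU : V ≤ U⟩ :=
        X.isBasis_affineOpens.exists_subset_of_mem_open hx U.isOpen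
      refine ⟨V, hVU, hxV, ?_⟩
      have h3 : IsNilpotent (X.presheaf.map (homOfLE hVU).op s) := hs.map _
      have h4 : X.presheaf.map (homOfLE hVU).op s ∈ X.nilradical.ideal ⟨V, hV⟩ := by
        simp only [Scheme.nilradical, Scheme.IdealSheafData.radical_ideal,
          Scheme.IdealSheafData.ideal_bot, Pi.bot_apply]
        exact (mem_nilradical.mpr h3)
      rw [h2] at h4
      simpa using h4
    · have h5 : Z = ⊤ := by
        have := Scheme.IdealSheafData.coe_support_vanishingIdeal (X := X) Z
        rw [le_bot_iff.mp h1] at this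
        apply SetLike.coe_injective
        rw [← this]
        rfl
      intro x
      have : x ∈ (Z : Set X) := by rw [h5]; trivial
      exact this
  · rintro ⟨h1, h2⟩
    have : IsDominant f := ⟨h2⟩
    exact IsSchemeTheoreticallyDominant.of_isDominant f

end Groth.Agent.Lib.Helper6.SchDense
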