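import Mathlib.AlgebraicGeometry.PullbackCarrier
import Mathlib.AlgebraicGeometry.Morphisms.UnderlyingMap

set_option autoImplicit false

namespace Groth.Agent.Helper6

open CategoryTheory CategoryTheory.Limits AlgebraicGeometry

universe u

/-- Points of a fibre product of schemes surject onto the fibre product of points
(version for an arbitrary pullback square). -/
lemma exists_preimage_of_isPullback {X S X' S' : Scheme.{u}} {f : X ⟶ S} {g : S' ⟶ S}
    {g' : X' ⟶ X} {f' : X' ⟶ S'} (hsq : IsPullback g' f' f g) (x : X) (s' : S')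
    (h : f x = g s') : ∃ x' : X', g' x' = x ∧ f' x' = s' := by
  obtain ⟨z, hz1, hz2⟩ := Scheme.Pullback.exists_preimage_pullback (f := f) (g := g) x s' h
  refine ⟨hsq.isoPullback.inv z, ?_, ?_⟩
  · rw [← Scheme.Hom.comp_apply, IsPullback.isoPullback_inv_fst, hz1]
  · rw [← Scheme.Hom.comp_apply, IsPullback.isoPullback_inv_snd, hz2]

end Groth.Agent.Helper6
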