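import Mathlib

/-! Fitting decomposition for semilinear endomorphisms (with respect to a ring automorphism) of
modules of finite length. -/

set_option linter.unusedSectionVars false
set_option autoImplicit false
noncomputable section

namespace Groth.Agent.Lib.Helper6.SemiFitting

universe u v

variable {R : Type u} [CommRing R] {M : Type v} [AddCommGroup M] [Module R M]
  (τ : R ≃+* R) (φ : M →ₛₗ[(τ : R →+* R)] M)

lemma iter_smul (n : ℕ) (a : R) (m : M) : (⇑φ)^[n] (a • m) = ((⇑τ)^[n] a) • (⇑φ)^[n] m := by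
  induction n generalizing a m with
  | zero => rfl
  | succ n ih =>
    rw [Function.iterate_succ_apply, Function.iterate_succ_apply, Function.iterate_succ_apply,
      φ.map_smulₛₗ, ih]
    rfl

lemma iter_add (n : ℕ) (a b : M) : (⇑φ)^[n] (a + b) = (⇑φ)^[n] a + (⇑φ)^[n] b := by
  induction n generalizing a b with
  | zero => rfl
  | succ n ih =>
    rw [Function.iterate_succ_apply, Function.iterate_succ_apply, Function.iterate_succ_apply,
      map_add, ih]

lemma iter_zero (n : ℕ) : (⇑φ)^[n] (0 : M) = 0 := by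
  induction n with
  | zero => rfl
  | succ n ih => rw [Function.iterate_succ_apply, map_zero, ih]

lemma iter_sub (n : ℕ) (a b : M) : (⇑φ)^[n] (a - b) = (⇑φ)^[n] a - (⇑φ)^[n] b := by
  induction n generalizing a b with
  | zero => rfl
  | succ n ih =>
    rw [Function.iterate_succ_apply, Function.iterate_succ_apply, Function.iterate_succ_apply,
      map_sub, ih]

/-- kernel of the `n`-th iterate -/
def K (n : ℕ) : Submodule R M where
  carrier := {m | (⇑φ)^[n] m = 0}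
  add_mem' := by
    intro a b ha hb
    show (⇑φ)^[n] (a + b) = 0
    rw [iter_add, ha, hb, add_zero]
  zero_mem' := iter_zero τ φ n
  smul_mem' := by
    intro c x hx
    show (⇑φ)^[n] (c • x) = 0
    rw [iter_smul, hx, smul_zero]

/-- image of the `n`-th iterate -/
def I (n : ℕ) : Submodule R M where
  carrier := Set.range (⇑φ)^[n]
  add_mem' := by
    rintro _ _ ⟨a, rfl⟩ ⟨b, rfl⟩
    exact ⟨a + b, iter_add τ φ n a b⟩
  zero_mem' := ⟨0, iter_zero τ φ n⟩
  smul_mem' := by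
    rintro c _ ⟨a, rfl⟩
    refine ⟨((⇑τ.symm)^[n] c) • a, ?_⟩
    rw [iter_smul]
    congr 1
    have : Function.LeftInverse (⇑τ) (⇑τ.symm) := τ.apply_symm_apply
    exact (this.iterate n) c

lemma mem_K {n : ℕ} {m : M} : m ∈ K τ φ n ↔ (⇑φ)^[n] m = 0 := Iff.rfl
lemma mem_I {n : ℕ} {m : M} : m ∈ I τ φ n ↔ ∃ y, (⇑φ)^[n] y = m := Iff.rfl

lemma K_mono : Monotone (K τ φ) := by
  refine monotone_nat_of_le_succ fun n m hm => ?_
  rw [mem_K] at hm ⊢
  rw [Function.iterate_succ_apply', hm, map_zero]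

lemma I_anti : Antitone (I τ φ) := by
  refine antitone_nat_of_succ_le fun n m hm => ?_
  rw [mem_I] at hm ⊢
  obtain ⟨y, rfl⟩ := hm
  exact ⟨φ y, (Function.iterate_succ_apply _ _ _).symm⟩

theorem fitting [IsNoetherian R M] [IsArtinian R M] :
    ∃ r : ℕ, IsCompl (I τ φ r) (K τ φ r) ∧
      Set.MapsTo φ (I τ φ r) (I τ φ r) ∧ Set.MapsTo φ (K τ φ r) (K τ φ r) ∧
      Set.BijOn φ (I τ φ r) (I τ φ r) := by
  obtain ⟨r1, h1⟩ := monotone_stabilizes_iff_noetherian.2 ‹_› ⟨K τ φ, K_mono τ φ⟩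
  obtain ⟨r2, h2⟩ := IsArtinian.monotone_stabilizes
    (⟨fun n => OrderDual.toDual (I τ φ n), fun a b hab => I_anti τ φ hab⟩ :
      ℕ →o (Submodule R M)ᵒᵈ)
  have hK : ∀ n, r1 ≤ n → K τ φ n = K τ φ r1 := fun n hn => (h1 n hn).symm
  have hI : ∀ n, r2 ≤ n → I τ φ n = I τ φ r2 := fun n hn =>
    (congrArg OrderDual.ofDual (h2 n hn)).symm
  set r := max r1 r2 + 1 with hr
  have hr1 : r1 ≤ r := by omega
  have hr2 : r2 ≤ r := by omega
  have hKr : ∀ n, r ≤ n → K τ φ n = K τ φ r := fun n hn => by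
    rw [hK n (by omega), hK r hr1]
  have hIr : ∀ n, r ≤ n → I τ φ n = I τ φ r := fun n hn => by
    rw [hI n (by omega), hI r hr2]
  have hmapI : Set.MapsTo φ (I τ φ r) (I τ φ r) := by
    rintro _ ⟨y, rfl⟩
    exact ⟨φ y, by rw [← Function.iterate_succ_apply, Function.iterate_succ_apply']⟩
  have hmapK : Set.MapsTo φ (K τ φ r) (K τ φ r) := by
    intro x hx
    show (⇑φ)^[r] (φ x) = 0
    rw [← Function.iterate_succ_apply, Function.iterate_succ_apply', (mem_K τ φ).1 hx, map_zero]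
  have hdisj : I τ φ r ⊓ K τ φ r = ⊥ := by
    rw [Submodule.eq_bot_iff]
    rintro x ⟨⟨y, rfl⟩, hx⟩
    have hx' : (⇑φ)^[r] ((⇑φ)^[r] y) = 0 := hx
    rw [← Function.iterate_add_apply] at hx'
    have hy : y ∈ K τ φ (r + r) := hx'
    rw [hKr (r + r) (by omega)] at hy
    exact hy
  refine ⟨r, ⟨disjoint_iff.2 hdisj, codisjoint_iff.2 ?_⟩, hmapI, hmapK, hmapI, ?_, ?_⟩
  · rw [eq_top_iff]
    intro x _
    have h3 : (⇑φ)^[r] x ∈ I τ φ (r + r) := by
      rw [hIr (r + r) (by omega)]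
      exact ⟨x, rfl⟩
    obtain ⟨y, hy⟩ := h3
    rw [Function.iterate_add_apply] at hy
    have h4 : x - (⇑φ)^[r] y ∈ K τ φ r := by
      show (⇑φ)^[r] (x - (⇑φ)^[r] y) = 0
      rw [iter_sub, hy, sub_self]
    have h5 : (⇑φ)^[r] y ∈ I τ φ r := ⟨y, rfl⟩
    have : x = (⇑φ)^[r] y + (x - (⇑φ)^[r] y) := by abel
    rw [this]
    exact Submodule.add_mem_sup h5 h4
  · intro x hx y hy hxy
    have h3 : x - y ∈ I τ φ r := Submodule.sub_mem _ hx hy
    have h4 : x - y ∈ K τ φ r := by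
      have h5 : x - y ∈ K τ φ 1 := by
        show φ (x - y) = 0
        rw [map_sub, hxy, sub_self]
      exact K_mono τ φ (by omega : 1 ≤ r) h5
    have h6 : x - y ∈ I τ φ r ⊓ K τ φ r := ⟨h3, h4⟩
    rw [hdisj, Submodule.mem_bot] at h6
    exact sub_eq_zero.1 h6
  · intro x hx
    have hx' : x ∈ I τ φ (r + 1) := by rw [hIr (r + 1) (by omega)]; exact hx
    obtain ⟨y, rfl⟩ := hx'
    exact ⟨(⇑φ)^[r] y, ⟨y, rfl⟩, (Function.iterate_succ_apply' _ _ _).symm⟩

end Groth.Agent.Lib.Helper6.SemiFitting
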