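import Mathlib.RingTheory.KrullDimension.Regular
import Mathlib.RingTheory.Support
import Mathlib.RingTheory.Ideal.Quotient.Operations
import Mathlib.RingTheory.Localization.AtPrime.Basic
import Mathlib.RingTheory.Spectrum.Maximal.Basic
import Mathlib.RingTheory.Jacobson.Radical
import Mathlib.RingTheory.FiniteLength
import Mathlib.RingTheory.Noetherian.Basic
import Mathlib.RingTheory.Ideal.Height
import Mathlib.RingTheory.HopkinsLevitzki
import Mathlib.RingTheory.Ideal.KrullsHeightTheorem
import Mathlib.RingTheory.KrullDimension.NonZeroDivisors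
import Mathlib.RingTheory.Ideal.MinimalPrime.Localization
import Mathlib.RingTheory.Ideal.MinimalPrime.Noetherian
import Mathlib.RingTheory.Regular.RegularSequence

/-!
# Parameters of a semi-local Noetherian ring inside an ideal (EGA 0_IV 16.3.?)

Prime-avoidance construction of part of a system of parameters inside an ideal of height `h`
of a semi-local Noetherian ring.
-/

set_option autoImplicit false
set_option linter.unusedSectionVars false
set_option linter.unusedVariables false
set_option linter.unusedSimpArgs false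
set_option linter.style.haveILetI false
set_option linter.overlappingInstances false
set_option maxHeartbeats 800000

namespace Groth.Agent.Lib.Helper6.SemiSop

universe u

variable {A : Type u} [CommRing A]

/-- prime avoidance relative to the minimal primes of `J` -/
lemma exists_avoid [IsNoetherianRing A] (J c : Ideal A) :
    ∃ x ∈ c, ∀ Q ∈ J.minimalPrimes, ¬ c ≤ Q → x ∉ Q := by
  classical
  by_contra hcon
  push Not at hcon
  have hfin : (J.minimalPrimes).Finite := Ideal.finite_minimalPrimes_of_isNoetherianRing A J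
  set T : Set (Ideal A) := {Q | Q ∈ J.minimalPrimes ∧ ¬ c ≤ Q} with hT
  have hTfin : T.Finite := hfin.subset (fun Q hQ => hQ.1)
  have hsub : (c : Set A) ⊆ ⋃ Q ∈ ((hTfin.toFinset : Finset (Ideal A)) : Set (Ideal A)),
      ((id Q : Ideal A) : Set A) := by
    intro x hx
    obtain ⟨Q, hQ, hcQ, hxQ⟩ := hcon x hx
    simp only [Set.Finite.coe_toFinset, Set.mem_iUnion, id, exists_prop]
    exact ⟨Q, ⟨hQ, hcQ⟩, hxQ⟩
  obtain ⟨Q, hQ, hcQ⟩ := (Ideal.subset_union_prime (R := A) (s := hTfin.toFinset) (f := id) ⊥ ⊥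
    (fun i hi _ _ => by
      have : i ∈ T := by simpa using hi
      exact this.1.1.1)).mp hsub
  have : Q ∈ T := by simpa using hQ
  exact this.2 hcQ

/-- a minimal prime of `J + (x)` contains a minimal prime of `J`, strictly if `x` avoids it -/
lemma step (J c : Ideal A) (x : A)
    (hx : ∀ Q ∈ J.minimalPrimes, ¬ c ≤ Q → x ∉ Q) (q' : PrimeSpectrum A)
    (hq' : q'.asIdeal ∈ (J ⊔ Ideal.span {x}).minimalPrimes) :
    ∃ q : PrimeSpectrum A, q.asIdeal ∈ J.minimalPrimes ∧ q ≤ q' ∧
      (¬ c ≤ q.asIdeal → q < q') := by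
  have hJle : J ≤ q'.asIdeal := le_sup_left.trans hq'.1.2
  obtain ⟨Q, hQ, hQle⟩ := Ideal.exists_minimalPrimes_le hJle
  refine ⟨⟨Q, hQ.1.1⟩, hQ, hQle, fun hc => lt_of_le_of_ne hQle ?_⟩
  intro heq
  have hxq' : x ∈ q'.asIdeal :=
    hq'.1.2 (Ideal.mem_sup_right (Ideal.mem_span_singleton_self x))
  apply hx Q hQ hc
  have : Q = q'.asIdeal := congrArg PrimeSpectrum.asIdeal heq
  rw [this]; exact hxq'

lemma maximal_finite [Finite (MaximalSpectrum A)] : {I : Ideal A | I.IsMaximal}.Finite := by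
  have : {I : Ideal A | I.IsMaximal} = Set.range (fun m : MaximalSpectrum A => m.asIdeal) := by
    ext I; constructor
    · intro hI; exact ⟨⟨I, hI⟩, rfl⟩
    · rintro ⟨m, rfl⟩; exact m.isMaximal
  rw [this]; exact Set.finite_range _

/-- in a semi-local ring, a prime containing the Jacobson radical is maximal -/
lemma isMaximal_of_jacobson_le [Finite (MaximalSpectrum A)] (Q : Ideal A) (hQ : Q.IsPrime)
    (h : Ring.jacobson A ≤ Q) : Q.IsMaximal := by
  classical
  have hfin : {I : Ideal A | I.IsMaximal}.Finite := maximal_finite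
  rw [Ring.jacobson_eq_sInf_isMaximal] at h
  have h2 : hfin.toFinset.inf id ≤ Q := by
    rw [Finset.inf_id_eq_sInf, Set.Finite.coe_toFinset]; exact h
  obtain ⟨m, hm, hmQ⟩ := (Ideal.IsPrime.inf_le' hQ).mp h2
  have hm' : m.IsMaximal := by simpa using hm
  have : m = Q := hm'.eq_of_le hQ.ne_top hmQ
  exact this ▸ hm'

/-- a semi-local Noetherian ring has finite Krull dimension -/
lemma exists_dim_eq [IsNoetherianRing A] [Finite (MaximalSpectrum A)] [Nontrivial A] :
    ∃ D : ℕ, ringKrullDim A = ((D : ℕ∞) : WithBot ℕ∞) := by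
  classical
  have hfin : {I : Ideal A | I.IsMaximal}.Finite := maximal_finite
  let N : ℕ := hfin.toFinset.sup (fun m => m.height.toNat)
  have hle : ringKrullDim A ≤ ((N : ℕ∞) : WithBot ℕ∞) := by
    rw [ringKrullDim_le_iff_isMaximal_height_le]
    intro m hm
    have hne : m.height ≠ ⊤ := Ideal.height_ne_top hm.ne_top
    have h1 : m.height.toNat ≤ N :=
      Finset.le_sup (f := fun m : Ideal A => m.height.toNat) (by simpa using hm)
    have h2 : m.height = ((m.height.toNat : ℕ) : ℕ∞) := (ENat.natCast_toNat hne).symm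
    rw [h2]
    exact_mod_cast h1
  have hbot : ringKrullDim A ≠ ⊥ := by
    have h0 := ringKrullDim_nonneg_of_nontrivial (R := A)
    intro h; rw [h] at h0; simp at h0
  obtain ⟨e, he⟩ := WithBot.ne_bot_iff_exists.mp hbot
  rw [← he] at hle
  have he2 : e ≤ (N : ℕ∞) := WithBot.coe_le_coe.mp hle
  have : e ≠ ⊤ := ne_top_of_le_ne_top (ENat.natCast_ne_top N) he2
  obtain ⟨D, hD⟩ := ENat.ne_top_iff_exists.mp this
  exact ⟨D, by rw [← he, ← hD]⟩

/-- the dimension of a quotient is bounded by the coheights of the minimal primes -/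
lemma dim_quot_le (J : Ideal A) (n : ℕ∞)
    (h : ∀ q : PrimeSpectrum A, q.asIdeal ∈ J.minimalPrimes → Order.coheight q ≤ n) :
    ringKrullDim (A ⧸ J) ≤ (n : WithBot ℕ∞) := by
  rw [ringKrullDim_quotient, Order.krullDim]
  refine iSup_le fun l => ?_
  have hJle : J ≤ l.head.1.asIdeal :=
    SetLike.coe_subset_coe.mp ((PrimeSpectrum.mem_zeroLocus _ _).mp l.head.2)
  obtain ⟨Q, hQ, hQle⟩ := Ideal.exists_minimalPrimes_le hJle
  let q : PrimeSpectrum A := ⟨Q, hQ.1.1⟩
  let l' : LTSeries (PrimeSpectrum A) := l.map Subtype.val (fun _ _ => id)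
  have hhead : q ≤ l'.head := by
    show q ≤ (l.map Subtype.val (fun _ _ => id)).head
    rw [LTSeries.head_map]; exact hQle
  have h1 : (l'.length : ℕ∞) ≤ Order.coheight q := Order.length_le_coheight hhead
  have h2 : (l.length : ℕ∞) ≤ n := h1.trans (h q hQ)
  exact_mod_cast WithBot.coe_le_coe.mpr h2

/-- a quotient of dimension `≤ 0` of a Noetherian ring has finite length -/
lemma finLen_of_dim_le_zero [IsNoetherianRing A] (K : Ideal A)
    (h : ringKrullDim (A ⧸ K) ≤ 0) : IsFiniteLength A (A ⧸ K) := by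
  haveI : Ring.KrullDimLE 0 (A ⧸ K) := Ring.krullDimLE_iff.mpr (by simpa using h)
  haveI : IsArtinianRing (A ⧸ K) := IsNoetherianRing.isArtinianRing_of_krullDimLE_zero
  haveI : IsArtinian A (A ⧸ K) :=
    isArtinian_of_surjective_algebraMap (R := A ⧸ K) (S := A) (M := A ⧸ K)
      Ideal.Quotient.mk_surjective
  exact isFiniteLength_iff_isNoetherian_isArtinian.mpr ⟨inferInstance, inferInstance⟩

section phase1

variable [IsNoetherianRing A] [Finite (MaximalSpectrum A)]

/-- the invariant of the construction -/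
def Inv (D : ℕ) (pP : PrimeSpectrum A) (i : ℕ) (J : Ideal A) : Prop :=
  ∀ q : PrimeSpectrum A, q.asIdeal ∈ J.minimalPrimes →
    Order.coheight q + (i : ℕ∞) ≤ (D : ℕ∞) ∧ (q ≤ pP → (i : ℕ∞) ≤ Order.height q)

lemma inv_of_b_le (a : Ideal A) (h D : ℕ) (pP : PrimeSpectrum A)
    (hD : ringKrullDim A = ((D : ℕ∞) : WithBot ℕ∞)) (ha : a ≠ ⊤) (hh : a.height = h)
    (hP : Order.height pP = h)
    (q : PrimeSpectrum A) (hq : a ⊓ Ring.jacobson A ≤ q.asIdeal) (i : ℕ) (hi : i ≤ h) :
    Order.coheight q + (i : ℕ∞) ≤ (D : ℕ∞) ∧ (q ≤ pP → (i : ℕ∞) ≤ Order.height q) := by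
  have hsum : Order.height q + Order.coheight q ≤ (D : ℕ∞) := by
    haveI : Nonempty (PrimeSpectrum A) := ⟨q⟩
    have h1 := Order.krullDim_eq_iSup_height_add_coheight_of_nonempty (α := PrimeSpectrum A)
    have h2 : ((Order.height q + Order.coheight q : ℕ∞) : WithBot ℕ∞) ≤
        Order.krullDim (PrimeSpectrum A) := by
      rw [h1]
      exact WithBot.coe_le_coe.mpr
        (le_iSup (fun a : PrimeSpectrum A => Order.height a + Order.coheight a) q)
    have h3 : Order.krullDim (PrimeSpectrum A) = ((D : ℕ∞) : WithBot ℕ∞) := hD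
    rw [h3] at h2
    exact WithBot.coe_le_coe.mp h2
  have hhD : (h : ℕ∞) ≤ (D : ℕ∞) := by
    have := Ideal.height_le_ringKrullDim_of_ne_top ha
    rw [hh, hD] at this
    exact WithBot.coe_le_coe.mp this
  have hih : (i : ℕ∞) ≤ (h : ℕ∞) := by exact_mod_cast hi
  rcases (Ideal.IsPrime.inf_le q.isPrime).mp hq with hqa | hqr
  · have hht : (h : ℕ∞) ≤ Order.height q := by
      rw [← PrimeSpectrum.height_eq_orderHeight, ← hh]; exact Ideal.height_mono hqa
    refine ⟨?_, fun _ => hih.trans hht⟩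
    calc Order.coheight q + (i : ℕ∞) ≤ Order.coheight q + Order.height q := by
          gcongr; exact hih.trans hht
      _ = Order.height q + Order.coheight q := add_comm _ _
      _ ≤ D := hsum
  · have hmax : IsMax q :=
      PrimeSpectrum.isMax_iff.mpr (isMaximal_of_jacobson_le _ q.isPrime hqr)
    have hco : Order.coheight q = 0 := Order.coheight_eq_zero.mpr hmax
    refine ⟨?_, fun hle => ?_⟩
    · rw [hco, zero_add]; exact hih.trans hhD
    · have : q = pP := hmax.eq_of_le hle
      rw [this, hP]; exact hih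

lemma phase1 (a : Ideal A) (h D : ℕ) (pP : PrimeSpectrum A)
    (hD : ringKrullDim A = ((D : ℕ∞) : WithBot ℕ∞)) (ha : a ≠ ⊤) (hh : a.height = h)
    (hP : Order.height pP = h) :
    ∀ i : ℕ, i ≤ h → ∃ x : Fin i → A, (∀ k, x k ∈ a ⊓ Ring.jacobson A) ∧
      Inv D pP i (Ideal.span (Set.range x)) := by
  intro i
  induction i with
  | zero =>
    intro _
    refine ⟨Fin.elim0, fun k => k.elim0, ?_⟩
    intro q hq
    refine ⟨?_, fun _ => by simp⟩
    simp only [Nat.cast_zero, add_zero]
    have := Order.coheight_le_krullDim q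
    have h3 : Order.krullDim (PrimeSpectrum A) = ((D : ℕ∞) : WithBot ℕ∞) := hD
    rw [h3] at this; exact WithBot.coe_le_coe.mp this
  | succ i ih =>
    intro hi
    obtain ⟨x, hxb, hinv⟩ := ih (Nat.le_of_succ_le hi)
    obtain ⟨y, hyb, hy⟩ := exists_avoid (Ideal.span (Set.range x)) (a ⊓ Ring.jacobson A)
    refine ⟨Fin.cons y x, ?_, ?_⟩
    · intro k
      refine Fin.cases ?_ (fun k' => ?_) k
      · simpa using hyb
      · simpa using hxb k'
    · have hspan : Ideal.span (Set.range (Fin.cons y x : Fin (i+1) → A)) =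
          Ideal.span (Set.range x) ⊔ Ideal.span {y} := by
        rw [Fin.range_cons, Ideal.span_insert, sup_comm]
      rw [hspan]
      intro q' hq'
      obtain ⟨q, hq, hle, hlt⟩ := step _ (a ⊓ Ring.jacobson A) y hy q' hq'
      by_cases hc : a ⊓ Ring.jacobson A ≤ q.asIdeal
      · exact inv_of_b_le a h D pP hD ha hh hP q' (hc.trans hle) (i+1) hi
      · have hlt' := hlt hc
        obtain ⟨h1, h2⟩ := hinv q hq
        refine ⟨?_, fun hle' => ?_⟩
        · have h3 := Order.coheight_add_one_le hlt'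
          calc Order.coheight q' + ((i+1 : ℕ) : ℕ∞)
              = (Order.coheight q' + 1) + (i : ℕ∞) := by push_cast; ring
            _ ≤ Order.coheight q + (i : ℕ∞) := by gcongr
            _ ≤ D := h1
        · have h3 := Order.height_add_one_le hlt'
          calc ((i+1 : ℕ) : ℕ∞) = (i : ℕ∞) + 1 := by push_cast; rfl
            _ ≤ Order.height q + 1 := by gcongr; exact h2 (hle.trans hle')
            _ ≤ Order.height q' := h3

lemma phase2 : ∀ (n : ℕ) (J : Ideal A),
    (∀ q : PrimeSpectrum A, q.asIdeal ∈ J.minimalPrimes → Order.coheight q ≤ (n : ℕ∞)) →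
    ∃ ys : List A, ys.length = n ∧ (∀ y ∈ ys, y ∈ Ring.jacobson A) ∧
      ∀ q : PrimeSpectrum A, q.asIdeal ∈ (J ⊔ Ideal.ofList ys).minimalPrimes →
        Order.coheight q ≤ 0 := by
  intro n
  induction n with
  | zero =>
    intro J hJ
    refine ⟨[], rfl, by simp, ?_⟩
    intro q hq
    rw [Ideal.ofList_nil, sup_bot_eq] at hq
    simpa using hJ q hq
  | succ n ih =>
    intro J hJ
    obtain ⟨y, hyr, hy⟩ := exists_avoid J (Ring.jacobson A)
    have hJ' : ∀ q : PrimeSpectrum A, q.asIdeal ∈ (J ⊔ Ideal.span {y}).minimalPrimes →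
        Order.coheight q ≤ (n : ℕ∞) := by
      intro q' hq'
      obtain ⟨q, hq, hle, hlt⟩ := step J (Ring.jacobson A) y hy q' hq'
      by_cases hc : Ring.jacobson A ≤ q.asIdeal
      · have hmax : IsMax q' :=
          PrimeSpectrum.isMax_iff.mpr (isMaximal_of_jacobson_le _ q'.isPrime (hc.trans hle))
        rw [Order.coheight_eq_zero.mpr hmax]; exact zero_le
      · have h1 := Order.coheight_add_one_le (hlt hc)
        have h2 := hJ q hq
        have h3 : Order.coheight q' + 1 ≤ (n : ℕ∞) + 1 := h1.trans (by exact_mod_cast h2)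
        exact (ENat.add_le_add_iff_right (by simp)).mp h3
    obtain ⟨ys, hlen, hys, hfin⟩ := ih (J ⊔ Ideal.span {y}) hJ'
    refine ⟨y :: ys, by simp [hlen], ?_, ?_⟩
    · intro z hz
      rcases List.mem_cons.mp hz with rfl | hz
      · exact hyr
      · exact hys z hz
    · intro q hq
      apply hfin q
      rwa [Ideal.ofList_cons, ← sup_assoc] at hq

end phase1

theorem main (A : Type u) [CommRing A] [IsNoetherianRing A]
    [Finite (MaximalSpectrum A)] (a : Ideal A) (ha : a ≠ ⊤) (h : ℕ) (hh : a.height = h)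
    (hpos : 0 < h) :
    ∃ x : Fin h → A, (∀ i, x i ∈ a) ∧ (∀ i, x i ∈ Ring.jacobson A) ∧
      (∃ ys : List A, (∀ y ∈ ys, y ∈ Ring.jacobson A) ∧
        (((h + ys.length : ℕ) : ℕ∞) : WithBot ℕ∞) = ringKrullDim A ∧
        IsFiniteLength A (A ⧸ (Ideal.span (Set.range x) ⊔ Ideal.ofList ys))) ∧
      (a.map (Ideal.Quotient.mk (Ideal.span (Set.range x)))).height = 0 := by
  haveI : Nontrivial A := by
    by_contra hnt
    rw [not_nontrivial_iff_subsingleton] at hnt
    exact ha (Subsingleton.elim _ _)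
  obtain ⟨D, hD⟩ := exists_dim_eq (A := A)
  obtain ⟨P, hPprime, haP, hPh⟩ := Ideal.exists_isPrime_height_eq hh
  let pP : PrimeSpectrum A := ⟨P, hPprime⟩
  have hP : Order.height pP = h := by
    rw [← PrimeSpectrum.height_eq_orderHeight]; exact hPh
  obtain ⟨x, hxb, hinv⟩ := phase1 a h D pP hD ha hh hP h le_rfl
  have hhD : h ≤ D := by
    have := Ideal.height_le_ringKrullDim_of_ne_top ha
    rw [hh, hD] at this
    exact_mod_cast WithBot.coe_le_coe.mp this
  have hco : ∀ q : PrimeSpectrum A, q.asIdeal ∈ (Ideal.span (Set.range x)).minimalPrimes →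
      Order.coheight q ≤ ((D - h : ℕ) : ℕ∞) := by
    intro q hq
    have h1 := (hinv q hq).1
    have hne : Order.coheight q ≠ ⊤ :=
      ne_top_of_le_ne_top (ENat.natCast_ne_top D) (le_self_add.trans h1)
    obtain ⟨c, hc⟩ := ENat.ne_top_iff_exists.mp hne
    rw [← hc] at h1 ⊢
    have h2 : c + h ≤ D := by exact_mod_cast h1
    have h3 : c ≤ D - h := by omega
    exact_mod_cast h3
  obtain ⟨ys, hlen, hys, hfin⟩ := phase2 (D - h) _ hco
  refine ⟨x, fun i => (hxb i).1, fun i => (hxb i).2, ⟨ys, hys, ?_, ?_⟩, ?_⟩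
  · rw [hD, hlen, Nat.add_sub_cancel' hhD]
  · apply finLen_of_dim_le_zero
    have := dim_quot_le (Ideal.span (Set.range x) ⊔ Ideal.ofList ys) 0 hfin
    simpa using this
  · have hJP : Ideal.span (Set.range x) ≤ P :=
      (Ideal.span_le.mpr (by rintro _ ⟨i, rfl⟩; exact (hxb i).1)).trans haP
    obtain ⟨Q, hQ, hQP⟩ := Ideal.exists_minimalPrimes_le hJP
    have hQh : (h : ℕ∞) ≤ Order.height (⟨Q, hQ.1.1⟩ : PrimeSpectrum A) :=
      (hinv ⟨Q, hQ.1.1⟩ hQ).2 hQP
    have hQeq : Q = P := by
      haveI := hQ.1.1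
      apply Ideal.eq_of_le_of_height_le Q hQP
      rw [hPh]
      have := PrimeSpectrum.height_eq_orderHeight (⟨Q, hQ.1.1⟩ : PrimeSpectrum A)
      rw [← this] at hQh
      exact hQh
    have hPmin : P ∈ (Ideal.span (Set.range x)).minimalPrimes := hQeq ▸ hQ
    have hmin : P.map (Ideal.Quotient.mk (Ideal.span (Set.range x))) ∈
        minimalPrimes (A ⧸ Ideal.span (Set.range x)) := by
      have := Ideal.minimalPrimes_map_of_surjective
        (f := Ideal.Quotient.mk (Ideal.span (Set.range x))) Ideal.Quotient.mk_surjective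
        (⊥ : Ideal A)
      rw [Ideal.map_bot, Ideal.mk_ker, bot_sup_eq] at this
      show P.map _ ∈ (⊥ : Ideal (A ⧸ Ideal.span (Set.range x))).minimalPrimes
      rw [this]; exact ⟨P, hPmin, rfl⟩
    haveI : (P.map (Ideal.Quotient.mk (Ideal.span (Set.range x)))).IsPrime := hmin.1.1
    have h0 : (P.map (Ideal.Quotient.mk (Ideal.span (Set.range x)))).height = 0 :=
      Ideal.height_eq_zero_iff.mpr hmin
    exact le_antisymm (h0 ▸ Ideal.height_mono (Ideal.map_mono haP)) zero_le

end Groth.Agent.Lib.Helper6.SemiSop
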