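import Mathlib

/-! A `p`-semilinear endomorphism of a nonzero finite-dimensional vector space over an
algebraically closed field of characteristic `p` has an eigenvector. -/

open Polynomial Finset

namespace Groth.Agent.Lib.Helper6.SemilinEigen

theorem exists_nonzero_root {k : Type*} [Field k] [IsAlgClosed k] (p : ℕ) (hp : 2 ≤ p)
    (m : ℕ) (a : ℕ → k) (j₀ : ℕ) (hj₀ : j₀ < m) (ha : a j₀ ≠ 0) :
    ∃ y : k, y ≠ 0 ∧ ∑ j ∈ range m, (y * a j) ^ (p ^ (m - j)) = y := by
  classical
  have hpos : ∀ j, j < m → 1 ≤ p ^ (m - j) - 1 := by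
    intro j hj
    have h1 : 2 ^ 1 ≤ p ^ (m - j) :=
      (Nat.pow_le_pow_left hp 1).trans (Nat.pow_le_pow_right (by omega) (by omega))
    omega
  have hinj : ∀ j, j < m → p ^ (m - j) - 1 = p ^ (m - j₀) - 1 → j = j₀ := by
    intro j hj h
    have h1 := hpos j hj
    have h2 := hpos j₀ hj₀
    have h3 : p ^ (m - j) = p ^ (m - j₀) := by omega
    have h4 := Nat.pow_right_injective hp h3
    omega
  let Q : k[X] := ∑ j ∈ range m, C (a j ^ (p ^ (m - j))) * X ^ (p ^ (m - j) - 1) - 1
  have hcoeff : Q.coeff (p ^ (m - j₀) - 1) = a j₀ ^ (p ^ (m - j₀)) := by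
    show (∑ j ∈ range m, C (a j ^ (p ^ (m - j))) * X ^ (p ^ (m - j) - 1) - 1 : k[X]).coeff _ = _
    rw [coeff_sub, finset_sum_coeff, coeff_one, if_neg (by have := hpos j₀ hj₀; omega), sub_zero]
    rw [Finset.sum_eq_single j₀]
    · rw [coeff_C_mul_X_pow, if_pos rfl]
    · intro j hj hne
      rw [coeff_C_mul_X_pow, if_neg]
      intro h
      exact hne (hinj j (Finset.mem_range.mp hj) h.symm)
    · intro h; exact absurd (Finset.mem_range.mpr hj₀) h
  have hdeg : Q.degree ≠ 0 := by
    intro h0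
    have h1 := eq_C_of_degree_eq_zero h0
    have h2 : Q.coeff (p ^ (m - j₀) - 1) = 0 := by
      rw [h1, coeff_C, if_neg]
      have := hpos j₀ hj₀; omega
    rw [hcoeff] at h2
    exact ha (pow_eq_zero_iff (by positivity) |>.mp h2)
  obtain ⟨y, hy⟩ := IsAlgClosed.exists_root Q hdeg
  have hy' : ∑ j ∈ range m, a j ^ (p ^ (m - j)) * y ^ (p ^ (m - j) - 1) = 1 := by
    have : Q.eval y = 0 := hy
    simp only [Q, eval_sub, eval_finset_sum, eval_mul, eval_C, eval_pow, eval_X, eval_one] at this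
    exact sub_eq_zero.mp this
  have hy0 : y ≠ 0 := by
    rintro rfl
    rw [Finset.sum_eq_zero] at hy'
    · exact zero_ne_one hy'
    · intro j hj
      rw [zero_pow (by have := hpos j (Finset.mem_range.mp hj); omega), mul_zero]
  refine ⟨y, hy0, ?_⟩
  calc ∑ j ∈ range m, (y * a j) ^ (p ^ (m - j))
      = ∑ j ∈ range m, (a j ^ (p ^ (m - j)) * y ^ (p ^ (m - j) - 1)) * y := by
        refine Finset.sum_congr rfl fun j hj => ?_
        have h1 := hpos j (Finset.mem_range.mp hj)
        obtain ⟨t, ht⟩ : ∃ t, p ^ (m - j) = t + 1 := ⟨p ^ (m - j) - 1, by omega⟩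
        rw [ht, Nat.add_sub_cancel, mul_pow, pow_succ y t]; ring
    _ = y := by rw [← Finset.sum_mul, hy', one_mul]

theorem semilinear_eigen {k : Type*} [Field k] [IsAlgClosed k] (p : ℕ) [Fact p.Prime] [CharP k p]
    {W : Type*} [AddCommGroup W] [Module k W] [FiniteDimensional k W] [Nontrivial W]
    (F : W →+ W) (hF : ∀ (c : k) (w : W), F (c • w) = c ^ p • F w) :
    ∃ w : W, w ≠ 0 ∧ ∃ c : k, F w = c • w := by
  classical
  have hp2 : 2 ≤ p := (Fact.out : p.Prime).two_le
  by_cases hker : ∃ w : W, w ≠ 0 ∧ F w = 0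
  · obtain ⟨w, hw, hFw⟩ := hker
    exact ⟨w, hw, 0, by rw [hFw, zero_smul]⟩
  have hker' : ∀ w : W, w ≠ 0 → F w ≠ 0 := fun w hw h => hker ⟨w, hw, h⟩
  obtain ⟨w₀, hw₀⟩ := exists_ne (0 : W)
  obtain ⟨e, he0, he_succ⟩ : ∃ e : ℕ → W, e 0 = w₀ ∧ ∀ i, e (i + 1) = F (e i) :=
    ⟨fun i => F^[i] w₀, rfl, fun i => Function.iterate_succ_apply' F i w₀⟩
  have he_ne : ∀ i, e i ≠ 0 := by
    intro i
    induction i with
    | zero => rw [he0]; exact hw₀
    | succ i ih => rw [he_succ]; exact hker' _ ih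
  -- minimal m
  have hex : ∃ m, ¬ LinearIndependent k (fun i : Fin (m + 1) => e i) := by
    refine ⟨Module.finrank k W, fun hli => ?_⟩
    have := hli.fintype_card_le_finrank
    simp at this
  obtain ⟨m, hm, hmin⟩ : ∃ m, ¬ LinearIndependent k (fun i : Fin (m + 1) => e i) ∧
      ∀ m' < m, LinearIndependent k (fun i : Fin (m' + 1) => e i) :=
    ⟨Nat.find hex, Nat.find_spec hex, fun m' h => not_not.mp (Nat.find_min hex h)⟩
  have hli : LinearIndependent k (fun i : Fin m => e i) := by
    rcases Nat.eq_zero_or_pos m with h0 | hpos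
    · subst h0; exact linearIndependent_empty_type
    · obtain ⟨m', rfl⟩ := Nat.exists_eq_succ_of_ne_zero hpos.ne'
      exact hmin m' (Nat.lt_succ_self m')
  have hmem : e m ∈ Submodule.span k (Set.range fun i : Fin m => e i) := by
    by_contra hnot
    apply hm
    have h1 := (linearIndependent_finSnoc (K := k) (v := fun i : Fin m => e i) (x := e m)).mpr
      ⟨hli, hnot⟩
    have h2 : (Fin.snoc (fun i : Fin m => e i) (e m) : Fin (m + 1) → W) =
        fun i : Fin (m + 1) => e i := by
      funext i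
      refine Fin.lastCases ?_ (fun i => ?_) i
      · simp
      · simp
    rw [h2] at h1
    exact h1
  obtain ⟨a₀, ha₀⟩ := (Submodule.mem_span_range_iff_exists_fun k).mp hmem
  -- extend coefficients to ℕ
  let a : ℕ → k := fun i => if h : i < m then a₀ ⟨i, h⟩ else 0
  have ha : ∑ i ∈ range m, a i • e i = e m := by
    rw [← ha₀, ← Fin.sum_univ_eq_sum_range (fun i => a i • e i) m]
    refine Finset.sum_congr rfl fun i _ => ?_
    simp only [a, dif_pos i.2]
  have hmpos : 0 < m := by
    rcases Nat.eq_zero_or_pos m with h0 | hpos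
    · subst h0
      simp at ha
      exact absurd ha.symm (he_ne 0)
    · exact hpos
  obtain ⟨j₀, hj₀, haj₀⟩ : ∃ j₀, j₀ < m ∧ a j₀ ≠ 0 := by
    by_contra hcon
    push Not at hcon
    apply he_ne m
    rw [← ha]
    exact Finset.sum_eq_zero fun i hi => by rw [hcon i (Finset.mem_range.mp hi), zero_smul]
  obtain ⟨y, hy0, hy⟩ := exists_nonzero_root p hp2 m a j₀ hj₀ haj₀
  -- the fixed vector
  let G : ℕ → ℕ → W := fun j s => (y * a j) ^ (p ^ s) • e (j + s)
  have hFG : ∀ j s, F (G j s) = G j (s + 1) := by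
    intro j s
    show F ((y * a j) ^ (p ^ s) • e (j + s)) = (y * a j) ^ (p ^ (s + 1)) • e (j + (s + 1))
    rw [hF, ← pow_mul, ← pow_succ, ← add_assoc, he_succ]
  let v : W := ∑ j ∈ range m, ∑ s ∈ range (m - j), G j s
  have hFv : F v = v := by
    rw [← sub_eq_zero]
    show F (∑ j ∈ range m, ∑ s ∈ range (m - j), G j s) -
      ∑ j ∈ range m, ∑ s ∈ range (m - j), G j s = 0
    rw [map_sum, ← Finset.sum_sub_distrib]
    have h1 : ∀ j ∈ range m, F (∑ s ∈ range (m - j), G j s) - ∑ s ∈ range (m - j), G j s =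
        (y * a j) ^ (p ^ (m - j)) • e m - (y * a j) • e j := by
      intro j hj
      have hjm : j < m := Finset.mem_range.mp hj
      rw [map_sum, ← Finset.sum_sub_distrib]
      simp_rw [hFG]
      rw [Finset.sum_range_sub (fun s => G j s)]
      show (y * a j) ^ (p ^ (m - j)) • e (j + (m - j)) - (y * a j) ^ (p ^ 0) • e (j + 0) = _
      rw [pow_zero, pow_one, add_zero, Nat.add_sub_cancel' hjm.le]
    rw [Finset.sum_congr rfl h1, Finset.sum_sub_distrib, ← Finset.sum_smul, hy]
    simp_rw [mul_smul]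
    rw [← Finset.smul_sum, ha, sub_self]
  -- nonvanishing
  have hv0 : v ≠ 0 := by
    intro hv
    -- linear functional dual to e (m-1)
    let b := Module.Basis.span hli
    obtain ⟨φ, hφ⟩ := LinearMap.exists_extend (b.coord ⟨m - 1, by omega⟩)
    have hφe : ∀ i, i < m → φ (e i) = if i = m - 1 then 1 else 0 := by
      intro i hi
      have h1 : (⟨e i, Submodule.subset_span ⟨⟨i, hi⟩, rfl⟩⟩ :
          Submodule.span k (Set.range fun i : Fin m => e i)) = b ⟨i, hi⟩ := by
        apply Subtype.ext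
        simp [b, Module.Basis.span_apply]
      have h2 := LinearMap.congr_fun hφ (b ⟨i, hi⟩)
      rw [LinearMap.comp_apply, Submodule.subtype_apply, ← h1] at h2
      rw [h2, h1, Module.Basis.coord_apply, Module.Basis.repr_self, Finsupp.single_apply]
      simp only [Fin.mk.injEq]
    have h3 : φ v = ∑ j ∈ range m, (y * a j) ^ (p ^ (m - 1 - j)) := by
      show φ (∑ j ∈ range m, ∑ s ∈ range (m - j), G j s) = _
      rw [map_sum]
      refine Finset.sum_congr rfl fun j hj => ?_
      have hjm : j < m := Finset.mem_range.mp hj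
      rw [map_sum, Finset.sum_eq_single (m - 1 - j)]
      · show φ ((y * a j) ^ (p ^ (m - 1 - j)) • e (j + (m - 1 - j))) = _
        rw [map_smul, hφe _ (by omega), if_pos (by omega), smul_eq_mul, mul_one]
      · intro s hs hne
        have hs' : s < m - j := Finset.mem_range.mp hs
        show φ ((y * a j) ^ (p ^ s) • e (j + s)) = 0
        rw [map_smul, hφe _ (by omega), if_neg (by omega), smul_zero]
      · intro h
        exact absurd (Finset.mem_range.mpr (by omega)) h
    have h4 : (φ v) ^ p = y := by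
      rw [h3, sum_pow_char]
      rw [← hy]
      refine Finset.sum_congr rfl fun j hj => ?_
      have hjm : j < m := Finset.mem_range.mp hj
      rw [← pow_mul, ← pow_succ]
      congr 2
      omega
    rw [hv, map_zero, zero_pow (by omega)] at h4
    exact hy0 h4.symm
  exact ⟨v, hv0, 1, by rw [hFv, one_smul]⟩

end Groth.Agent.Lib.Helper6.SemilinEigen
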