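import Mathlib
import Groth.Prelude.Def_W4bk4grassmannianPl

/-!
# Semistable `n × d` matrices under `SL_d` are those of full rank (helper for S11271)
-/

namespace Groth.Agent.Lib.Helper6.Semistable

universe u

set_option linter.unusedSectionVars false
set_option linter.style.haveILetI false

open W4bk4grassmannian

variable {K : Type u} [Field K] {d n : ℕ}

lemma eval_minor (M : Matrix (Fin n) (Fin d) K) (a : Fin d → Fin n) :
    MvPolynomial.eval (fun p : Fin n × Fin d => M p.1 p.2) (minor K d n a) =
      (M.submatrix a id).det := by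
  unfold minor
  rw [RingHom.map_det]
  congr 1
  ext s t
  simp

/-- the polynomial `t ↦ F(t • M)`. -/
lemma exists_poly (M : Matrix (Fin n) (Fin d) K) (F : MvPolynomial (Fin n × Fin d) K) :
    ∃ g : Polynomial K, ∀ t : K,
      g.eval t = MvPolynomial.eval (fun p => (t • M) p.1 p.2) F := by
  refine ⟨MvPolynomial.aeval (fun p : Fin n × Fin d =>
    Polynomial.X * Polynomial.C (M p.1 p.2)) F, ?_⟩
  intro t
  induction F using MvPolynomial.induction_on with
  | C a => simp
  | add p q hp hq => simp only [map_add, Polynomial.eval_add, hp, hq]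
  | mul_X p i hp =>
    simp only [map_mul, Polynomial.eval_mul, hp, MvPolynomial.aeval_X, MvPolynomial.eval_X,
      Polynomial.eval_C, Polynomial.eval_X, Matrix.smul_apply, smul_eq_mul]

/-- the one-parameter subgroup. -/
lemma det_oneps (v w : Fin d → K) (hvw : w ⬝ᵥ v = 1) (t : K) (ht : t ≠ 0) :
    (t • (1 : Matrix (Fin d) (Fin d) K) + ((t⁻¹) ^ (d - 1) - t) • Matrix.vecMulVec v w).det = 1 := by
  have hd : d = (d - 1) + 1 ∨ d = 0 := by omega
  rcases hd with hd | hd
  · set c := (t⁻¹) ^ (d - 1) - t with hc
    have h1 : t • (1 : Matrix (Fin d) (Fin d) K) + c • Matrix.vecMulVec v w =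
        t • (1 + Matrix.replicateCol Unit ((c / t) • v) * Matrix.replicateRow Unit w) := by
      rw [smul_add, Matrix.vecMulVec_eq Unit]
      congr 1
      ext i j
      simp only [Matrix.smul_apply, Matrix.mul_apply, Matrix.replicateCol_apply,
        Matrix.replicateRow_apply, Pi.smul_apply, smul_eq_mul, Finset.univ_unique,
        Finset.sum_singleton]
      field_simp
    rw [h1, Matrix.det_smul, Matrix.det_one_add_replicateCol_mul_replicateRow,
      dotProduct_smul, hvw, Fintype.card_fin, smul_eq_mul, mul_one]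
    have : t ^ d = t ^ (d - 1) * t := by
      conv_lhs => rw [hd]
      rw [pow_succ]
    have key : t ^ (d - 1) * (t⁻¹) ^ (d - 1) = 1 := by
      rw [← mul_pow, mul_inv_cancel₀ ht, one_pow]
    have h2 : t * (1 + c / t) = (t⁻¹) ^ (d - 1) := by
      rw [hc]; field_simp; ring
    rw [this, mul_assoc, h2, key]
  · subst hd
    simp

theorem not_semistable (A : Matrix (Fin n) (Fin d) K) [Infinite K]
    (h : ¬ LinearIndependent K A.transpose) (f : MvPolynomial (Fin n × Fin d) K)
    (hf : ∀ g : Matrix.SpecialLinearGroup (Fin d) K,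
      MvPolynomial.eval (fun p : Fin n × Fin d => (A * (g : Matrix (Fin d) (Fin d) K)) p.1 p.2) f = 0) :
    MvPolynomial.eval (fun _ : Fin n × Fin d => (0 : K)) f = 0 := by
  obtain ⟨v, hv, j₀, hj₀⟩ := Fintype.not_linearIndependent_iff.1 h
  let w : Fin d → K := Pi.single j₀ (v j₀)⁻¹
  have hvw : w ⬝ᵥ v = 1 := by
    simp only [w, single_dotProduct]
    exact inv_mul_cancel₀ hj₀
  have hAv : A.mulVec v = 0 := by
    ext i
    have := congrFun hv i
    simp only [Finset.sum_apply, Pi.smul_apply, Matrix.transpose_apply, smul_eq_mul,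
      Pi.zero_apply] at this
    rw [Matrix.mulVec, dotProduct]
    simp only [Pi.zero_apply]
    rw [← this]
    exact Finset.sum_congr rfl (fun j _ => mul_comm _ _)
  have hAP : A * Matrix.vecMulVec v w = 0 := by
    rw [Matrix.mul_vecMulVec, hAv]
    ext i j
    simp [Matrix.vecMulVec_apply]
  obtain ⟨g, hg⟩ := exists_poly A f
  have hroot : ∀ t : K, t ≠ 0 → g.eval t = 0 := by
    intro t ht
    rw [hg t]
    have hdet := det_oneps v w hvw t ht
    have := hf ⟨_, hdet⟩
    have hmul : A * (t • (1 : Matrix (Fin d) (Fin d) K) +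
        ((t⁻¹) ^ (d - 1) - t) • Matrix.vecMulVec v w) = t • A := by
      rw [Matrix.mul_add, Matrix.mul_smul, Matrix.mul_smul, hAP, smul_zero, add_zero,
        Matrix.mul_one]
    simp only [hmul] at this
    exact this
  have hg0 : g = 0 := by
    apply Polynomial.eq_zero_of_infinite_isRoot
    apply Set.Infinite.mono (s := {t : K | t ≠ 0})
    · intro t ht
      exact hroot t ht
    · exact (Set.finite_singleton (0 : K)).infinite_compl
  have := hg 0
  rw [hg0, Polynomial.eval_zero, zero_smul] at this
  exact this.symm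

theorem semistable (hd : 0 < d) (A : Matrix (Fin n) (Fin d) K)
    (h : LinearIndependent K A.transpose) :
    ∃ f : MatRing K d n, (∀ g : Matrix.SpecialLinearGroup (Fin d) K,
        MvPolynomial.eval (fun p : Fin n × Fin d => (A * (g : Matrix (Fin d) (Fin d) K)) p.1 p.2) f = 0) ∧
        MvPolynomial.eval (fun _ : Fin n × Fin d => (0 : K)) f ≠ 0 := by
  classical
  have hrank : A.rank = d := by
    rw [← Matrix.rank_transpose]
    have := LinearIndependent.rank_matrix (M := A.transpose) h
    simpa using this
  obtain ⟨κ, a, ha, hsp, hli⟩ := exists_linearIndependent' K A.row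
  have : Finite κ := Finite.of_injective a ha
  have : Fintype κ := Fintype.ofFinite κ
  have hcard : Fintype.card κ = d := by
    rw [linearIndependent_iff_card_eq_finrank_span.1 hli, Set.finrank, hsp,
      ← Matrix.rank_eq_finrank_span_row, hrank]
  let e : Fin d ≃ κ := (Fintype.equivFinOfCardEq hcard).symm
  let B : Matrix (Fin d) (Fin d) K := A.submatrix (a ∘ e) id
  have hB : LinearIndependent K B.row := hli.comp e e.injective
  have hBu : IsUnit B.det := (Matrix.isUnit_iff_isUnit_det B).1
    (Matrix.linearIndependent_rows_iff_isUnit.1 hB)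
  refine ⟨minor K d n (a ∘ e) - MvPolynomial.C B.det, ?_, ?_⟩
  · intro g
    rw [map_sub, eval_minor, MvPolynomial.eval_C]
    have : (A * (g : Matrix (Fin d) (Fin d) K)).submatrix (a ∘ e) id = B * g := by
      ext i j
      simp [B, Matrix.mul_apply]
    rw [this, Matrix.det_mul, g.det_coe, mul_one, sub_self]
  · have h0 : MvPolynomial.eval (fun _ : Fin n × Fin d => (0 : K)) (minor K d n (a ∘ e)) = 0 := by
      have := eval_minor (0 : Matrix (Fin n) (Fin d) K) (a ∘ e)
      simp only [Matrix.zero_apply] at this
      rw [this]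
      have : Nonempty (Fin d) := Fin.pos_iff_nonempty.1 hd
      have h00 : (0 : Matrix (Fin n) (Fin d) K).submatrix (a ∘ e) id = 0 := by
        ext i j; simp
      rw [h00, Matrix.det_zero]
    rw [map_sub, h0, MvPolynomial.eval_C, zero_sub, neg_ne_zero]
    exact hBu.ne_zero

end Groth.Agent.Lib.Helper6.Semistable
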