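import Mathlib

/-!
# The equaliser of the two maps from a field to the diagonal-adic completion of `L ⊗[K] L`.
-/

set_option linter.unusedSectionVars false
set_option autoImplicit false
set_option maxHeartbeats 400000

noncomputable section

namespace Groth.Agent.Helper6.SepEq

open TensorProduct Polynomial

universe u

section General

variable {R : Type u} [CommRing R] (I : Ideal R)

lemma of_eq_iff (a b : R) :
    AdicCompletion.of I R a = AdicCompletion.of I R b ↔ ∀ n : ℕ, a - b ∈ I ^ n := by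
  constructor
  · intro h n
    have h1 := congrArg (fun z => z.val n) h
    simp only [AdicCompletion.of_apply] at h1
    have h2 : a - b ∈ (I ^ n • ⊤ : Submodule R R) := by
      rw [← Submodule.Quotient.mk_eq_zero, Submodule.Quotient.mk_sub, sub_eq_zero]
      exact h1
    rwa [smul_eq_mul, Ideal.mul_top] at h2
  · intro h
    apply AdicCompletion.ext
    intro n
    rw [AdicCompletion.of_apply, AdicCompletion.of_apply, Submodule.mkQ_apply,
      Submodule.mkQ_apply, ← sub_eq_zero, ← Submodule.Quotient.mk_sub,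
      Submodule.Quotient.mk_eq_zero, smul_eq_mul, Ideal.mul_top]
    exact h n

lemma mem_pow_of_eq_mul_sq {d w : R} (hd : d ∈ I) (h : d = w * d ^ 2) (n : ℕ) : d ∈ I ^ n := by
  induction n with
  | zero => simp
  | succ n ih =>
    rw [h, pow_two, ← mul_assoc, pow_succ]
    exact Ideal.mul_mem_mul (Ideal.mul_mem_left _ _ ih) hd

end General

variable (K L : Type u) [Field K] [Field L] [Algebra K L]

/-- multiplication `L ⊗[K] L → L`. -/
abbrev mul' : L ⊗[K] L →ₐ[K] L := Algebra.TensorProduct.lmul' K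

lemma mem_ideal_iff (z : L ⊗[K] L) : z ∈ KaehlerDifferential.ideal K L ↔ mul' K L z = 0 := by
  rw [KaehlerDifferential.ideal, RingHom.mem_ker]

lemma delta_mem (x : L) :
    x ⊗ₜ[K] (1 : L) - (1 : L) ⊗ₜ[K] x ∈ KaehlerDifferential.ideal K L := by
  rw [mem_ideal_iff]
  simp

theorem of_eq_of_separable (x : L) (hx : IsSeparable K x) :
    AdicCompletion.of (KaehlerDifferential.ideal K L) (L ⊗[K] L) (x ⊗ₜ[K] (1 : L)) =
      AdicCompletion.of (KaehlerDifferential.ideal K L) (L ⊗[K] L) ((1 : L) ⊗ₜ[K] x) := by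
  rw [of_eq_iff]
  set f := minpoly K x with hf
  have hint : IsIntegral K x := hx.isIntegral
  set fB : (L ⊗[K] L)[X] := f.map (algebraMap K (L ⊗[K] L)) with hfB
  set x' : L ⊗[K] L := x ⊗ₜ[K] (1 : L) with hx'
  set y : L ⊗[K] L := (1 : L) ⊗ₜ[K] x with hy
  have e1 : fB.eval x' = 0 := by
    have : fB.eval x' = (Algebra.TensorProduct.includeLeft : L →ₐ[K] L ⊗[K] L) (aeval x f) := by
      rw [hfB, Polynomial.eval_map, ← Polynomial.aeval_def, ← Polynomial.aeval_algHom_apply]
      rfl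
    rw [this, hf, minpoly.aeval, map_zero]
  have e2 : fB.eval y = 0 := by
    have : fB.eval y = (Algebra.TensorProduct.includeRight : L →ₐ[K] L ⊗[K] L) (aeval x f) := by
      rw [hfB, Polynomial.eval_map, ← Polynomial.aeval_def, ← Polynomial.aeval_algHom_apply]
      rfl
    rw [this, hf, minpoly.aeval, map_zero]
  have e3 : fB.derivative.eval x' =
      (Algebra.TensorProduct.includeLeft : L →ₐ[K] L ⊗[K] L) (aeval x f.derivative) := by
    rw [hfB, Polynomial.derivative_map, Polynomial.eval_map, ← Polynomial.aeval_def,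
      ← Polynomial.aeval_algHom_apply]
    rfl
  set c : L := aeval x f.derivative with hc
  have hc0 : c ≠ 0 := hx.aeval_derivative_ne_zero (minpoly.aeval K x)
  obtain ⟨k, hk⟩ := Polynomial.binomExpansion fB x' (y - x')
  rw [add_sub_cancel, e2, e1, e3, zero_add] at hk
  -- hk : 0 = (c ⊗ 1) * (y - x') + k * (y - x')^2
  have hk' : (c ⊗ₜ[K] (1 : L)) * (y - x') = - (k * (y - x') ^ 2) := by
    have : (Algebra.TensorProduct.includeLeft : L →ₐ[K] L ⊗[K] L) c = c ⊗ₜ[K] (1 : L) := rfl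
    rw [this] at hk
    exact eq_neg_of_add_eq_zero_left hk.symm
  have hd : y - x' = (-(c⁻¹ ⊗ₜ[K] (1 : L)) * k) * (y - x') ^ 2 := by
    have h1 : (c⁻¹ ⊗ₜ[K] (1 : L)) * ((c ⊗ₜ[K] (1 : L)) * (y - x')) = y - x' := by
      rw [← mul_assoc, Algebra.TensorProduct.tmul_mul_tmul, inv_mul_cancel₀ hc0, mul_one,
        ← Algebra.TensorProduct.one_def, one_mul]
    calc y - x' = (c⁻¹ ⊗ₜ[K] (1 : L)) * ((c ⊗ₜ[K] (1 : L)) * (y - x')) := h1.symm
      _ = (c⁻¹ ⊗ₜ[K] (1 : L)) * (-(k * (y - x') ^ 2)) := by rw [hk']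
      _ = (-(c⁻¹ ⊗ₜ[K] (1 : L)) * k) * (y - x') ^ 2 := by ring
  intro n
  have hmem : y - x' ∈ KaehlerDifferential.ideal K L := by
    have := delta_mem K L x
    rw [← neg_sub]
    exact Ideal.neg_mem_iff _ |>.mpr this
  have := mem_pow_of_eq_mul_sq (KaehlerDifferential.ideal K L) hmem hd n
  rw [← neg_sub]
  exact Ideal.neg_mem_iff _ |>.mpr this

section Poly

variable {K L}
variable (x : L)

/-- evaluation of polynomials over `L` at `1 ⊗ x` (coefficients acting on the left factor). -/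
def ev : L[X] →ₐ[L] L ⊗[K] L := Polynomial.aeval ((1 : L) ⊗ₜ[K] x)

lemma ev_monomial (n : ℕ) (c : L) : ev (K := K) x (monomial n c) = c ⊗ₜ[K] (x ^ n) := by
  rw [ev, Polynomial.aeval_monomial, Algebra.TensorProduct.algebraMap_apply,
    Algebra.TensorProduct.tmul_pow, one_pow, Algebra.TensorProduct.tmul_mul_tmul, mul_one,
    one_mul]
  rfl

lemma ev_C (c : L) : ev (K := K) x (C c) = c ⊗ₜ[K] (1 : L) := by
  rw [← Polynomial.monomial_zero_left, ev_monomial, pow_zero]

lemma ev_X : ev (K := K) x X = (1 : L) ⊗ₜ[K] x := by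
  rw [ev, Polynomial.aeval_X]

lemma ev_map (r : K[X]) :
    ev (K := K) x (r.map (algebraMap K L)) = (1 : L) ⊗ₜ[K] (aeval x r) := by
  induction r using Polynomial.induction_on' with
  | add p q hp hq => rw [Polynomial.map_add, map_add, hp, hq, map_add, TensorProduct.tmul_add]
  | monomial n a =>
    rw [Polynomial.map_monomial, ev_monomial, Polynomial.aeval_monomial,
      Algebra.algebraMap_eq_smul_one, TensorProduct.smul_tmul, smul_mul_assoc, one_mul]

lemma mul'_ev (g : L[X]) : mul' K L (ev (K := K) x g) = g.eval x := by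
  induction g using Polynomial.induction_on' with
  | add p q hp hq => rw [map_add, map_add, hp, hq, Polynomial.eval_add]
  | monomial n c =>
    rw [ev_monomial, Polynomial.eval_monomial]
    simp

/-- apply a `K`-linear functional to the left factor. -/
def Psi (ψ : L →ₗ[K] K) : L ⊗[K] L →ₗ[K] L :=
  (TensorProduct.lid K L).toLinearMap ∘ₗ (LinearMap.rTensor L ψ)

lemma Psi_tmul (ψ : L →ₗ[K] K) (a b : L) : Psi ψ (a ⊗ₜ[K] b) = ψ a • b := by
  simp [Psi]

/-- the polynomial over `K` obtained by applying `ψ` to the coefficients. -/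
def psiPoly (ψ : L →ₗ[K] K) (g : L[X]) : K[X] :=
  ∑ i ∈ Finset.range (g.natDegree + 1), monomial i (ψ (g.coeff i))

lemma psiPoly_coeff (ψ : L →ₗ[K] K) (g : L[X]) (i : ℕ) :
    (psiPoly ψ g).coeff i = ψ (g.coeff i) := by
  unfold psiPoly
  rw [Polynomial.finsetSum_coeff]
  simp only [Polynomial.coeff_monomial]
  rw [Finset.sum_ite_eq' (Finset.range (g.natDegree + 1)) i]
  split_ifs with h
  · rfl
  · have : g.coeff i = 0 := Polynomial.coeff_eq_zero_of_natDegree_lt (by
      rw [Finset.mem_range] at h; omega)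
    rw [this, map_zero]

lemma psiPoly_natDegree_le (ψ : L →ₗ[K] K) (g : L[X]) :
    (psiPoly ψ g).natDegree ≤ g.natDegree := by
  rw [Polynomial.natDegree_le_iff_coeff_eq_zero]
  intro i hi
  rw [psiPoly_coeff, Polynomial.coeff_eq_zero_of_natDegree_lt hi, map_zero]

lemma aeval_psiPoly (ψ : L →ₗ[K] K) (g : L[X]) :
    aeval x (psiPoly ψ g) = Psi ψ (ev (K := K) x g) := by
  have hg : g = ∑ i ∈ Finset.range (g.natDegree + 1), monomial i (g.coeff i) :=
    g.as_sum_range
  conv_rhs => rw [hg]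
  unfold psiPoly
  rw [map_sum, map_sum, map_sum]
  refine Finset.sum_congr rfl fun i _ => ?_
  rw [ev_monomial, Psi_tmul, Polynomial.aeval_monomial, Algebra.smul_def]

/-- a non-zero polynomial over `L` killed by `ev` forces an algebraic relation over `K`
of at most the same degree. -/
theorem exists_relation {g : L[X]} (hg : g ≠ 0) (h : ev (K := K) x g = 0) :
    ∃ p : K[X], p ≠ 0 ∧ p.natDegree ≤ g.natDegree ∧ aeval x p = 0 := by
  obtain ⟨i, hi⟩ : ∃ i, g.coeff i ≠ 0 := by
    by_contra hcon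
    push Not at hcon
    exact hg (Polynomial.ext fun i => by rw [hcon i, Polynomial.coeff_zero])
  obtain ⟨ψ, hψ⟩ : ∃ ψ : L →ₗ[K] K, ψ (g.coeff i) ≠ 0 := by
    let b := Module.Basis.ofVectorSpace K L
    have h1 : b.repr (g.coeff i) ≠ 0 := fun h0 => hi (by simpa using h0)
    obtain ⟨j, hj⟩ := Finsupp.ne_iff.mp h1
    exact ⟨b.coord j, by simpa using hj⟩
  refine ⟨psiPoly ψ g, ?_, psiPoly_natDegree_le ψ g, ?_⟩
  · intro h0
    have := psiPoly_coeff ψ g i
    rw [h0, Polynomial.coeff_zero] at this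
    exact hψ this.symm
  · rw [aeval_psiPoly, h, map_zero]

theorem isSeparable_of_ev_eq_zero {τ : L[X]} (hτ : τ.eval x ≠ 0)
    (h : ev (K := K) x ((X - C x) * τ) = 0) : IsSeparable K x := by
  have hτ0 : τ ≠ 0 := fun h0 => hτ (by rw [h0, Polynomial.eval_zero])
  have hXC : (X - C x : L[X]) ≠ 0 := Polynomial.X_sub_C_ne_zero x
  have hh0 : (X - C x) * τ ≠ 0 := mul_ne_zero hXC hτ0
  -- `x` is algebraic
  obtain ⟨p, hp0, -, hpx⟩ := exists_relation (K := K) x hh0 h
  have halg : IsAlgebraic K x := ⟨p, hp0, hpx⟩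
  have hint : IsIntegral K x := halg.isIntegral
  set f := minpoly K x with hf
  set fL : L[X] := f.map (algebraMap K L) with hfL
  have hmonic : fL.Monic := (minpoly.monic hint).map _
  have hfL1 : fL ≠ 1 := by
    intro h1
    have : fL.eval x = 0 := by
      rw [hfL, Polynomial.eval_map, ← Polynomial.aeval_def, hf, minpoly.aeval]
    rw [h1, Polynomial.eval_one] at this
    exact one_ne_zero this
  have hevf : ev (K := K) x fL = 0 := by
    rw [hfL, ev_map, hf, minpoly.aeval, TensorProduct.tmul_zero]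
  -- `fL ∣ (X - C x) * τ`
  have hdvd : fL ∣ (X - C x) * τ := by
    rw [← Polynomial.modByMonic_eq_zero_iff_dvd hmonic]
    by_contra hr
    have hevr : ev (K := K) x (((X - C x) * τ) %ₘ fL) = 0 := by
      have e := Polynomial.modByMonic_add_div ((X - C x) * τ) fL
      have e2 : ((X - C x) * τ) %ₘ fL = (X - C x) * τ - fL * (((X - C x) * τ) /ₘ fL) := by
        rw [eq_sub_iff_add_eq]; exact e
      rw [e2, map_sub, h, map_mul, hevf, zero_mul, sub_zero]
    obtain ⟨q, hq0, hqdeg, hqx⟩ := exists_relation (K := K) x hr hevr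
    have h1 : f ∣ q := minpoly.dvd K x hqx
    have h2 : f.natDegree ≤ q.natDegree := Polynomial.natDegree_le_of_dvd h1 hq0
    have h3 : (((X - C x) * τ) %ₘ fL).natDegree < fL.natDegree :=
      Polynomial.natDegree_modByMonic_lt _ hmonic hfL1
    have h4 : fL.natDegree = f.natDegree := by
      rw [hfL, Polynomial.natDegree_map]
    omega
  -- factor `fL = (X - C x) * f₁`
  have hroot : fL.IsRoot x := by
    rw [Polynomial.IsRoot, hfL, Polynomial.eval_map, ← Polynomial.aeval_def, hf, minpoly.aeval]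
  have hfac : (X - C x) * (fL /ₘ (X - C x)) = fL := Polynomial.mul_divByMonic_eq_iff_isRoot.mpr hroot
  set f₁ := fL /ₘ (X - C x) with hf₁
  have hdvd₁ : f₁ ∣ τ := by
    rw [← hfac] at hdvd
    exact (mul_dvd_mul_iff_left hXC).mp hdvd
  have hf₁x : f₁.eval x ≠ 0 := by
    obtain ⟨w, hw⟩ := hdvd₁
    intro h0
    apply hτ
    rw [hw, Polynomial.eval_mul, h0, zero_mul]
  -- derivative
  have hder : (derivative fL).eval x = f₁.eval x := by
    rw [← hfac, Polynomial.derivative_mul, Polynomial.derivative_sub, Polynomial.derivative_X,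
      Polynomial.derivative_C, sub_zero, one_mul, Polynomial.eval_add, Polynomial.eval_mul,
      Polynomial.eval_sub, Polynomial.eval_X, Polynomial.eval_C, sub_self, zero_mul, add_zero]
  have hder' : (derivative fL).eval x = aeval x (derivative f) := by
    rw [hfL, Polynomial.derivative_map, Polynomial.eval_map, ← Polynomial.aeval_def]
  have hne : derivative f ≠ 0 := by
    intro h0
    rw [h0, map_zero] at hder'
    rw [hder'] at hder
    exact hf₁x hder.symm
  show (minpoly K x).Separable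
  exact (Polynomial.separable_iff_derivative_ne_zero (minpoly.irreducible hint)).mpr hne

end Poly

section Descent

open IntermediateField

variable {K L}
variable (x : L)

/-- elements which, after multiplying by a unit `1 ⊗ q(x)`, are polynomial in `1 ⊗ x` over `L`. -/
def TT : Set (L ⊗[K] L) :=
  {z | ∃ q : K[X], aeval x q ≠ 0 ∧ ∃ τ : L[X],
    ((1 : L) ⊗ₜ[K] (aeval x q)) * z = ev (K := K) x τ}

lemma TT_zero : (0 : L ⊗[K] L) ∈ TT x :=
  ⟨1, by simp, 0, by simp⟩

lemma TT_add {z w : L ⊗[K] L} (hz : z ∈ TT x) (hw : w ∈ TT x) : z + w ∈ TT x := by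
  obtain ⟨q₁, hq₁, τ₁, e₁⟩ := hz
  obtain ⟨q₂, hq₂, τ₂, e₂⟩ := hw
  refine ⟨q₁ * q₂, by rw [map_mul]; exact mul_ne_zero hq₁ hq₂,
    q₂.map (algebraMap K L) * τ₁ + q₁.map (algebraMap K L) * τ₂, ?_⟩
  have h3 : (1 : L) ⊗ₜ[K] (aeval x q₁ * aeval x q₂) =
      ((1 : L) ⊗ₜ[K] aeval x q₁) * ((1 : L) ⊗ₜ[K] aeval x q₂) := by
    rw [Algebra.TensorProduct.tmul_mul_tmul, one_mul]
  have ev1 : ev (K := K) x (q₂.map (algebraMap K L) * τ₁ + q₁.map (algebraMap K L) * τ₂) =
      ((1 : L) ⊗ₜ[K] aeval x q₂) * ev (K := K) x τ₁ +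
        ((1 : L) ⊗ₜ[K] aeval x q₁) * ev (K := K) x τ₂ := by
    rw [map_add, map_mul, map_mul, ev_map, ev_map]
  rw [ev1, ← e₁, ← e₂, map_mul, h3]
  ring

lemma TT_tmul (a φ : L) (hφ : φ ∈ K⟮x⟯) : a ⊗ₜ[K] φ ∈ TT x := by
  obtain ⟨r, s, rfl⟩ := (IntermediateField.mem_adjoin_simple_iff K φ).mp hφ
  by_cases hs : aeval x s = 0
  · rw [hs, div_zero, TensorProduct.tmul_zero]
    exact TT_zero x
  · refine ⟨s, hs, C a * r.map (algebraMap K L), ?_⟩
    have h1 : aeval x s * (aeval x r / aeval x s) = aeval x r := by field_simp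
    rw [map_mul, ev_C, ev_map, Algebra.TensorProduct.tmul_mul_tmul,
      Algebra.TensorProduct.tmul_mul_tmul, one_mul, mul_one, one_mul, h1]

variable {J : Type u} (e : Module.Basis J ↥K⟮x⟯ L)

/-- the `j`-th coordinate functional for a basis over `K(x)`, as a `K`-linear endomorphism. -/
def lam (j : J) : L →ₗ[K] L :=
  (K⟮x⟯.val.toLinearMap) ∘ₗ ((e.coord j).restrictScalars K)

lemma lam_apply (j : J) (b : L) : lam x e j b = ((e.coord j b : ↥K⟮x⟯) : L) := rfl

lemma lam_mul_x (j : J) (b : L) : lam x e j (x * b) = x * lam x e j b := by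
  have hx : x ∈ K⟮x⟯ := IntermediateField.mem_adjoin_simple_self K x
  have h1 : x * b = (⟨x, hx⟩ : ↥K⟮x⟯) • b := rfl
  rw [lam_apply, lam_apply, h1, map_smul]
  rfl

def PP (j : J) : L ⊗[K] L →ₗ[K] L ⊗[K] L := LinearMap.lTensor L (lam x e j)

lemma PP_tmul (j : J) (a b : L) : PP x e j (a ⊗ₜ[K] b) = a ⊗ₜ[K] lam x e j b := rfl

lemma PP_delta (j : J) (z : L ⊗[K] L) :
    PP x e j ((x ⊗ₜ[K] (1 : L) - (1 : L) ⊗ₜ[K] x) * z) =
      (x ⊗ₜ[K] (1 : L) - (1 : L) ⊗ₜ[K] x) * PP x e j z := by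
  induction z using TensorProduct.induction_on with
  | zero => simp
  | tmul a b =>
    rw [sub_mul, Algebra.TensorProduct.tmul_mul_tmul, Algebra.TensorProduct.tmul_mul_tmul,
      map_sub, PP_tmul, PP_tmul, PP_tmul, sub_mul, Algebra.TensorProduct.tmul_mul_tmul,
      Algebra.TensorProduct.tmul_mul_tmul, one_mul, one_mul, lam_mul_x, one_mul]
  | add z w hz hw => rw [mul_add, map_add, map_add, hz, hw, mul_add]

lemma PP_mem_TT (j : J) (z : L ⊗[K] L) : PP x e j z ∈ TT x := by
  induction z using TensorProduct.induction_on with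
  | zero => rw [map_zero]; exact TT_zero x
  | tmul a b =>
    rw [PP_tmul, lam_apply]
    exact TT_tmul x a _ (SetLike.coe_mem _)
  | add z w hz hw => rw [map_add]; exact TT_add x hz hw

lemma exists_j (u : L ⊗[K] L) (hu : mul' K L u ≠ 0) : ∃ j : J, mul' K L (PP x e j u) ≠ 0 := by
  let π : L ⊗[K] L →ₗ[K] L ⊗[↥K⟮x⟯] L := TensorProduct.mapOfCompatibleSMul ↥K⟮x⟯ K K L L
  let bL : Module.Basis J L (L ⊗[↥K⟮x⟯] L) := Algebra.TensorProduct.basis L e
  have claim1 : ∀ (j : J) (z : L ⊗[K] L), mul' K L (PP x e j z) = bL.repr (π z) j := by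
    intro j z
    induction z using TensorProduct.induction_on with
    | zero => simp
    | tmul a b =>
      rw [PP_tmul, lam_apply]
      show _ = (Algebra.TensorProduct.basis L e).repr (a ⊗ₜ[↥K⟮x⟯] b) j
      rw [Algebra.TensorProduct.basis_repr_tmul]
      simp
    | add z w hz hw => rw [map_add, map_add, map_add, map_add, hz, hw, Finsupp.add_apply]
  have claim2 : ∀ z : L ⊗[K] L, mul' K L z = Algebra.TensorProduct.lmul' ↥K⟮x⟯ (π z) := by
    intro z
    induction z using TensorProduct.induction_on with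
    | zero => simp
    | tmul a b => simp [π]
    | add z w hz hw => rw [map_add, map_add, map_add, hz, hw]
  have h1 : π u ≠ 0 := by
    intro h0
    rw [claim2, h0, map_zero] at hu
    exact hu rfl
  have h2 : bL.repr (π u) ≠ 0 := fun h0 => h1 (by simpa using h0)
  obtain ⟨j, hj⟩ := Finsupp.ne_iff.mp h2
  exact ⟨j, by rw [claim1]; simpa using hj⟩

end Descent

theorem isSeparable_of_of_eq (hfg : (⊤ : IntermediateField K L).FG) (x : L)
    (h : AdicCompletion.of (KaehlerDifferential.ideal K L) (L ⊗[K] L) (x ⊗ₜ[K] (1 : L)) =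
      AdicCompletion.of (KaehlerDifferential.ideal K L) (L ⊗[K] L) ((1 : L) ⊗ₜ[K] x)) :
    IsSeparable K x := by
  rw [of_eq_iff] at h
  have : Algebra.EssFiniteType K L := IntermediateField.fg_top_iff.mp hfg
  have : IsNoetherianRing (L ⊗[K] L) := Algebra.EssFiniteType.isNoetherianRing L (L ⊗[K] L)
  set δ : L ⊗[K] L := x ⊗ₜ[K] (1 : L) - (1 : L) ⊗ₜ[K] x with hδ
  have hmem : δ ∈ (⨅ i : ℕ, (KaehlerDifferential.ideal K L) ^ i • ⊤ :
      Submodule (L ⊗[K] L) (L ⊗[K] L)) := by
    rw [Submodule.mem_iInf]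
    intro i
    rw [smul_eq_mul, Ideal.mul_top]
    exact h i
  obtain ⟨r, hr⟩ := (Ideal.mem_iInf_smul_pow_eq_bot_iff _ δ).mp hmem
  have hu1 : mul' K L (1 - (r : L ⊗[K] L)) = 1 := by
    rw [map_sub, map_one, (mem_ideal_iff K L _).mp r.2, sub_zero]
  have hu2 : δ * (1 - (r : L ⊗[K] L)) = 0 := by
    rw [mul_sub, mul_one, mul_comm, ← smul_eq_mul, hr, sub_self]
  let e := Module.Free.chooseBasis ↥(IntermediateField.adjoin K {x}) L
  obtain ⟨j, hj⟩ := exists_j x e (1 - (r : L ⊗[K] L)) (by rw [hu1]; exact one_ne_zero)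
  set t := PP x e j (1 - (r : L ⊗[K] L)) with ht
  have ht1 : δ * t = 0 := by rw [ht, hδ, ← PP_delta, ← hδ, hu2, map_zero]
  obtain ⟨q, hq, τ, hτ⟩ := PP_mem_TT x e j (1 - (r : L ⊗[K] L))
  apply isSeparable_of_ev_eq_zero (K := K) x (τ := τ)
  · rw [← mul'_ev (K := K), ← hτ, map_mul]
    refine mul_ne_zero ?_ hj
    simpa using hq
  · rw [map_mul, map_sub, ev_X, ev_C, ← hτ]
    have h3 : ((1 : L) ⊗ₜ[K] x - x ⊗ₜ[K] (1 : L)) * (((1 : L) ⊗ₜ[K] (aeval x q)) * t) =
        -(((1 : L) ⊗ₜ[K] (aeval x q)) * (δ * t)) := by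
      rw [hδ]; ring
    rw [h3, ht1, mul_zero, neg_zero]

end Groth.Agent.Helper6.SepEq
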