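import Mathlib

universe u

open AlgebraicGeometry TopologicalSpace CategoryTheory Limits

namespace Groth.Agent.Helper6.SepOpen

/-- finite affine cover indexed by `Fin n` -/
lemma exists_fin_affine_cover (X : Scheme.{u}) [CompactSpace X] :
    ∃ (n : ℕ) (U : Fin n → X.Opens), (∀ k, IsAffineOpen (U k)) ∧ ⨆ k, U k = ⊤ := by
  classical
  have hex : ∀ x : X, ∃ A : X.Opens, IsAffineOpen A ∧ x ∈ A := by
    intro x
    obtain ⟨_, ⟨A, hA, rfl⟩, hxA, -⟩ := (X.isBasis_affineOpens.exists_subset_of_mem_open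
      (Set.mem_univ x) isOpen_univ)
    exact ⟨A, hA, hxA⟩
  choose A hA hxA using hex
  obtain ⟨t, ht⟩ := isCompact_univ.elim_finite_subcover (fun x => (A x : Set X))
    (fun x => (A x).2) (fun x _ => Set.mem_iUnion.mpr ⟨x, hxA x⟩)
  refine ⟨t.card, fun k => A (t.equivFin.symm k).1, fun k => hA _, ?_⟩
  rw [eq_top_iff]
  intro x _
  have hx := ht (Set.mem_univ x)
  simp only [Set.mem_iUnion] at hx
  obtain ⟨y, hy, hxy⟩ := hx
  have : x ∈ A ((t.equivFin.symm (t.equivFin ⟨y, hy⟩)).1) := by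
    rw [Equiv.symm_apply_apply]; exact hxy
  exact Opens.mem_iSup.mpr ⟨_, this⟩

section pieces

variable {X : Scheme.{u}} {n : ℕ} (U : Fin n → X.Opens)

/-- closure of the earlier opens -/
def Cl (k : Fin n) : Set X := closure (⋃ j : Fin n, ⋃ (_ : j < k), (U j : Set X))

/-- the pieces -/
def W (k : Fin n) : X.Opens :=
  ⟨(U k : Set X) ∩ (Cl U k)ᶜ, (U k).2.inter isClosed_closure.isOpen_compl⟩

lemma W_le (k : Fin n) : W U k ≤ U k := fun _ hx => hx.1

lemma W_disjoint_of_lt {j k : Fin n} (hjk : j < k) : Disjoint (W U j) (W U k) := by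
  rw [disjoint_iff, eq_bot_iff]
  rintro x ⟨hxj, hxk⟩
  exfalso
  apply hxk.2
  apply subset_closure
  exact Set.mem_iUnion.mpr ⟨j, Set.mem_iUnion.mpr ⟨hjk, hxj.1⟩⟩

lemma W_disjoint {j k : Fin n} (hjk : j ≠ k) : Disjoint (W U j) (W U k) := by
  rcases lt_or_gt_of_ne hjk with h | h
  · exact W_disjoint_of_lt U h
  · exact (W_disjoint_of_lt U h).symm

lemma dense_iSup_W (hU : ⨆ k, U k = ⊤) : Dense ((⨆ k, W U k : X.Opens) : Set X) := by
  classical
  rw [dense_iff_inter_open]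
  rintro O hO ⟨x, hxO⟩
  let T : Finset (Fin n) := Finset.univ.filter (fun k => (O ∩ (U k : Set X)).Nonempty)
  have hT : T.Nonempty := by
    have hx : x ∈ (⨆ k, U k : X.Opens) := by rw [hU]; trivial
    obtain ⟨k, hk⟩ := Opens.mem_iSup.mp hx
    exact ⟨k, Finset.mem_filter.mpr ⟨Finset.mem_univ _, ⟨x, hxO, hk⟩⟩⟩
  set k := T.min' hT with hk
  have hkT : k ∈ T := Finset.min'_mem T hT
  obtain ⟨y, hyO, hyU⟩ := (Finset.mem_filter.mp hkT).2
  have hlt : ∀ j, j < k → ¬ (O ∩ (U j : Set X)).Nonempty := by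
    intro j hj hne
    have : j ∈ T := Finset.mem_filter.mpr ⟨Finset.mem_univ _, hne⟩
    exact absurd (Finset.min'_le T j this) (not_le.mpr hj)
  have hdis : Disjoint O (⋃ j : Fin n, ⋃ (_ : j < k), (U j : Set X)) := by
    rw [Set.disjoint_left]
    intro z hzO hz
    obtain ⟨j, hz⟩ := Set.mem_iUnion.mp hz
    obtain ⟨hj, hz⟩ := Set.mem_iUnion.mp hz
    exact hlt j hj ⟨z, hzO, hz⟩
  have hdis2 : Disjoint O (Cl U k) := hdis.closure_right hO
  refine ⟨y, hyO, ?_⟩
  apply Opens.mem_iSup.mpr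
  exact ⟨k, hyU, fun h => Set.disjoint_left.mp hdis2 hyO h⟩

end pieces

section sep

open scoped Function

variable {X : Scheme.{u}} {n : ℕ} (Wp Up : Fin n → X.Opens)

lemma range_sigmaDesc_ι :
    Set.range (Sigma.desc (fun k => (Wp k).ι) : (∐ fun k => (Wp k : Scheme.{u})) ⟶ X) =
      ((⨆ k, Wp k : X.Opens) : Set X) := by
  ext x
  constructor
  · rintro ⟨y, rfl⟩
    obtain ⟨k, y', rfl⟩ : ∃ k, ∃ y' : (Wp k : Scheme.{u}),
        (Sigma.ι (fun k => (Wp k : Scheme.{u})) k) y' = y := by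
      obtain ⟨z, hz⟩ := (sigmaOpenCover (fun k => (Wp k : Scheme.{u}))).covers y
      exact ⟨_, z, hz⟩
    rw [← Scheme.Hom.comp_apply, Sigma.ι_desc]
    exact Opens.mem_iSup.mpr ⟨k, y'.2⟩
  · intro hx
    obtain ⟨k, hk⟩ := Opens.mem_iSup.mp hx
    let x' : (Wp k : Scheme.{u}) := ⟨x, hk⟩
    refine ⟨Sigma.ι (fun k => (Wp k : Scheme.{u})) k x', ?_⟩
    rw [← Scheme.Hom.comp_apply, Sigma.ι_desc]
    rfl

theorem isSeparated_iSup (hdisj : ∀ j k, j ≠ k → Disjoint (Wp j) (Wp k))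
    (hle : ∀ k, Wp k ≤ Up k) (hUp : ∀ k, IsAffineOpen (Up k)) :
    ((⨆ k, Wp k : X.Opens) : Scheme.{u}).IsSeparated := by
  -- the open immersion a
  have ha : IsOpenImmersion (Sigma.desc (fun k => (Wp k).ι) :
      (∐ fun k => (Wp k : Scheme.{u})) ⟶ X) := by
    apply isOpenImmersion_sigmaDesc
    intro j k hjk
    show Disjoint (Set.range (Wp j).ι) (Set.range (Wp k).ι)
    rw [Scheme.Opens.range_ι, Scheme.Opens.range_ι]
    have := hdisj j k hjk
    rw [Set.disjoint_left]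
    intro x hxj hxk
    have h2 : x ∈ (Wp j ⊓ Wp k : X.Opens) := ⟨hxj, hxk⟩
    rw [disjoint_iff.mp this] at h2
    exact h2
  let e : ((⨆ k, Wp k : X.Opens) : Scheme.{u}) ≅ (∐ fun k => (Wp k : Scheme.{u})) :=
    IsOpenImmersion.isoOfRangeEq (⨆ k, Wp k : X.Opens).ι
      (Sigma.desc (fun k => (Wp k).ι)) (by rw [Scheme.Opens.range_ι, range_sigmaDesc_ι])
  -- the map b to an affine scheme
  have : ∀ k, IsAffine (Up k : Scheme.{u}) := hUp
  have hb : IsOpenImmersion (Sigma.desc (fun k => X.homOfLE (hle k) ≫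
      Sigma.ι (fun k => (Up k : Scheme.{u})) k) :
      (∐ fun k => (Wp k : Scheme.{u})) ⟶ (∐ fun k => (Up k : Scheme.{u}))) := by
    apply isOpenImmersion_sigmaDesc
    intro j k hjk
    have h1 := disjoint_opensRange_sigmaι (fun k => (Up k : Scheme.{u})) j k hjk
    rw [disjoint_iff, Opens.ext_iff] at h1
    show Disjoint (Set.range _) (Set.range _)
    rw [Set.disjoint_left]
    rintro x ⟨y, rfl⟩ ⟨z, hz⟩
    have hx1 : (X.homOfLE (hle j) ≫ Sigma.ι (fun k => (Up k : Scheme.{u})) j) y ∈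
        ((Sigma.ι (fun k => (Up k : Scheme.{u})) j).opensRange ⊓
          (Sigma.ι (fun k => (Up k : Scheme.{u})) k).opensRange : Opens _) := by
      constructor
      · rw [Scheme.Hom.comp_apply]; exact ⟨_, rfl⟩
      · rw [← hz, Scheme.Hom.comp_apply]; exact ⟨_, rfl⟩
    have : (X.homOfLE (hle j) ≫ Sigma.ι (fun k => (Up k : Scheme.{u})) j) y ∈
        (((⊥ : Opens (∐ fun k => (Up k : Scheme.{u}) : Scheme.{u})) : Set _)) := by
      rw [← h1]; exact hx1
    exact this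
  constructor
  have h1 : terminal.from ((⨆ k, Wp k : X.Opens) : Scheme.{u}) =
      e.hom ≫ Sigma.desc (fun k => X.homOfLE (hle k) ≫
        Sigma.ι (fun k => (Up k : Scheme.{u})) k) ≫ terminal.from _ := by
    apply Subsingleton.elim
  rw [h1]
  infer_instance

end sep

theorem main (X : Scheme.{u}) [CompactSpace X] :
    ∃ V : X.Opens, Dense (V : Set X) ∧ (V : Scheme.{u}).IsSeparated := by
  obtain ⟨n, U, hU, hcov⟩ := exists_fin_affine_cover X
  exact ⟨⨆ k, W U k, dense_iSup_W U hcov,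
    isSeparated_iSup (W U) U (fun j k h => W_disjoint U h) (W_le U) hU⟩

end Groth.Agent.Helper6.SepOpen
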