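import Mathlib
set_option autoImplicit false
open CategoryTheory CategoryTheory.Limits
universe v v' u u'
namespace Groth.Agent.Lib.Helper6.SerreQ

variable {A : Type u} [Category.{v} A] [Abelian A]

/-- if the kernel and cokernel of `s` are killed by integers, `s` has an inverse up to an integer. -/
lemma exists_quasi_inverse {Y Y' : A} (s : Y ⟶ Y') (n₁ n₂ : ℤ)
    (h1 : n₁ • 𝟙 (kernel s) = 0) (h2 : n₂ • 𝟙 (cokernel s) = 0) :
    ∃ t : Y' ⟶ Y, s ≫ t = (n₂ * n₁) • 𝟙 Y := by
  -- step A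
  have hA : (n₂ • 𝟙 Y') ≫ cokernel.π s = 0 := by
    rw [Preadditive.zsmul_comp, Category.id_comp, ← Category.comp_id (cokernel.π s),
      ← Preadditive.comp_zsmul, h2, comp_zero]
  let a : Y' ⟶ Abelian.image s := kernel.lift _ (n₂ • 𝟙 Y') hA
  have ha : a ≫ Abelian.image.ι s = n₂ • 𝟙 Y' := kernel.lift_ι _ _ _
  -- step B
  have hB : kernel.ι s ≫ (n₁ • 𝟙 Y) = 0 := by
    rw [Preadditive.comp_zsmul, Category.comp_id, ← Category.id_comp (kernel.ι s),
      ← Preadditive.zsmul_comp, h1, zero_comp]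
  let b : Abelian.coimage s ⟶ Y := cokernel.desc _ (n₁ • 𝟙 Y) hB
  have hb : Abelian.coimage.π s ≫ b = n₁ • 𝟙 Y := cokernel.π_desc _ _ _
  refine ⟨a ≫ (Abelian.coimageIsoImage s).inv ≫ b, ?_⟩
  have hsa : s ≫ a = n₂ • (Abelian.coimage.π s ≫ (Abelian.coimageIsoImage s).hom) := by
    rw [← cancel_mono (Abelian.image.ι s), Category.assoc, ha, Preadditive.comp_zsmul,
      Category.comp_id, Preadditive.zsmul_comp, Category.assoc]
    congr 1
    exact (Abelian.coimage_image_factorisation s).symm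
  rw [← Category.assoc, hsa, Preadditive.zsmul_comp, Category.assoc, Iso.hom_inv_id_assoc, hb,
    smul_smul]

end Groth.Agent.Lib.Helper6.SerreQ
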