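import Mathlib

open CategoryTheory Opposite

universe w v₁ u₁

namespace Groth.Agent.Helper6.ShfLoc

variable {C : Type u₁} [Category.{v₁} C] (J : GrothendieckTopology C)

/-- a mono of sheaves of types is injective on sections -/
lemma injective_of_mono {D : Type*} [Category D] (K : GrothendieckTopology D)
    {F G : Sheaf K (Type w)} (f : F ⟶ G) [Mono f] (X : Dᵒᵖ) :
    Function.Injective (f.hom.app X) := by
  have h1 : Mono ((sheafToPresheaf K (Type w)).map f) := inferInstance
  have h2 : Mono (((sheafToPresheaf K (Type w)).map f).app X) :=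
    (NatTrans.mono_iff_mono_app _).mp h1 X
  exact (mono_iff_injective _).mp h2

theorem main {F G : Sheaf J (Type w)} (f : F ⟶ G) :
    ((∀ S : C, ∃ R : Sieve S, R ∈ J S ∧ ∀ ⦃T : C⦄ (g : T ⟶ S), R g →
        Mono ((J.overPullback (Type w) T).map f)) → Mono f) ∧
    ((∀ S : C, ∃ R : Sieve S, R ∈ J S ∧ ∀ ⦃T : C⦄ (g : T ⟶ S), R g →
        Epi ((J.overPullback (Type w) T).map f)) → Epi f) := by
  constructor
  · intro h
    apply Sheaf.mono_of_injective
    intro X a b hab
    obtain ⟨R, hR, hmono⟩ := h X.unop
    have hsep := ((isSheaf_iff_isSheaf_of_type _ _).1 F.2).isSeparated _ hR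
    apply hsep.ext
    intro T g hg
    have := hmono g hg
    have hinj := injective_of_mono (J.over T) ((J.overPullback (Type w) T).map f)
      (op (Over.mk (𝟙 T)))
    apply hinj
    show f.hom.app (op T) (F.obj.map g.op a) = f.hom.app (op T) (F.obj.map g.op b)
    have h1 := NatTrans.naturality_apply f.hom g.op a
    have h2 := NatTrans.naturality_apply f.hom g.op b
    rw [h1, h2, hab]
  · intro h
    constructor
    intro Z a b hab
    ext X x
    obtain ⟨R, hR, hepi⟩ := h X.unop
    have hsep := ((isSheaf_iff_isSheaf_of_type _ _).1 Z.2).isSeparated _ hR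
    apply hsep.ext
    intro T g hg
    have := hepi g hg
    have h3 : (J.overPullback (Type w) T).map a = (J.overPullback (Type w) T).map b := by
      rw [← cancel_epi ((J.overPullback (Type w) T).map f), ← Functor.map_comp,
        ← Functor.map_comp, hab]
    have h4 : a.hom.app (op T) = b.hom.app (op T) := by
      have := congrArg (fun m => m.hom.app (op (Over.mk (𝟙 T)))) h3
      exact this
    have h1 := NatTrans.naturality_apply a.hom g.op x
    have h2 := NatTrans.naturality_apply b.hom g.op x
    show Z.obj.map g.op (a.hom.app X x) = Z.obj.map g.op (b.hom.app X x)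
    rw [← h1, ← h2, h4]

end Groth.Agent.Helper6.ShfLoc
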