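import Mathlib

/-! Fixed points of a semilinear endomorphism of a finite module over a local ring with nilpotent
principal maximal ideal are finitely generated over the fixed subring. -/

open IsLocalRing
set_option linter.unusedSectionVars false
set_option autoImplicit false
noncomputable section

namespace Groth.Agent.Lib.Helper6.SigmaFix

universe u v

theorem field_fixed {K : Type u} [Field K] (τ : K →+* K) {V : Type v} [AddCommGroup V] [Module K V]
    [FiniteDimensional K V] (Tb : V →ₛₗ[τ] V) (U : Set V) (hU : ∀ w ∈ U, Tb w = w) :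
    ∃ (r : ℕ) (v : Fin r → V), (∀ i, v i ∈ U) ∧
      ∀ w ∈ U, ∃ a : Fin r → K, (∀ i, τ (a i) = a i) ∧ w = ∑ i, a i • v i := by
  classical
  let P : ℕ → Prop := fun r => ∃ v : Fin r → V, (∀ i, v i ∈ U) ∧ LinearIndependent K v
  have hP0 : P 0 := ⟨Fin.elim0, fun i => i.elim0, linearIndependent_empty_type⟩
  have hbound : ∀ r, P r → r ≤ Module.finrank K V := by
    rintro r ⟨v, _, hv⟩
    simpa using hv.fintype_card_le_finrank
  have hr : P (Nat.findGreatest P (Module.finrank K V)) :=
    Nat.findGreatest_spec (Nat.zero_le _) hP0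
  have hmax : ∀ r', P r' → r' ≤ Nat.findGreatest P (Module.finrank K V) :=
    fun r' h => Nat.le_findGreatest (hbound r' h) h
  obtain ⟨v, hvU, hv⟩ := hr
  refine ⟨_, v, hvU, fun w hw => ?_⟩
  have hmem : w ∈ Submodule.span K (Set.range v) := by
    by_contra hnot
    have h1 : P (Nat.findGreatest P (Module.finrank K V) + 1) :=
      ⟨Fin.cons w v, fun i => by
        refine Fin.cases ?_ (fun j => ?_) i
        · simpa using hw
        · simpa using hvU j, linearIndependent_finCons.2 ⟨hv, hnot⟩⟩
    have := hmax _ h1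
    omega
  obtain ⟨a, ha⟩ := (Submodule.mem_span_range_iff_exists_fun K).1 hmem
  refine ⟨a, fun i => ?_, ha.symm⟩
  have h2 : Tb w = ∑ i, τ (a i) • v i := by
    rw [← ha, map_sum]
    refine Finset.sum_congr rfl fun i _ => ?_
    rw [Tb.map_smulₛₗ, hU _ (hvU i)]
  have h1 : ∑ i, (τ (a i) - a i) • v i = 0 := by
    simp_rw [sub_smul, Finset.sum_sub_distrib]
    rw [← h2, hU w hw, ha, sub_self]
  have := Fintype.linearIndependent_iff.1 hv _ h1 i
  exact sub_eq_zero.1 this

section
variable {R : Type u} [CommRing R] (σ : R →+* R)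

/-- fixed points as a module over the fixed subring -/
def fixSub {M : Type v} [AddCommGroup M] [Module R M] (T : M →ₛₗ[σ] M) :
    Submodule (σ.eqLocus (RingHom.id R)) M where
  carrier := {m | T m = m}
  add_mem' := by
    intro a b ha hb
    show T (a + b) = a + b
    rw [map_add, ha, hb]
  zero_mem' := map_zero T
  smul_mem' := by
    intro c x hx
    show T ((c : R) • x) = (c : R) • x
    rw [T.map_smulₛₗ, hx]
    congr 1
    exact c.2

lemma mem_fixSub {M : Type v} [AddCommGroup M] [Module R M] (T : M →ₛₗ[σ] M) (m : M) :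
    m ∈ fixSub σ T ↔ T m = m := Iff.rfl

variable [IsLocalRing R] (p : ℕ) (hmax : maximalIdeal R = Ideal.span {(p : R)})
  (σbar : ResidueField R →+* ResidueField R)
  (hσbar : ∀ r : R, σbar (residue R r) = residue R (σ r))
  (hlift : ∀ x : ResidueField R, σbar x = x → ∃ r : R, σ r = r ∧ residue R r = x)

/-- module structure of `M/𝔪M` over the residue field -/
@[instance_reducible]
def resMod (M : Type v) [AddCommGroup M] [Module R M] :
    Module (ResidueField R) (M ⧸ maximalIdeal R • (⊤ : Submodule R M)) :=
  inferInstanceAs (Module (R ⧸ maximalIdeal R) (M ⧸ maximalIdeal R • (⊤ : Submodule R M)))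

attribute [local instance] resMod

lemma resMod_smul (M : Type v) [AddCommGroup M] [Module R M] (a : R) (w : M) :
    residue R a • (Submodule.Quotient.mk w : M ⧸ maximalIdeal R • (⊤ : Submodule R M)) =
      Submodule.Quotient.mk (a • w) := rfl

lemma resMod_finite (M : Type v) [AddCommGroup M] [Module R M] [Module.Finite R M] :
    FiniteDimensional (ResidueField R) (M ⧸ maximalIdeal R • (⊤ : Submodule R M)) :=
  inferInstanceAs (Module.Finite (R ⧸ maximalIdeal R) (M ⧸ maximalIdeal R • (⊤ : Submodule R M)))

include hσbar hlift in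
theorem layer (M : Type v) [AddCommGroup M] [Module R M] [Module.Finite R M]
    (T : M →ₛₗ[σ] M) :
    ∃ (r : ℕ) (m : Fin r → M), (∀ i, T (m i) = m i) ∧ ∀ x, T x = x →
      ∃ c : Fin r → R, (∀ i, σ (c i) = c i) ∧
        x - ∑ i, c i • m i ∈ maximalIdeal R • (⊤ : Submodule R M) := by
  have hσ𝔪 : ∀ r ∈ maximalIdeal R, σ r ∈ maximalIdeal R := by
    intro r hr
    have h1 : residue R r = 0 := (residue_eq_zero_iff r).2 hr
    have h2 := hσbar r
    rw [h1, map_zero] at h2
    exact (residue_eq_zero_iff _).1 h2.symm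
  have hNT : maximalIdeal R • (⊤ : Submodule R M) ≤
      (maximalIdeal R • (⊤ : Submodule R M)).comap T := by
    intro x hx
    refine Submodule.smul_induction_on hx ?_ ?_
    · intro r hr m _
      show T (r • m) ∈ maximalIdeal R • (⊤ : Submodule R M)
      rw [T.map_smulₛₗ]
      exact Submodule.smul_mem_smul (hσ𝔪 r hr) Submodule.mem_top
    · intro a b ha hb
      exact Submodule.add_mem _ ha hb
  have hTt : ∀ w : M, (maximalIdeal R • (⊤ : Submodule R M)).mapQ
      (maximalIdeal R • (⊤ : Submodule R M)) T hNT (Submodule.Quotient.mk w) =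
      Submodule.Quotient.mk (T w) := fun w => rfl
  let Tb : (M ⧸ maximalIdeal R • (⊤ : Submodule R M)) →ₛₗ[σbar]
      (M ⧸ maximalIdeal R • (⊤ : Submodule R M)) :=
    { toFun := (maximalIdeal R • (⊤ : Submodule R M)).mapQ
        (maximalIdeal R • (⊤ : Submodule R M)) T hNT
      map_add' := map_add _
      map_smul' := by
        intro a w
        obtain ⟨a, rfl⟩ := residue_surjective a
        obtain ⟨w, rfl⟩ := (maximalIdeal R • (⊤ : Submodule R M)).mkQ_surjective w
        rw [Submodule.mkQ_apply, resMod_smul, hTt, hTt, hσbar, resMod_smul,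
          T.map_smulₛₗ] }
  have hTb : ∀ w : M, Tb (Submodule.Quotient.mk w) = Submodule.Quotient.mk (T w) := fun w => rfl
  haveI := resMod_finite (R := R) M
  obtain ⟨r, v, hvU, hv⟩ := field_fixed σbar Tb
    ((maximalIdeal R • (⊤ : Submodule R M)).mkQ '' {m | T m = m}) (by
      rintro _ ⟨m, hm, rfl⟩
      rw [Submodule.mkQ_apply, hTb, hm])
  choose m hmfix hmv using hvU
  refine ⟨r, m, hmfix, fun x hx => ?_⟩
  obtain ⟨a, hafix, ha⟩ := hv _ ⟨x, hx, rfl⟩
  choose c hcfix hca using fun i => hlift (a i) (hafix i)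
  refine ⟨c, hcfix, ?_⟩
  rw [← Submodule.Quotient.mk_eq_zero, Submodule.Quotient.mk_sub, sub_eq_zero]
  rw [Submodule.mkQ_apply] at ha
  rw [ha, ← Submodule.mkQ_apply, map_sum]
  refine Finset.sum_congr rfl fun i _ => ?_
  rw [← hca i, ← hmv i, Submodule.mkQ_apply, Submodule.mkQ_apply, resMod_smul]

include hmax hσbar hlift in
theorem fg_fix (n : ℕ) : ∀ (M : Type v) [AddCommGroup M] [Module R M] [Module.Finite R M]
    (T : M →ₛₗ[σ] M), (∀ m : M, (p : R) ^ n • m = 0) → (fixSub σ T).FG := by
  induction n with
  | zero =>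
    intro M _ _ _ T h0
    have : fixSub σ T = ⊥ := by
      rw [Submodule.eq_bot_iff]
      intro m _
      have := h0 m
      rwa [pow_zero, one_smul] at this
    rw [this]
    exact Submodule.fg_bot
  | succ n ih =>
    intro M _ _ _ T hn
    -- the submodule `pM`
    have hσp : σ (p : R) = (p : R) := map_natCast σ p
    have hTM' : ∀ x : LinearMap.range (LinearMap.lsmul R M (p : R)),
        T x ∈ LinearMap.range (LinearMap.lsmul R M (p : R)) := by
      rintro ⟨_, y, rfl⟩
      refine ⟨T y, ?_⟩
      show (p : R) • T y = T ((p : R) • y)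
      rw [T.map_smulₛₗ, hσp]
    let T' : LinearMap.range (LinearMap.lsmul R M (p : R)) →ₛₗ[σ]
        LinearMap.range (LinearMap.lsmul R M (p : R)) :=
      { toFun := fun x => ⟨T x, hTM' x⟩
        map_add' := fun x y => Subtype.ext (by simp)
        map_smul' := fun c x => Subtype.ext (by simp) }
    have hn' : ∀ m : LinearMap.range (LinearMap.lsmul R M (p : R)), (p : R) ^ n • m = 0 := by
      rintro ⟨_, y, rfl⟩
      apply Subtype.ext
      show (p : R) ^ n • ((p : R) • y) = 0
      rw [← mul_smul, ← pow_succ]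
      exact hn y
    have hfg' : (fixSub σ T').FG := ih _ T' hn'
    let ι : LinearMap.range (LinearMap.lsmul R M (p : R)) →ₗ[σ.eqLocus (RingHom.id R)] M :=
      ((LinearMap.range (LinearMap.lsmul R M (p : R))).subtype).restrictScalars
        (σ.eqLocus (RingHom.id R))
    have hF1 : ((fixSub σ T').map ι).FG := hfg'.map ι
    have hN : maximalIdeal R • (⊤ : Submodule R M) =
        LinearMap.range (LinearMap.lsmul R M (p : R)) := by
      rw [hmax, Submodule.ideal_span_singleton_smul]
      ext x
      rw [Submodule.mem_smul_pointwise_iff_exists, LinearMap.mem_range]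
      constructor
      · rintro ⟨b, _, rfl⟩
        exact ⟨b, rfl⟩
      · rintro ⟨b, rfl⟩
        exact ⟨b, Submodule.mem_top, rfl⟩
    obtain ⟨r, m, hmfix, hm⟩ := layer σ σbar hσbar hlift M T
    have hsp : (Submodule.span (σ.eqLocus (RingHom.id R)) (Set.range m)).FG :=
      Submodule.fg_span (Set.finite_range m)
    have heq : fixSub σ T =
        Submodule.span (σ.eqLocus (RingHom.id R)) (Set.range m) ⊔ (fixSub σ T').map ι := by
      apply le_antisymm
      · intro x hx
        obtain ⟨c, hcfix, h1⟩ := hm x hx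
        have h3 : T (x - ∑ i, c i • m i) = x - ∑ i, c i • m i := by
          rw [map_sub, map_sum, hx]
          congr 1
          refine Finset.sum_congr rfl fun i _ => ?_
          rw [T.map_smulₛₗ, hcfix i, hmfix i]
        have h4 : ∑ i, c i • m i ∈
            Submodule.span (σ.eqLocus (RingHom.id R)) (Set.range m) := by
          refine Submodule.sum_mem _ fun i _ => ?_
          have : c i • m i = (⟨c i, hcfix i⟩ : σ.eqLocus (RingHom.id R)) • m i := rfl
          rw [this]
          exact Submodule.smul_mem _ _ (Submodule.subset_span ⟨i, rfl⟩)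
        have h5 : x - ∑ i, c i • m i ∈ (fixSub σ T').map ι := by
          rw [hN] at h1
          exact ⟨⟨_, h1⟩, Subtype.ext h3, rfl⟩
        have : x = ∑ i, c i • m i + (x - ∑ i, c i • m i) := by abel
        rw [this]
        exact Submodule.add_mem_sup h4 h5
      · refine sup_le ?_ ?_
        · rw [Submodule.span_le]
          rintro _ ⟨i, rfl⟩
          exact hmfix i
        · rintro _ ⟨y, hy, rfl⟩
          exact congrArg Subtype.val hy
    rw [heq]
    exact hsp.sup hF1

end

end Groth.Agent.Lib.Helper6.SigmaFix
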