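import Mathlib

set_option autoImplicit false
set_option linter.style.haveILetI false
set_option linter.unusedSectionVars false

open Polynomial

namespace Groth.Agent.Lib.Helper6.SmoothModel

/-- A finite separable extension `K` of the fraction field `L₀` of an integrally closed domain
`A₀` is the fraction field of an étale `A₀`-subalgebra of `K`. -/
theorem exists_etale_subalgebra {A₀ L₀ K : Type*} [CommRing A₀] [IsDomain A₀]
    [IsIntegrallyClosed A₀] [Field L₀] [Field K] [Algebra A₀ L₀] [IsFractionRing A₀ L₀]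
    [Algebra A₀ K] [Algebra L₀ K] [IsScalarTower A₀ L₀ K] [FiniteDimensional L₀ K]
    [Algebra.IsSeparable L₀ K] :
    ∃ A : Subalgebra A₀ K, Algebra.Etale A₀ A ∧ IsFractionRing A K := by
  have hinj : Function.Injective (algebraMap A₀ K) := by
    rw [IsScalarTower.algebraMap_eq A₀ L₀ K]
    exact (algebraMap L₀ K).injective.comp (IsFractionRing.injective A₀ L₀)
  haveI : FaithfulSMul A₀ K := (faithfulSMul_iff_algebraMap_injective A₀ K).2 hinj
  -- primitive element
  obtain ⟨θ₀, hθ₀⟩ := Field.exists_primitive_element L₀ K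
  have halg : IsAlgebraic A₀ θ₀ :=
    (IsFractionRing.isAlgebraic_iff A₀ L₀ K).2 (Algebra.IsAlgebraic.isAlgebraic θ₀)
  obtain ⟨c, hc0, hθ⟩ := halg.exists_integral_multiple
  have hcK : algebraMap A₀ K c ≠ 0 := (map_ne_zero_iff _ hinj).2 hc0
  have hθtop : IntermediateField.adjoin L₀ {c • θ₀} = ⊤ := by
    rw [eq_top_iff, ← hθ₀]
    refine IntermediateField.adjoin_simple_le_iff.2 ?_
    have h1 : c • θ₀ ∈ IntermediateField.adjoin L₀ {c • θ₀} :=
      IntermediateField.mem_adjoin_simple_self L₀ _
    have h2 : algebraMap A₀ K c ∈ IntermediateField.adjoin L₀ {c • θ₀} := by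
      rw [IsScalarTower.algebraMap_apply A₀ L₀ K]
      exact IntermediateField.algebraMap_mem _ _
    have h3 : θ₀ = (algebraMap A₀ K c)⁻¹ * (c • θ₀) := by
      rw [Algebra.smul_def, inv_mul_cancel_left₀ hcK]
    have h4 := mul_mem (inv_mem h2) h1
    rwa [← h3] at h4
  generalize c • θ₀ = θ at hθ hθtop
  -- minimal polynomial
  have hminpoly : minpoly L₀ θ = (minpoly A₀ θ).map (algebraMap A₀ L₀) :=
    minpoly.isIntegrallyClosed_eq_field_fractions' L₀ hθ
  have hsep : (minpoly L₀ θ).Separable := Algebra.IsSeparable.isSeparable L₀ θ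
  have hg0 : aeval θ (derivative (minpoly A₀ θ)) ≠ 0 := by
    have h := hsep.aeval_derivative_ne_zero (minpoly.aeval L₀ θ)
    rwa [hminpoly, derivative_map, aeval_map_algebraMap] at h
  -- the standard étale pair
  let P : StandardEtalePair A₀ :=
    ⟨minpoly A₀ θ, minpoly.monic hθ, derivative (minpoly A₀ θ), ⟨1, 0, 1, by simp⟩⟩
  let gE : AdjoinRoot (minpoly A₀ θ) := AdjoinRoot.mk (minpoly A₀ θ) (derivative (minpoly A₀ θ))
  let ev : AdjoinRoot (minpoly A₀ θ) →ₐ[A₀] K :=
    AdjoinRoot.liftAlgHom (minpoly A₀ θ) (Algebra.ofId A₀ K) θ (by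
      show eval₂ (algebraMap A₀ K) θ (minpoly A₀ θ) = 0
      rw [← aeval_def]; exact minpoly.aeval A₀ θ)
  have hevmk : ∀ p : A₀[X], ev (AdjoinRoot.mk (minpoly A₀ θ) p) = aeval θ p := by
    intro p
    simp [ev, AdjoinRoot.liftAlgHom_mk, aeval_def, Algebra.ofId]
  have hevinj : Function.Injective ev := by
    rw [injective_iff_map_eq_zero]
    intro x hx
    obtain ⟨p, rfl⟩ := AdjoinRoot.mk_surjective x
    rw [hevmk] at hx
    rw [AdjoinRoot.mk_eq_zero]
    exact minpoly.isIntegrallyClosed_dvd hθ hx
  have hevg : ev gE = aeval θ (derivative (minpoly A₀ θ)) := hevmk _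
  have hunit : IsUnit (ev gE) := by rw [hevg]; exact IsUnit.mk0 _ hg0
  -- the map from the localization
  have hunits : ∀ y : Submonoid.powers gE, IsUnit (ev y) := by
    rintro ⟨_, n, rfl⟩
    rw [map_pow]
    exact hunit.pow n
  let ψ : Localization.Away gE →ₐ[A₀] K :=
    IsLocalization.liftAlgHom (M := Submonoid.powers gE) (f := ev) hunits
  have hψalg : ∀ x : AdjoinRoot (minpoly A₀ θ),
      ψ (algebraMap _ (Localization.Away gE) x) = ev x := fun x =>
    IsLocalization.lift_eq hunits x
  have hψinj : Function.Injective ψ := by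
    haveI : IsDomain (AdjoinRoot (minpoly A₀ θ)) :=
      hevinj.isDomain (ev : AdjoinRoot (minpoly A₀ θ) →+* K)
    have hgE0 : gE ≠ 0 := by
      intro h
      apply hg0
      rw [← hevg, h, map_zero]
    rw [injective_iff_map_eq_zero]
    intro x hx
    obtain ⟨a, ⟨_, n, rfl⟩, rfl⟩ := IsLocalization.exists_mk'_eq (Submonoid.powers gE) x
    have h1 : ψ (IsLocalization.mk' (Localization.Away gE) a
        (⟨gE ^ n, n, rfl⟩ : Submonoid.powers gE)) * ev (gE ^ n) = ev a := by
      rw [← hψalg (gE ^ n), ← map_mul, ← hψalg a]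
      congr 1
      exact IsLocalization.mk'_spec _ _ _
    rw [hx, zero_mul] at h1
    have ha : a = 0 := hevinj (by rw [← h1, map_zero])
    rw [ha, IsLocalization.mk'_zero]
  refine ⟨ψ.range, ?_, ?_⟩
  · let e1 : Localization.Away gE ≃ₐ[A₀] ψ.range := AlgEquiv.ofInjective ψ hψinj
    let e3 : P.Ring ≃ₐ[A₀] Localization.Away gE := P.equivAwayAdjoinRoot
    exact Algebra.Etale.of_equiv (e3.trans e1)
  · haveI : FaithfulSMul ψ.range K :=
      (faithfulSMul_iff_algebraMap_injective ψ.range K).2 Subtype.val_injective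
    refine IsFractionRing.of_field ψ.range K fun z => ?_
    have hz : z ∈ (IntermediateField.adjoin L₀ {θ}).toSubalgebra := by
      rw [hθtop]; trivial
    have hθL : IsIntegral L₀ θ := hθ.tower_top
    rw [IntermediateField.adjoin_simple_toSubalgebra_of_isAlgebraic hθL.isAlgebraic,
      Algebra.adjoin_singleton_eq_range_aeval] at hz
    obtain ⟨p, rfl⟩ := hz
    obtain ⟨b, hbM, hb⟩ := IsLocalization.integerNormalization_spec (nonZeroDivisors A₀) p
    have hb0 : algebraMap A₀ K b ≠ 0 :=
      (map_ne_zero_iff _ hinj).2 (nonZeroDivisors.ne_zero hbM)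
    have h1 : aeval θ (IsLocalization.integerNormalization (nonZeroDivisors A₀) p) =
        algebraMap A₀ K b * aeval θ p := by
      rw [← aeval_map_algebraMap L₀, hb, ← algebraMap_smul L₀ b p, map_smul, Algebra.smul_def,
        ← IsScalarTower.algebraMap_apply]
    refine ⟨⟨aeval θ (IsLocalization.integerNormalization (nonZeroDivisors A₀) p), ?_⟩,
      ⟨algebraMap A₀ K b, Subalgebra.algebraMap_mem _ _⟩, ?_⟩
    · refine ⟨algebraMap _ (Localization.Away gE) (AdjoinRoot.mk (minpoly A₀ θ)
        (IsLocalization.integerNormalization (nonZeroDivisors A₀) p)), ?_⟩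
      show ψ _ = _
      rw [hψalg, hevmk]
    · show _ = aeval θ (IsLocalization.integerNormalization (nonZeroDivisors A₀) p) /
        algebraMap A₀ K b
      rw [h1, mul_div_cancel_left₀ _ hb0]
      rfl

section General

variable {R F K : Type*} [CommRing R] [IsDomain R] [Field F] [Algebra R F] [IsFractionRing R F]
  [Field K] [Algebra R K] [Algebra F K] [IsScalarTower R F K]

/-- elements of `Algebra.adjoin F S` are quotients of elements of `Algebra.adjoin R S` by
nonzero elements of `R`. -/
theorem exists_div_of_mem_adjoin (S : Set K) {x : K} (hx : x ∈ Algebra.adjoin F S) :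
    ∃ a ∈ Algebra.adjoin R S, ∃ r : R, r ≠ 0 ∧ x = a / algebraMap R K r := by
  have hinj : Function.Injective (algebraMap R K) := by
    rw [IsScalarTower.algebraMap_eq R F K]
    exact (algebraMap F K).injective.comp (IsFractionRing.injective R F)
  induction hx using Algebra.adjoin_induction with
  | mem x hx => exact ⟨x, Algebra.subset_adjoin hx, 1, one_ne_zero, by simp⟩
  | algebraMap f =>
    obtain ⟨a, r, hr, rfl⟩ := IsFractionRing.div_surjective R f
    refine ⟨algebraMap R K a, Subalgebra.algebraMap_mem _ _, r, nonZeroDivisors.ne_zero hr, ?_⟩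
    rw [map_div₀, ← IsScalarTower.algebraMap_apply, ← IsScalarTower.algebraMap_apply]
  | add x y _ _ hx hy =>
    obtain ⟨a, ha, r, hr, rfl⟩ := hx
    obtain ⟨b, hb, u, hu, rfl⟩ := hy
    have hr' : algebraMap R K r ≠ 0 := (map_ne_zero_iff _ hinj).2 hr
    have hu' : algebraMap R K u ≠ 0 := (map_ne_zero_iff _ hinj).2 hu
    refine ⟨a * algebraMap R K u + b * algebraMap R K r, ?_, r * u, mul_ne_zero hr hu, ?_⟩
    · exact Subalgebra.add_mem _ (Subalgebra.mul_mem _ ha (Subalgebra.algebraMap_mem _ _))
        (Subalgebra.mul_mem _ hb (Subalgebra.algebraMap_mem _ _))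
    · rw [map_mul]; field_simp
  | mul x y _ _ hx hy =>
    obtain ⟨a, ha, r, hr, rfl⟩ := hx
    obtain ⟨b, hb, u, hu, rfl⟩ := hy
    refine ⟨a * b, Subalgebra.mul_mem _ ha hb, r * u, mul_ne_zero hr hu, ?_⟩
    rw [map_mul, div_mul_div_comm]

variable (R F) in
theorem adjoin_le_adjoin (S : Set K) :
    Algebra.adjoin R S ≤ (IntermediateField.adjoin F S).toSubalgebra.restrictScalars R :=
  Algebra.adjoin_le (fun _ hx => IntermediateField.subset_adjoin F S hx)

variable (R F) in
/-- the inclusion `Algebra.adjoin R S → IntermediateField.adjoin F S` -/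
def inclAdjoin (S : Set K) : Algebra.adjoin R S →+* IntermediateField.adjoin F S where
  toFun x := ⟨x.1, adjoin_le_adjoin R F S x.2⟩
  map_one' := rfl
  map_mul' _ _ := rfl
  map_zero' := rfl
  map_add' _ _ := rfl

theorem isFractionRing_adjoin (S : Set K) :
    letI : Algebra (Algebra.adjoin R S) (IntermediateField.adjoin F S) :=
      (inclAdjoin R F S).toAlgebra
    IsFractionRing (Algebra.adjoin R S) (IntermediateField.adjoin F S) := by
  letI : Algebra (Algebra.adjoin R S) (IntermediateField.adjoin F S) :=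
    (inclAdjoin R F S).toAlgebra
  have hinj : Function.Injective (algebraMap R K) := by
    rw [IsScalarTower.algebraMap_eq R F K]
    exact (algebraMap F K).injective.comp (IsFractionRing.injective R F)
  haveI : FaithfulSMul (Algebra.adjoin R S) (IntermediateField.adjoin F S) := by
    rw [faithfulSMul_iff_algebraMap_injective]
    intro x y h
    apply Subtype.ext
    exact congrArg (fun z : IntermediateField.adjoin F S => (z : K)) h
  refine IsFractionRing.of_field _ _ fun z => ?_
  obtain ⟨x, hx, y, hy, hz⟩ := IntermediateField.mem_adjoin_iff_div.1 z.2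
  obtain ⟨a, ha, r, hr, rfl⟩ := exists_div_of_mem_adjoin (R := R) S hx
  obtain ⟨b, hb, u, hu, rfl⟩ := exists_div_of_mem_adjoin (R := R) S hy
  refine ⟨⟨a, ha⟩ * algebraMap R _ u, ⟨b, hb⟩ * algebraMap R _ r, ?_⟩
  apply Subtype.ext
  rw [hz, div_div_div_eq, mul_comm (algebraMap R K r) b]
  rfl

theorem exists_smooth_model [UniqueFactorizationMonoid R] [PerfectField F] (s : Finset K)
    (hs : IntermediateField.adjoin F (s : Set K) = ⊤) :
    ∃ A : Subalgebra R K, Algebra.FiniteType R A ∧ Algebra.Smooth R A ∧ IsFractionRing A K := by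
  have hinjRF : Function.Injective (algebraMap R F) := IsFractionRing.injective R F
  haveI : Algebra.EssFiniteType F K := IntermediateField.fg_top_iff.1 ⟨s, hs⟩
  obtain ⟨t, ht, hsep⟩ := exists_isTranscendenceBasis_and_isSeparable_of_perfectField F K
  -- the polynomial subring
  have hrange : Set.range ((↑) : t → K) = (t : Set K) := by ext; simp
  have hai : AlgebraicIndependent R ((↑) : t → K) := ht.1.restrictScalars hinjRF
  let e₀ : MvPolynomial t R ≃ₐ[R] Algebra.adjoin R (t : Set K) :=
    hai.aevalEquiv.trans (Subalgebra.equivOfEq _ _ (congrArg (Algebra.adjoin R) hrange))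
  letI algA₀M : Algebra (Algebra.adjoin R (t : Set K)) (IntermediateField.adjoin F (t : Set K)) :=
    (inclAdjoin R F (t : Set K)).toAlgebra
  haveI : IsFractionRing (Algebra.adjoin R (t : Set K))
      (IntermediateField.adjoin F (t : Set K)) := isFractionRing_adjoin (t : Set K)
  haveI : IsScalarTower (Algebra.adjoin R (t : Set K)) (IntermediateField.adjoin F (t : Set K)) K :=
    IsScalarTower.of_algebraMap_eq fun _ => rfl
  haveI : UniqueFactorizationMonoid (Algebra.adjoin R (t : Set K)) :=
    e₀.toMulEquiv.uniqueFactorizationMonoid inferInstance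
  -- finiteness
  have hsM : IntermediateField.adjoin (IntermediateField.adjoin F (t : Set K)) (s : Set K) = ⊤ := by
    rw [eq_top_iff]
    intro x _
    have hx : x ∈ IntermediateField.adjoin F (s : Set K) := by rw [hs]; trivial
    have hle : IntermediateField.adjoin F (s : Set K) ≤
        (IntermediateField.adjoin (IntermediateField.adjoin F (t : Set K))
          (s : Set K)).restrictScalars F :=
      IntermediateField.adjoin_le_iff.2 (IntermediateField.subset_adjoin _ _)
    exact hle hx
  haveI : FiniteDimensional (IntermediateField.adjoin F (t : Set K)) K := by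
    have h1 : FiniteDimensional (IntermediateField.adjoin F (t : Set K))
        (IntermediateField.adjoin (IntermediateField.adjoin F (t : Set K)) (s : Set K)) :=
      IntermediateField.finiteDimensional_adjoin
        (fun x _ => (Algebra.IsSeparable.isSeparable _ x).isIntegral)
    rw [hsM] at h1
    exact (IntermediateField.topEquiv (F := IntermediateField.adjoin F (t : Set K))
      (E := K)).toLinearEquiv.finiteDimensional
  obtain ⟨A, hAet, hAfrac⟩ := exists_etale_subalgebra (A₀ := Algebra.adjoin R (t : Set K))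
    (L₀ := IntermediateField.adjoin F (t : Set K)) (K := K)
  -- smoothness over R
  haveI : Algebra.Smooth R (MvPolynomial t R) := ⟨inferInstance, inferInstance⟩
  haveI hsm₀ : Algebra.Smooth R (Algebra.adjoin R (t : Set K)) := Algebra.Smooth.of_equiv e₀
  haveI hsm₁ : Algebra.Smooth (Algebra.adjoin R (t : Set K)) A := ⟨inferInstance, inferInstance⟩
  have hsm : Algebra.Smooth R A := Algebra.Smooth.comp R (Algebra.adjoin R (t : Set K)) A
  have hft : Algebra.FiniteType R A := inferInstance
  let eR : A ≃ₐ[R] (A.restrictScalars R) :=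
    { toFun := fun x => ⟨x.1, x.2⟩
      invFun := fun x => ⟨x.1, x.2⟩
      left_inv := fun _ => rfl
      right_inv := fun _ => rfl
      map_mul' := fun _ _ => rfl
      map_add' := fun _ _ => rfl
      commutes' := fun _ => rfl }
  refine ⟨A.restrictScalars R, Algebra.FiniteType.equiv hft eR, Algebra.Smooth.of_equiv eR, ?_⟩
  exact hAfrac

end General

end Groth.Agent.Lib.Helper6.SmoothModel
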