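import Mathlib

/-! Spectral spaces as directed limits of finite T0 spaces (helper6). -/

set_option autoImplicit false
universe u
open CategoryTheory CategoryTheory.Limits TopologicalSpace Opposite Topology

namespace Groth.Agent.Lib.Helper6.SpecLim

variable (X : Type u) [TopologicalSpace X]

/-- compact opens -/
abbrev CO := {U : Set X // IsOpen U ∧ IsCompact U}

/-- signature map -/
def sig (j : Finset (CO X)) (x : X) : (↥j → Prop) := fun i => x ∈ i.1.1

theorem continuous_sig (j : Finset (CO X)) : Continuous (sig X j) := by
  refine continuous_pi fun i => ?_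
  exact continuous_Prop.2 i.1.2.1

abbrev Fobj (j : Finset (CO X)) : Type u := Set.range (sig X j)

def res {j j' : Finset (CO X)} (h : j' ≤ j) (g : ↥j → Prop) : ↥j' → Prop :=
  fun i => g ⟨i.1, h i.2⟩

theorem res_sig {j j' : Finset (CO X)} (h : j' ≤ j) (x : X) :
    res X h (sig X j x) = sig X j' x := rfl

def Fmap {j j' : Finset (CO X)} (h : j' ≤ j) : C(Fobj X j, Fobj X j') :=
  ⟨fun g => ⟨res X h g.1, by obtain ⟨x, hx⟩ := g.2; exact ⟨x, by rw [← hx]; rfl⟩⟩, by
    refine Continuous.subtype_mk ?_ _
    refine continuous_pi fun i => ?_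
    exact (continuous_apply _).comp continuous_subtype_val⟩

def F : (Finset (CO X))ᵒᵖ ⥤ TopCat.{u} where
  obj j := TopCat.of (Fobj X j.unop)
  map {j j'} f := TopCat.ofHom (Fmap X (leOfHom f.unop))
  map_id j := by ext; rfl
  map_comp f g := by ext; rfl

def cone : Cone (F X) where
  pt := TopCat.of X
  π :=
    { app := fun j => TopCat.ofHom
        ⟨fun x => ⟨sig X j.unop x, x, rfl⟩, (continuous_sig X _).subtype_mk _⟩
      naturality := by intros; ext; rfl }


variable {X}

theorem constructible_compact [SpectralSpace X] : @CompactSpace X (constructibleTopology X) :=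
  @Function.Surjective.compactSpace (WithConstructibleTopology X) X _ (constructibleTopology X) _
    (WithTopology.continuous_ofTopology _) inferInstance (WithTopology.ofTopology_surjective _)

theorem exists_mem_of_directed [SpectralSpace X] {ι : Type*} [Nonempty ι] (t : ι → Set X)
    (htd : Directed (· ⊇ ·) t) (htn : ∀ i, (t i).Nonempty)
    (htc : ∀ i, IsClosed[constructibleTopology X] (t i)) : (⋂ i, t i).Nonempty := by
  have hc : @CompactSpace X (constructibleTopology X) := constructible_compact
  exact @IsCompact.nonempty_iInter_of_directed_nonempty_isCompact_isClosed X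
    (constructibleTopology X) ι _ t htd htn
    (fun i => @IsClosed.isCompact X (constructibleTopology X) _ hc (htc i)) htc

theorem isClosed_fiber (j : Finset (CO X)) (y : ↥j → Prop) :
    IsClosed[constructibleTopology X] {x | sig X j x = y} := by
  have : {x | sig X j x = y} = ⋂ i : ↥j, {x | (x ∈ i.1.1) = y i} := by
    ext x
    simp only [Set.mem_ofPred_eq, Set.mem_iInter]
    constructor
    · intro h i; rw [← h]; rfl
    · intro h; funext i; exact h i
  rw [this]
  refine @isClosed_iInter X _ (constructibleTopology X) _ fun i => ?_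
  by_cases hy : y i
  · have : {x | (x ∈ i.1.1) = y i} = i.1.1 := by
      ext x; simp [hy]
    rw [this]
    rw [← @isOpen_compl_iff X _ (constructibleTopology X)]
    apply IsCompact.isOpen_constructibleTopology_of_isClosed
    · rw [compl_compl]; exact i.1.2.2
    · exact i.1.2.1.isClosed_compl
  · have : {x | (x ∈ i.1.1) = y i} = i.1.1ᶜ := by
      ext x; simp [hy]
    rw [this]
    rw [@isClosed_compl_iff X (constructibleTopology X)]
    exact i.1.2.2.isOpen_constructibleTopology_of_isOpen i.1.2.1


theorem cone_compat (s : Cone (F X)) (t : s.pt) {j j' : Finset (CO X)} (h : j' ≤ j) :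
    res X h (s.π.app (op j) t).1 = (s.π.app (op j') t).1 := by
  have := s.w (homOfLE h).op
  rw [← this]
  rfl

theorem exists_point [SpectralSpace X] (s : Cone (F X)) (t : s.pt) :
    ∃ x : X, ∀ j : Finset (CO X), sig X j x = (s.π.app (op j) t).1 := by
  classical
  have := exists_mem_of_directed (X := X) (ι := Finset (CO X))
    (fun j => {x | sig X j x = (s.π.app (op j) t).1}) ?_ ?_ ?_
  · obtain ⟨x, hx⟩ := this
    exact ⟨x, fun j => Set.mem_iInter.1 hx j⟩
  · intro j j'
    refine ⟨j ∪ j', ?_, ?_⟩
    · intro x hx
      have hx' : sig X (j ∪ j') x = _ := hx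
      show sig X j x = _
      rw [← cone_compat s t (Finset.subset_union_left : j ≤ j ∪ j'), ← hx']
      rfl
    · intro x hx
      have hx' : sig X (j ∪ j') x = _ := hx
      show sig X j' x = _
      rw [← cone_compat s t (Finset.subset_union_right : j' ≤ j ∪ j'), ← hx']
      rfl
  · intro j
    obtain ⟨x, hx⟩ := (s.π.app (op j) t).2
    exact ⟨x, hx⟩
  · intro j
    exact isClosed_fiber j _

theorem point_unique [SpectralSpace X] {x x' : X}
    (h : ∀ j : Finset (CO X), sig X j x = sig X j x') : x = x' := by
  apply Inseparable.eq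
  rw [(PrespectralSpace.isTopologicalBasis (X := X)).inseparable_iff]
  intro U hU
  have := congrFun (h {⟨U, hU⟩}) ⟨⟨U, hU⟩, Finset.mem_singleton_self _⟩
  exact iff_of_eq this


/-- the lifted point -/
noncomputable def liftFun [SpectralSpace X] (s : Cone (F X)) (t : s.pt) : X :=
  (exists_point s t).choose

theorem liftFun_spec [SpectralSpace X] (s : Cone (F X)) (t : s.pt) (j : Finset (CO X)) :
    sig X j (liftFun s t) = (s.π.app (op j) t).1 :=
  (exists_point s t).choose_spec j

theorem continuous_liftFun [SpectralSpace X] (s : Cone (F X)) : Continuous (liftFun s) := by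
  rw [(PrespectralSpace.isTopologicalBasis (X := X)).continuous_iff]
  intro U hU
  have h1 : liftFun s ⁻¹' U =
      (fun t => (s.π.app (op {⟨U, hU⟩}) t).1 ⟨⟨U, hU⟩, Finset.mem_singleton_self _⟩) ⁻¹' {True} := by
    ext t
    simp only [Set.mem_preimage, Set.mem_singleton_iff, eq_iff_iff, iff_true]
    rw [← liftFun_spec s t {⟨U, hU⟩}]
    rfl
  rw [h1]
  refine IsOpen.preimage ?_ isOpen_singleton_true
  exact (continuous_apply _).comp (continuous_subtype_val.comp (s.π.app (op {⟨U, hU⟩})).hom.continuous)

noncomputable def isLimitCone [SpectralSpace X] : IsLimit (cone X) where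
  lift s := TopCat.ofHom ⟨liftFun s, continuous_liftFun s⟩
  fac s j := by
    ext t
    apply Subtype.ext
    exact liftFun_spec s t j.unop
  uniq s m hm := by
    ext t
    refine point_unique (X := X) fun j => ?_
    refine Eq.trans ?_ (liftFun_spec s t j).symm
    have := congrArg (fun f => (f t).1) (hm (op j))
    exact this

instance finite_Fobj (j : Finset (CO X)) : Finite (Fobj X j) := by
  classical
  exact Subtype.finite

instance t0_Fobj (j : Finset (CO X)) : T0Space (Fobj X j) := inferInstance

theorem quasiSober_of_finite (Y : Type*) [TopologicalSpace Y] [Finite Y] : QuasiSober Y := by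
  constructor
  intro S hS hcl
  have hfin : S.Finite := Set.toFinite S
  have hcov : S ⊆ ⋃ x ∈ S, closure {x} := fun x hx =>
    Set.mem_biUnion hx (subset_closure rfl)
  classical
  obtain ⟨z, hz, hSz⟩ := (isIrreducible_iff_sUnion_isClosed.1 hS)
    (hfin.toFinset.image fun x => closure {x})
    (by intro z hz; simp only [Finset.mem_image] at hz; obtain ⟨x, _, rfl⟩ := hz; exact isClosed_closure)
    (by
      intro y hy
      simp only [Finset.coe_image, Set.sUnion_image, Set.mem_iUnion]
      exact ⟨y, by simpa using hy, subset_closure rfl⟩)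
  simp only [Finset.mem_image, Set.Finite.mem_toFinset] at hz
  obtain ⟨x, hxS, rfl⟩ := hz
  refine ⟨x, ?_⟩
  show closure {x} = S
  exact le_antisymm (hcl.closure_subset_iff.2 (Set.singleton_subset_iff.2 hxS)) hSz

end Groth.Agent.Lib.Helper6.SpecLim
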