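import Mathlib

/-! Hilbert function of the Stanley–Reisner ring of a finite poset (chains). -/

namespace Groth.Agent.Lib.Helper6.StanleyReisner

open MvPolynomial

variable (K : Type*) [Field K] (L : Type*) [PartialOrder L]

/-- generators (as exponent vectors) -/
def gens : Set (L →₀ ℕ) :=
  {s | ∃ a b : L, ¬ a ≤ b ∧ ¬ b ≤ a ∧ s = Finsupp.single a 1 + Finsupp.single b 1}

/-- Stanley–Reisner ideal -/
noncomputable def srI : Ideal (MvPolynomial L K) :=
  Ideal.span {f | ∃ a b : L, ¬ a ≤ b ∧ ¬ b ≤ a ∧ f = X a * X b}

lemma srI_eq : srI K L = Ideal.span ((fun s => monomial s (1 : K)) '' gens L) := by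
  unfold srI gens
  congr 1
  ext f
  constructor
  · rintro ⟨a, b, h1, h2, rfl⟩
    refine ⟨_, ⟨a, b, h1, h2, rfl⟩, ?_⟩
    simp [X, monomial_mul]
  · rintro ⟨s, ⟨a, b, h1, h2, rfl⟩, rfl⟩
    refine ⟨a, b, h1, h2, ?_⟩
    simp [X, monomial_mul]

variable {L}

lemma exists_gen_le_iff (u : L →₀ ℕ) :
    (∃ s ∈ gens L, s ≤ u) ↔ ¬ IsChain (fun a b : L => a ≤ b) (u.support : Set L) := by
  classical
  constructor
  · rintro ⟨s, ⟨a, b, h1, h2, rfl⟩, hle⟩ hc
    have hab : a ≠ b := by
      rintro rfl
      exact h1 le_rfl
    have ha : a ∈ u.support := by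
      have := hle a
      simp only [Finsupp.coe_add, Pi.add_apply, Finsupp.single_eq_same] at this
      rw [Finsupp.mem_support_iff]
      omega
    have hb : b ∈ u.support := by
      have := hle b
      simp only [Finsupp.coe_add, Pi.add_apply, Finsupp.single_eq_same] at this
      rw [Finsupp.mem_support_iff]
      omega
    rcases hc (Finset.mem_coe.2 ha) (Finset.mem_coe.2 hb) hab with h | h
    · exact h1 h
    · exact h2 h
  · intro hc
    unfold IsChain Set.Pairwise at hc
    push Not at hc
    obtain ⟨a, ha, b, hb, hab, h1, h2⟩ := hc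
    refine ⟨_, ⟨a, b, h1, h2, rfl⟩, ?_⟩
    intro c
    simp only [Finsupp.coe_add, Pi.add_apply]
    have ha' : u a ≠ 0 := Finsupp.mem_support_iff.1 (Finset.mem_coe.1 ha)
    have hb' : u b ≠ 0 := Finsupp.mem_support_iff.1 (Finset.mem_coe.1 hb)
    by_cases hca : c = a
    · subst hca
      rw [Finsupp.single_eq_same, Finsupp.single_eq_of_ne hab]
      omega
    · by_cases hcb : c = b
      · subst hcb
        rw [Finsupp.single_eq_same, Finsupp.single_eq_of_ne hca]
        omega
      · rw [Finsupp.single_eq_of_ne hca, Finsupp.single_eq_of_ne hcb]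
        omega

variable (L) in
lemma mem_srI {p : MvPolynomial L K} :
    p ∈ srI K L ↔ ∀ u ∈ p.support, ¬ IsChain (fun a b : L => a ≤ b) (u.support : Set L) := by
  rw [srI_eq, mem_ideal_span_monomial_image]
  exact forall₂_congr fun u _ => exists_gen_le_iff u


variable [Fintype L]

open Classical in
/-- chain monomials of degree `m` -/
noncomputable def T (L : Type*) [PartialOrder L] [Fintype L] (m : ℕ) : Finset (L →₀ ℕ) :=
  ((Finset.univ : Finset L).finsuppAntidiag m).filter
    (fun s => IsChain (fun a b : L => a ≤ b) (s.support : Set L))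

lemma mem_T {m : ℕ} {s : L →₀ ℕ} :
    s ∈ T L m ↔ s.degree = m ∧ IsChain (fun a b : L => a ≤ b) (s.support : Set L) := by
  classical
  simp [T, Finset.mem_finsuppAntidiag, Finsupp.degree_eq_sum]

/-- the family of classes of chain monomials -/
noncomputable def v (m : ℕ) : T L m → MvPolynomial L K ⧸ srI K L :=
  fun s => Ideal.Quotient.mk _ (monomial s.1 1)

lemma v_li (m : ℕ) : LinearIndependent K (v K (L := L) m) := by
  classical
  rw [Fintype.linearIndependent_iff]
  intro g hg
  set p : MvPolynomial L K := ∑ i : T L m, monomial i.1 (g i) with hp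
  have h1 : ∑ i, g i • v K m i = Ideal.Quotient.mk (srI K L) p := by
    rw [hp, map_sum]
    refine Finset.sum_congr rfl fun i _ => ?_
    unfold v
    rw [← Ideal.Quotient.mkₐ_eq_mk K, ← map_smul, smul_monomial, smul_eq_mul, mul_one]
  rw [h1, Ideal.Quotient.eq_zero_iff_mem, mem_srI] at hg
  have hc : ∀ u, coeff u p = ∑ i : T L m, if i.1 = u then g i else 0 := by
    intro u
    rw [hp, coeff_sum]
    refine Finset.sum_congr rfl fun i _ => ?_
    rw [coeff_monomial]
  have hp0 : p = 0 := by
    rw [← support_eq_empty]
    by_contra hne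
    obtain ⟨u, hu⟩ := Finset.nonempty_iff_ne_empty.2 hne
    have h2 := hg u hu
    rw [mem_support_iff, hc] at hu
    obtain ⟨i, _, hi⟩ := Finset.exists_ne_zero_of_sum_ne_zero hu
    have : i.1 = u := by
      by_contra h
      exact hi (if_neg h)
    rw [← this] at h2
    exact h2 (mem_T.1 i.2).2
  intro j
  have := hc j.1
  rw [hp0, coeff_zero] at this
  rw [Finset.sum_eq_single j] at this
  · simpa using this.symm
  · intro b _ hb
    rw [if_neg]
    intro h
    exact hb (Subtype.ext h)
  · intro h
    exact absurd (Finset.mem_univ j) h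

lemma span_v (m : ℕ) :
    Submodule.span K (Set.range (v K (L := L) m)) =
      (homogeneousSubmodule L K m).map (Ideal.Quotient.mkₐ K (srI K L)).toLinearMap := by
  classical
  apply le_antisymm
  · rw [Submodule.span_le]
    rintro _ ⟨s, rfl⟩
    refine ⟨monomial s.1 1, ?_, rfl⟩
    exact isHomogeneous_monomial _ (mem_T.1 s.2).1
  · rintro _ ⟨p, hp, rfl⟩
    have hp' : p.IsHomogeneous m := hp
    rw [← support_sum_monomial_coeff p, map_sum]
    refine Submodule.sum_mem _ fun u hu => ?_
    by_cases hch : IsChain (fun a b : L => a ≤ b) (u.support : Set L)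
    · have hu' : u ∈ T L m := mem_T.2 ⟨by
        have := hp' (mem_support_iff.1 hu)
        rw [Finsupp.degree_eq_weight_one]; exact this, hch⟩
      have : (Ideal.Quotient.mkₐ K (srI K L)).toLinearMap (monomial u (coeff u p)) =
          coeff u p • v K m ⟨u, hu'⟩ := by
        unfold v
        rw [← Ideal.Quotient.mkₐ_eq_mk K, ← map_smul, smul_monomial, smul_eq_mul, mul_one]
        rfl
      rw [this]
      exact Submodule.smul_mem _ _ (Submodule.subset_span ⟨_, rfl⟩)
    · have : (Ideal.Quotient.mkₐ K (srI K L)).toLinearMap (monomial u (coeff u p)) = 0 := by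
        show Ideal.Quotient.mk _ _ = 0
        rw [Ideal.Quotient.eq_zero_iff_mem, mem_srI]
        intro w hw
        have := support_monomial_subset hw
        rw [Finset.mem_singleton] at this
        rw [this]
        exact hch
      rw [this]
      exact Submodule.zero_mem _

lemma finrank_eq_card (m : ℕ) :
    Module.finrank K ((homogeneousSubmodule L K m).map
      (Ideal.Quotient.mkₐ K (srI K L)).toLinearMap) = (T L m).card := by
  rw [← span_v, finrank_span_eq_card (v_li K m), Fintype.card_coe]


open Classical in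
lemma mem_anti {s : Finset L} {n : ℕ} {f : L →₀ ℕ} :
    f ∈ s.finsuppAntidiag n ↔ f.degree = n ∧ f.support ⊆ s :=
  Finset.mem_finsuppAntidiag'

open Classical in
/-- the indicator of `C` as a finsupp -/
noncomputable def ind (C : Finset L) : L →₀ ℕ :=
  Finsupp.onFinset C (fun c => if c ∈ C then 1 else 0) (by
    intro a ha
    by_contra h
    exact ha (if_neg h))

lemma ind_apply_mem {C : Finset L} {c : L} (h : c ∈ C) : ind C c = 1 := by
  classical
  simp [ind, h]

lemma ind_apply_not_mem {C : Finset L} {c : L} (h : c ∉ C) : ind C c = 0 := by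
  classical
  simp [ind, h]

lemma support_ind (C : Finset L) : (ind C).support = C := by
  classical
  ext c
  by_cases h : c ∈ C
  · simp [ind_apply_mem h, h]
  · simp [ind_apply_not_mem h, h]

lemma degree_ind (C : Finset L) : (ind C).degree = C.card := by
  classical
  rw [Finsupp.degree_apply, support_ind, Finset.card_eq_sum_ones]
  exact Finset.sum_congr rfl fun c hc => ind_apply_mem hc

lemma ind_le {C : Finset L} {s : L →₀ ℕ} (hs : s.support = C) : ind C ≤ s := by
  intro c
  by_cases h : c ∈ C
  · rw [ind_apply_mem h]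
    rw [← hs, Finsupp.mem_support_iff] at h
    omega
  · rw [ind_apply_not_mem h]
    exact Nat.zero_le _

open Classical in
lemma card_fiber (C : Finset L) (hC : C.Nonempty) (m : ℕ) (hm : 1 ≤ m) :
    (((Finset.univ : Finset L).finsuppAntidiag m).filter (fun s => s.support = C)).card =
      Nat.choose (m - 1) (C.card - 1) := by
  have hC1 : 1 ≤ C.card := Finset.card_pos.2 hC
  by_cases hmC : C.card ≤ m
  · have h1 : (((Finset.univ : Finset L).finsuppAntidiag m).filter
        (fun s => s.support = C)).card = (C.finsuppAntidiag (m - C.card)).card := by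
      refine Finset.card_nbij' (fun s => s - ind C) (fun t => t + ind C) ?_ ?_ ?_ ?_
      · intro s hs
        rw [Finset.mem_coe, Finset.mem_filter, mem_anti] at hs
        obtain ⟨⟨hdeg, -⟩, hsupp⟩ := hs
        rw [Finset.mem_coe, mem_anti]
        beta_reduce
        have hle := ind_le hsupp
        have hadd : s - ind C + ind C = s := tsub_add_cancel_of_le hle
        constructor
        · have := congrArg Finsupp.degree hadd
          rw [map_add, degree_ind, hdeg] at this
          omega
        · intro c hc
          rw [Finsupp.mem_support_iff, Finsupp.tsub_apply] at hc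
          rw [← hsupp, Finsupp.mem_support_iff]
          omega
      · intro t ht
        rw [Finset.mem_coe, mem_anti] at ht
        obtain ⟨hdeg, hsupp⟩ := ht
        rw [Finset.mem_coe, Finset.mem_filter, mem_anti]
        beta_reduce
        refine ⟨⟨?_, Finset.subset_univ _⟩, ?_⟩
        · rw [map_add, degree_ind, hdeg]
          omega
        · ext c
          rw [Finsupp.mem_support_iff, Finsupp.add_apply]
          by_cases h : c ∈ C
          · rw [ind_apply_mem h]
            simp [h]
          · rw [ind_apply_not_mem h]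
            have : t c = 0 := by
              by_contra h0
              exact h (hsupp (Finsupp.mem_support_iff.2 h0))
            simp [h, this]
      · intro s hs
        rw [Finset.mem_coe, Finset.mem_filter] at hs
        exact tsub_add_cancel_of_le (ind_le hs.2)
      · intro t _
        exact add_tsub_cancel_right _ _
    rw [h1, Finset.card_finsuppAntidiag_nat_eq_choose]
    have h2 : C.card + (m - C.card) - 1 = m - 1 := by omega
    rw [h2]
    apply Nat.choose_symm_of_eq_add
    omega
  · push Not at hmC
    rw [Nat.choose_eq_zero_of_lt (by omega), Finset.card_eq_zero, Finset.filter_eq_empty_iff]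
    intro s hs hsupp
    rw [mem_anti] at hs
    have hle := ind_le hsupp
    have := Finsupp.degree_mono hle
    rw [degree_ind, hs.1] at this
    omega


open Classical in
lemma card_T (m : ℕ) (hm : 1 ≤ m) :
    (T L m).card =
      ∑ᶠ C : {C : Finset L // C.Nonempty ∧ IsChain (fun a b : L => a ≤ b) (↑C : Set L)},
        Nat.choose (m - 1) (C.1.card - 1) := by
  haveI : Fintype {C : Finset L // C.Nonempty ∧ IsChain (fun a b : L => a ≤ b) (↑C : Set L)} :=
    Fintype.ofFinite _
  rw [finsum_eq_sum_of_fintype]
  have H : ∀ s ∈ T L m, s.support ∈ (Finset.univ : Finset (Finset L)).filter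
      (fun C : Finset L => C.Nonempty ∧ IsChain (fun a b : L => a ≤ b) (↑C : Set L)) := by
    intro s hs
    rw [mem_T] at hs
    rw [Finset.mem_filter]
    refine ⟨Finset.mem_univ _, ?_, hs.2⟩
    rw [Finset.nonempty_iff_ne_empty, Ne, Finsupp.support_eq_empty]
    rintro rfl
    rw [map_zero] at hs
    omega
  rw [Finset.card_eq_sum_card_fiberwise H]
  rw [Finset.sum_subtype (p := fun C : Finset L =>
    C.Nonempty ∧ IsChain (fun a b : L => a ≤ b) (↑C : Set L)) _ (by
      intro C; simp)]
  refine Finset.sum_congr rfl fun C _ => ?_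
  rw [← card_fiber C.1 C.2.1 m hm]
  congr 1
  ext s
  simp only [Finset.mem_filter, T]
  constructor
  · rintro ⟨⟨h1, _⟩, h3⟩
    exact ⟨h1, h3⟩
  · rintro ⟨h1, h3⟩
    refine ⟨⟨h1, ?_⟩, h3⟩
    rw [h3]
    exact C.2.2

theorem main (K : Type*) [Field K] (L : Type*) [PartialOrder L] [Fintype L] (m : ℕ)
    (hm : 1 ≤ m) :
    Module.finrank K ((MvPolynomial.homogeneousSubmodule L K m).map
        (Ideal.Quotient.mkₐ K (Ideal.span {f : MvPolynomial L K | ∃ a b : L, ¬ a ≤ b ∧ ¬ b ≤ a ∧
          f = MvPolynomial.X a * MvPolynomial.X b})).toLinearMap) =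
      ∑ᶠ C : {C : Finset L // C.Nonempty ∧ IsChain (fun a b : L => a ≤ b) (↑C : Set L)},
        Nat.choose (m - 1) (C.1.card - 1) := by
  rw [← card_T m hm]
  exact finrank_eq_card K m

end Groth.Agent.Lib.Helper6.StanleyReisner
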