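import Mathlib

universe u

open TensorProduct

namespace Groth.Agent.Helper6.SymOmega

variable (A : Type u) [CommRing A] (M : Type u) [AddCommGroup M] [Module A M]

/-- the linear map `m ↦ (ι m, 1 ⊗ m)` -/
noncomputable def gen : M →ₗ[A] TrivSqZeroExt (SymmetricAlgebra A M) ((SymmetricAlgebra A M) ⊗[A] M) :=
  (TrivSqZeroExt.inlAlgHom A (SymmetricAlgebra A M) ((SymmetricAlgebra A M) ⊗[A] M)).toLinearMap ∘ₗ
      SymmetricAlgebra.ι A M +
    ((TrivSqZeroExt.inrHom (SymmetricAlgebra A M) ((SymmetricAlgebra A M) ⊗[A] M)).restrictScalars A) ∘ₗ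
      (TensorProduct.mk A (SymmetricAlgebra A M) M 1)

lemma gen_apply (m : M) : gen A M m =
    TrivSqZeroExt.inl (SymmetricAlgebra.ι A M m) + TrivSqZeroExt.inr ((1 : SymmetricAlgebra A M) ⊗ₜ[A] m) :=
  rfl

noncomputable def phi : SymmetricAlgebra A M →ₐ[A]
    TrivSqZeroExt (SymmetricAlgebra A M) ((SymmetricAlgebra A M) ⊗[A] M) :=
  SymmetricAlgebra.lift (gen A M)

lemma fst_phi (x : SymmetricAlgebra A M) : (phi A M x).fst = x := by
  have : (TrivSqZeroExt.fstHom A (SymmetricAlgebra A M) ((SymmetricAlgebra A M) ⊗[A] M)).comp (phi A M)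
      = AlgHom.id A _ := by
    apply SymmetricAlgebra.algHom_ext
    ext m
    simp [phi, gen_apply]
  exact congrArg (fun f => f x) this

noncomputable def der : Derivation A (SymmetricAlgebra A M) ((SymmetricAlgebra A M) ⊗[A] M) where
  toLinearMap := ((TrivSqZeroExt.sndHom (SymmetricAlgebra A M)
    ((SymmetricAlgebra A M) ⊗[A] M)).restrictScalars A) ∘ₗ (phi A M).toLinearMap
  map_one_eq_zero' := by
    simp
  leibniz' := by
    intro a b
    simp only [LinearMap.coe_comp, LinearMap.coe_restrictScalars, Function.comp_apply,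
      AlgHom.toLinearMap_apply, map_mul, TrivSqZeroExt.sndHom_apply, TrivSqZeroExt.snd_mul,
      fst_phi, op_smul_eq_smul]

lemma der_ι (m : M) : der A M (SymmetricAlgebra.ι A M m) = (1 : SymmetricAlgebra A M) ⊗ₜ[A] m := by
  show (phi A M (SymmetricAlgebra.ι A M m)).snd = _
  simp [phi, gen_apply]

/-- the comparison map -/
noncomputable def L : (SymmetricAlgebra A M) ⊗[A] M →ₗ[SymmetricAlgebra A M] Ω[SymmetricAlgebra A M⁄A] :=
  LinearMap.liftBaseChange (SymmetricAlgebra A M)
      ((KaehlerDifferential.D A (SymmetricAlgebra A M)).toLinearMap.restrictScalars A ∘ₗ SymmetricAlgebra.ι A M)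

theorem main : Function.Bijective (L A M) := by
  have hleft : ∀ z, (der A M).liftKaehlerDifferential (L A M z) = z := by
    intro z
    induction z using TensorProduct.induction_on with
    | zero => simp
    | tmul c m =>
      simp only [L, LinearMap.liftBaseChange_tmul, LinearMap.coe_comp, LinearMap.coe_restrictScalars,
        Function.comp_apply, map_smul, Derivation.coeFn_coe, Derivation.liftKaehlerDifferential_comp_D,
        der_ι]
      rw [TensorProduct.smul_tmul', smul_eq_mul, mul_one]
    | add x y hx hy => rw [map_add, map_add, hx, hy]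
  have hD : (L A M).compDer (der A M) = KaehlerDifferential.D A (SymmetricAlgebra A M) := by
    ext x
    induction x using SymmetricAlgebra.induction with
    | algebraMap r => simp
    | ι m =>
      show (L A M) (der A M (SymmetricAlgebra.ι A M m)) = _
      rw [der_ι]
      simp [L]
    | mul a b ha hb => rw [Derivation.leibniz, Derivation.leibniz, ha, hb]
    | add a b ha hb => rw [map_add, map_add, ha, hb]
  constructor
  · intro x y hxy
    rw [← hleft x, ← hleft y, hxy]
  · intro ω
    have hω : ω ∈ Submodule.span (SymmetricAlgebra A M)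
        (Set.range (KaehlerDifferential.D A (SymmetricAlgebra A M))) := by
      rw [KaehlerDifferential.span_range_derivation]; trivial
    induction hω using Submodule.span_induction with
    | mem ω h =>
      obtain ⟨x, rfl⟩ := h
      exact ⟨der A M x, by rw [← hD]; rfl⟩
    | zero => exact ⟨0, map_zero _⟩
    | add a b _ _ ha hb =>
      obtain ⟨a', rfl⟩ := ha
      obtain ⟨b', rfl⟩ := hb
      exact ⟨a' + b', map_add _ _ _⟩
    | smul c a _ ha =>
      obtain ⟨a', rfl⟩ := ha
      exact ⟨c • a', map_smul _ _ _⟩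

end Groth.Agent.Helper6.SymOmega
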