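import Mathlib

/-!
Wild and tame inertia for a group acting on a ring with a stable maximal ideal (helper6).
Generic lemmas: the wild inertia group `P = D ⊓ inertia(m²)` is normal in `D`, contained in `I`,
and contains no nontrivial element of order prime to the residue characteristic.
-/

open scoped Pointwise

namespace Groth.Agent.Lib.Helper6.TameInertia

section Generic

variable {G B : Type*} [Group G] [CommRing B] [MulSemiringAction G B] (m : Ideal B)

lemma smul_pow_eq {σ : G} (hσ : σ ∈ MulAction.stabilizer G m) (i : ℕ) : σ • (m ^ i) = m ^ i := by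
  rw [Ideal.pointwise_smul_def, Ideal.map_pow, ← Ideal.pointwise_smul_def,
    MulAction.mem_stabilizer_iff.1 hσ]

lemma smul_mem_pow {σ : G} (hσ : σ ∈ MulAction.stabilizer G m) (i : ℕ) {x : B}
    (hx : x ∈ m ^ i) : σ • x ∈ m ^ i := by
  have := Ideal.smul_mem_pointwise_smul σ x (m ^ i) hx
  rwa [smul_pow_eq m hσ i] at this

lemma smul_mem {σ : G} (hσ : σ ∈ MulAction.stabilizer G m) {x : B}
    (hx : x ∈ m) : σ • x ∈ m := by
  have := smul_mem_pow m hσ 1 (x := x) (by rwa [pow_one])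
  rwa [pow_one] at this

lemma wild_le_inertia : MulAction.stabilizer G m ⊓ (m ^ 2).inertia G ≤ m.inertia G := by
  rintro σ ⟨-, h⟩ x
  exact Ideal.pow_le_self two_ne_zero (h x)

lemma wild_normal : ((MulAction.stabilizer G m ⊓ (m ^ 2).inertia G).subgroupOf
    (MulAction.stabilizer G m)).Normal := by
  refine (Subgroup.normal_subgroupOf_iff inf_le_left).mpr fun g s hg hs =>
    Subgroup.mem_inf.2 ⟨?_, fun x => ?_⟩
  · exact Subgroup.mul_mem _ (Subgroup.mul_mem _ hs (Subgroup.mem_inf.1 hg).1)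
      (Subgroup.inv_mem _ hs)
  · have h1 : (s * g * s⁻¹) • x - x = s • (g • (s⁻¹ • x) - s⁻¹ • x) := by
      rw [smul_sub, mul_smul, mul_smul, smul_inv_smul]
    rw [Submodule.mem_toAddSubgroup, h1]
    exact smul_mem_pow m hs 2 ((Subgroup.mem_inf.1 hg).2 (s⁻¹ • x))

/-- If `σ` acts trivially modulo `m^(j+1)` then it moves elements of `m^(i+1)` by `m^(i+j+1)`. -/
lemma sub_mem_pow_shift {σ : G} (hσ : σ ∈ MulAction.stabilizer G m) (j : ℕ)
    (h : ∀ b : B, σ • b - b ∈ m ^ (j + 1)) :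
    ∀ (i : ℕ) (c : B), c ∈ m ^ (i + 1) → σ • c - c ∈ m ^ (i + j + 1) := by
  intro i
  induction i with
  | zero => intro c _; simpa using h c
  | succ i ih =>
    intro c hc
    rw [pow_succ'] at hc
    refine Submodule.mul_induction_on hc ?_ ?_
    · intro x hx c' hc'
      have h1 : σ • (x * c') - x * c' = σ • x * (σ • c' - c') + (σ • x - x) * c' := by
        rw [smul_mul']; ring
      rw [h1]
      refine Ideal.add_mem _ ?_ ?_
      · have h2 : σ • x * (σ • c' - c') ∈ m * m ^ (i + j + 1) :=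
          Ideal.mul_mem_mul (smul_mem m hσ hx) (ih c' hc')
        rwa [← pow_succ', show i + j + 1 + 1 = i + 1 + j + 1 by omega] at h2
      · have h2 : (σ • x - x) * c' ∈ m ^ (j + 1) * m ^ (i + 1) := Ideal.mul_mem_mul (h x) hc'
        rwa [← pow_add, show j + 1 + (i + 1) = i + 1 + j + 1 by omega] at h2
    · intro x y hx hy
      have : σ • (x + y) - (x + y) = (σ • x - x) + (σ • y - y) := by rw [smul_add]; ring
      rw [this]
      exact Ideal.add_mem _ hx hy

/-- If `σ` acts trivially modulo `m^(j+2)`, then `σ^n b ≡ b + n (σ b - b)` modulo `m^(j+3)`. -/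
lemma pow_smul_sub {σ : G} (hσ : σ ∈ MulAction.stabilizer G m) (j : ℕ)
    (h : ∀ b : B, σ • b - b ∈ m ^ (j + 2)) (b : B) :
    ∀ n : ℕ, (σ ^ n) • b - b - n • (σ • b - b) ∈ m ^ (j + 3) := by
  intro n
  induction n with
  | zero => simp
  | succ n ih =>
    have hshift := sub_mem_pow_shift m hσ (j + 1) h (j + 1) (σ • b - b) (h b)
    have hle : m ^ (j + 1 + (j + 1) + 1) ≤ m ^ (j + 3) := Ideal.pow_le_pow_right (by omega)
    have h1 : (σ ^ (n + 1)) • b - b - (n + 1) • (σ • b - b) =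
        σ • ((σ ^ n) • b - b - n • (σ • b - b)) + n • (σ • (σ • b - b) - (σ • b - b)) := by
      rw [pow_succ', mul_smul]
      simp only [smul_sub, nsmul_sub, succ_nsmul]
      rw [smul_comm σ n (σ • b), smul_comm σ n b]
      abel
    rw [h1]
    refine Ideal.add_mem _ (smul_mem_pow m hσ _ ih) ?_
    rw [nsmul_eq_mul]
    exact Ideal.mul_mem_left _ _ (hle hshift)

/-- An element of the wild inertia group whose order is invertible in `B/m` acts trivially,
provided `⨅ m^j = ⊥`. -/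
lemma smul_eq_of_pow_eq_one {σ : G} (hσ : σ ∈ MulAction.stabilizer G m)
    (h2 : ∀ b : B, σ • b - b ∈ m ^ 2) (n : ℕ) (hn : σ ^ n = 1)
    (u : B) (hu : u * (n : B) - 1 ∈ m) (hinf : ⨅ j, m ^ j = ⊥) (b : B) : σ • b = b := by
  have key : ∀ j : ℕ, ∀ b : B, σ • b - b ∈ m ^ (j + 2) := by
    intro j
    induction j with
    | zero => exact h2
    | succ j ih =>
      intro b
      have h3 := pow_smul_sub m hσ j ih b n
      rw [hn, one_smul, sub_self, zero_sub, neg_mem_iff, nsmul_eq_mul] at h3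
      have h4 : σ • b - b = u * ((n : B) * (σ • b - b)) - (u * (n : B) - 1) * (σ • b - b) := by
        ring
      rw [h4]
      refine Ideal.sub_mem _ (Ideal.mul_mem_left _ _ h3) ?_
      have h5 : (u * (n : B) - 1) * (σ • b - b) ∈ m * m ^ (j + 2) :=
        Ideal.mul_mem_mul hu (ih b)
      rwa [← pow_succ'] at h5
  have h6 : σ • b - b ∈ ⨅ j, m ^ j := by
    rw [Ideal.mem_iInf]
    intro j
    exact Ideal.pow_le_pow_right (by omega : j ≤ j + 2) (key j b)
  rw [hinf, Ideal.mem_bot, sub_eq_zero] at h6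
  exact h6

end Generic

section PGroup

variable {G B : Type*} [Group G] [Finite G] [CommRing B] [IsDomain B] [IsNoetherianRing B]
  [MulSemiringAction G B] [FaithfulSMul G B] (m : Ideal B) [hm : m.IsMaximal]

lemma wild_eq_one_of_coprime {σ : G}
    (hσ : σ ∈ MulAction.stabilizer G m ⊓ (m ^ 2).inertia G) (n : ℕ) (hn : σ ^ n = 1)
    (hnm : (n : B) ∉ m) : σ = 1 := by
  obtain ⟨hσD, hσ2⟩ := Subgroup.mem_inf.1 hσ
  obtain ⟨u, i, hi, hui⟩ := hm.exists_inv hnm
  have hu : u * (n : B) - 1 ∈ m := by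
    have : u * (n : B) - 1 = -i := by rw [← hui]; ring
    rw [this]; exact neg_mem hi
  have hinf : ⨅ j, m ^ j = ⊥ := Ideal.iInf_pow_eq_bot_of_isDomain m hm.ne_top
  refine eq_of_smul_eq_smul (α := B) fun b => ?_
  rw [one_smul]
  exact smul_eq_of_pow_eq_one m hσD hσ2 n hn u hu hinf b

lemma wild_isPGroup (p : ℕ) [hp : Fact p.Prime] (hchar : ∀ n : ℕ, (n : B) ∈ m → p ∣ n) :
    IsPGroup p ↥(MulAction.stabilizer G m ⊓ (m ^ 2).inertia G) := by
  intro g
  obtain ⟨σ, hσ⟩ := g
  obtain ⟨e, n', hn', hN⟩ := Nat.exists_eq_pow_mul_and_not_dvd (orderOf_pos σ).ne' p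
    hp.out.ne_one
  refine ⟨e, Subtype.ext ?_⟩
  show σ ^ p ^ e = 1
  refine wild_eq_one_of_coprime m (Subgroup.pow_mem _ hσ _) n' ?_ (fun h => hn' (hchar _ h))
  rw [← pow_mul, ← hN, pow_orderOf_eq_one]

lemma wild_eq_bot (hchar : ∀ n : ℕ, (n : B) ∈ m → n = 0) :
    MulAction.stabilizer G m ⊓ (m ^ 2).inertia G = ⊥ := by
  rw [eq_bot_iff]
  intro σ hσ
  rw [Subgroup.mem_bot]
  exact wild_eq_one_of_coprime m hσ (orderOf σ) (pow_orderOf_eq_one σ)
    (fun h => (orderOf_pos σ).ne' (hchar _ h))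

end PGroup

section Theta

variable {G B : Type*} [Group G] [CommRing B] [IsDedekindDomain B]
  [MulSemiringAction G B] (m : Ideal B) [hm : m.IsMaximal]

lemma exists_coeff (hm0 : m ≠ ⊥) {π : B} (hπ : π ∈ m) (hπ2 : π ∉ m ^ 2) {x : B} (hx : x ∈ m) :
    ∃ u : B, x - u * π ∈ m ^ 2 := by
  obtain ⟨d, e, he, hde⟩ := Ideal.exists_mul_add_mem_pow_succ (P := m) hm0 (i := 1) π x
    (by rwa [pow_one]) hπ2 (by rwa [pow_one])
  refine ⟨d, ?_⟩
  have : x - d * π = e := by rw [← hde]; ring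
  rw [this]; exact he

lemma coeff_mem {π : B} (hπ2 : π ∉ m ^ 2) {v : B} (h : v * π ∈ m ^ 2) : v ∈ m :=
  (Ideal.IsMaximal.mul_mem_pow m h).resolve_right hπ2

/-- The tame character `θ : I → (B/m)ˣ`, `σ ↦ σ(π)/π`. -/
theorem exists_theta (hm0 : m ≠ ⊥) {π : B} (hπ : π ∈ m) (hπ2 : π ∉ m ^ 2) :
    ∃ θ : ↥(m.inertia G) →* B ⧸ m, ∀ (σ : ↥(m.inertia G)) (v : B),
      θ σ = Ideal.Quotient.mk m v ↔ (σ : G) • π - v * π ∈ m ^ 2 := by
  have hD : ∀ σ : ↥(m.inertia G), (σ : G) ∈ MulAction.stabilizer G m := fun σ =>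
    Ideal.inertia_le_stabilizer m σ.2
  have hI : ∀ σ : ↥(m.inertia G), (σ : G) • π ∈ m := fun σ => smul_mem m (hD σ) hπ
  choose u hu using fun σ : ↥(m.inertia G) => exists_coeff m hm0 hπ hπ2 (hI σ)
  have key : ∀ (σ : ↥(m.inertia G)) (v : B),
      Ideal.Quotient.mk m (u σ) = Ideal.Quotient.mk m v ↔ (σ : G) • π - v * π ∈ m ^ 2 := by
    intro σ v
    rw [Ideal.Quotient.eq]
    constructor
    · intro h
      have h1 : (σ : G) • π - v * π = ((σ : G) • π - u σ * π) + (u σ - v) * π := by ring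
      rw [h1, pow_two]
      exact Ideal.add_mem _ (by rw [← pow_two]; exact hu σ) (Ideal.mul_mem_mul h hπ)
    · intro h
      refine coeff_mem m hπ2 ?_
      have h1 : (u σ - v) * π = ((σ : G) • π - v * π) - ((σ : G) • π - u σ * π) := by ring
      rw [h1]
      exact Ideal.sub_mem _ h (hu σ)
  refine ⟨{ toFun := fun σ => Ideal.Quotient.mk m (u σ)
            map_one' := ?_
            map_mul' := ?_ }, key⟩
  · rw [← map_one (Ideal.Quotient.mk m), key]
    simp
  · intro σ τ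
    rw [← map_mul, key]
    have h1 : ((σ * τ : ↥(m.inertia G)) : G) • π - u σ * u τ * π =
        ((σ : G) • u τ - u τ) * (u σ * π) + (σ : G) • u τ * ((σ : G) • π - u σ * π)
          + (σ : G) • ((τ : G) • π - u τ * π) := by
      rw [Subgroup.coe_mul, mul_smul, smul_sub, smul_mul']
      ring
    rw [h1]
    refine Ideal.add_mem _ (Ideal.add_mem _ ?_ ?_) ?_
    · rw [pow_two]
      exact Ideal.mul_mem_mul (σ.2 (u τ)) (Ideal.mul_mem_left _ _ hπ)
    · exact Ideal.mul_mem_left _ _ (hu σ)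
    · exact smul_mem_pow m (hD σ) 2 (hu τ)

/-- Elements of the inertia group fixing `π` modulo `m²` act trivially on `B/m²`, provided the
residue extension is separable (expressed via polynomials). -/
theorem mem_inertia_sq {A : Type*} [CommRing A] [Algebra A B] [SMulCommClass G A B]
    (hm0 : m ≠ ⊥) {π : B} (hπ : π ∈ m) (hπ2 : π ∉ m ^ 2)
    (hsep : ∀ b : B, ∃ f : Polynomial A, Polynomial.aeval b f ∈ m ∧
      Polynomial.aeval b (Polynomial.derivative f) ∉ m)
    {σ : G} (hσ : σ ∈ m.inertia G) (hσπ : σ • π - π ∈ m ^ 2) (b : B) : σ • b - b ∈ m ^ 2 := by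
  have hD : σ ∈ MulAction.stabilizer G m := Ideal.inertia_le_stabilizer m hσ
  -- step (i): elements of m
  have step1 : ∀ x ∈ m, σ • x - x ∈ m ^ 2 := by
    intro x hx
    obtain ⟨u, hu⟩ := exists_coeff m hm0 hπ hπ2 hx
    have h1 : σ • x - x = σ • u * (σ • π - π) + (σ • u - u) * π
        + (σ • (x - u * π) - (x - u * π)) := by
      rw [smul_sub, smul_mul']; ring
    rw [h1]
    refine Ideal.add_mem _ (Ideal.add_mem _ (Ideal.mul_mem_left _ _ hσπ) ?_)
      (Ideal.sub_mem _ (smul_mem_pow m hD 2 hu) hu)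
    rw [pow_two]
    exact Ideal.mul_mem_mul (hσ u) hπ
  obtain ⟨f, hf, hf'⟩ := hsep b
  set c := σ • b - b with hc
  have hcm : c ∈ m := hσ b
  have h2 : σ • (Polynomial.aeval b f) = Polynomial.aeval (σ • b) f :=
    (Polynomial.aeval_algHom_apply (MulSemiringAction.toAlgHom A B σ) b f).symm
  have h3 := step1 _ hf
  rw [h2] at h3
  obtain ⟨k, hk⟩ := Polynomial.binomExpansion (f.map (algebraMap A B)) b c
  have hb : b + c = σ • b := by rw [hc]; ring
  rw [hb, Polynomial.eval_map_algebraMap, Polynomial.eval_map_algebraMap,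
    Polynomial.derivative_map, Polynomial.eval_map_algebraMap] at hk
  have h4 : Polynomial.aeval b (Polynomial.derivative f) * c ∈ m ^ 2 := by
    have h5 : Polynomial.aeval b (Polynomial.derivative f) * c =
        (Polynomial.aeval (σ • b) f - Polynomial.aeval b f) - k * c ^ 2 := by
      rw [hk]; ring
    rw [h5]
    refine Ideal.sub_mem _ h3 (Ideal.mul_mem_left _ _ ?_)
    exact Ideal.pow_mem_pow hcm 2
  exact (Ideal.IsMaximal.mul_mem_pow m h4).resolve_left hf'

end Theta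

end Groth.Agent.Lib.Helper6.TameInertia
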