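import Mathlib
import Groth.Agent.Lib.Helper6.TameInertia

/-!
Cardinality of the inertia group in the separable-residue-field case, and the structure of the
tame quotient `I/P` (helper6).
-/

open scoped Pointwise

namespace Groth.Agent.Lib.Helper6.TameInertia

open Ideal

section Card

variable {A B G : Type*} [CommRing A] [IsDomain A] [CommRing B] [IsDomain B]
  [Algebra A B] [Module.Finite A B] [Module.Flat A B] [Group G] [Finite G]
  [MulSemiringAction G B] [IsGaloisGroup G A B]
  (p : Ideal A) [p.IsMaximal] (m : Ideal B) [m.IsMaximal] [m.LiesOver p]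
  [Algebra.IsSeparable (A ⧸ p) (B ⧸ m)]

set_option linter.unusedSectionVars false

include p in
attribute [local instance] Ideal.Quotient.field in
theorem card_stabilizer_eq_card_inertia_mul :
    Nat.card (MulAction.stabilizer G m) = Nat.card (m.inertia G) * m.inertiaDeg A := by
  have : Algebra.IsInvariant A B G := IsGaloisGroup.isInvariant
  have : SMulCommClass G A B := IsGaloisGroup.commutes
  have hn : Normal (A ⧸ p) (B ⧸ m) := Ideal.Quotient.normal G p m
  have : IsGalois (A ⧸ p) (B ⧸ m) := { __ := hn }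
  have : Module.Finite (A ⧸ p) (B ⧸ m) := Ideal.Quotient.finite_of_isInvariant G p m
  have : Subgroup.index _ = _ := Nat.card_congr
    (Ideal.Quotient.stabilizerQuotientInertiaEquiv G p m).toEquiv
  rw [inertiaDeg_eq_of_isMaximal p m, ← IsGalois.card_aut_eq_finrank (A ⧸ p) (B ⧸ m), ← this,
    ← ((m.inertia G).subgroupOf (MulAction.stabilizer G m)).card_mul_index,
    Nat.card_congr (Subgroup.subgroupOfEquivOfLe (inertia_le_stabilizer (M := G) m)).toEquiv,
    AddSubgroup.subgroupOf_inertia]

include p in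
theorem card_inertia_eq_ramificationIdxIn' :
    Nat.card (m.inertia G) = Ideal.ramificationIdxIn p B := by
  have : Algebra.IsInvariant A B G := IsGaloisGroup.isInvariant
  have H : (p.primesOver B).ncard * Nat.card (m.inertia G) * m.inertiaDeg A = Nat.card G := by
    rw [mul_assoc, ← card_stabilizer_eq_card_inertia_mul p m,
      ← Algebra.IsInvariant.orbit_eq_primesOver A B G p m]
    simpa using Nat.card_congr (MulAction.orbitProdStabilizerEquivGroup G m)
  rw [← inertiaDegIn_eq_inertiaDeg p m G] at H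
  have h1 : (p.primesOver B).ncard ≠ 0 := by
    intro h0
    rw [h0, zero_mul, zero_mul] at H
    exact Nat.card_pos.ne H
  have h2 : p.inertiaDegIn B ≠ 0 := by
    intro h0
    rw [h0, mul_zero] at H
    exact Nat.card_pos.ne H
  rwa [← ncard_primesOver_mul_ramificationIdxIn_mul_inertiaDegIn p B G,
    mul_assoc, mul_right_inj' h1, mul_left_inj' h2] at H

theorem card_inertia_eq_ramificationIdx' [IsDedekindDomain B] [Module.IsTorsionFree A B]
    (hp0 : p ≠ ⊥) :
    Nat.card (m.inertia G) = p.ramificationIdx' m := by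
  rw [card_inertia_eq_ramificationIdxIn' p m, ramificationIdxIn_eq_ramificationIdx p m G,
    ramificationIdx'_eq_ramificationIdx p m hp0]

end Card

section Quot

/-- A finite group `H` with a character `φ : H → Fˣ` whose kernel `N` has order `n` such that
`x^n = 1 → x = 1` in `Fˣ`: then `H/N` is cyclic and isomorphic to `μ_{|H|}(F)`. -/
theorem quot_equiv_roots {H F : Type*} [Group H] [Finite H] [CommRing F] [IsDomain F]
    (N : Subgroup H) [N.Normal] (φ : H →* Fˣ) (hker : φ.ker = N)
    (H1 : ∀ x : Fˣ, x ^ Nat.card N = 1 → x = 1) :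
    IsCyclic (H ⧸ N) ∧ Nonempty (H ⧸ N ≃* rootsOfUnity (Nat.card H) F) ∧
      ∃ ψ : H ⧸ N →* Fˣ, Function.Injective ψ := by
  let ψ : H ⧸ N →* Fˣ := QuotientGroup.lift N φ (by rw [hker])
  have hinj : Function.Injective ψ := by
    rw [injective_iff_map_eq_one]
    intro y
    induction y using QuotientGroup.induction_on with
    | H x =>
      intro hx
      have h1 : φ x = 1 := hx
      have h2 : x ∈ N := by rw [← hker]; exact h1
      exact (QuotientGroup.eq_one_iff x).2 h2
  have hcyc : IsCyclic (H ⧸ N) :=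
    isCyclic_of_injective_ringHom ((Units.coeHom F).comp ψ) (Units.val_injective.comp hinj)
  have hcard : Nat.card H = Nat.card (H ⧸ N) * Nat.card N :=
    Subgroup.card_eq_card_quotient_mul_card_subgroup N
  have hmem : ∀ y : H ⧸ N, ψ y ∈ rootsOfUnity (Nat.card H) F := by
    intro y
    rw [mem_rootsOfUnity, ← map_pow, hcard, pow_mul, pow_card_eq_one', one_pow, map_one]
  let ψ' : H ⧸ N →* rootsOfUnity (Nat.card H) F := ψ.codRestrict _ hmem
  have hinj' : Function.Injective ψ' := fun a b hab => hinj (congrArg Subtype.val hab)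
  have hle : rootsOfUnity (Nat.card H) F ≤ rootsOfUnity (Nat.card (H ⧸ N)) F := by
    intro x hx
    rw [mem_rootsOfUnity] at hx ⊢
    rw [hcard, pow_mul] at hx
    exact H1 _ hx
  have hc : Nat.card (rootsOfUnity (Nat.card H) F) ≤ Nat.card (H ⧸ N) :=
    (Subgroup.card_le_of_le hle).trans (card_rootsOfUnity _ _)
  have hbij : Function.Bijective ψ' := hinj'.bijective_of_nat_card_le hc
  exact ⟨hcyc, ⟨MulEquiv.ofBijective ψ' hbij⟩, ψ, hinj⟩

/-- A finite group embedding in the units of a domain of characteristic `p` has order prime to `p`. -/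
theorem not_dvd_card_of_injective {H F : Type*} [Group H] [Finite H] [CommRing F] [IsDomain F]
    (p : ℕ) [hp : Fact p.Prime] [CharP F p] (ψ : H →* Fˣ) (hψ : Function.Injective ψ) :
    ¬ p ∣ Nat.card H := by
  intro hdvd
  obtain ⟨x, hx⟩ := exists_prime_orderOf_dvd_card' p hdvd
  have h1 : (ψ x) ^ p = 1 := by rw [← map_pow, ← hx, pow_orderOf_eq_one, map_one]
  have h2 : ((ψ x : Fˣ) : F) ^ (p ^ 1 * 1) = 1 := by
    rw [pow_one, mul_one, ← Units.val_pow_eq_pow_val, h1, Units.val_one]
  haveI : ExpChar F p := ExpChar.prime hp.out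
  rw [ExpChar.pow_prime_pow_mul_eq_one_iff, pow_one] at h2
  have h3 : ψ x = 1 := Units.ext h2
  have h4 : x = 1 := hψ (h3.trans (map_one ψ).symm)
  rw [h4, orderOf_one] at hx
  exact hp.out.one_lt.ne hx

end Quot

section Tame

open Polynomial

variable {A B G : Type*} [CommRing A] [CommRing B] [IsDedekindDomain B] [Algebra A B] [Group G]
  [MulSemiringAction G B] [SMulCommClass G A B] (m : Ideal B) [hm : m.IsMaximal]

theorem exists_tame_hom (hm0 : m ≠ ⊥)
    (hsep : ∀ b : B, ∃ f : Polynomial A, aeval b f ∈ m ∧ aeval b (derivative f) ∉ m) :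
    ∃ φ : ↥(m.inertia G) →* (B ⧸ m)ˣ,
      φ.ker = (MulAction.stabilizer G m ⊓ (m ^ 2).inertia G).subgroupOf (m.inertia G) := by
  obtain ⟨π, hπ, hπ2⟩ : ∃ π, π ∈ m ∧ π ∉ m ^ 2 := by
    have hlt := Ideal.pow_succ_lt_pow (P := m) hm0 1
    obtain ⟨π, hπ, hπ2⟩ := SetLike.exists_of_lt hlt
    exact ⟨π, by simpa using hπ, hπ2⟩
  obtain ⟨θ, hθ⟩ := exists_theta (G := G) m hm0 hπ hπ2
  refine ⟨θ.toHomUnits, ?_⟩
  ext σ
  rw [MonoidHom.mem_ker, Subgroup.mem_subgroupOf, Units.ext_iff, MonoidHom.coe_toHomUnits,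
    Units.val_one, ← map_one (Ideal.Quotient.mk m), hθ, one_mul]
  constructor
  · intro h
    exact Subgroup.mem_inf.2 ⟨Ideal.inertia_le_stabilizer m σ.2,
      fun b => mem_inertia_sq (A := A) m hm0 hπ hπ2 hsep σ.2 h b⟩
  · intro h
    exact (Subgroup.mem_inf.1 h).2 π

theorem hsep_of_isSeparable (p : Ideal A) [m.LiesOver p]
    [Algebra.IsSeparable (A ⧸ p) (B ⧸ m)] (b : B) :
    ∃ f : Polynomial A, aeval b f ∈ m ∧ aeval b (derivative f) ∉ m := by
  have hg : (minpoly (A ⧸ p) (Ideal.Quotient.mk m b)).Separable :=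
    Algebra.IsSeparable.isSeparable (A ⧸ p) (Ideal.Quotient.mk m b)
  obtain ⟨f, hf⟩ := Polynomial.map_surjective (Ideal.Quotient.mk p) Ideal.Quotient.mk_surjective
    (minpoly (A ⧸ p) (Ideal.Quotient.mk m b))
  have hcomp : (Ideal.Quotient.mk m).comp (algebraMap A B) =
      (algebraMap (A ⧸ p) (B ⧸ m)).comp (Ideal.Quotient.mk p) := by
    ext a
    simp [Ideal.Quotient.algebraMap_mk_of_liesOver]
  have compat : ∀ h : Polynomial A, Ideal.Quotient.mk m (aeval b h) =
      aeval (Ideal.Quotient.mk m b) (h.map (Ideal.Quotient.mk p)) := by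
    intro h
    rw [aeval_def, aeval_def, Polynomial.hom_eval₂, Polynomial.eval₂_map, hcomp]
  refine ⟨f, ?_, ?_⟩
  · rw [← Ideal.Quotient.eq_zero_iff_mem, compat, hf, minpoly.aeval]
  · rw [← Ideal.Quotient.eq_zero_iff_mem, compat, ← Polynomial.derivative_map, hf]
    exact hg.aeval_derivative_ne_zero (minpoly.aeval _ _)

end Tame

end Groth.Agent.Lib.Helper6.TameInertia
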