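import Mathlib
import Groth.Agent.Lib.Helper6.TameInertia2

/-! Assembly: structure of wild and tame inertia (helper6). -/

open scoped Pointwise

namespace Groth.Agent.Lib.Helper6.TameInertia

open Ideal

variable {A B G : Type*} [CommRing A] [IsDomain A] [CommRing B] [IsDedekindDomain B]
  [Algebra A B] [Module.Finite A B] [Module.Flat A B] [Module.IsTorsionFree A B]
  [Group G] [Finite G] [MulSemiringAction G B] [IsGaloisGroup G A B]
  (m : Ideal B) [hm : m.IsMaximal] [hp : (m.under A).IsMaximal]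
  [Algebra.IsSeparable (A ⧸ m.under A) (B ⧸ m)]

set_option linter.unusedSectionVars false

lemma natCast_mem_iff (n : ℕ) : (n : B) ∈ m ↔ ((n : ℕ) : A ⧸ m.under A) = 0 := by
  rw [← map_natCast (Ideal.Quotient.mk (m.under A)) n, Ideal.Quotient.eq_zero_iff_mem,
    Ideal.under_def, Ideal.mem_comap, map_natCast]

attribute [local instance] Ideal.Quotient.field in
lemma charP_quot (c : ℕ) [CharP (A ⧸ m.under A) c] : CharP (B ⧸ m) c :=
  charP_of_injective_algebraMap (algebraMap (A ⧸ m.under A) (B ⧸ m)).injective c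

/-- the tame part, given the characteristic data -/
theorem tame_part (hp0 : m.under A ≠ ⊥)
    [hN : ((MulAction.stabilizer G m ⊓ (m ^ 2).inertia G).subgroupOf (m.inertia G)).Normal]
    (q : ℕ)
    (hq : Nat.card ↥(MulAction.stabilizer G m ⊓ (m ^ 2).inertia G) = q)
    (H1 : ∀ x : (B ⧸ m)ˣ, x ^ q = 1 → x = 1) :
    IsCyclic (↥(m.inertia G) ⧸
        (MulAction.stabilizer G m ⊓ (m ^ 2).inertia G).subgroupOf (m.inertia G)) ∧
      Nonempty (↥(m.inertia G) ⧸
        (MulAction.stabilizer G m ⊓ (m ^ 2).inertia G).subgroupOf (m.inertia G) ≃*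
          rootsOfUnity ((m.under A).ramificationIdx' m) (B ⧸ m)) ∧
      (m.under A).ramificationIdx' m = Nat.card (↥(m.inertia G) ⧸
        (MulAction.stabilizer G m ⊓ (m ^ 2).inertia G).subgroupOf (m.inertia G)) * q ∧
      ∃ ψ : (↥(m.inertia G) ⧸
        (MulAction.stabilizer G m ⊓ (m ^ 2).inertia G).subgroupOf (m.inertia G)) →* (B ⧸ m)ˣ,
        Function.Injective ψ := by
  have : SMulCommClass G A B := IsGaloisGroup.commutes
  have hm0 : m ≠ ⊥ := Ideal.ne_bot_of_liesOver_of_ne_bot hp0 m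
  obtain ⟨φ, hφ⟩ := exists_tame_hom (A := A) (G := G) m hm0
    (fun b => hsep_of_isSeparable m (m.under A) b)
  have hcardN : Nat.card ↥((MulAction.stabilizer G m ⊓ (m ^ 2).inertia G).subgroupOf
      (m.inertia G)) = q := by
    rw [← hq]
    exact Nat.card_congr (Subgroup.subgroupOfEquivOfLe (wild_le_inertia m)).toEquiv
  have hI : Nat.card ↥(m.inertia G) = (m.under A).ramificationIdx' m :=
    card_inertia_eq_ramificationIdx' (m.under A) m hp0
  letI : IsDomain (B ⧸ m) := (Ideal.Quotient.isDomain_iff_prime m).2 hm.isPrime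
  obtain ⟨h1, h2, ψ, hψ⟩ := quot_equiv_roots (F := B ⧸ m) _ φ hφ (by rw [hcardN]; exact H1)
  rw [hI] at h2
  refine ⟨h1, h2, ?_, ψ, hψ⟩
  rw [← hI, ← hcardN]
  exact Subgroup.card_eq_card_quotient_mul_card_subgroup _

attribute [local instance] Ideal.Quotient.field in
theorem main (hp0 : m.under A ≠ ⊥) :
    (MulAction.stabilizer G m ⊓ (m ^ 2).inertia G) ≤ m.inertia G ∧
    m.inertia G ≤ MulAction.stabilizer G m ∧
    ((MulAction.stabilizer G m ⊓ (m ^ 2).inertia G).subgroupOf (MulAction.stabilizer G m)).Normal ∧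
    (∀ p : ℕ, p.Prime → CharP (A ⧸ m.under A) p →
      IsPGroup p ↥(MulAction.stabilizer G m ⊓ (m ^ 2).inertia G)) ∧
    (CharZero (A ⧸ m.under A) → (MulAction.stabilizer G m ⊓ (m ^ 2).inertia G) = ⊥) ∧
    (∀ [((MulAction.stabilizer G m ⊓ (m ^ 2).inertia G).subgroupOf (m.inertia G)).Normal],
      IsCyclic (↥(m.inertia G) ⧸
        (MulAction.stabilizer G m ⊓ (m ^ 2).inertia G).subgroupOf (m.inertia G)) ∧
      (∀ p : ℕ, p.Prime → CharP (A ⧸ m.under A) p →
        Nat.card (↥(m.inertia G) ⧸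
          (MulAction.stabilizer G m ⊓ (m ^ 2).inertia G).subgroupOf (m.inertia G)) =
          (m.under A).ramificationIdx' m /
            p ^ ((m.under A).ramificationIdx' m).factorization p) ∧
      (CharZero (A ⧸ m.under A) →
        Nat.card (↥(m.inertia G) ⧸
          (MulAction.stabilizer G m ⊓ (m ^ 2).inertia G).subgroupOf (m.inertia G)) =
          (m.under A).ramificationIdx' m) ∧
      Nonempty (↥(m.inertia G) ⧸
        (MulAction.stabilizer G m ⊓ (m ^ 2).inertia G).subgroupOf (m.inertia G) ≃*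
          rootsOfUnity ((m.under A).ramificationIdx' m) (B ⧸ m))) := by
  have hfaith : FaithfulSMul G B := IsGaloisGroup.faithful A
  have hPG : ∀ p : ℕ, p.Prime → CharP (A ⧸ m.under A) p →
      IsPGroup p ↥(MulAction.stabilizer G m ⊓ (m ^ 2).inertia G) := by
    intro p hp hc
    haveI : Fact p.Prime := ⟨hp⟩
    refine wild_isPGroup m p fun n hn => ?_
    rw [natCast_mem_iff (A := A) m n] at hn
    exact (CharP.cast_eq_zero_iff (A ⧸ m.under A) p n).1 hn
  have hP0 : CharZero (A ⧸ m.under A) → (MulAction.stabilizer G m ⊓ (m ^ 2).inertia G) = ⊥ := by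
    intro hc
    refine wild_eq_bot m fun n hn => ?_
    rw [natCast_mem_iff (A := A) m n] at hn
    exact_mod_cast hn
  -- the two cases for the tame part
  have caseP : ∀ p : ℕ, p.Prime → CharP (A ⧸ m.under A) p →
      ∀ [((MulAction.stabilizer G m ⊓ (m ^ 2).inertia G).subgroupOf (m.inertia G)).Normal],
      IsCyclic (↥(m.inertia G) ⧸
        (MulAction.stabilizer G m ⊓ (m ^ 2).inertia G).subgroupOf (m.inertia G)) ∧
      Nat.card (↥(m.inertia G) ⧸
          (MulAction.stabilizer G m ⊓ (m ^ 2).inertia G).subgroupOf (m.inertia G)) =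
          (m.under A).ramificationIdx' m /
            p ^ ((m.under A).ramificationIdx' m).factorization p ∧
      Nonempty (↥(m.inertia G) ⧸
        (MulAction.stabilizer G m ⊓ (m ^ 2).inertia G).subgroupOf (m.inertia G) ≃*
          rootsOfUnity ((m.under A).ramificationIdx' m) (B ⧸ m)) := by
    intro p hp hc hN
    haveI : Fact p.Prime := ⟨hp⟩
    haveI : CharP (B ⧸ m) p := charP_quot (A := A) m p
    haveI : ExpChar (B ⧸ m) p := ExpChar.prime hp
    obtain ⟨k, hk⟩ := (IsPGroup.iff_card).1 (hPG p hp hc)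
    have H1 : ∀ x : (B ⧸ m)ˣ, x ^ (p ^ k) = 1 → x = 1 := by
      intro x hx
      have h2 : ((x : (B ⧸ m)ˣ) : B ⧸ m) ^ (p ^ k * 1) = 1 := by
        rw [mul_one, ← Units.val_pow_eq_pow_val, hx, Units.val_one]
      rw [ExpChar.pow_prime_pow_mul_eq_one_iff, pow_one] at h2
      exact Units.ext h2
    obtain ⟨h1, h2, h3, ψ, hψ⟩ := tame_part (A := A) (G := G) m hp0 (p ^ k) hk H1
    refine ⟨h1, ?_, h2⟩
    have hnd := not_dvd_card_of_injective p ψ hψ
    set t := Nat.card (↥(m.inertia G) ⧸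
          (MulAction.stabilizer G m ⊓ (m ^ 2).inertia G).subgroupOf (m.inertia G)) with ht
    have ht0 : t ≠ 0 := Nat.card_pos.ne'
    have hpk0 : p ^ k ≠ 0 := pow_ne_zero _ hp.ne_zero
    have hfac : ((m.under A).ramificationIdx' m).factorization p = k := by
      rw [h3, Nat.factorization_mul ht0 hpk0, Finsupp.add_apply,
        Nat.factorization_eq_zero_of_not_dvd hnd, hp.factorization_pow, Finsupp.single_eq_same,
        zero_add]
    rw [hfac, h3, Nat.mul_div_cancel _ (Nat.pos_of_ne_zero hpk0)]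
  have case0 : CharZero (A ⧸ m.under A) →
      ∀ [((MulAction.stabilizer G m ⊓ (m ^ 2).inertia G).subgroupOf (m.inertia G)).Normal],
      IsCyclic (↥(m.inertia G) ⧸
        (MulAction.stabilizer G m ⊓ (m ^ 2).inertia G).subgroupOf (m.inertia G)) ∧
      Nat.card (↥(m.inertia G) ⧸
          (MulAction.stabilizer G m ⊓ (m ^ 2).inertia G).subgroupOf (m.inertia G)) =
          (m.under A).ramificationIdx' m ∧
      Nonempty (↥(m.inertia G) ⧸
        (MulAction.stabilizer G m ⊓ (m ^ 2).inertia G).subgroupOf (m.inertia G) ≃*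
          rootsOfUnity ((m.under A).ramificationIdx' m) (B ⧸ m)) := by
    intro hc hN
    have hq : Nat.card ↥(MulAction.stabilizer G m ⊓ (m ^ 2).inertia G) = 1 := by
      rw [hP0 hc]; exact Subgroup.card_bot
    obtain ⟨h1, h2, h3, ψ, hψ⟩ := tame_part (A := A) (G := G) m hp0 1 hq
      (fun x hx => by rwa [pow_one] at hx)
    refine ⟨h1, ?_, h2⟩
    rw [h3, mul_one]
  refine ⟨wild_le_inertia m, Ideal.inertia_le_stabilizer m, wild_normal m, hPG, hP0, ?_⟩
  intro hN
  obtain ⟨c, hc⟩ := CharP.exists (A ⧸ m.under A)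
  rcases CharP.char_is_prime_or_zero (A ⧸ m.under A) c with hcp | hc0
  · obtain ⟨h1, _, h3⟩ := caseP c hcp hc
    exact ⟨h1, fun p hp hcp' => (caseP p hp hcp').2.1, fun h0 => (case0 h0).2.1, h3⟩
  · subst hc0
    have h0 : CharZero (A ⧸ m.under A) := CharP.charP_to_charZero _
    obtain ⟨h1, _, h3⟩ := case0 h0
    exact ⟨h1, fun p hp hcp' => (caseP p hp hcp').2.1, fun h0 => (case0 h0).2.1, h3⟩

end Groth.Agent.Lib.Helper6.TameInertia
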