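import Mathlib

/-! Tensoring a projective module with a "limit-like" module mapping jointly injectively to a
family of modules. -/

open scoped TensorProduct
set_option linter.unusedSectionVars false
set_option autoImplicit false
noncomputable section

namespace Groth.Agent.Lib.Helper6.TensorLim

universe u v w x y

variable {R : Type u} [CommRing R] {ι : Type v} {N : ι → Type w} [∀ i, AddCommGroup (N i)]
  [∀ i, Module R (N i)] {L : Type x} [AddCommGroup L] [Module R L] (g : ∀ i, L →ₗ[R] N i)

/-- the comparison map -/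
def Θ (M : Type y) [AddCommGroup M] [Module R M] : M ⊗[R] L →ₗ[R] Π i, M ⊗[R] N i :=
  LinearMap.pi fun i => LinearMap.lTensor M (g i)

lemma Θ_apply (M : Type y) [AddCommGroup M] [Module R M] (z : M ⊗[R] L) (i : ι) :
    Θ g M z i = LinearMap.lTensor M (g i) z := rfl

lemma natural {M : Type y} [AddCommGroup M] [Module R M] {M' : Type*} [AddCommGroup M']
    [Module R M'] (h : M →ₗ[R] M') (z : M ⊗[R] L) (i : ι) :
    LinearMap.rTensor (N i) h (Θ g M z i) = Θ g M' (LinearMap.rTensor L h z) i := by
  rw [Θ_apply, Θ_apply, ← LinearMap.comp_apply, ← LinearMap.comp_apply,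
    LinearMap.rTensor_comp_lTensor, LinearMap.lTensor_comp_rTensor]

lemma e_nat {I : Type*} [DecidableEq I] {P Q : Type*} [AddCommGroup P] [Module R P] [AddCommGroup Q] [Module R Q]
    (f : P →ₗ[R] Q) (z : (I →₀ R) ⊗[R] P) (a : I) :
    TensorProduct.finsuppScalarLeft R Q I (LinearMap.lTensor (I →₀ R) f z) a =
      f (TensorProduct.finsuppScalarLeft R P I z a) := by
  induction z using TensorProduct.induction_on with
  | zero => simp
  | tmul c x => simp
  | add z₁ z₂ h₁ h₂ => simp only [map_add, Finsupp.add_apply, h₁, h₂]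

theorem inj_free (I : Type*) [DecidableEq I] (hg : ∀ x : L, (∀ i, g i x = 0) → x = 0) :
    Function.Injective (Θ g (I →₀ R)) := by
  rw [injective_iff_map_eq_zero]
  intro z hz
  have h1 : TensorProduct.finsuppScalarLeft R L I z = 0 := by
    ext a
    refine hg _ fun i => ?_
    rw [← e_nat, ← Θ_apply, hz]
    simp
  exact (LinearEquiv.map_eq_zero_iff _).1 h1

theorem inj_projective (M : Type y) [AddCommGroup M] [Module R M] [Module.Projective R M]
    (hg : ∀ x : L, (∀ i, g i x = 0) → x = 0) : Function.Injective (Θ g M) := by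
  classical
  obtain ⟨s, hs⟩ := (Module.projective_def' (R := R) (P := M)).1 inferInstance
  rw [injective_iff_map_eq_zero]
  intro z hz
  have h1 : Θ g (M →₀ R) (LinearMap.rTensor L s z) = 0 := by
    funext i
    rw [← natural, hz]
    simp
  have h2 : LinearMap.rTensor L s z = 0 :=
    (injective_iff_map_eq_zero _).1 (inj_free g M hg) _ h1
  have h3 := congrArg (LinearMap.rTensor L (Finsupp.linearCombination R id)) h2
  rw [← LinearMap.comp_apply, ← LinearMap.rTensor_comp, hs, LinearMap.rTensor_id, map_zero] at h3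
  exact h3

section range

variable {N : ℕ → Type w} [∀ i, AddCommGroup (N i)] [∀ i, Module R (N i)]
  (g : ∀ i, L →ₗ[R] N i) (F : ∀ i, N (i + 1) →ₗ[R] N i)
  (hcompat : ∀ i, F i ∘ₗ g (i + 1) = g i)
  (hsurj : ∀ y : Π i, N i, (∀ i, F i (y (i + 1)) = y i) → ∃ x : L, ∀ i, g i x = y i)

include hcompat in
theorem compat_of_mem_range (M : Type y) [AddCommGroup M] [Module R M]
    (z : M ⊗[R] L) (i : ℕ) :
    LinearMap.lTensor M (F i) (Θ g M z (i + 1)) = Θ g M z i := by
  rw [Θ_apply, Θ_apply, ← LinearMap.comp_apply, ← LinearMap.lTensor_comp, hcompat]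

include hsurj in
theorem surj_free (I : Type*) [Fintype I] [DecidableEq I] (y : Π i, (I →₀ R) ⊗[R] N i)
    (hy : ∀ i, LinearMap.lTensor (I →₀ R) (F i) (y (i + 1)) = y i) :
    ∃ z, Θ g (I →₀ R) z = y := by
  classical
  have h1 : ∀ a : I, ∃ x : L, ∀ i, g i x = TensorProduct.finsuppScalarLeft R (N i) I (y i) a := by
    intro a
    refine hsurj (fun i => TensorProduct.finsuppScalarLeft R (N i) I (y i) a) fun i => ?_
    rw [← e_nat, hy]
  choose x hx using h1
  refine ⟨∑ a, (Finsupp.single a (1 : R)) ⊗ₜ[R] x a, ?_⟩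
  funext i
  apply (TensorProduct.finsuppScalarLeft R (N i) I).injective
  ext b
  rw [Θ_apply, map_sum, map_sum, Finsupp.finsetSum_apply]
  rw [Finset.sum_eq_single b]
  · rw [LinearMap.lTensor_tmul, TensorProduct.finsuppScalarLeft_apply_tmul_apply,
      Finsupp.single_eq_same, one_smul, hx]
  · intro a _ hab
    rw [LinearMap.lTensor_tmul, TensorProduct.finsuppScalarLeft_apply_tmul_apply,
      Finsupp.single_eq_of_ne' hab, zero_smul]
  · intro h
    exact absurd (Finset.mem_univ b) h

include hcompat hsurj in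
theorem mem_range_iff (M : Type y) [AddCommGroup M] [Module R M] [Module.Finite R M]
    [Module.Projective R M] (y : Π i, M ⊗[R] N i) :
    y ∈ LinearMap.range (Θ g M) ↔ ∀ i, LinearMap.lTensor M (F i) (y (i + 1)) = y i := by
  classical
  constructor
  · rintro ⟨z, rfl⟩ i
    exact compat_of_mem_range g F hcompat M z i
  · intro hy
    obtain ⟨n, f, hf⟩ := Module.Finite.exists_fin' R M
    let π : (Fin n →₀ R) →ₗ[R] M := f ∘ₗ (Finsupp.linearEquivFunOnFinite R R (Fin n)).toLinearMap
    have hπ : Function.Surjective π := hf.comp (LinearEquiv.surjective _)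
    obtain ⟨s, hs⟩ := Module.projective_lifting_property π LinearMap.id hπ
    have hy' : ∀ i, LinearMap.lTensor (Fin n →₀ R) (F i)
        (LinearMap.rTensor (N (i + 1)) s (y (i + 1))) = LinearMap.rTensor (N i) s (y i) := by
      intro i
      rw [← LinearMap.comp_apply, LinearMap.lTensor_comp_rTensor, ← LinearMap.rTensor_comp_lTensor,
        LinearMap.comp_apply, hy]
    obtain ⟨w, hw⟩ := surj_free g F hsurj (Fin n) (fun i => LinearMap.rTensor (N i) s (y i)) hy'
    refine ⟨LinearMap.rTensor L π w, ?_⟩
    funext i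
    rw [← natural, hw, ← LinearMap.comp_apply, ← LinearMap.rTensor_comp, hs, LinearMap.rTensor_id]
    rfl

end range

end Groth.Agent.Lib.Helper6.TensorLim
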