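import Mathlib

/-! Bookkeeping identities for modified weights. -/

set_option linter.unusedSectionVars false
set_option autoImplicit false
noncomputable section

namespace Groth.Agent.Lib.Helper6.ThetaTilde

universe u
variable {ι : Type u} [DecidableEq ι]

lemma tsum_ite_compl (f : ι → ℝ) (hf : Summable f) (D : Finset ι) :
    Summable (fun i => if i ∈ D then (0 : ℝ) else f i) ∧
      ∑' i, (if i ∈ D then (0 : ℝ) else f i) = ∑' i, f i - ∑ i ∈ D, f i := by
  set g : ι → ℝ := fun i => if i ∈ D then f i else 0 with hg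
  have hg0 : ∀ i ∉ D, g i = 0 := fun i hi => by simp [hg, hi]
  have hgs : Summable g := summable_of_ne_finset_zero hg0
  have hgt : ∑' i, g i = ∑ i ∈ D, f i := by
    rw [tsum_eq_sum hg0]
    exact Finset.sum_congr rfl fun i hi => by simp [hg, hi]
  have heq : (fun i => if i ∈ D then (0 : ℝ) else f i) = fun i => f i - g i := by
    funext i
    by_cases hi : i ∈ D <;> simp [hg, hi]
  rw [heq]
  refine ⟨hf.sub hgs, ?_⟩
  rw [hf.tsum_sub hgs, hgt]

/-- the algebraic core of the first identity -/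
lemma core1 (Dm D D' : Finset ι) (hDm : Dm ⊆ D) (hDD' : D ⊆ D') (t t' a : ι → ℝ)
    (hta : ∀ i, t i * a i = t' i) (s' : ℝ) :
    ((∑ i ∈ D', t' i) + (s' / ((D' \ Dm).card : ℝ)) * (∑ σ ∈ D' \ Dm, a σ)) -
      ((∑ i ∈ D, t' i) + ((s' + ∑ τ ∈ D' \ D, t τ) / ((D \ Dm).card : ℝ)) * (∑ σ ∈ D \ Dm, a σ)) =
    ∑ τ ∈ D' \ D, (t τ + s' / ((D' \ Dm).card : ℝ)) *
      (a τ - (1 / ((D \ Dm).card : ℝ)) * (∑ σ ∈ D \ Dm, a σ)) := by
  have hdisj : Disjoint (D \ Dm) (D' \ D) := by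
    rw [Finset.disjoint_left]
    intro x hx hx'
    exact (Finset.mem_sdiff.1 hx').2 (Finset.mem_sdiff.1 hx).1
  have hunion : D' \ Dm = (D \ Dm) ∪ (D' \ D) := by
    ext x
    simp only [Finset.mem_sdiff, Finset.mem_union]
    constructor
    · rintro ⟨h1, h2⟩
      by_cases hx : x ∈ D
      · exact Or.inl ⟨hx, h2⟩
      · exact Or.inr ⟨h1, hx⟩
    · rintro (⟨h1, h2⟩ | ⟨h1, h2⟩)
      · exact ⟨hDD' h1, h2⟩
      · exact ⟨h1, fun h3 => h2 (hDm h3)⟩
  have hcard : ((D' \ Dm).card : ℝ) = ((D \ Dm).card : ℝ) + ((D' \ D).card : ℝ) := by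
    rw [hunion, Finset.card_union_of_disjoint hdisj, Nat.cast_add]
  have hsuma : ∑ σ ∈ D' \ Dm, a σ = ∑ σ ∈ D \ Dm, a σ + ∑ σ ∈ D' \ D, a σ := by
    rw [hunion, Finset.sum_union hdisj]
  have hsumt' : ∑ i ∈ D', t' i = ∑ i ∈ D' \ D, t' i + ∑ i ∈ D, t' i :=
    (Finset.sum_sdiff hDD').symm
  set A := ∑ σ ∈ D \ Dm, a σ with hA
  set α := ∑ σ ∈ D' \ D, a σ with hα
  set T := ∑ τ ∈ D' \ D, t τ with hT
  set d : ℝ := ((D \ Dm).card : ℝ) with hd
  set m : ℝ := ((D' \ D).card : ℝ) with hm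
  have hrhs : ∑ τ ∈ D' \ D, (t τ + s' / ((D' \ Dm).card : ℝ)) * (a τ - (1 / d) * A) =
      ∑ τ ∈ D' \ D, t' τ - (1 / d) * A * T + (s' / ((D' \ Dm).card : ℝ)) * α -
        m * ((s' / ((D' \ Dm).card : ℝ)) * ((1 / d) * A)) := by
    have : ∀ τ ∈ D' \ D, (t τ + s' / ((D' \ Dm).card : ℝ)) * (a τ - (1 / d) * A) =
        t' τ - (1 / d) * A * t τ + (s' / ((D' \ Dm).card : ℝ)) * a τ -
          (s' / ((D' \ Dm).card : ℝ)) * ((1 / d) * A) := by
      intro τ _
      rw [← hta τ]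
      ring
    rw [Finset.sum_congr rfl this, Finset.sum_sub_distrib, Finset.sum_add_distrib,
      Finset.sum_sub_distrib, ← Finset.mul_sum, ← Finset.mul_sum, Finset.sum_const, nsmul_eq_mul]
  rw [hrhs, hsuma, hsumt', hcard]
  by_cases hd0 : d = 0
  · have hA0 : A = 0 := by
      have : (D \ Dm).card = 0 := by
        rw [hd] at hd0
        exact_mod_cast hd0
      rw [hA, Finset.card_eq_zero.1 this, Finset.sum_empty]
    rw [hA0, hd0]
    ring
  · by_cases hm0 : d + m = 0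
    · exfalso
      have h1 : (0 : ℝ) ≤ d := Nat.cast_nonneg _
      have h2 : (0 : ℝ) ≤ m := Nat.cast_nonneg _
      have : d = 0 := by linarith
      exact hd0 this
    · field_simp
      ring

end Groth.Agent.Lib.Helper6.ThetaTilde
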