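import Mathlib

/-!
# The map θ : W_n(B/I) → B, x̄ ↦ Σ_{i<n} p^i x_i^(p^(n-i)) (n-th ghost component when p^n = 0)
-/

set_option autoImplicit false

namespace Groth.Agent.Lib.Helper6.ThetaWn

open WittVector

variable (p : ℕ) [hp : Fact p.Prime] (n : ℕ) {B : Type*} [CommRing B]

/-- the surjection `W(B) → W_n(B/I)` -/
noncomputable def red (I : Ideal B) : WittVector p B →+* TruncatedWittVector p n (B ⧸ I) :=
  (WittVector.truncate n).comp (WittVector.map (Ideal.Quotient.mk I))

lemma red_apply (I : Ideal B) (x : WittVector p B) :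
    red p n I x = WittVector.truncate n (WittVector.map (Ideal.Quotient.mk I) x) := rfl

lemma red_surjective (I : Ideal B) : Function.Surjective (red p n I) := by
  intro a
  obtain ⟨y, hy⟩ := WittVector.truncate_surjective p n (B ⧸ I) a
  obtain ⟨x, hx⟩ := WittVector.map_surjective (Ideal.Quotient.mk I) Ideal.Quotient.mk_surjective y
  exact ⟨x, by rw [red_apply, hx, hy]⟩

lemma coeff_red (I : Ideal B) (x : WittVector p B) (i : Fin n) :
    (red p n I x).coeff i = Ideal.Quotient.mk I (x.coeff i) := by
  rw [red_apply, WittVector.coeff_truncate, WittVector.map_coeff]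

lemma red_eq_zero_iff (I : Ideal B) (x : WittVector p B) :
    red p n I x = 0 ↔ ∀ i < n, x.coeff i ∈ I := by
  constructor
  · intro h i hi
    have := congrArg (fun a => TruncatedWittVector.coeff ⟨i, hi⟩ a) h
    simp only [coeff_red, TruncatedWittVector.coeff_zero] at this
    exact Ideal.Quotient.eq_zero_iff_mem.mp this
  · intro h
    apply TruncatedWittVector.ext
    intro i
    rw [coeff_red, TruncatedWittVector.coeff_zero]
    exact Ideal.Quotient.eq_zero_iff_mem.mpr (h i i.2)

lemma ghost_eq_sum_range' (x : WittVector p B) :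
    WittVector.ghostComponent n x =
      ∑ i ∈ Finset.range (n + 1), (p : B) ^ i * x.coeff i ^ p ^ (n - i) := by
  rw [WittVector.ghostComponent_apply, wittPolynomial_eq_sum_C_mul_X_pow, map_sum]
  apply Finset.sum_congr rfl
  intro i _
  simp

lemma ghost_eq_sum_range (h : (p : B) ^ n = 0) (x : WittVector p B) :
    WittVector.ghostComponent n x =
      ∑ i ∈ Finset.range n, (p : B) ^ i * x.coeff i ^ p ^ (n - i) := by
  rw [ghost_eq_sum_range', Finset.sum_range_succ, h, zero_mul, add_zero]

lemma ghost_eq_sum (h : (p : B) ^ n = 0) (x : WittVector p B) :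
    WittVector.ghostComponent n x =
      ∑ i : Fin n, (p : B) ^ (i : ℕ) * x.coeff i ^ p ^ (n - i) := by
  rw [ghost_eq_sum_range p n h, Fin.sum_univ_eq_sum_range (fun i => (p : B) ^ i * x.coeff i ^ p ^ (n - i))]

/-- with divided powers on `I`, the `n`-th ghost component kills the kernel of `red`. -/
lemma ghost_eq_zero_of_mem {I : Ideal B} (hI : DividedPowers I) (h : (p : B) ^ n = 0)
    (x : WittVector p B) (hx : ∀ i < n, x.coeff i ∈ I) :
    WittVector.ghostComponent n x = 0 := by
  rw [ghost_eq_sum_range p n h]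
  apply Finset.sum_eq_zero
  intro i hi
  have hin : i < n := Finset.mem_range.mp hi
  rw [← hI.factorial_mul_dpow_eq_pow (hx i hin)]
  have hdvd : p ^ (n - i) ∣ (p ^ (n - i)).factorial :=
    Nat.dvd_factorial (pow_pos hp.out.pos _) le_rfl
  obtain ⟨c, hc⟩ := hdvd
  rw [hc]
  push_cast
  have hpn : (p : B) ^ i * (p : B) ^ (n - i) = 0 := by
    rw [← pow_add, show i + (n - i) = n by omega, h]
  have : (p : B) ^ i * ((p : B) ^ (n - i) * (c : B) * hI.dpow (p ^ (n - i)) (x.coeff i)) =
      ((p : B) ^ i * (p : B) ^ (n - i)) * ((c : B) * hI.dpow (p ^ (n - i)) (x.coeff i)) := by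
    ring
  rw [this, hpn, zero_mul]

/-- the map θ -/
noncomputable def theta {I : Ideal B} (hI : DividedPowers I) (h : (p : B) ^ n = 0) :
    TruncatedWittVector p n (B ⧸ I) →+* B :=
  RingHom.liftOfSurjective (red p n I) (red_surjective p n I)
    ⟨WittVector.ghostComponent n, by
      intro x hx
      rw [RingHom.mem_ker] at hx ⊢
      exact ghost_eq_zero_of_mem p n hI h x ((red_eq_zero_iff p n I x).mp hx)⟩

lemma theta_red {I : Ideal B} (hI : DividedPowers I) (h : (p : B) ^ n = 0) (x : WittVector p B) :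
    theta p n hI h (red p n I x) = WittVector.ghostComponent n x := by
  unfold theta
  exact RingHom.liftOfRightInverse_comp_apply _ _ _ _ x

/-! ### The case `I = (p)` -/

section ModP

variable {p n}

/-- surjectivity of `x ↦ Σ p^i x_i^(p^(n-i))` when Frobenius is surjective mod `p`. -/
lemma exists_ghost_eq (h : (p : B) ^ n = 0)
    (hF : Function.Surjective (fun y : B ⧸ (Ideal.span {(p : B)}) => y ^ p)) (y : B) :
    ∃ z : WittVector p B, WittVector.ghostComponent n z = y := by
  have hFpow : ∀ m : ℕ, ∀ y : B, ∃ z w : B, y = z ^ p ^ m + (p : B) * w := by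
    intro m
    induction m with
    | zero => intro y; exact ⟨y, 0, by simp⟩
    | succ m ih =>
      intro y
      obtain ⟨z, w, hzw⟩ := ih y
      obtain ⟨z', hz'⟩ := hF (Ideal.Quotient.mk _ z)
      obtain ⟨z'', rfl⟩ := Ideal.Quotient.mk_surjective z'
      simp only [← map_pow] at hz'
      have := Ideal.Quotient.eq.mp hz'
      obtain ⟨c, hc⟩ := Ideal.mem_span_singleton'.mp this
      -- z'' ^ p - z = c * p
      have hz : z = z'' ^ p - c * (p : B) := by rw [hc]; ring
      -- z^(p^m) = (z''^p - c p)^(p^m) ≡ z''^(p^(m+1)) mod p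
      have hmem : z ^ p ^ m - z'' ^ p ^ (m + 1) ∈ Ideal.span {(p : B)} := by
        have h1 : z - z'' ^ p ∈ Ideal.span {(p : B)} := by
          rw [hz]
          apply Ideal.mem_span_singleton'.mpr
          exact ⟨-c, by ring⟩
        have h2 := Ideal.Quotient.eq.mpr h1
        apply Ideal.Quotient.eq.mp
        rw [map_pow, h2, map_pow, map_pow, ← pow_mul, pow_succ']
      obtain ⟨d, hd⟩ := Ideal.mem_span_singleton'.mp hmem
      refine ⟨z'', w + d, ?_⟩
      rw [hzw]
      have : z ^ p ^ m = z'' ^ p ^ (m + 1) + d * (p : B) := by rw [hd]; ring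
      rw [this]; ring
  -- main recursion
  have key : ∀ m : ℕ, m ≤ n → ∀ y : B, ∃ (z : ℕ → B) (w : B),
      y = ∑ i ∈ Finset.range m, (p : B) ^ i * z i ^ p ^ (n - i) + (p : B) ^ m * w := by
    intro m
    induction m with
    | zero => intro _ y; exact ⟨fun _ => 0, y, by simp⟩
    | succ m ih =>
      intro hm y
      obtain ⟨z, w, hzw⟩ := ih (by omega) y
      obtain ⟨z', w', hw'⟩ := hFpow (n - m) w
      refine ⟨fun i => if i < m then z i else z', w', ?_⟩
      rw [Finset.sum_range_succ, hzw, hw']
      have : ∑ i ∈ Finset.range m, (p : B) ^ i * (if i < m then z i else z') ^ p ^ (n - i) =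
          ∑ i ∈ Finset.range m, (p : B) ^ i * z i ^ p ^ (n - i) := by
        apply Finset.sum_congr rfl
        intro i hi
        rw [if_pos (Finset.mem_range.mp hi)]
      rw [this]
      simp only [lt_irrefl, if_false]
      ring
  obtain ⟨z, w, hzw⟩ := key n le_rfl y
  refine ⟨WittVector.mk p z, ?_⟩
  rw [ghost_eq_sum_range p n h, hzw, h, zero_mul, add_zero]
  rfl

variable (p n) in
/-- In `W_n(A)` with `A = B/p` having surjective Frobenius, elements with zero constant coefficient
are multiples of `p`. -/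
lemma mem_span_p_of_coeff_zero {A : Type*} [CommRing A] [CharP A p]
    (hF : Function.Surjective (fun y : A => y ^ p)) (u : WittVector p A) (hu : u.coeff 0 = 0) :
    ∃ v : WittVector p A, u = v * p := by
  choose r hr using hF
  refine ⟨WittVector.mk p (fun i => r ((u.shift 1).coeff i)), ?_⟩
  rw [← WittVector.verschiebung_frobenius]
  have hfrob : WittVector.frobenius (WittVector.mk p (fun i => r ((u.shift 1).coeff i))) = u.shift 1 := by
    ext i
    rw [WittVector.coeff_frobenius_charP]
    exact hr _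
  rw [hfrob]
  have := WittVector.verschiebung_shift u 0 (by intro i hi; interval_cases i; exact hu)
  rw [this]
  ext i
  simp [WittVector.shift_coeff]


/-- `J_n + (p) ⊆ I_n`. -/
lemma coeff_zero_pow_eq_zero (hn : 0 < n) (h : (p : B) ^ n = 0)
    (θ : TruncatedWittVector p n (B ⧸ (Ideal.span {(p : B)})) →+* B)
    (hred : ∀ x : WittVector p B, θ (red p n (Ideal.span {(p : B)}) x) =
      WittVector.ghostComponent n x)
    (a : TruncatedWittVector p n (B ⧸ (Ideal.span {(p : B)})))
    (ha : a ∈ RingHom.ker θ ⊔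
      Ideal.span {(p : TruncatedWittVector p n (B ⧸ (Ideal.span {(p : B)})))}) :
    (TruncatedWittVector.coeff ⟨0, hn⟩ a) ^ (p ^ n) = 0 := by
  classical
  obtain ⟨j, hj, c, hc, rfl⟩ := Submodule.mem_sup.mp ha
  obtain ⟨b, rfl⟩ := Ideal.mem_span_singleton'.mp hc
  obtain ⟨x, rfl⟩ := red_surjective p n _ j
  obtain ⟨y, rfl⟩ := red_surjective p n _ b
  have hsum : red p n (Ideal.span {(p : B)}) x +
      red p n (Ideal.span {(p : B)}) y *
        (p : TruncatedWittVector p n (B ⧸ (Ideal.span {(p : B)}))) =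
      red p n (Ideal.span {(p : B)}) (x + y * p) := by
    rw [map_add, map_mul, map_natCast]
  rw [hsum, coeff_red]
  have hc0 : (x + y * (p : WittVector p B)).coeff 0 = x.coeff 0 + y.coeff 0 * (p : B) := by
    have := map_add (WittVector.constantCoeff (p := p) (R := B)) x (y * p)
    rw [map_mul, map_natCast] at this
    exact this
  change (Ideal.Quotient.mk _ ((x + y * (p : WittVector p B)).coeff 0)) ^ p ^ n = 0
  rw [hc0, map_add, map_mul]
  have hp0 : Ideal.Quotient.mk (Ideal.span {(p : B)}) (p : B) = 0 :=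
    Ideal.Quotient.eq_zero_iff_mem.mpr (Ideal.subset_span rfl)
  rw [hp0, mul_zero, add_zero, ← map_pow]
  apply Ideal.Quotient.eq_zero_iff_mem.mpr
  have hg : WittVector.ghostComponent n x = 0 := by
    rw [← hred]; exact (RingHom.mem_ker).mp hj
  rw [ghost_eq_sum_range p n h x] at hg
  obtain ⟨m, rfl⟩ : ∃ m, n = m + 1 := ⟨n - 1, by omega⟩
  rw [Finset.sum_range_succ'] at hg
  simp only [pow_zero, one_mul, Nat.sub_zero] at hg
  have hx0 : x.coeff 0 ^ p ^ (m + 1) =
      -(∑ k ∈ Finset.range m, (p : B) ^ (k + 1) * x.coeff (k + 1) ^ p ^ (m + 1 - (k + 1))) := by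
    rw [eq_neg_iff_add_eq_zero, add_comm]; exact hg
  rw [hx0]
  apply neg_mem
  apply Ideal.sum_mem
  intro k _
  rw [pow_succ', mul_assoc]
  exact Ideal.mul_mem_right _ _ (Ideal.subset_span rfl)


/-- `I_n ⊆ J_n + (p)` when Frobenius of `B/p` is surjective. -/
lemma mem_ker_sup_span (hn : 0 < n) (h : (p : B) ^ n = 0)
    (hF : Function.Surjective (fun y : B ⧸ (Ideal.span {(p : B)}) => y ^ p))
    (θ : TruncatedWittVector p n (B ⧸ (Ideal.span {(p : B)})) →+* B)
    (hred : ∀ x : WittVector p B, θ (red p n (Ideal.span {(p : B)}) x) =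
      WittVector.ghostComponent n x)
    (a : TruncatedWittVector p n (B ⧸ (Ideal.span {(p : B)})))
    (ha : (TruncatedWittVector.coeff ⟨0, hn⟩ a) ^ (p ^ n) = 0) :
    a ∈ RingHom.ker θ ⊔
      Ideal.span {(p : TruncatedWittVector p n (B ⧸ (Ideal.span {(p : B)})))} := by
  classical
  rcases subsingleton_or_nontrivial (B ⧸ (Ideal.span {(p : B)})) with hsub | hnt
  · have : a = 0 := TruncatedWittVector.ext fun i => Subsingleton.elim _ _
    rw [this]; exact zero_mem _
  have hp0 : ((p : ℕ) : B ⧸ (Ideal.span {(p : B)})) = 0 := by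
    have : Ideal.Quotient.mk (Ideal.span {(p : B)}) (p : B) = 0 :=
      Ideal.Quotient.eq_zero_iff_mem.mpr (Ideal.subset_span rfl)
    rw [map_natCast] at this
    exact this
  have : CharP (B ⧸ (Ideal.span {(p : B)})) p := (CharP.charP_iff_prime_eq_zero hp.out).mpr hp0
  obtain ⟨x, rfl⟩ := red_surjective p n _ a
  rw [coeff_red, ← map_pow] at ha
  have hmem := Ideal.Quotient.eq_zero_iff_mem.mp ha
  obtain ⟨y, hy⟩ := Ideal.mem_span_singleton'.mp hmem
  obtain ⟨z, hz⟩ := exists_ghost_eq h hF y
  set t := WittVector.teichmuller p (x.coeff 0) with ht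
  have hgt : WittVector.ghostComponent n t = x.coeff 0 ^ p ^ n :=
    WittVector.ghostComponent_teichmuller p _ n
  have he1 : red p n (Ideal.span {(p : B)}) t -
      red p n (Ideal.span {(p : B)}) z * (p : TruncatedWittVector p n _) ∈ RingHom.ker θ := by
    rw [RingHom.mem_ker, map_sub, map_mul, map_natCast, hred, hred, hgt, hz, hy, sub_self]
  -- the remaining part
  have hu0 : (WittVector.map (Ideal.Quotient.mk (Ideal.span {(p : B)})) (x - t)).coeff 0 = 0 := by
    rw [WittVector.map_coeff]
    have : (x - t).coeff 0 = x.coeff 0 - t.coeff 0 :=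
      map_sub (WittVector.constantCoeff (p := p) (R := B)) x t
    rw [this, ht, WittVector.teichmuller_coeff_zero, sub_self, map_zero]
  obtain ⟨v, hv⟩ := mem_span_p_of_coeff_zero p hF _ hu0
  have he2 : red p n (Ideal.span {(p : B)}) z * (p : TruncatedWittVector p n _) +
      red p n (Ideal.span {(p : B)}) (x - t) ∈
      Ideal.span {(p : TruncatedWittVector p n (B ⧸ (Ideal.span {(p : B)})))} := by
    apply Ideal.add_mem
    · exact Ideal.mul_mem_left _ _ (Ideal.subset_span rfl)
    · rw [red_apply, hv, map_mul, map_natCast]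
      exact Ideal.mul_mem_left _ _ (Ideal.subset_span rfl)
  have hsplit : red p n (Ideal.span {(p : B)}) x =
      (red p n (Ideal.span {(p : B)}) t -
        red p n (Ideal.span {(p : B)}) z * (p : TruncatedWittVector p n _)) +
      (red p n (Ideal.span {(p : B)}) z * (p : TruncatedWittVector p n _) +
        red p n (Ideal.span {(p : B)}) (x - t)) := by
    rw [map_sub]; ring
  rw [hsplit]
  exact Submodule.add_mem_sup he1 he2

/-- θ is surjective when Frobenius of `B/p` is surjective. -/
lemma theta_surjective (h : (p : B) ^ n = 0)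
    (hF : Function.Surjective (fun y : B ⧸ (Ideal.span {(p : B)}) => y ^ p))
    (θ : TruncatedWittVector p n (B ⧸ (Ideal.span {(p : B)})) →+* B)
    (hred : ∀ x : WittVector p B, θ (red p n (Ideal.span {(p : B)}) x) =
      WittVector.ghostComponent n x) : Function.Surjective θ := by
  intro y
  obtain ⟨z, hz⟩ := exists_ghost_eq h hF y
  exact ⟨_, (hred z).trans hz⟩

end ModP

end Groth.Agent.Lib.Helper6.ThetaWn
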