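import Mathlib

set_option linter.unusedSectionVars false
set_option autoImplicit false
set_option maxHeartbeats 400000

noncomputable section

namespace Groth.Agent.Lib.Helper6.Todd

open PowerSeries

local notation "D" => PowerSeries.derivative ℚ
local notation "E" => PowerSeries.exp ℚ

theorem coeff_X_mul_derivative (g : PowerSeries ℚ) (n : ℕ) :
    coeff n (X * D g) = (n : ℚ) * coeff n g := by
  cases n with
  | zero => simp
  | succ k =>
    rw [coeff_succ_X_mul, coeff_derivative]
    push_cast; ring

theorem derivative_rescale (a : ℚ) (g : PowerSeries ℚ) :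
    D (rescale a g) = C a * rescale a (D g) := by
  ext n
  rw [coeff_derivative, coeff_rescale, coeff_C_mul, coeff_rescale, coeff_derivative]
  ring

theorem derivative_rescale_exp (a : ℚ) : D (rescale a E) = C a * rescale a E := by
  rw [derivative_rescale, derivative_exp]

theorem exp_sub_one_ne_zero : (E - 1 : PowerSeries ℚ) ≠ 0 := by
  intro h
  have := congrArg (coeff 1) h
  rw [map_sub, coeff_exp, map_zero] at this
  simp at this

theorem constCoeff_eq_one {f : PowerSeries ℚ} (hf : f * (E - 1) = X * E) : coeff 0 f = 1 := by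
  have := congrArg (coeff 1) hf
  rw [coeff_succ_X_mul, coeff_exp, coeff_mul] at this
  rw [Finset.Nat.antidiagonal_succ] at this
  simp at this
  simpa using this

theorem ode {f : PowerSeries ℚ} (hf : f * (E - 1) = X * E) :
    X * D f = f - f ^ 2 + X * f := by
  have h2 : D f * (E - 1) + f * E = E + X * E := by
    have := congrArg D hf
    rw [Derivation.leibniz, Derivation.leibniz, map_sub, derivative_exp, derivative_one,
      derivative_X, sub_zero] at this
    simp only [smul_eq_mul] at this
    linear_combination this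
  have key : (X * D f) * (E - 1) ^ 2 = (f - f ^ 2 + X * f) * (E - 1) ^ 2 := by
    linear_combination (X * (E - 1)) * h2 + ((E - 1) * (f - 1 - X)) * hf
  exact mul_right_cancel₀ (pow_ne_zero 2 exp_sub_one_ne_zero) key

theorem rec_step {f : PowerSeries ℚ} (hode : X * D f = f - f ^ 2 + X * f) (m : ℚ) (n : ℕ) :
    ((n : ℚ) + 1) * coeff (n + 1) (rescale m E * f ^ (n + 2)) =
      (m + n + 1) * coeff n (rescale m E * f ^ (n + 1)) := by
  have hD : D (rescale m E * f ^ (n + 1)) =
      C m * rescale m E * f ^ (n + 1) + rescale m E * (C ((n : ℚ) + 1) * f ^ n * D f) := by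
    rw [Derivation.leibniz, derivative_rescale_exp, derivative_pow]
    simp only [smul_eq_mul, Nat.add_sub_cancel]
    have : ((n + 1 : ℕ) : PowerSeries ℚ) = C ((n : ℚ) + 1) := by
      rw [← map_natCast (C (R := ℚ))]; push_cast; rfl
    rw [this]; ring
  have hid : C ((n : ℚ) + 1) * (rescale m E * f ^ (n + 2)) =
      C (m + n + 1) * (X * (rescale m E * f ^ (n + 1))) +
        C ((n : ℚ) + 1) * (rescale m E * f ^ (n + 1)) - X * D (rescale m E * f ^ (n + 1)) := by
    rw [hD]
    have e1 : (C (m + n + 1) : PowerSeries ℚ) = C m + C ((n : ℚ) + 1) := by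
      rw [← map_add]; congr 1; ring
    rw [e1]
    linear_combination (C ((n : ℚ) + 1) * rescale m E * f ^ n) * hode
  have := congrArg (coeff (n + 1)) hid
  rw [coeff_C_mul, map_sub, map_add, coeff_C_mul, coeff_C_mul, coeff_succ_X_mul,
    coeff_X_mul_derivative] at this
  rw [this]; push_cast; ring

theorem coeff_eq_choose {f : PowerSeries ℚ} (hf : f * (E - 1) = X * E) (m : ℤ) (n : ℕ) :
    coeff n (rescale (m : ℚ) E * f ^ (n + 1)) = ((Ring.choose (m + n : ℤ) n : ℤ) : ℚ) := by
  induction n with
  | zero =>
    rw [Ring.choose_zero_right]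
    simp only [zero_add, pow_one, Int.cast_one]
    rw [coeff_mul]
    simp [constCoeff_eq_one hf, coeff_rescale]
  | succ n ih =>
    have hrec := rec_step (ode hf) (m : ℚ) n
    rw [ih] at hrec
    have hch : ((n : ℤ) + 1) * Ring.choose (m + (n + 1 : ℕ) : ℤ) (n + 1) =
        (m + n + 1) * Ring.choose (m + n : ℤ) n := by
      have := Ring.choose_smul_choose (m + (n + 1 : ℕ) : ℤ) (show 1 ≤ n + 1 by omega)
      rw [Nat.choose_one_right, Ring.choose_one_right, Nat.add_sub_cancel] at this
      rw [nsmul_eq_mul] at this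
      push_cast at this
      rw [show m + ((n : ℤ) + 1) - 1 = m + n by ring] at this
      push_cast
      linear_combination this
    have hch' : ((n : ℚ) + 1) * ((Ring.choose (m + (n + 1 : ℕ) : ℤ) (n + 1) : ℤ) : ℚ) =
        ((m : ℚ) + n + 1) * ((Ring.choose (m + n : ℤ) n : ℤ) : ℚ) := by
      exact_mod_cast hch
    have hne : ((n : ℚ) + 1) ≠ 0 := by positivity
    apply mul_left_cancel₀ hne
    rw [hrec, hch']

/-- uniqueness: the conditions determine f. -/
theorem unique_of_coeff {f g : PowerSeries ℚ}
    (hf : ∀ n : ℕ, coeff n (f ^ (n + 1)) = 1) (hg : ∀ n : ℕ, coeff n (g ^ (n + 1)) = 1) :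
    f = g := by
  have hf0 : coeff 0 f = 1 := by simpa using hf 0
  have key : ∀ n : ℕ, X ^ n ∣ g - f := by
    intro n
    induction n with
    | zero => simp
    | succ n ih =>
      obtain ⟨d, hd⟩ := ih
      have hgd : g = f + X ^ n * d := by rw [← hd]; ring
      -- coefficient n of g^(n+1)
      rcases Nat.eq_zero_or_pos n with h0 | hpos
      · subst h0
        have hg0 : coeff 0 g = 1 := by simpa using hg 0
        rw [zero_add, pow_one, X_dvd_iff, map_sub, ← coeff_zero_eq_constantCoeff, hg0, hf0,
          sub_self]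
      · obtain ⟨k, hk⟩ := Polynomial.powAddExpansion f (X ^ n * d) (n + 1)
        rw [← hgd, Nat.add_sub_cancel] at hk
        have h1 := congrArg (coeff n) hk
        rw [hg n, map_add, map_add, hf n] at h1
        have h2 : coeff n (k * (X ^ n * d) ^ 2) = 0 := by
          have hdvd : X ^ (n + 1) ∣ k * (X ^ n * d) ^ 2 := by
            refine Dvd.dvd.mul_left ?_ k
            rw [mul_pow, ← pow_mul]
            exact Dvd.dvd.mul_right (pow_dvd_pow X (by nlinarith)) _
          exact (X_pow_dvd_iff.1 hdvd) n (Nat.lt_succ_self n)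
        have h3 : coeff n (((n + 1 : ℕ) : PowerSeries ℚ) * f ^ n * (X ^ n * d)) =
            ((n : ℚ) + 1) * coeff 0 d := by
          have e : ((n + 1 : ℕ) : PowerSeries ℚ) * f ^ n * (X ^ n * d) =
              X ^ n * (C ((n : ℚ) + 1) * (f ^ n * d)) := by
            have : ((n + 1 : ℕ) : PowerSeries ℚ) = C ((n : ℚ) + 1) := by
              rw [← map_natCast (C (R := ℚ))]; push_cast; rfl
            rw [this]; ring
          rw [e, coeff_X_pow_mul', if_pos le_rfl, Nat.sub_self, coeff_C_mul, coeff_mul]
          simp only [Finset.Nat.antidiagonal_zero, Finset.sum_singleton]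
          rw [coeff_zero_eq_constantCoeff, map_pow, ← coeff_zero_eq_constantCoeff, hf0, one_pow,
            one_mul]
        rw [h2, h3, add_zero] at h1
        have hne : ((n : ℚ) + 1) ≠ 0 := by positivity
        have hd0 : coeff 0 d = 0 := by
          have : ((n : ℚ) + 1) * coeff 0 d = 0 := by linarith
          exact (mul_eq_zero.1 this).resolve_left hne
        have hXd : X ∣ d := by
          rw [X_dvd_iff, ← coeff_zero_eq_constantCoeff]; exact hd0
        obtain ⟨d', rfl⟩ := hXd
        exact ⟨d', by rw [hd, pow_succ]; ring⟩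
  ext n
  have := key (n + 1)
  rw [X_pow_dvd_iff] at this
  have h := this n (Nat.lt_succ_self n)
  rw [map_sub, sub_eq_zero] at h
  exact h.symm

theorem exists_todd : ∃ T : PowerSeries ℚ, T * (E - 1) = X * E := by
  have hX : (X : PowerSeries ℚ) ∣ E - 1 := by
    rw [X_dvd_iff, map_sub, constantCoeff_exp, map_one, sub_self]
  obtain ⟨u, hu⟩ := hX
  have hu0 : constantCoeff u ≠ 0 := by
    have := congrArg (coeff 1) hu
    rw [coeff_succ_X_mul, map_sub, coeff_exp, coeff_zero_eq_constantCoeff] at this
    rw [← this]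
    simp
  refine ⟨E * u⁻¹, ?_⟩
  rw [hu]
  have := PowerSeries.inv_mul_cancel u hu0
  linear_combination (X * E) * this

theorem coeff_of_eq {f : PowerSeries ℚ} (hf : f * (E - 1) = X * E) (n : ℕ) :
    coeff n (f ^ (n + 1)) = 1 := by
  have := coeff_eq_choose hf 0 n
  rw [Int.cast_zero, rescale_zero_apply, constantCoeff_exp, map_one, one_mul, zero_add,
    Ring.choose_natCast, Nat.choose_self] at this
  simpa using this

theorem main_iff (f : PowerSeries ℚ) :
    (∀ n : ℕ, coeff n (f ^ (n + 1)) = 1) ↔ f * (E - 1) = X * E := by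
  constructor
  · intro h
    obtain ⟨T, hT⟩ := exists_todd
    have := unique_of_coeff h (coeff_of_eq hT)
    rw [this]; exact hT
  · intro h n
    exact coeff_of_eq h n

end Groth.Agent.Lib.Helper6.Todd
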