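import Mathlib

/-! Finitely generated torsion modules over a Noetherian domain of dimension ≤ 1 are Artinian. -/

set_option linter.unusedSectionVars false
set_option autoImplicit false
noncomputable section

namespace Groth.Agent.Lib.Helper6.TorsionFinLen

universe u v

variable {R : Type u} [CommRing R] [IsDomain R] {M : Type v} [AddCommGroup M] [Module R M]

lemma exists_ne_zero_smul_eq_zero [Module.Finite R M] (hM : Module.IsTorsion R M) :
    ∃ a : R, a ≠ 0 ∧ ∀ m : M, a • m = 0 := by
  obtain ⟨s, hs⟩ := (Module.finite_def.1 ‹Module.Finite R M›)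
  classical
  have h1 : ∀ x : M, ∃ a : R, a ≠ 0 ∧ a • x = 0 := fun x => by
    obtain ⟨a, ha⟩ := @hM x
    exact ⟨a, nonZeroDivisors.coe_ne_zero a, ha⟩
  choose a ha0 ha using h1
  refine ⟨∏ x ∈ s, a x, Finset.prod_ne_zero_iff.2 fun x _ => ha0 x, fun m => ?_⟩
  have hm : m ∈ Submodule.span R (s : Set M) := hs ▸ Submodule.mem_top
  induction hm using Submodule.span_induction with
  | mem x hx =>
    rw [← Finset.mul_prod_erase s a hx, mul_comm, mul_smul, ha, smul_zero]
  | zero => exact smul_zero _
  | add x y _ _ hx hy => rw [smul_add, hx, hy, add_zero]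
  | smul r x _ hx => rw [smul_comm, hx, smul_zero]

theorem isArtinian_of_finite_torsion [IsNoetherianRing R] [Ring.KrullDimLE 1 R]
    [Module.Finite R M] (hM : Module.IsTorsion R M) : IsArtinian R M := by
  obtain ⟨a, ha0, ha⟩ := exists_ne_zero_smul_eq_zero hM
  have hfl : IsFiniteLength R (R ⧸ Ideal.span {a}) :=
    isFiniteLength_quotient_span_singleton R (mem_nonZeroDivisors_of_ne_zero ha0)
  have hart : IsArtinian R (R ⧸ Ideal.span {a}) :=
    (isFiniteLength_iff_isNoetherian_isArtinian.1 hfl).2
  obtain ⟨n, f, hf⟩ := Module.Finite.exists_fin' R M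
  -- `f : (Fin n → R) →ₗ[R] M` surjective; factor through `(Fin n → R ⧸ (a))`
  let π : (Fin n → R) →ₗ[R] (Fin n → R ⧸ Ideal.span {a}) :=
    LinearMap.pi fun i => (Submodule.mkQ (Ideal.span {a})) ∘ₗ LinearMap.proj i
  have hπ : Function.Surjective π := by
    intro y
    choose x hx using fun i => Submodule.mkQ_surjective (Ideal.span {a}) (y i)
    exact ⟨x, funext hx⟩
  have hker : LinearMap.ker π ≤ LinearMap.ker f := by
    intro x hx
    rw [LinearMap.mem_ker] at hx ⊢
    have h1 : ∀ i, x i ∈ Ideal.span {a} := fun i => by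
      have := congr_fun hx i
      exact (Submodule.Quotient.mk_eq_zero _).1 this
    have h2 : ∀ i, ∃ c, x i = c * a := fun i => by
      obtain ⟨c, hc⟩ := Ideal.mem_span_singleton'.1 (h1 i)
      exact ⟨c, hc.symm⟩
    choose c hc using h2
    have h3 : x = a • c := by
      funext i
      rw [hc i, Pi.smul_apply, smul_eq_mul, mul_comm]
    rw [h3, map_smul, ha]
  let g : (Fin n → R ⧸ Ideal.span {a}) →ₗ[R] M :=
    (LinearMap.ker π).liftQ f hker ∘ₗ (π.quotKerEquivOfSurjective hπ).symm.toLinearMap
  have hg : Function.Surjective g := by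
    intro m
    obtain ⟨x, rfl⟩ := hf m
    refine ⟨π x, ?_⟩
    show (LinearMap.ker π).liftQ f hker ((π.quotKerEquivOfSurjective hπ).symm (π x)) = f x
    have : (π.quotKerEquivOfSurjective hπ).symm (π x) = Submodule.Quotient.mk x := by
      rw [LinearEquiv.symm_apply_eq]
      rfl
    rw [this]
    rfl
  exact isArtinian_of_surjective _ g hg

end Groth.Agent.Lib.Helper6.TorsionFinLen
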