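import Mathlib

/-! Trace for `R[x]/(x^p - a)` in characteristic `p` and the Cartier additivity identity:
helper for S7340. -/

set_option linter.style.haveILetI false

namespace Groth.Agent.Lib.Helper6.Cartier
open Finset
set_option linter.unusedSectionVars false

variable {R B N : Type*} [CommRing R] [CommRing B] [Algebra R B] [AddCommGroup N] [Module B N]
  [Module R N] [IsScalarTower R B N] (D : Derivation R B N)

/-- coefficients of `((u+v)^p - u^p - v^p)/p`, `p = q + 1` -/
def w (q m : ℕ) : ℕ := (q + 1).choose (m + 1) / (q + 1)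

lemma w_spec {q : ℕ} (hp : (q + 1).Prime) {m : ℕ} (hm : m < q) :
    (q + 1).choose (m + 1) = (q + 1) * w q m := by
  have : (q + 1) ∣ (q + 1).choose (m + 1) :=
    hp.dvd_choose_self (Nat.succ_ne_zero m) (Nat.succ_lt_succ hm)
  rw [w, Nat.mul_div_cancel' this]

lemma w_mul_succ {q : ℕ} (hp : (q + 1).Prime) {m : ℕ} (hm : m < q) :
    w q m * (m + 1) = q.choose m := by
  have h1 := Nat.add_one_mul_choose_eq q m
  rw [w_spec hp hm, mul_assoc] at h1
  exact (Nat.eq_of_mul_eq_mul_left (Nat.succ_pos q) h1).symm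

lemma w_mul_sub {q : ℕ} (hp : (q + 1).Prime) {m : ℕ} (hm : m < q) :
    w q m * (q - m) = q.choose (m + 1) := by
  have h1 := Nat.choose_mul_succ_eq q (m + 1)
  rw [w_spec hp hm, Nat.add_sub_add_right, mul_comm (q.choose (m + 1)), mul_assoc] at h1
  exact (Nat.eq_of_mul_eq_mul_left (Nat.succ_pos q) h1).symm

/-- `((u+v)^p - u^p - v^p)/p` -/
def W (q : ℕ) (u v : B) : B := ∑ m ∈ range q, (w q m : B) * (u ^ (m + 1) * v ^ (q - m))

theorem D_W {q : ℕ} (hp : (q + 1).Prime) (u v : B) :
    D (W q u v) = (u + v) ^ q • D (u + v) - u ^ q • D u - v ^ q • D v := by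
  have h1 : (u + v) ^ q - u ^ q = ∑ m ∈ range q, (q.choose m : B) * (u ^ m * v ^ (q - m)) := by
    rw [add_pow, sum_range_succ]
    simp only [Nat.sub_self, pow_zero, mul_one, Nat.choose_self, Nat.cast_one, add_sub_cancel_right]
    exact sum_congr rfl fun m _ => by ring
  have h2 : (u + v) ^ q - v ^ q =
      ∑ m ∈ range q, (q.choose (m + 1) : B) * (u ^ (m + 1) * v ^ (q - (m + 1))) := by
    rw [add_pow, sum_range_succ']
    simp only [pow_zero, Nat.sub_zero, one_mul, Nat.choose_zero_right, Nat.cast_one, mul_one,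
      add_sub_cancel_right]
    exact sum_congr rfl fun m _ => by ring
  have h3 : (u + v) ^ q • D (u + v) - u ^ q • D u - v ^ q • D v =
      ((u + v) ^ q - u ^ q) • D u + ((u + v) ^ q - v ^ q) • D v := by
    rw [map_add, smul_add, sub_smul, sub_smul]; abel
  rw [h3, h1, h2, W, map_sum, sum_smul, sum_smul, ← sum_add_distrib]
  refine sum_congr rfl fun m hm => ?_
  have hm' : m < q := mem_range.mp hm
  rw [← nsmul_eq_mul, map_nsmul, Derivation.leibniz, Derivation.leibniz_pow, Derivation.leibniz_pow,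
    Nat.add_sub_cancel]
  have e1 : (w q m) • (u ^ (m + 1) • (q - m) • v ^ (q - m - 1) • D v + v ^ (q - m) • (m + 1) • u ^ m • D u)
      = ((w q m * (q - m) : ℕ) : B) • (u ^ (m + 1) * v ^ (q - m - 1)) • D v
        + ((w q m * (m + 1) : ℕ) : B) • (u ^ m * v ^ (q - m)) • D u := by
    simp only [smul_add, ← Nat.cast_smul_eq_nsmul B, smul_smul, Nat.cast_mul, Nat.cast_add,
      Nat.cast_one]
    congr 1 <;> congr 1 <;> ring
  rw [e1, w_mul_sub hp hm', w_mul_succ hp hm', smul_smul, smul_smul, add_comm]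
  rfl

end Groth.Agent.Lib.Helper6.Cartier

namespace Groth.Agent.Lib.Helper6.TraceP
open Polynomial AdjoinRoot
set_option linter.unusedSectionVars false

universe u
variable (p : ℕ) [hp : Fact p.Prime] (R : Type u) [CommRing R] [CharP R p] (b : R)

lemma root_pow_p : (AdjoinRoot.root (X ^ p - C b : R[X])) ^ p
    = algebraMap R (AdjoinRoot (X ^ p - C b : R[X])) b := by
  have h : AdjoinRoot.mk (X ^ p - C b : R[X]) (X ^ p - C b) = 0 := AdjoinRoot.mk_self
  rw [map_sub, map_pow, AdjoinRoot.mk_X, AdjoinRoot.mk_C, sub_eq_zero] at h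
  rw [h]; rfl

lemma monic_gen : (X ^ p - C b : R[X]).Monic := monic_X_pow_sub_C b hp.out.ne_zero

lemma of_injective : Function.Injective (algebraMap R (AdjoinRoot (X ^ p - C b : R[X]))) := by
  rw [injective_iff_map_eq_zero]
  intro r hr
  have h1 : AdjoinRoot.mk (X ^ p - C b : R[X]) (C r) = 0 := hr
  rw [AdjoinRoot.mk_eq_zero] at h1
  by_contra hr0
  haveI : Nontrivial R := ⟨⟨r, 0, hr0⟩⟩
  have hC : (C r : R[X]) ≠ 0 := fun h => hr0 (C_eq_zero.mp h)
  refine (monic_gen p R b).not_dvd_of_degree_lt hC ?_ h1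
  rw [degree_C hr0, degree_X_pow_sub_C hp.out.pos]
  exact_mod_cast hp.out.pos

variable (T : Ω[AdjoinRoot (X ^ p - C b : R[X])⁄R] →ₗ[R] Ω[R⁄ℤ])
  (hT : ∀ i : ℕ, i + 2 ≤ p → T ((AdjoinRoot.root (X ^ p - C b : R[X])) ^ i •
    KaehlerDifferential.D R _ (AdjoinRoot.root (X ^ p - C b : R[X]))) = 0)
  (hT' : T ((AdjoinRoot.root (X ^ p - C b : R[X])) ^ (p - 1) •
    KaehlerDifferential.D R _ (AdjoinRoot.root (X ^ p - C b : R[X]))) = KaehlerDifferential.D ℤ R b)

include hT hT' in
lemma T_root_pow (k r : ℕ) (hr : r < p) :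
    T ((AdjoinRoot.root (X ^ p - C b : R[X])) ^ (k * p + r) •
      KaehlerDifferential.D R _ (AdjoinRoot.root (X ^ p - C b : R[X])))
      = if r = p - 1 then b ^ k • KaehlerDifferential.D ℤ R b else 0 := by
  have h1 : (AdjoinRoot.root (X ^ p - C b : R[X])) ^ (k * p + r)
      = algebraMap R _ (b ^ k) * (AdjoinRoot.root (X ^ p - C b : R[X])) ^ r := by
    rw [pow_add, mul_comm k p, pow_mul, root_pow_p, map_pow]
  rw [h1, ← Algebra.smul_def, smul_assoc, map_smul]
  split_ifs with h
  · rw [h, hT']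
  · rw [hT r (by have := hp.out.two_le; omega), smul_zero]


/-- every element is a polynomial in the root: induction principle -/
lemma ind_on {P : AdjoinRoot (X ^ p - C b : R[X]) → Prop}
    (hadd : ∀ u v, P u → P v → P (u + v))
    (hmon : ∀ (n : ℕ) (c : R), P (c • (AdjoinRoot.root (X ^ p - C b : R[X])) ^ n))
    (h : AdjoinRoot (X ^ p - C b : R[X])) : P h := by
  induction h using AdjoinRoot.induction_on with
  | ih f =>
    induction f using Polynomial.induction_on' with
    | add f g hf hg => rw [map_add]; exact hadd _ _ hf hg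
    | monomial n c =>
      have : AdjoinRoot.mk (X ^ p - C b : R[X]) (monomial n c)
          = c • (AdjoinRoot.root (X ^ p - C b : R[X])) ^ n := by
        rw [← C_mul_X_pow_eq_monomial, map_mul, map_pow, AdjoinRoot.mk_X, AdjoinRoot.mk_C,
          Algebra.smul_def]
        rfl
      rw [this]; exact hmon n c

lemma natCast_smul_eq_zero {N : Type*} [AddCommGroup N] [Module R N] (n : ℕ) (hn : p ∣ n) (ω : N) :
    n • ω = 0 := by
  rw [← Nat.cast_smul_eq_nsmul R, (CharP.cast_eq_zero_iff R p n).mpr hn, zero_smul]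

include hT hT' in
lemma T_D (h : AdjoinRoot (X ^ p - C b : R[X])) :
    T (KaehlerDifferential.D R _ h) = 0 := by
  induction h using ind_on p R b with
  | hadd u v hu hv => rw [map_add, map_add, hu, hv, add_zero]
  | hmon n c =>
    rw [Derivation.map_smul, map_smul, Derivation.leibniz_pow, map_nsmul]
    rcases Nat.eq_zero_or_pos n with rfl | hn
    · rw [zero_smul, smul_zero]
    · obtain ⟨k, r, hr, hkr⟩ : ∃ k r, r < p ∧ n - 1 = k * p + r :=
        ⟨(n - 1) / p, (n - 1) % p, Nat.mod_lt _ hp.out.pos, by rw [mul_comm]; exact (Nat.div_add_mod _ _).symm⟩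
      rw [hkr, T_root_pow p R b T hT hT' k r hr]
      split_ifs with h
      · have hdvd : p ∣ n := ⟨k + 1, by have := hp.out.pos; rw [mul_add, mul_comm p k]; omega⟩
        rw [natCast_smul_eq_zero p R n hdvd, smul_zero]
      · rw [smul_zero, smul_zero]


lemma isUnit_natCast (n : ℕ) (h0 : 0 < n) (hn : n < p) : IsUnit ((n : ℕ) : R) := by
  have h1 : ((n : ℕ) : ZMod p) ≠ 0 := by
    rw [Ne, ZMod.natCast_eq_zero_iff]
    exact Nat.not_dvd_of_pos_of_lt h0 hn
  have h2 : IsUnit ((n : ℕ) : ZMod p) := isUnit_iff_ne_zero.mpr h1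
  have := h2.map (ZMod.castHom (dvd_refl p) R)
  rwa [map_natCast] at this

include hT hT' in
lemma T_pow_D (r : ℕ) (hr : r + 2 ≤ p) (h : AdjoinRoot (X ^ p - C b : R[X])) :
    T (h ^ r • KaehlerDifferential.D R _ h) = 0 := by
  have h1 := T_D p R b T hT hT' (h ^ (r + 1))
  rw [Derivation.leibniz_pow, Nat.add_sub_cancel, map_nsmul, ← Nat.cast_smul_eq_nsmul R] at h1
  exact (isUnit_natCast p R (r + 1) (Nat.succ_pos r) (by omega)).smul_left_cancel.mp
    (h1.trans (smul_zero _).symm)


lemma smul_rearrange {S N : Type*} [CommRing S] [Algebra R S] [AddCommGroup N] [Module S N]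
    [Module R N] [IsScalarTower R S N] (c₁ c₂ c₃ : R) (s₁ s₂ : S) (ω : N) :
    (c₁ • s₁) • c₂ • c₃ • s₂ • ω = (c₁ * c₂ * c₃) • (s₁ * s₂) • ω := by
  rw [smul_assoc c₁ s₁, smul_comm s₁ c₂, smul_comm s₁ c₃, mul_smul, mul_smul, mul_smul]

lemma dZ_pow_p (c : R) : KaehlerDifferential.D ℤ R (c ^ p) = 0 := by
  rw [Derivation.leibniz_pow, natCast_smul_eq_zero p R p (dvd_refl p)]

include hT hT' in
lemma theta_monomial (c : R) (n : ℕ) :
    T ((c • (AdjoinRoot.root (X ^ p - C b : R[X])) ^ n) ^ (p - 1) •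
      KaehlerDifferential.D R _ (c • (AdjoinRoot.root (X ^ p - C b : R[X])) ^ n))
      = KaehlerDifferential.D ℤ R (c ^ p * b ^ n) := by
  rw [Derivation.leibniz, dZ_pow_p p R c, smul_zero, add_zero]
  rcases Nat.eq_zero_or_pos n with rfl | hn
  · rw [pow_zero, pow_zero, Derivation.map_smul, Derivation.map_one_eq_zero, smul_zero, smul_zero,
      map_zero, Derivation.map_one_eq_zero, smul_zero]
  · obtain ⟨k, rfl⟩ : ∃ k, n = k + 1 := ⟨n - 1, by omega⟩
    obtain ⟨q, hq⟩ : ∃ q, p = q + 1 := ⟨p - 1, by have := hp.out.pos; omega⟩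
    have e1 : (c • (AdjoinRoot.root (X ^ p - C b : R[X])) ^ (k + 1)) ^ (p - 1) •
        KaehlerDifferential.D R _ (c • (AdjoinRoot.root (X ^ p - C b : R[X])) ^ (k + 1))
        = (c ^ p * ((k + 1 : ℕ) : R)) • ((AdjoinRoot.root (X ^ p - C b : R[X])) ^ (k * p + (p - 1)) •
          KaehlerDifferential.D R _ (AdjoinRoot.root (X ^ p - C b : R[X]))) := by
      rw [Derivation.map_smul, Derivation.leibniz_pow, Nat.add_sub_cancel, _root_.smul_pow,
        ← Nat.cast_smul_eq_nsmul R (k + 1)]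
      rw [smul_rearrange R, ← pow_mul, ← pow_add]
      congr 2
      · rw [hq, Nat.add_sub_cancel, ← pow_succ]
      · rw [hq, Nat.add_sub_cancel]
        ring
    rw [e1, map_smul, T_root_pow p R b T hT hT' k (p - 1) (by have := hp.out.pos; omega), if_pos rfl,
      Derivation.leibniz_pow, Nat.add_sub_cancel, ← Nat.cast_smul_eq_nsmul R (k + 1)]
    simp only [mul_smul]


include hT hT' in
lemma theta_exists (h : AdjoinRoot (X ^ p - C b : R[X])) :
    ∃ r : R, algebraMap R _ r = h ^ p ∧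
      T (h ^ (p - 1) • KaehlerDifferential.D R _ h) = KaehlerDifferential.D ℤ R r := by
  haveI : CharP (AdjoinRoot (X ^ p - C b : R[X])) p :=
    charP_of_injective_algebraMap (of_injective p R b) p
  induction h using ind_on p R b with
  | hmon n c =>
    refine ⟨c ^ p * b ^ n, ?_, theta_monomial p R b T hT hT' c n⟩
    rw [_root_.smul_pow, ← pow_mul, mul_comm n p, pow_mul, root_pow_p, map_mul, map_pow, map_pow,
      Algebra.smul_def, map_pow]
  | hadd u v hu hv =>
    obtain ⟨ru, hru, hu⟩ := hu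
    obtain ⟨rv, hrv, hv⟩ := hv
    refine ⟨ru + rv, ?_, ?_⟩
    · rw [map_add, hru, hrv, add_pow_char]
    · have hq : (p - 1 + 1).Prime := by rw [Nat.sub_add_cancel hp.out.pos]; exact hp.out
      have h1 := Cartier.D_W (KaehlerDifferential.D R (AdjoinRoot (X ^ p - C b : R[X]))) hq u v
      have h2 := T_D p R b T hT hT' (Cartier.W (p - 1) u v)
      rw [h1, map_sub, map_sub, hu, hv] at h2
      rw [sub_sub, sub_eq_zero] at h2
      rw [h2, map_add]

include hT hT' in
lemma theta_of_pow_eq (h : AdjoinRoot (X ^ p - C b : R[X])) (a : R)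
    (ha : h ^ p = algebraMap R _ a) :
    T (h ^ (p - 1) • KaehlerDifferential.D R _ h) = KaehlerDifferential.D ℤ R a := by
  obtain ⟨r, hr, hθ⟩ := theta_exists p R b T hT hT' h
  rw [ha] at hr
  rw [hθ, of_injective p R b hr]

include hT hT' in
/-- general formula for `T (h^n • D h)` when `h^p = a` -/
lemma T_pow_general (h : AdjoinRoot (X ^ p - C b : R[X])) (a : R)
    (ha : h ^ p = algebraMap R _ a) (k r : ℕ) (hr : r < p) :
    T (h ^ (k * p + r) • KaehlerDifferential.D R _ h)
      = if r = p - 1 then a ^ k • KaehlerDifferential.D ℤ R a else 0 := by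
  have h1 : h ^ (k * p + r) = algebraMap R _ (a ^ k) * h ^ r := by
    rw [pow_add, mul_comm k p, pow_mul, ha, map_pow]
  rw [h1, ← Algebra.smul_def, smul_assoc, map_smul]
  split_ifs with hrp
  · rw [hrp, theta_of_pow_eq p R b T hT hT' h a ha]
  · rw [T_pow_D p R b T hT hT' r (by have := hp.out.two_le; omega), smul_zero]


end Groth.Agent.Lib.Helper6.TraceP

namespace Groth.Agent.Lib.Helper6.TraceP
open Polynomial AdjoinRoot
universe v
variable (p : ℕ) [hp : Fact p.Prime] (R : Type v) [CommRing R] [CharP R p] (a b : R)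
    (φ : AdjoinRoot (X ^ p - C a : R[X]) →ₐ[R] AdjoinRoot (X ^ p - C b : R[X]))
    (Tx : Ω[AdjoinRoot (X ^ p - C a : R[X])⁄R] →ₗ[R] Ω[R⁄ℤ])
    (Ty : Ω[AdjoinRoot (X ^ p - C b : R[X])⁄R] →ₗ[R] Ω[R⁄ℤ])
    (hTx : ∀ i : ℕ, i + 2 ≤ p →
      Tx (AdjoinRoot.root (X ^ p - C a) ^ i • KaehlerDifferential.D R _ (AdjoinRoot.root (X ^ p - C a))) = 0)
    (hTx' : Tx (AdjoinRoot.root (X ^ p - C a) ^ (p - 1) • KaehlerDifferential.D R _ (AdjoinRoot.root (X ^ p - C a))) =
      KaehlerDifferential.D ℤ R a)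
    (hTy : ∀ i : ℕ, i + 2 ≤ p →
      Ty (AdjoinRoot.root (X ^ p - C b) ^ i • KaehlerDifferential.D R _ (AdjoinRoot.root (X ^ p - C b))) = 0)
    (hTy' : Ty (AdjoinRoot.root (X ^ p - C b) ^ (p - 1) • KaehlerDifferential.D R _ (AdjoinRoot.root (X ^ p - C b))) =
      KaehlerDifferential.D ℤ R b)

include hTx hTx' hTy hTy' in
lemma key (n : ℕ) :
    Tx (AdjoinRoot.root (X ^ p - C a) ^ n • KaehlerDifferential.D R _ (AdjoinRoot.root (X ^ p - C a)))
      = Ty (φ (AdjoinRoot.root (X ^ p - C a)) ^ n •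
          KaehlerDifferential.D R _ (φ (AdjoinRoot.root (X ^ p - C a)))) := by
  have hg : φ (AdjoinRoot.root (X ^ p - C a)) ^ p = algebraMap R _ a := by
    rw [← map_pow, root_pow_p, AlgHom.commutes]
  have hn : n = n / p * p + n % p := (Nat.div_add_mod' n p).symm
  rw [hn, T_root_pow p R a Tx hTx hTx' _ _ (Nat.mod_lt _ hp.out.pos),
    T_pow_general p R b Ty hTy hTy' _ a hg _ _ (Nat.mod_lt _ hp.out.pos)]

include hTx hTx' hTy hTy' in
theorem final (s t : AdjoinRoot (X ^ p - C a : R[X])) :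
    Tx (s • KaehlerDifferential.D R _ t) = Ty (φ s • KaehlerDifferential.D R _ (φ t)) := by
  induction s using ind_on p R a with
  | hadd u v hu hv => rw [add_smul, map_add, hu, hv, map_add, add_smul, map_add]
  | hmon i c =>
    have e2 : φ (c • AdjoinRoot.root (X ^ p - C a) ^ i) = c • φ (AdjoinRoot.root (X ^ p - C a)) ^ i := by
      rw [map_smul, map_pow]
    rw [smul_assoc, LinearMap.map_smul, e2, smul_assoc, LinearMap.map_smul]
    congr 1
    induction t using ind_on p R a with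
    | hadd u v hu hv => rw [map_add, smul_add, map_add, hu, hv, map_add, map_add, smul_add, map_add]
    | hmon j c' =>
      have e3 : φ (c' • AdjoinRoot.root (X ^ p - C a) ^ j)
          = c' • φ (AdjoinRoot.root (X ^ p - C a)) ^ j := by
        rw [map_smul, map_pow]
      rw [e3, Derivation.map_smul, Derivation.map_smul, smul_comm, LinearMap.map_smul,
        smul_comm _ c', LinearMap.map_smul]
      congr 1
      rw [Derivation.leibniz_pow, Derivation.leibniz_pow, smul_comm, map_nsmul, smul_comm _ j,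
        map_nsmul, smul_smul, smul_smul, ← pow_add, ← pow_add]
      congr 1
      exact key p R a b φ Tx Ty hTx hTx' hTy hTy' _

end Groth.Agent.Lib.Helper6.TraceP
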