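import Groth.Agent.Lib.Helper6.W2Arith
import Groth.Agent.S13136

/-!
# Twisted Witt vectors of a Frobenius-split algebra (helper for S13147)
-/

set_option autoImplicit false
set_option linter.style.haveILetI false
set_option linter.unusedSectionVars false
universe u
open FrobAlg

namespace Groth.Agent.Lib.Helper6.W2Arith

section Split

variable (p : ℕ) [Fact p.Prime] {A : Type u} [CommRing A] [CharP A p]
variable (φ : A →+ A) (hφ : ∀ a b : A, φ (a ^ p * b) = a * φ b)

include hφ in
theorem mem_splitIdeal_iff (x : W2 p A) :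
    x ∈ splitIdeal p A φ ↔ x.coeff 0 = 0 ∧ φ (x.coeff 1) = 0 := by
  constructor
  · intro hx
    unfold splitIdeal at hx
    induction hx using Submodule.span_induction with
    | mem y hy => exact ⟨by simpa using hy.1, hy.2⟩
    | zero => exact ⟨by rw [TruncatedWittVector.coeff_zero], by rw [TruncatedWittVector.coeff_zero, map_zero]⟩
    | add y z _ _ hy hz =>
      rw [eq_V2_of_coeff_zero p hy.1, eq_V2_of_coeff_zero p hz.1, V2_add, V2_coeff_zero, V2_coeff_one,
        map_add, hy.2, hz.2, add_zero]
      exact ⟨rfl, rfl⟩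
    | smul a y _ hy =>
      rw [smul_eq_mul, mul_comm, eq_V2_of_coeff_zero p hy.1, V2_mul, V2_coeff_zero, V2_coeff_one,
        mul_comm, hφ, hy.2, mul_zero]
      exact ⟨rfl, rfl⟩
  · rintro ⟨h0, h1⟩
    exact Ideal.subset_span ⟨by simpa using h0, h1⟩

end Split

section Main

variable (p : ℕ) [Fact p.Prime] (k : Type u) [Field k] [CharP k p] [PerfectRing k p]
  (A : Type u) [CommRing A] [Algebra k A] (φ : A →+ A)

theorem isLift_twisted (hφ : ∀ a b : A, φ (a ^ p * b) = a * φ b) (hφ1 : φ 1 = 1) :
    IsLift p k A (W2 p A ⧸ splitIdeal p A φ)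
      ((Ideal.Quotient.mk (splitIdeal p A φ)).comp (WittGrp.truncMap p 2 (algebraMap k A)))
      (splitRes p A φ) := by
  set ι := (Ideal.Quotient.mk (splitIdeal p A φ)).comp (WittGrp.truncMap p 2 (algebraMap k A)) with hι
  have hcomm : (splitRes p A φ).comp ι = (algebraMap k A).comp (res p k) := by
    ext c
    simp only [hι, RingHom.comp_apply, splitRes, Ideal.Quotient.lift_mk, res_apply,
      WittGrp.coeff_truncMap]
  have hsurj : Function.Surjective (splitRes p A φ) := by
    intro a
    refine ⟨Ideal.Quotient.mk _ (WittVector.truncate 2 (WittVector.teichmuller p a)), ?_⟩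
    simp only [splitRes, Ideal.Quotient.lift_mk, res_apply, WittVector.coeff_truncate]
    exact WittVector.teichmuller_coeff_zero p a
  rcases subsingleton_or_nontrivial A with hA | hA
  · haveI : Subsingleton (W2 p A) := ⟨fun x y => W2_ext p (Subsingleton.elim _ _) (Subsingleton.elim _ _)⟩
    haveI : Subsingleton (W2 p A ⧸ splitIdeal p A φ) :=
      ⟨fun x y => by
        obtain ⟨x, rfl⟩ := Ideal.Quotient.mk_surjective x
        obtain ⟨y, rfl⟩ := Ideal.Quotient.mk_surjective y
        rw [Subsingleton.elim x y]⟩
    refine ⟨?_, hsurj, ?_, hcomm⟩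
    · letI := ι.toAlgebra
      change Module.Flat (W2 p k) (W2 p A ⧸ splitIdeal p A φ)
      infer_instance
    · ext m
      rw [Subsingleton.elim m 0]
      simp
  · haveI : CharP A p := charP_of_injective_algebraMap (algebraMap k A).injective p
    have hpk : (p : W2 p k) ∈ RingHom.ker (res p k) := by
      rw [RingHom.mem_ker, map_natCast, CharP.cast_eq_zero]
    -- key computation
    have key : ∀ x : W2 p A, x.coeff 0 = 0 →
        Ideal.Quotient.mk (splitIdeal p A φ) x =
          (p : W2 p A ⧸ splitIdeal p A φ) *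
            Ideal.Quotient.mk _ (WittVector.truncate 2 (WittVector.teichmuller p (φ (x.coeff 1)))) := by
      intro x hx
      have : (p : W2 p A ⧸ splitIdeal p A φ) = Ideal.Quotient.mk _ (p : W2 p A) := by
        rw [map_natCast]
      rw [this, ← map_mul, p_mul, Ideal.Quotient.eq, WittVector.coeff_truncate]
      nth_rewrite 1 [eq_V2_of_coeff_zero p hx]
      rw [V2_sub, mem_splitIdeal_iff p φ hφ, V2_coeff_zero, V2_coeff_one]
      refine ⟨rfl, ?_⟩
      have h1 : φ (φ (x.coeff 1) ^ p) = φ (x.coeff 1) := by
        have := hφ (φ (x.coeff 1)) 1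
        rwa [mul_one, hφ1, mul_one] at this
      change φ (x.coeff 1 - (WittVector.teichmuller p (φ (x.coeff 1))).coeff 0 ^ p) = 0
      rw [WittVector.teichmuller_coeff_zero, map_sub, h1, sub_self]
    refine ⟨?_, hsurj, ?_, hcomm⟩
    · letI := ι.toAlgebra
      change Module.Flat (W2 p k) (W2 p A ⧸ splitIdeal p A φ)
      rw [Groth.Agent.S13136.result p k]
      intro m hm
      obtain ⟨x, rfl⟩ := Ideal.Quotient.mk_surjective m
      have hsmul : ∀ z : W2 p A ⧸ splitIdeal p A φ,
          (p : W2 p k) • z = (p : W2 p A ⧸ splitIdeal p A φ) * z := by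
        intro z
        rw [Algebra.smul_def]
        congr 1
        change ι (p : W2 p k) = _
        rw [map_natCast]
      rw [hsmul] at hm
      have hp' : (p : W2 p A ⧸ splitIdeal p A φ) = Ideal.Quotient.mk _ (p : W2 p A) := by
        rw [map_natCast]
      rw [hp', ← map_mul, p_mul, Ideal.Quotient.eq_zero_iff_mem, mem_splitIdeal_iff p φ hφ,
        V2_coeff_one] at hm
      have hx0 : x.coeff 0 = 0 := by
        have := hφ (x.coeff 0) 1
        rw [mul_one, hφ1, mul_one, hm.2] at this
        exact this.symm
      refine ⟨Ideal.Quotient.mk _ (WittVector.truncate 2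
        (WittVector.teichmuller p (φ (x.coeff 1)))), ?_⟩
      rw [hsmul]
      exact key x hx0
    · apply le_antisymm
      · intro m hm
        obtain ⟨x, rfl⟩ := Ideal.Quotient.mk_surjective m
        rw [RingHom.mem_ker] at hm
        simp only [splitRes, Ideal.Quotient.lift_mk, res_apply] at hm
        rw [key x hm]
        refine Ideal.mul_mem_right _ _ ?_
        have : (p : W2 p A ⧸ splitIdeal p A φ) = ι (p : W2 p k) := by rw [map_natCast]
        rw [this]
        exact Ideal.mem_map_of_mem ι hpk
      · rw [Ideal.map_le_iff_le_comap]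
        intro c hc
        rw [Ideal.mem_comap, RingHom.mem_ker]
        have := congrArg (fun g => g c) hcomm
        simp only [RingHom.comp_apply] at this
        rw [this, RingHom.mem_ker.mp hc, map_zero]

end Main

end Groth.Agent.Lib.Helper6.W2Arith
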