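import Mathlib

set_option autoImplicit false

/-! Localization of an integrally closed domain away from an element: membership criteria. -/

namespace Groth.Agent.Helper6.UFDLoc

variable {A B : Type*} [CommRing A] [IsDomain A] [CommRing B] [Algebra A B]

theorem injective (π : A) [IsLocalization.Away π B] (hπ : π ≠ 0) :
    Function.Injective (algebraMap A B) :=
  IsLocalization.injective B (powers_le_nonZeroDivisors_of_noZeroDivisors hπ)

/-- If a power of `y` lies in `A`, then `y` lies in `A` (for `A` integrally closed). -/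
theorem mem_range_of_pow_mem_range [IsIntegrallyClosed A] (π : A) [IsLocalization.Away π B]
    (hπ : π ≠ 0) (y : B) (N : ℕ) (hN : N ≠ 0) (h : y ^ N ∈ (algebraMap A B).range) :
    y ∈ (algebraMap A B).range := by
  obtain ⟨k, a, hka⟩ := IsLocalization.Away.surj π y
  obtain ⟨α, hα⟩ := h
  have hinj := injective (B := B) π hπ
  have h1 : a ^ N = α * (π ^ k) ^ N := by
    apply hinj
    rw [map_pow, map_mul, map_pow, map_pow, ← hka, hα, mul_pow]
  have h2 : (π ^ k) ^ N ∣ a ^ N := ⟨α, by rw [h1, mul_comm]⟩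
  rw [IsIntegrallyClosed.pow_dvd_pow_iff hN] at h2
  obtain ⟨a₀, rfl⟩ := h2
  refine ⟨a₀, ?_⟩
  have hu : IsUnit (algebraMap A B π ^ k) := IsLocalization.Away.algebraMap_pow_isUnit π k
  rw [map_mul, map_pow, mul_comm] at hka
  exact (hu.mul_right_injective hka.symm)

/-- Divisibility by a product of pairwise non-associated primes. -/
theorem prod_dvd_of_primes [UniqueFactorizationMonoid A] {r : ℕ} (x : Fin r → A) (hx : ∀ i, Prime (x i))
    (hxa : ∀ i j, Associated (x i) (x j) → i = j) (z : A) (hz : ∀ i, x i ∣ z) :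
    (∏ i, x i) ∣ z := by
  apply Fintype.prod_dvd_of_isRelPrime _ hz
  intro i j hij
  change IsRelPrime (x i) (x j)
  rw [(hx i).irreducible.isRelPrime_iff_not_dvd]
  intro hdvd
  exact hij (hxa i j ((hx i).irreducible.associated_of_dvd (hx j).irreducible hdvd))

theorem prod_ne_zero {r : ℕ} (x : Fin r → A) (hx : ∀ i, Prime (x i)) : (∏ i, x i) ≠ 0 :=
  Finset.prod_ne_zero_iff.mpr fun i _ => (hx i).ne_zero

omit [IsDomain A] in
/-- the Laurent monomial as a fraction -/
theorem zmon_eq {r : ℕ} (x : Fin r → A) (u : Fin r → Bˣ) (hu : ∀ i, (u i : B) = algebraMap A B (x i))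
    (e : Fin r → ℕ) :
    ((∏ i, u i ^ (e i : ℤ) : Bˣ) : B) = algebraMap A B (∏ i, x i ^ e i) := by
  rw [Units.coe_prod, map_prod]
  refine Finset.prod_congr rfl fun i _ => ?_
  rw [zpow_natCast, Units.val_pow_eq_pow_val, hu, map_pow]

end Groth.Agent.Helper6.UFDLoc
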