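import Mathlib

namespace Groth.Agent.Lib.Helper6.UnivIdem

open TensorProduct

universe u

section tensor

variable {A : Type*} [CommRing A] {M : Type*} [AddCommGroup M] [Module A M]
  (A' : Type*) [CommRing A'] [Algebra A A']

/-- Every element of `M ⊗ A'` is a combination of the images of generators. -/
theorem exists_coeffs {n : ℕ} (f : (Fin n → A) →ₗ[A] M) (hf : Function.Surjective f)
    (z : M ⊗[A] A') :
    ∃ a : Fin n → A', z = ∑ i, f (Pi.single i 1) ⊗ₜ[A] a i := by
  induction z with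
  | zero => exact ⟨0, by simp⟩
  | tmul x a' =>
    obtain ⟨v, rfl⟩ := hf x
    refine ⟨fun i => v i • a', ?_⟩
    have hv : v = ∑ i, v i • (Pi.single i (1 : A) : Fin n → A) := by
      ext j
      simp [Finset.sum_apply, Pi.single_apply]
    conv_lhs => rw [hv]
    rw [map_sum, TensorProduct.sum_tmul]
    refine Finset.sum_congr rfl fun i _ => ?_
    rw [map_smul, TensorProduct.smul_tmul]
  | add x y hx hy =>
    obtain ⟨a, rfl⟩ := hx
    obtain ⟨b, rfl⟩ := hy
    refine ⟨a + b, ?_⟩
    rw [← Finset.sum_add_distrib]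
    refine Finset.sum_congr rfl fun i _ => ?_
    rw [Pi.add_apply, TensorProduct.tmul_add]

/-- Left inverse of the coordinate map. -/
noncomputable def coordInv (n : ℕ) : (Fin n → A) ⊗[A] A' →ₗ[A] (Fin n → A') :=
  TensorProduct.lift
    { toFun := fun v =>
        { toFun := fun a' => fun k => v k • a'
          map_add' := fun x y => by ext k; exact smul_add _ _ _
          map_smul' := fun c x => by ext k; exact smul_comm _ _ _ }
      map_add' := fun v w => by ext a' k; exact add_smul _ _ _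
      map_smul' := fun c v => by ext a' k; exact mul_smul _ _ _ }

@[simp] theorem coordInv_tmul (n : ℕ) (v : Fin n → A) (a' : A') (k : Fin n) :
    coordInv A' n (v ⊗ₜ a') k = v k • a' := rfl

/-- Relations among the generators in `M ⊗ A'` come from the relations in `M`. -/
theorem exists_rel {n m : ℕ} (f : (Fin n → A) →ₗ[A] M) (g : (Fin m → A) →ₗ[A] (Fin n → A))
    (hf : Function.Surjective f) (hfg : Function.Exact g f) (d : Fin n → A')
    (hd : ∑ k, f (Pi.single k 1) ⊗ₜ[A] d k = 0) :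
    ∃ t : Fin m → A', ∀ k, d k = ∑ l, g (Pi.single l 1) k • t l := by
  have hex := rTensor_exact A' hfg hf
  have h1 : (f.rTensor A') (∑ k, (Pi.single k (1 : A) : Fin n → A) ⊗ₜ[A] d k) = 0 := by
    rw [map_sum]
    simpa using hd
  obtain ⟨w, hw⟩ := (hex _).mp h1
  obtain ⟨t, ht⟩ := exists_coeffs A' (LinearMap.id : (Fin m → A) →ₗ[A] (Fin m → A))
    Function.surjective_id w
  refine ⟨t, fun k => ?_⟩
  have h2 := congrArg (fun z => coordInv A' n z k) hw
  simp only [ht, map_sum, LinearMap.rTensor_tmul, LinearMap.id_coe, id_eq, Finset.sum_apply,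
    coordInv_tmul] at h2
  rw [h2]
  simp [Pi.single_apply]

end tensor


section formulas

variable {A : Type*} [CommRing A] {B : Type*} [CommRing B] [Algebra A B]
  (A' : Type*) [CommRing A'] [Algebra A A']

theorem apply_eq_sum {n : ℕ} (f : (Fin n → A) →ₗ[A] B) (v : Fin n → A) :
    f v = ∑ k, v k • f (Pi.single k 1) := by
  have hv : v = ∑ i, v i • (Pi.single i (1 : A) : Fin n → A) := by
    ext j
    simp [Finset.sum_apply, Pi.single_apply]
  conv_lhs => rw [hv]
  rw [map_sum]
  refine Finset.sum_congr rfl fun i _ => ?_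
  rw [map_smul]

/-- The square of a combination of generators. -/
theorem sq_formula {n : ℕ} (f : (Fin n → A) →ₗ[A] B) (c : Fin n → Fin n → Fin n → A)
    (hc : ∀ i j, f (c i j) = f (Pi.single i 1) * f (Pi.single j 1)) (a : Fin n → A') :
    (∑ i, f (Pi.single i 1) ⊗ₜ[A] a i) * (∑ i, f (Pi.single i 1) ⊗ₜ[A] a i) =
      ∑ k, f (Pi.single k 1) ⊗ₜ[A] (∑ i, ∑ j, c i j k • (a i * a j)) := by
  rw [Finset.sum_mul_sum]
  simp only [Algebra.TensorProduct.tmul_mul_tmul, ← hc]
  simp only [TensorProduct.tmul_sum]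
  symm
  rw [Finset.sum_comm]
  refine Finset.sum_congr rfl fun i _ => ?_
  rw [Finset.sum_comm]
  refine Finset.sum_congr rfl fun j _ => ?_
  symm
  rw [apply_eq_sum f (c i j), TensorProduct.sum_tmul]
  refine Finset.sum_congr rfl fun k _ => ?_
  rw [TensorProduct.smul_tmul]

/-- Relations give zero. -/
theorem rel_zero {n m : ℕ} (f : (Fin n → A) →ₗ[A] B) (g : (Fin m → A) →ₗ[A] (Fin n → A))
    (hfg : Function.Exact g f) (t : Fin m → A') :
    ∑ k, f (Pi.single k 1) ⊗ₜ[A] (∑ l, g (Pi.single l 1) k • t l) = 0 := by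
  simp only [TensorProduct.tmul_sum]
  rw [Finset.sum_comm]
  refine Finset.sum_eq_zero fun l _ => ?_
  have h0 : f (g (Pi.single l 1)) = 0 := hfg.apply_apply_eq_zero _
  rw [apply_eq_sum f (g (Pi.single l 1))] at h0
  have : ∑ k, f (Pi.single k 1) ⊗ₜ[A] (g (Pi.single l 1) k • t l) =
      (∑ k, g (Pi.single l 1) k • f (Pi.single k 1)) ⊗ₜ[A] t l := by
    rw [TensorProduct.sum_tmul]
    refine Finset.sum_congr rfl fun k _ => ?_
    rw [TensorProduct.smul_tmul]
  rw [this, h0, TensorProduct.zero_tmul]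

end formulas


open MvPolynomial in
theorem main {A B : Type u} [CommRing A] [CommRing B] [Algebra A B] [Module.Finite A B]
    [Algebra.FinitePresentation A B] :
    ∃ (Au : Type u) (_ : CommRing Au) (_ : Algebra A Au) (eu : B ⊗[A] Au),
      Algebra.FinitePresentation A Au ∧ IsIdempotentElem eu ∧
      ∀ (A' : Type u) [CommRing A'] [Algebra A A'] (e : B ⊗[A] A'), IsIdempotentElem e →
        ∃ φ : Au →ₐ[A] A', Algebra.TensorProduct.map (AlgHom.id A B) φ eu = e := by
  have : Module.FinitePresentation A B := .of_finite_of_finitePresentation A B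
  obtain ⟨n, m, f, g, hf, hfg⟩ := Module.FinitePresentation.exists_fin' A B
  choose c hc using fun (i j : Fin n) => hf (f (Pi.single i 1) * f (Pi.single j 1))
  let rel : Fin n → MvPolynomial (Fin n ⊕ Fin m) A := fun k =>
    (∑ i, ∑ j, c i j k • (X (Sum.inl i) * X (Sum.inl j))) - X (Sum.inl k) -
      ∑ l, g (Pi.single l 1) k • X (Sum.inr l)
  let I : Ideal (MvPolynomial (Fin n ⊕ Fin m) A) := Ideal.span (Set.range rel)
  have hIfg : I.FG := Submodule.fg_span (Set.finite_range rel)
  let x : Fin n → MvPolynomial (Fin n ⊕ Fin m) A ⧸ I := fun i => Ideal.Quotient.mk I (X (Sum.inl i))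
  let t : Fin m → MvPolynomial (Fin n ⊕ Fin m) A ⧸ I := fun l => Ideal.Quotient.mk I (X (Sum.inr l))
  have hrel : ∀ k, (∑ i, ∑ j, c i j k • (x i * x j)) = x k + ∑ l, g (Pi.single l 1) k • t l := by
    intro k
    have h0 : Ideal.Quotient.mk I (rel k) = 0 :=
      Ideal.Quotient.eq_zero_iff_mem.mpr (Ideal.subset_span ⟨k, rfl⟩)
    have h1 : Ideal.Quotient.mk I (rel k) =
        (∑ i, ∑ j, c i j k • (x i * x j)) - x k - ∑ l, g (Pi.single l 1) k • t l := by
      show Ideal.Quotient.mkₐ A I (rel k) = _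
      simp only [rel, map_sub, map_sum, map_smul, map_mul]
      rfl
    rw [h1] at h0
    linear_combination h0
  refine ⟨MvPolynomial (Fin n ⊕ Fin m) A ⧸ I, inferInstance, inferInstance,
    ∑ i, f (Pi.single i 1) ⊗ₜ[A] x i, Algebra.FinitePresentation.quotient hIfg, ?_, ?_⟩
  · show _ * _ = _
    rw [sq_formula _ f c hc x]
    simp only [hrel, TensorProduct.tmul_add, Finset.sum_add_distrib]
    rw [rel_zero _ f g hfg t, add_zero]
  · intro A' _ _ e he
    obtain ⟨a, rfl⟩ := exists_coeffs A' f hf e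
    have hsq := sq_formula A' f c hc a
    have he' : (∑ i, f (Pi.single i 1) ⊗ₜ[A] a i) * (∑ i, f (Pi.single i 1) ⊗ₜ[A] a i) =
        ∑ i, f (Pi.single i 1) ⊗ₜ[A] a i := he
    rw [he'] at hsq
    have hd : ∑ k, f (Pi.single k 1) ⊗ₜ[A] ((∑ i, ∑ j, c i j k • (a i * a j)) - a k) = 0 := by
      simp only [TensorProduct.tmul_sub, Finset.sum_sub_distrib]
      rw [← hsq, sub_self]
    obtain ⟨t', ht'⟩ := exists_rel A' f g hf hfg _ hd
    let φ₀ : MvPolynomial (Fin n ⊕ Fin m) A →ₐ[A] A' := MvPolynomial.aeval (Sum.elim a t')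
    have hφ₀ : ∀ p ∈ I, φ₀ p = 0 := by
      intro p hp
      have hle : I ≤ RingHom.ker φ₀.toRingHom := by
        rw [Ideal.span_le]
        rintro _ ⟨k, rfl⟩
        show φ₀ (rel k) = 0
        simp only [rel, φ₀, map_sub, map_sum, map_smul, map_mul, MvPolynomial.aeval_X,
          Sum.elim_inl, Sum.elim_inr]
        rw [← ht' k, sub_self]
      exact hle hp
    refine ⟨Ideal.Quotient.liftₐ I φ₀ hφ₀, ?_⟩
    rw [map_sum]
    refine Finset.sum_congr rfl fun i _ => ?_
    rw [Algebra.TensorProduct.map_tmul]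
    simp only [AlgHom.coe_id, id_eq, x]
    congr 1
    show φ₀ (X (Sum.inl i)) = a i
    simp [φ₀]

end Groth.Agent.Lib.Helper6.UnivIdem
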