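import Mathlib
import Groth.Agent.Lib.Helper6.GeomIntegral

/-!
# Functions on `X_R` vanishing on a very dense open vanish (helper6; for S19310)
-/

namespace Groth.Agent.Lib.Helper6.VeryDense

universe u

set_option linter.unusedSectionVars false
set_option linter.style.haveILetI false

open TensorProduct Module

section Coord

variable {k : Type u} [Field k] {A : Type u} [CommRing A] [Algebra k A] {I : Type*}
  (b : Basis I k A)

/-- the basis of `S ⊗ A` over `S`. -/
noncomputable abbrev BB (S : Type u) [CommRing S] [Algebra k S] : Basis I S (S ⊗[k] A) :=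
  Algebra.TensorProduct.basis S b

lemma repr_map {S S' : Type u} [CommRing S] [Algebra k S] [CommRing S'] [Algebra k S']
    (ψ : S →ₐ[k] S') (y : S ⊗[k] A) (i : I) :
    (BB b S').repr (Algebra.TensorProduct.map ψ (AlgHom.id k A) y) i = ψ ((BB b S).repr y i) := by
  induction y using TensorProduct.induction_on with
  | zero => simp
  | tmul s a =>
    rw [Algebra.TensorProduct.map_tmul, AlgHom.id_apply]
    rw [Algebra.TensorProduct.basis_repr_tmul, Algebra.TensorProduct.basis_repr_tmul]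
    simp only [Finsupp.smul_apply, Finsupp.mapRange_apply, smul_eq_mul, map_mul, AlgHom.commutes]
  | add x y hx hy =>
    simp only [map_add, Finsupp.add_apply, hx, hy]

lemma repr_smul {S : Type u} [CommRing S] [Algebra k S] (e : S) (y : S ⊗[k] A) (i : I) :
    (BB b S).repr ((e ⊗ₜ[k] (1 : A)) * y) i = e * (BB b S).repr y i := by
  have : (e ⊗ₜ[k] (1 : A)) * y = e • y := by
    rw [Algebra.smul_def]; rfl
  rw [this, map_smul, Finsupp.smul_apply, smul_eq_mul]

lemma mem_of_repr_mem {S : Type u} [CommRing S] [Algebra k S] (P : Ideal (S ⊗[k] A))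
    (𝔪 : Ideal S)
    (h𝔪 : 𝔪 ≤ P.comap (Algebra.TensorProduct.includeLeftRingHom : S →+* S ⊗[k] A))
    (y : S ⊗[k] A) (hy : ∀ i, (BB b S).repr y i ∈ 𝔪) : y ∈ P := by
  rw [← (BB b S).linearCombination_repr y, Finsupp.linearCombination_apply, Finsupp.sum]
  apply Ideal.sum_mem
  intro i _
  rw [Algebra.smul_def]
  apply Ideal.mul_mem_right
  exact h𝔪 (hy i)

end Coord


section Main

variable (k : Type u) [Field k] [IsAlgClosed k] (A : Type u) [CommRing A] [Algebra k A] [IsDomain A]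
  [Algebra.FiniteType k A] (R : Type u) [CommRing R] [Algebra k R] {I : Type*} (b : Basis I k A)

theorem key (f : R ⊗[k] A) (hf : f ≠ 0) :
    ∃ m : Ideal R, m.IsMaximal ∧
      ∀ g : R ⊗[k] A, g * f = 0 → ∀ i, (BB b R).repr g i ∈ m := by
  classical
  set B := BB b R with hB
  let c : Ideal R := Ideal.span ((fun i => B.repr f i) '' ((B.repr f).support : Set I))
  have hcfg : (c : Submodule R R).FG :=
    Submodule.fg_span (Set.Finite.image _ (Finset.finite_toSet _))
  have hcoord : ∀ i, B.repr f i ∈ c := by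
    intro i
    by_cases hi : i ∈ (B.repr f).support
    · exact Ideal.subset_span ⟨i, hi, rfl⟩
    · rw [Finsupp.notMem_support_iff.1 hi]; exact c.zero_mem
  obtain ⟨i₁, hi₁⟩ : ∃ i, B.repr f i ≠ 0 := by
    by_contra hcon
    push Not at hcon
    apply hf
    apply B.repr.injective
    ext i
    rw [hcon i, map_zero, Finsupp.zero_apply]
  let 𝔞 : Ideal R := (c : Submodule R R).annihilator
  have h𝔞 : 𝔞 ≠ ⊤ := by
    intro h
    have h1 : (1 : R) ∈ 𝔞 := by rw [h]; trivial
    have := (Submodule.mem_annihilator.1 h1) _ (hcoord i₁)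
    rw [one_smul] at this
    exact hi₁ this
  obtain ⟨m, hm, h𝔞m⟩ := Ideal.exists_le_maximal 𝔞 h𝔞
  have hnak : ¬ (c : Submodule R R) ≤ m • (c : Submodule R R) := by
    intro hle
    obtain ⟨r, hr1, hr2⟩ :=
      Submodule.exists_sub_one_mem_and_smul_eq_zero_of_fg_of_le_smul m (c : Submodule R R) hcfg hle
    have hr𝔞 : r ∈ 𝔞 := Submodule.mem_annihilator.2 hr2
    have hrm : r ∈ m := h𝔞m hr𝔞
    have : (1 : R) ∈ m := by
      have := m.sub_mem hrm hr1
      simpa using this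
    exact hm.ne_top ((Ideal.eq_top_iff_one m).2 this)
  obtain ⟨i₀, hi₀⟩ : ∃ i₀, B.repr f i₀ ∉ m • (c : Submodule R R) := by
    by_contra hcon
    push Not at hcon
    apply hnak
    change Ideal.span _ ≤ _
    rw [Ideal.span_le]
    rintro _ ⟨i, -, rfl⟩
    exact hcon i
  set r₀ := B.repr f i₀ with hr₀
  letI : Field (R ⧸ m) := Ideal.Quotient.field m
  let W : Submodule R c := m • ⊤
  let v₀ : c ⧸ W := Submodule.Quotient.mk ⟨r₀, hcoord i₀⟩
  have hv₀ : v₀ ≠ 0 := by
    rw [Ne, Submodule.Quotient.mk_eq_zero, Submodule.mem_smul_top_iff]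
    exact hi₀
  obtain ⟨lam, hlam⟩ : ∃ lam : Module.Dual (R ⧸ m) (c ⧸ W), lam v₀ ≠ 0 := by
    by_contra hcon
    push Not at hcon
    exact hv₀ ((Module.forall_dual_apply_eq_zero_iff (R ⧸ m) v₀).1 hcon)
  let μ : c → R ⧸ m := fun r => lam (Submodule.Quotient.mk r)
  have μ_add : ∀ r r' : c, μ (r + r') = μ r + μ r' := by
    intro r r'
    change lam (Submodule.Quotient.mk (r + r')) = _
    rw [Submodule.Quotient.mk_add, map_add]
  have μ_smul : ∀ (s : R) (r : c), μ (s • r) = Ideal.Quotient.mk m s * μ r := by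
    intro s r
    change lam (Submodule.Quotient.mk (s • r)) = _
    rw [← Module.Quotient.mk_smul_mk, map_smul, smul_eq_mul]
  have μ_zero : μ 0 = 0 := by
    have := μ_smul 0 0
    rwa [zero_smul, map_zero, zero_mul] at this
  let 𝔟 : Ideal R :=
    { carrier := {r | ∃ h : r ∈ c, μ ⟨r, h⟩ = 0}
      zero_mem' := ⟨c.zero_mem, μ_zero⟩
      add_mem' := by
        rintro x y ⟨hx, hx0⟩ ⟨hy, hy0⟩
        refine ⟨c.add_mem hx hy, ?_⟩
        have := μ_add ⟨x, hx⟩ ⟨y, hy⟩
        rw [hx0, hy0, add_zero] at this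
        exact this
      smul_mem' := by
        rintro s x ⟨hx, hx0⟩
        refine ⟨c.mul_mem_left s hx, ?_⟩
        have := μ_smul s ⟨x, hx⟩
        rw [hx0, mul_zero] at this
        exact this }
  have mem𝔟 : ∀ r : R, r ∈ 𝔟 ↔ ∃ h : r ∈ c, μ ⟨r, h⟩ = 0 := fun r => Iff.rfl
  have hμr₀ : μ ⟨r₀, hcoord i₀⟩ ≠ 0 := hlam
  -- Claim A
  have claimA : ∀ s : R, s * r₀ ∈ 𝔟 ↔ s ∈ m := by
    intro s
    rw [mem𝔟]
    constructor
    · rintro ⟨h, h0⟩
      have := μ_smul s ⟨r₀, hcoord i₀⟩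
      have h1 : μ (s • ⟨r₀, hcoord i₀⟩) = 0 := h0
      rw [h1] at this
      rcases mul_eq_zero.1 this.symm with h2 | h2
      · exact Ideal.Quotient.eq_zero_iff_mem.1 h2
      · exact absurd h2 hμr₀
    · intro hs
      refine ⟨c.mul_mem_left s (hcoord i₀), ?_⟩
      have := μ_smul s ⟨r₀, hcoord i₀⟩
      rw [Ideal.Quotient.eq_zero_iff_mem.2 hs, zero_mul] at this
      exact this
  -- Claim B
  have claimB : ∀ r : R, r ∈ c → ∃ t : R, r - t * r₀ ∈ 𝔟 := by
    intro r hr
    obtain ⟨t, ht⟩ := Ideal.Quotient.mk_surjective (μ ⟨r, hr⟩ / μ ⟨r₀, hcoord i₀⟩)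
    refine ⟨t, ?_⟩
    rw [mem𝔟]
    refine ⟨c.sub_mem hr (c.mul_mem_left t (hcoord i₀)), ?_⟩
    have h1 : (⟨r - t * r₀, c.sub_mem hr (c.mul_mem_left t (hcoord i₀))⟩ : c) + t • ⟨r₀, hcoord i₀⟩
        = ⟨r, hr⟩ := by
      ext
      simp
    have h2 := μ_add ⟨r - t * r₀, c.sub_mem hr (c.mul_mem_left t (hcoord i₀))⟩
      (t • ⟨r₀, hcoord i₀⟩)
    rw [h1, μ_smul, ht, div_mul_cancel₀ _ hμr₀] at h2
    exact (add_eq_right.1 h2.symm)
  have h𝔟m : 𝔟 ≤ m := by
    intro r hr
    exact (claimA r).1 (𝔟.mul_mem_right r₀ hr)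
  refine ⟨m, hm, ?_⟩
  intro g hgf
  -- the maps
  let π : R →ₐ[k] R ⧸ 𝔟 := Ideal.Quotient.mkₐ k 𝔟
  let ρ : R ⧸ 𝔟 →ₐ[k] R ⧸ m := Ideal.Quotient.factorₐ k h𝔟m
  let Pm := Algebra.TensorProduct.map π (AlgHom.id k A)
  let Rm := Algebra.TensorProduct.map ρ (AlgHom.id k A)
  set B' := BB b (R ⧸ 𝔟) with hB'
  set B'' := BB b (R ⧸ m) with hB''
  choose t ht using fun i => claimB (B.repr f i) (hcoord i)
  let e : R ⧸ 𝔟 := π r₀
  let h : (R ⧸ 𝔟) ⊗[k] A := ∑ i ∈ (B.repr f).support, π (t i) • B' i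
  have hrepr_h : ∀ i, B'.repr h i = if i ∈ (B.repr f).support then π (t i) else 0 := by
    intro i
    simp only [h, map_sum, map_smul, Basis.repr_self, Finsupp.coe_finsetSum, Finset.sum_apply,
      Finsupp.smul_apply, Finsupp.single_apply, smul_eq_mul, mul_ite, mul_one, mul_zero]
    rw [Finset.sum_ite_eq']
  have hπ0 : ∀ r : R, π r = 0 ↔ r ∈ 𝔟 := fun r => Ideal.Quotient.eq_zero_iff_mem
  have hPmf : Pm f = (e ⊗ₜ[k] (1 : A)) * h := by
    apply B'.repr.injective
    ext i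
    rw [repr_map, repr_smul, hrepr_h]
    by_cases hi : i ∈ (B.repr f).support
    · rw [if_pos hi]
      have := (hπ0 _).2 (ht i)
      rw [map_sub, sub_eq_zero, map_mul] at this
      rw [this, mul_comm]
    · rw [if_neg hi, mul_zero, Finsupp.notMem_support_iff.1 hi, map_zero]
  have h1 : (e ⊗ₜ[k] (1 : A)) * (Pm g * h) = 0 := by
    have : Pm g * Pm f = 0 := by rw [← map_mul, hgf, map_zero]
    rw [hPmf] at this
    rw [← this]; ring
  have h2 : ∀ i, ρ (B'.repr (Pm g * h) i) = 0 := by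
    intro i
    have h3 := congrArg (fun z => B'.repr z i) h1
    simp only [map_zero, Finsupp.zero_apply] at h3
    rw [repr_smul] at h3
    obtain ⟨s, hs⟩ := Ideal.Quotient.mkₐ_surjective k 𝔟 (B'.repr (Pm g * h) i)
    rw [← hs] at h3 ⊢
    have h4 : π (r₀ * s) = 0 := by rw [map_mul]; exact h3
    have h5 : s * r₀ ∈ 𝔟 := by rw [mul_comm]; exact (hπ0 _).1 h4
    have h6 : s ∈ m := (claimA s).1 h5
    change Ideal.Quotient.mk m s = 0
    exact Ideal.Quotient.eq_zero_iff_mem.2 h6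
  have h7 : Rm (Pm g) * Rm h = 0 := by
    rw [← map_mul]
    apply B''.repr.injective
    ext i
    rw [repr_map, h2 i, map_zero, Finsupp.zero_apply]
  have hi₀supp : i₀ ∈ (B.repr f).support := by
    rw [Finsupp.mem_support_iff]
    intro h0
    apply hi₀
    rw [hr₀, h0]
    exact Submodule.zero_mem _
  have h8 : Rm h ≠ 0 := by
    intro h0
    have h9 := congrArg (fun z => B''.repr z i₀) h0
    simp only [map_zero, Finsupp.zero_apply] at h9
    rw [repr_map, hrepr_h, if_pos hi₀supp] at h9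
    -- ρ (π (t i₀)) = mk m (t i₀) = 1
    have h10 : (1 - t i₀) * r₀ ∈ 𝔟 := by
      have := ht i₀
      rw [sub_mul, one_mul]; exact this
    have h11 : 1 - t i₀ ∈ m := (claimA _).1 h10
    have h12 : Ideal.Quotient.mk m (t i₀) = 0 := h9
    have h13 : t i₀ ∈ m := Ideal.Quotient.eq_zero_iff_mem.1 h12
    have : (1 : R) ∈ m := by
      have := m.add_mem h11 h13
      simpa using this
    exact hm.ne_top ((Ideal.eq_top_iff_one m).2 this)
  letI : IsDomain (R ⧸ m) := inferInstance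
  rcases GeomIntegral.mul_eq_zero_left k A (R ⧸ m) _ _ h7 with h9 | h9
  · intro i
    have h10 := congrArg (fun z => B''.repr z i) h9
    simp only [map_zero, Finsupp.zero_apply] at h10
    rw [repr_map, repr_map] at h10
    exact Ideal.Quotient.eq_zero_iff_mem.1 h10
  · exact absurd h9 h8

theorem s19310
    (U : TopologicalSpace.Opens (PrimeSpectrum (TensorProduct k R A)))
    (hsurj : ∀ q : PrimeSpectrum R, ∃ P ∈ U,
      PrimeSpectrum.comap (Algebra.TensorProduct.includeLeftRingHom : R →+* TensorProduct k R A) P = q)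
    (f : TensorProduct k R A)
    (hf : ∀ g : TensorProduct k R A,
      (PrimeSpectrum.basicOpen g : Set (PrimeSpectrum (TensorProduct k R A))) ⊆ U →
      algebraMap (TensorProduct k R A) (Localization.Away g) f = 0) :
    f = 0 := by
  by_contra hf0
  let b := Basis.ofVectorSpace k A
  obtain ⟨m, hm, hkey⟩ := key k A R b f hf0
  obtain ⟨P, hPU, hPm⟩ := hsurj ⟨m, hm.isPrime⟩
  obtain ⟨_, ⟨_, ⟨⟨g, rfl⟩, rfl⟩⟩, hPg, hgU⟩ :=
    PrimeSpectrum.isBasis_basic_opens.exists_subset_of_mem_open hPU U.isOpen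
  have h0 := hf g hgU
  rw [IsLocalization.map_eq_zero_iff (Submonoid.powers g)] at h0
  obtain ⟨⟨_, n, rfl⟩, hn⟩ := h0
  have hcoords := hkey (g ^ n) hn
  have hle : m ≤ P.asIdeal.comap
      (Algebra.TensorProduct.includeLeftRingHom : R →+* TensorProduct k R A) := by
    have := congrArg PrimeSpectrum.asIdeal hPm
    change P.asIdeal.comap _ = m at this
    rw [this]
  have hmem : g ^ n ∈ P.asIdeal := mem_of_repr_mem b P.asIdeal m hle (g ^ n) hcoords
  exact hPg (P.isPrime.mem_of_pow_mem n hmem)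

end Main

end Groth.Agent.Lib.Helper6.VeryDense
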