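import Mathlib

open Polynomial

namespace Groth.Agent.Helper6.Vieta2

lemma P_eq (a : ℕ) : (∏ i : Fin a, (X - C (MvPolynomial.X i)) : (MvPolynomial (Fin a) ℤ)[X]) =
    ∑ j ∈ Finset.range (a + 1),
      (-1) ^ j * (C (MvPolynomial.esymm (Fin a) ℤ j) * X ^ (a - j)) := by
  let s := Finset.univ.val.map fun i : Fin a => (MvPolynomial.X i : MvPolynomial (Fin a) ℤ)
  have h : a = Multiset.card s := by
    rw [Multiset.card_map, ← Finset.card_def, Finset.card_univ, Fintype.card_fin]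
  have := Multiset.prod_X_sub_X_eq_sum_esymm s
  rw [← h] at this
  rw [MvPolynomial.esymm_eq_multiset_esymm (Fin a) ℤ, Finset.prod_eq_multiset_prod]
  convert this using 2
  simp_rw [s, Multiset.map_map, Function.comp_apply]

lemma P_monic (a : ℕ) : (∏ i : Fin a, (X - C (MvPolynomial.X i)) : (MvPolynomial (Fin a) ℤ)[X]).Monic :=
  monic_prod_of_monic _ _ (fun i _ => monic_X_sub_C _)

lemma P_natDegree (a : ℕ) :
    (∏ i : Fin a, (X - C (MvPolynomial.X i)) : (MvPolynomial (Fin a) ℤ)[X]).natDegree = a := by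
  rw [natDegree_prod_of_monic _ _ (fun i _ => monic_X_sub_C _)]
  simp

lemma X_pow_mod (a m : ℕ) (hm : m < a) :
    ((X : (MvPolynomial (Fin a) ℤ)[X]) ^ m %ₘ (∏ i : Fin a, (X - C (MvPolynomial.X i)))) = X ^ m := by
  rw [modByMonic_eq_self_iff (P_monic a)]
  rw [degree_X_pow, degree_eq_natDegree (P_monic a).ne_zero, P_natDegree]
  exact_mod_cast hm

theorem main (a : ℕ) (ha : 0 < a) :
    let P : (MvPolynomial (Fin a) ℤ)[X] := ∏ i : Fin a, (X - C (MvPolynomial.X i))
    let coef : ℤ → MvPolynomial (Fin a) ℤ := fun j =>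
      if j < 0 then 0 else ((X : (MvPolynomial (Fin a) ℤ)[X]) ^ (a - 1 + j.toNat) %ₘ P).coeff (a - 1)
    coef 0 = 1 ∧ ∀ j : ℕ, 0 < j →
      (∑ i ∈ Finset.range (a + 1), (-1 : MvPolynomial (Fin a) ℤ) ^ i * MvPolynomial.esymm (Fin a) ℤ i *
        coef ((j : ℤ) - i)) = 0 := by
  intro P coef
  constructor
  · show (if (0:ℤ) < 0 then 0 else ((X : (MvPolynomial (Fin a) ℤ)[X]) ^ (a - 1 + (0:ℤ).toNat) %ₘ P).coeff (a - 1)) = 1
    rw [if_neg (lt_irrefl _)]
    simp only [Int.toNat_zero, add_zero]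
    rw [X_pow_mod a (a - 1) (by omega)]
    simp
  · intro j hj
    -- X^(j-1) * P ≡ 0
    have h0 : (X ^ (j - 1) * P) %ₘ P = 0 := by
      rw [modByMonic_eq_zero_iff_dvd (P_monic a)]
      exact dvd_mul_left _ _
    have hexp : X ^ (j - 1) * P = ∑ i ∈ Finset.range (a + 1),
        ((-1 : MvPolynomial (Fin a) ℤ) ^ i * MvPolynomial.esymm (Fin a) ℤ i) •
          (X : (MvPolynomial (Fin a) ℤ)[X]) ^ (a - i + (j - 1)) := by
      show X ^ (j - 1) * (∏ i : Fin a, (X - C (MvPolynomial.X i))) = _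
      rw [P_eq, Finset.mul_sum]
      apply Finset.sum_congr rfl
      intro i _
      rw [smul_eq_C_mul, map_mul, map_pow, map_neg, map_one, pow_add]
      ring
    have h1 : (modByMonicHom P) (X ^ (j - 1) * P) = 0 := h0
    rw [hexp, map_sum] at h1
    have h2 := congrArg (fun q => Polynomial.coeff q (a - 1)) h1
    simp only [map_smul, finsetSum_coeff, coeff_smul, coeff_zero, smul_eq_mul] at h2
    rw [← h2]
    apply Finset.sum_congr rfl
    intro i hi
    rw [Finset.mem_range] at hi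
    congr 1
    show (if ((j:ℤ) - i) < 0 then 0 else ((X : (MvPolynomial (Fin a) ℤ)[X]) ^ (a - 1 + ((j:ℤ) - i).toNat) %ₘ P).coeff (a - 1)) = _
    by_cases hij : ((j:ℤ) - i) < 0
    · rw [if_pos hij]
      have hlt : a - i + (j - 1) < a - 1 := by omega
      show _ = ((X : (MvPolynomial (Fin a) ℤ)[X]) ^ (a - i + (j - 1)) %ₘ P).coeff (a - 1)
      rw [X_pow_mod a _ (by omega), coeff_X_pow, if_neg (by omega)]
    · rw [if_neg hij]
      have : a - 1 + ((j:ℤ) - i).toNat = a - i + (j - 1) := by omega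
      rw [this]
      rfl

end Groth.Agent.Helper6.Vieta2
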