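import Groth.Prelude.Def_W4c1liftfrobW2
import Mathlib

/-!
# Arithmetic in `W₂(A)` for `A` of characteristic `p`
-/

set_option autoImplicit false
set_option linter.unusedSectionVars false
universe u
open FrobAlg

namespace Groth.Agent.Lib.Helper6.W2Arith

variable (p : ℕ) [Fact p.Prime] {A : Type u} [CommRing A]

/-- The Witt vector `(0, a)` of length two. -/
noncomputable def V2 (a : A) : W2 p A :=
  WittVector.truncate 2 (WittVector.verschiebung (WittVector.teichmuller p a))

theorem W2_ext {x y : W2 p A} (h0 : x.coeff 0 = y.coeff 0) (h1 : x.coeff 1 = y.coeff 1) : x = y := by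
  apply TruncatedWittVector.ext
  intro i
  fin_cases i
  · exact h0
  · exact h1

@[simp] theorem V2_coeff_zero (a : A) : (V2 p a).coeff 0 = 0 := by
  unfold V2
  rw [WittVector.coeff_truncate]
  exact WittVector.verschiebung_coeff_zero _

@[simp] theorem V2_coeff_one (a : A) : (V2 p a).coeff 1 = a := by
  unfold V2
  rw [WittVector.coeff_truncate]
  change (WittVector.verschiebung (WittVector.teichmuller p a)).coeff (0 + 1) = a
  rw [WittVector.verschiebung_coeff_succ, WittVector.teichmuller_coeff_zero]

theorem truncate_verschiebung (z : WittVector p A) :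
    WittVector.truncate 2 (WittVector.verschiebung z) = V2 p (z.coeff 0) := by
  apply W2_ext
  · rw [WittVector.coeff_truncate, V2_coeff_zero]
    exact WittVector.verschiebung_coeff_zero _
  · rw [WittVector.coeff_truncate, V2_coeff_one]
    change (WittVector.verschiebung z).coeff (0 + 1) = _
    rw [WittVector.verschiebung_coeff_succ]

theorem eq_V2_of_coeff_zero {x : W2 p A} (h : x.coeff 0 = 0) : x = V2 p (x.coeff 1) := by
  apply W2_ext
  · rw [h, V2_coeff_zero]
  · rw [V2_coeff_one]

theorem V2_add (a b : A) : V2 p a + V2 p b = V2 p (a + b) := by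
  unfold V2
  rw [← map_add, ← map_add, truncate_verschiebung, WittVector.add_coeff_zero,
    WittVector.teichmuller_coeff_zero, WittVector.teichmuller_coeff_zero]
  rfl

theorem V2_zero : V2 p (0 : A) = 0 := by
  apply W2_ext
  · rw [V2_coeff_zero, TruncatedWittVector.coeff_zero]
  · rw [V2_coeff_one, TruncatedWittVector.coeff_zero]

theorem V2_neg (a : A) : -V2 p a = V2 p (-a) := by
  rw [neg_eq_iff_add_eq_zero, V2_add, add_neg_cancel, V2_zero]

theorem V2_sub (a b : A) : V2 p a - V2 p b = V2 p (a - b) := by
  rw [sub_eq_add_neg, V2_neg, V2_add, sub_eq_add_neg]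

theorem res_V2 (a : A) : res p A (V2 p a) = 0 := by simp

variable [CharP A p]

theorem V2_mul (a : A) (x : W2 p A) : V2 p a * x = V2 p (a * x.coeff 0 ^ p) := by
  obtain ⟨X, rfl⟩ := WittVector.truncate_surjective p 2 A x
  unfold V2
  rw [← map_mul, ← WittVector.verschiebung_mul_frobenius, truncate_verschiebung,
    WittVector.mul_coeff_zero, WittVector.teichmuller_coeff_zero, WittVector.coeff_frobenius_charP,
    WittVector.coeff_truncate]
  rfl

theorem p_mul (x : W2 p A) : (p : W2 p A) * x = V2 p (x.coeff 0 ^ p) := by
  obtain ⟨X, rfl⟩ := WittVector.truncate_surjective p 2 A x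
  have : (p : W2 p A) = WittVector.truncate 2 (p : WittVector p A) := by
    rw [map_natCast]
  rw [this, ← map_mul, mul_comm, ← WittVector.verschiebung_frobenius, truncate_verschiebung,
    WittVector.coeff_frobenius_charP, WittVector.coeff_truncate]
  rfl

end Groth.Agent.Lib.Helper6.W2Arith
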