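import Groth.Agent.Lib.Helper6.FrobLiftTheta

/-!
# Descending flat `W₂(k)`-liftings along an `A`-linearly split map `A → B` (helper for S13143)

Given a flat lifting `B'` of `B`, the lifting of `A` is `C / N` where `C = π_B⁻¹(A) ⊆ B'` and
`N = p · π_B⁻¹(ker r)`.
-/

set_option autoImplicit false
set_option linter.unusedSectionVars false
set_option linter.style.haveILetI false
universe u
open FrobAlg

namespace Groth.Agent.Lib.Helper6.W2Arith

section Descent

variable {p : ℕ} [hp : Fact p.Prime] {k : Type u} [Field k] [CharP k p] [PerfectRing k p]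
  {A B : Type u} [CommRing A] [CommRing B] [Algebra k A] [Algebra k B] [Algebra A B]
  [IsScalarTower k A B]
  {B' : Type u} [CommRing B'] {ιB : W2 p k →+* B'} {πB : B' →+* B}

/-- the subring `C = π_B⁻¹(A)` -/
def subC (A : Type u) [CommRing A] [Algebra A B] (πB : B' →+* B) : Subring B' :=
  (algebraMap A B).range.comap πB

theorem r_piB_of_mem (r : B →ₗ[A] A) (hr : ∀ a : A, r (algebraMap A B a) = a)
    {x : B'} (hx : x ∈ subC A πB) : algebraMap A B (r (πB x)) = πB x := by
  obtain ⟨a, ha⟩ := hx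
  rw [← ha, hr]

/-- the projection `C → A`, `c ↦ r (π_B c)` -/
noncomputable def piC (r : B →ₗ[A] A) (hr : ∀ a : A, r (algebraMap A B a) = a)
    (πB : B' →+* B) : subC A πB →+* A where
  toFun c := r (πB c.1)
  map_one' := by
    change r (πB (1 : B')) = 1
    rw [map_one, ← map_one (algebraMap A B), hr]
  map_mul' x y := by
    change r (πB (x.1 * y.1)) = r (πB x.1) * r (πB y.1)
    obtain ⟨a, ha⟩ := x.2
    obtain ⟨b, hb⟩ := y.2
    rw [map_mul, ← ha, ← hb, ← map_mul, hr, hr, hr]
  map_zero' := by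
    change r (πB (0 : B')) = 0
    rw [map_zero, map_zero]
  map_add' x y := by
    change r (πB (x.1 + y.1)) = r (πB x.1) + r (πB y.1)
    rw [map_add, map_add]

theorem piC_apply (r : B →ₗ[A] A) (hr : ∀ a : A, r (algebraMap A B a) = a)
    (c : subC A πB) : piC r hr πB c = r (πB c.1) := rfl

/-- the ideal `N = p · π_B⁻¹(ker r)` of `C` -/
def idealN (p : ℕ) (r : B →ₗ[A] A) (πB : B' →+* B) : Ideal (subC A πB) where
  carrier := {c | ∃ b : B', c.1 = (p : B') * b ∧ r (πB b) = 0}
  add_mem' := by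
    rintro x y ⟨b, hb, hb'⟩ ⟨c, hc, hc'⟩
    refine ⟨b + c, ?_, ?_⟩
    · change x.1 + y.1 = _
      rw [hb, hc, mul_add]
    · rw [map_add, map_add, hb', hc', add_zero]
  zero_mem' := ⟨0, by simp, by simp⟩
  smul_mem' := by
    rintro c x ⟨b, hb, hb'⟩
    refine ⟨c.1 * b, ?_, ?_⟩
    · change c.1 * x.1 = _
      rw [hb]; ring
    · obtain ⟨a, ha⟩ := c.2
      rw [map_mul, ← ha, ← Algebra.smul_def, map_smul, hb', smul_zero]

theorem iotaB_mem (hB : IsLift p k B B' ιB πB) (w : W2 p k) : ιB w ∈ subC A πB := by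
  refine ⟨algebraMap k A (res p k w), ?_⟩
  have h1 := congrArg (fun g => g w) hB.comm
  simp only [RingHom.comp_apply] at h1
  rw [h1, ← IsScalarTower.algebraMap_apply]

/-- the structure map `W₂(k) → C` -/
noncomputable def iotaC (A : Type u) [CommRing A] [Algebra k A] [Algebra A B] [IsScalarTower k A B]
    (hB : IsLift p k B B' ιB πB) : W2 p k →+* subC A πB :=
  ιB.codRestrict (subC A πB) (iotaB_mem hB)

theorem iotaC_coe (hB : IsLift p k B B' ιB πB) (w : W2 p k) : (iotaC A hB w : B') = ιB w := rfl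

theorem idealN_le_ker (r : B →ₗ[A] A) (hr : ∀ a : A, r (algebraMap A B a) = a)
    (hB : IsLift p k B B' ιB πB) : idealN p r πB ≤ RingHom.ker (piC r hr πB) := by
  rintro c ⟨b, hb, _⟩
  rw [RingHom.mem_ker, piC_apply, hb, map_mul, pi_p hB, zero_mul, map_zero]

/-- the projection `C / N → A` -/
noncomputable def piA (r : B →ₗ[A] A) (hr : ∀ a : A, r (algebraMap A B a) = a)
    (hB : IsLift p k B B' ιB πB) : (subC A πB ⧸ idealN p r πB) →+* A :=
  Ideal.Quotient.lift _ (piC r hr πB) (fun _ hc => idealN_le_ker r hr hB hc)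

theorem piA_mk (r : B →ₗ[A] A) (hr : ∀ a : A, r (algebraMap A B a) = a)
    (hB : IsLift p k B B' ιB πB) (c : subC A πB) :
    piA r hr hB (Ideal.Quotient.mk _ c) = r (πB c.1) := rfl

/-- every element of `p B'` is, modulo `N`, `p` times an element of `C`. -/
theorem exists_sub_mem (r : B →ₗ[A] A) (hr : ∀ a : A, r (algebraMap A B a) = a)
    (hB : IsLift p k B B' ιB πB) (e : B') : ∃ c' : subC A πB, ∃ b : B',
    (p : B') * c'.1 - (p : B') * e = (p : B') * b ∧ r (πB b) = 0 := by
  obtain ⟨x, hx⟩ := hB.surj (algebraMap A B (r (πB e)))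
  refine ⟨⟨x, ⟨r (πB e), hx.symm⟩⟩, x - e, by ring, ?_⟩
  rw [map_sub, map_sub, hx, hr, sub_self]

theorem mk_mem_span_of_piB_eq_zero (r : B →ₗ[A] A) (hr : ∀ a : A, r (algebraMap A B a) = a)
    (hB : IsLift p k B B' ιB πB) (c : subC A πB) (hc : πB c.1 = 0) :
    ∃ c' : subC A πB, Ideal.Quotient.mk (idealN p r πB) c =
      (p : subC A πB ⧸ idealN p r πB) * Ideal.Quotient.mk _ c' := by
  obtain ⟨e, he⟩ := exists_p_mul_of_pi hB _ hc
  obtain ⟨c', b, hb, hb'⟩ := exists_sub_mem r hr hB e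
  refine ⟨c', ?_⟩
  rw [← map_natCast (Ideal.Quotient.mk (idealN p r πB)), ← map_mul, eq_comm,
    Ideal.Quotient.eq]
  refine ⟨b, ?_, hb'⟩
  change ((p : subC A πB) : B') * c'.1 - c.1 = _
  rw [he]
  have : ((p : subC A πB) : B') = (p : B') := by
    simp
  rw [this]
  exact hb

theorem piB_eq_zero_of_r (r : B →ₗ[A] A) (hr : ∀ a : A, r (algebraMap A B a) = a)
    (c : subC A πB) (h : r (πB c.1) = 0) : πB c.1 = 0 := by
  rw [← r_piB_of_mem r hr c.2, h, map_zero]

theorem isLift_descent (r : B →ₗ[A] A) (hr : ∀ a : A, r (algebraMap A B a) = a)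
    (hB : IsLift p k B B' ιB πB) :
    IsLift p k A (subC A πB ⧸ idealN p r πB)
      ((Ideal.Quotient.mk _).comp (iotaC A hB)) (piA r hr hB) := by
  have hpC : ((p : subC A πB) : B') = (p : B') := by simp
  have hpA : (p : A) = 0 := by
    rw [← map_natCast (algebraMap k A), CharP.cast_eq_zero k p, map_zero]
  refine { flat := ?_, surj := ?_, ker_eq := ?_, comm := ?_ }
  · -- flatness
    letI := ((Ideal.Quotient.mk (idealN p r πB)).comp (iotaC A hB)).toAlgebra
    change Module.Flat (W2 p k) (subC A πB ⧸ idealN p r πB)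
    rw [Groth.Agent.S13136.result p k]
    have hsmul : ∀ z : subC A πB ⧸ idealN p r πB,
        (p : W2 p k) • z = (p : subC A πB ⧸ idealN p r πB) * z := by
      intro z
      rw [Algebra.smul_def]
      congr 1
      change ((Ideal.Quotient.mk (idealN p r πB)).comp (iotaC A hB)) (p : W2 p k) = _
      rw [map_natCast]
    intro m hm
    obtain ⟨c, rfl⟩ := Ideal.Quotient.mk_surjective m
    rw [hsmul, ← map_natCast (Ideal.Quotient.mk (idealN p r πB)), ← map_mul,
      Ideal.Quotient.eq_zero_iff_mem] at hm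
    obtain ⟨b'', hb'', hrb⟩ := hm
    change ((p : subC A πB) : B') * c.1 = _ at hb''
    rw [hpC] at hb''
    have h0 : (p : B') * (c.1 - b'') = 0 := by rw [mul_sub, hb'', sub_self]
    obtain ⟨d, hd⟩ := exists_p_mul_of_p_mul hB _ h0
    have hπc : πB c.1 = πB b'' := by
      have : c.1 = b'' + (p : B') * d := by rw [← hd]; ring
      rw [this, map_add, map_mul, pi_p hB, zero_mul, add_zero]
    have hc0 : πB c.1 = 0 := piB_eq_zero_of_r r hr c (by rw [hπc, hrb])
    obtain ⟨c', hc'⟩ := mk_mem_span_of_piB_eq_zero r hr hB c hc0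
    exact ⟨Ideal.Quotient.mk _ c', by rw [hsmul, hc']⟩
  · intro a
    obtain ⟨x, hx⟩ := hB.surj (algebraMap A B a)
    refine ⟨Ideal.Quotient.mk _ ⟨x, ⟨a, hx.symm⟩⟩, ?_⟩
    rw [piA_mk]
    change r (πB x) = a
    rw [hx, hr]
  · rw [ker_res_eq, Ideal.map_span, Set.image_singleton, map_natCast]
    ext x
    obtain ⟨c, rfl⟩ := Ideal.Quotient.mk_surjective x
    rw [RingHom.mem_ker, piA_mk, Ideal.mem_span_singleton']
    constructor
    · intro h
      obtain ⟨c', hc'⟩ := mk_mem_span_of_piB_eq_zero r hr hB c (piB_eq_zero_of_r r hr c h)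
      exact ⟨Ideal.Quotient.mk _ c', by rw [hc', mul_comm]⟩
    · rintro ⟨y, hy⟩
      have := congrArg (piA r hr hB) hy
      rw [map_mul, map_natCast, hpA, mul_zero, piA_mk] at this
      exact this.symm
  · apply RingHom.ext
    intro w
    rw [RingHom.comp_apply, RingHom.comp_apply, RingHom.comp_apply, piA_mk, iotaC_coe]
    have h1 := congrArg (fun g => g w) hB.comm
    simp only [RingHom.comp_apply] at h1
    rw [h1, IsScalarTower.algebraMap_apply k A B, hr]

end Descent

end Groth.Agent.Lib.Helper6.W2Arith
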