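import Groth.Agent.Lib.Helper6.W2Ghost

/-!
# Descending ring maps `A' → W₂(B)` to `A' → W₂(A)` along an `A`-linear retraction `B → A`
(helper for S13144)
-/

set_option autoImplicit false
set_option linter.unusedSectionVars false
universe u
open FrobAlg

namespace Groth.Agent.Lib.Helper6.W2Arith

section Basic

variable (p : ℕ) [hp : Fact p.Prime] {A : Type u} [CommRing A]

theorem tau_add_V2_coeff_zero (a c : A) : (tau p a + V2 p c).coeff 0 = a := by
  rw [coeff_zero_add, tau_coeff_zero, V2_coeff_zero, add_zero]

theorem tau_add_V2_coeff_one (a c : A) : (tau p a + V2 p c).coeff 1 = c := by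
  unfold tau V2
  rw [← map_add, WittVector.coeff_truncate]
  change (WittVector.teichmuller p a +
    WittVector.verschiebung (WittVector.teichmuller p c)).coeff 1 = c
  rw [WittVector.coeff_add_of_disjoint 1 _ _ ?_]
  · rw [WittVector.teichmuller_coeff_pos p a 1 Nat.one_pos, zero_add]
    change (WittVector.verschiebung (WittVector.teichmuller p c)).coeff (0 + 1) = c
    rw [WittVector.verschiebung_coeff_succ, WittVector.teichmuller_coeff_zero]
  · intro n
    rcases Nat.eq_zero_or_pos n with rfl | hn
    · right; exact WittVector.verschiebung_coeff_zero _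
    · left; exact WittVector.teichmuller_coeff_pos p a n hn

theorem decomp (x : W2 p A) : x = tau p (x.coeff 0) + V2 p (x.coeff 1) :=
  W2_ext p (by rw [tau_add_V2_coeff_zero]) (by rw [tau_add_V2_coeff_one])

theorem V2_injective {a b : A} (h : V2 p a = V2 p b) : a = b := by
  have := congrArg (fun z => TruncatedWittVector.coeff (1 : Fin 2) z) h
  simpa using this

theorem truncMap_V2 {B : Type u} [CommRing B] (f : A →+* B) (a : A) :
    WittGrp.truncMap p 2 f (V2 p a) = V2 p (f a) := by
  apply W2_ext
  · rw [WittGrp.coeff_truncMap, V2_coeff_zero, V2_coeff_zero, map_zero]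
  · rw [WittGrp.coeff_truncMap, V2_coeff_one, V2_coeff_one]

/-- the carry of Teichmüller addition in `W₂`. -/
noncomputable def carry (a b : A) : A := (tau p (a + b) - tau p a - tau p b).coeff 1

theorem tau_add (a b : A) : tau p (a + b) = tau p a + tau p b + V2 p (carry p a b) := by
  have h0 : (tau p (a + b) - tau p a - tau p b).coeff 0 = 0 := by
    rw [coeff_zero_sub, coeff_zero_sub, tau_coeff_zero, tau_coeff_zero, tau_coeff_zero]
    ring
  have := eq_V2_of_coeff_zero p h0
  unfold carry
  rw [← this]
  ring

theorem map_carry {B : Type u} [CommRing B] (f : A →+* B) (a b : A) :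
    f (carry p a b) = carry p (f a) (f b) := by
  have h1 := congrArg (WittGrp.truncMap p 2 f) (tau_add p a b)
  rw [map_add, map_add, truncMap_tau, truncMap_tau, truncMap_tau, truncMap_V2, map_add,
    tau_add p (f a) (f b)] at h1
  exact (V2_injective p (add_left_cancel h1)).symm

variable [CharP A p]

theorem mul_expand (a b d1 d2 : A) :
    (tau p a + V2 p d1) * (tau p b + V2 p d2) =
      tau p (a * b) + V2 p (d2 * a ^ p + d1 * b ^ p) := by
  have e1 : tau p a * V2 p d2 = V2 p (d2 * a ^ p) := by
    rw [mul_comm, V2_mul, tau_coeff_zero]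
  have e2 : V2 p d1 * tau p b = V2 p (d1 * b ^ p) := by
    rw [V2_mul, tau_coeff_zero]
  have e3 : V2 p d1 * V2 p d2 = 0 := by
    rw [V2_mul, V2_coeff_zero, zero_pow hp.out.ne_zero, mul_zero, V2_zero]
  rw [add_mul, mul_add, mul_add, e1, e2, e3, add_zero, tau_mul, ← V2_add]
  ring

end Basic

section Split

variable (p : ℕ) [hp : Fact p.Prime] {A B : Type u} [CommRing A] [CommRing B] [CharP A p] [CharP B p]
  [Algebra A B] (r : B →ₗ[A] A) (hr : ∀ a : A, r (algebraMap A B a) = a)

include hr

theorem key_add (a b : A) (d1 d2 d3 : B)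
    (h : tau p (algebraMap A B (a + b)) + V2 p d3 =
      (tau p (algebraMap A B a) + V2 p d1) + (tau p (algebraMap A B b) + V2 p d2)) :
    tau p (a + b) + V2 p (r d3) = (tau p a + V2 p (r d1)) + (tau p b + V2 p (r d2)) := by
  rw [map_add, tau_add, ← map_carry] at h
  have h1 : V2 p (algebraMap A B (carry p a b) + d3) = V2 p (d1 + d2) := by
    rw [← V2_add, ← V2_add]
    have : tau p (algebraMap A B a) + tau p (algebraMap A B b) +
        (V2 p (algebraMap A B (carry p a b)) + V2 p d3) =
        tau p (algebraMap A B a) + tau p (algebraMap A B b) + (V2 p d1 + V2 p d2) := by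
      rw [← add_assoc, h]; ring
    exact add_left_cancel this
  have h2 := congrArg r (V2_injective p h1)
  rw [map_add, map_add, hr] at h2
  rw [tau_add, add_assoc, V2_add, h2, ← V2_add]
  ring

theorem key_mul (a b : A) (d1 d2 d3 : B)
    (h : tau p (algebraMap A B (a * b)) + V2 p d3 =
      (tau p (algebraMap A B a) + V2 p d1) * (tau p (algebraMap A B b) + V2 p d2)) :
    tau p (a * b) + V2 p (r d3) = (tau p a + V2 p (r d1)) * (tau p b + V2 p (r d2)) := by
  rw [mul_expand, map_mul] at h
  have h1 := V2_injective p (add_left_cancel h)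
  have h2 := congrArg r h1
  have e1 : d2 * algebraMap A B a ^ p = (a ^ p) • d2 := by
    rw [Algebra.smul_def, map_pow, mul_comm]
  have e2 : d1 * algebraMap A B b ^ p = (b ^ p) • d1 := by
    rw [Algebra.smul_def, map_pow, mul_comm]
  rw [e1, e2, map_add, map_smul, map_smul, smul_eq_mul, smul_eq_mul] at h2
  rw [mul_expand, h2]
  congr 2
  ring

variable {A' : Type u} [CommRing A'] (πA : A' →+* A) (θ : A' →+* W2 p B)
  (hθ : ∀ x, (θ x).coeff 0 = algebraMap A B (πA x))

include hθ

theorem theta_decomp (x : A') :
    θ x = tau p (algebraMap A B (πA x)) + V2 p ((θ x).coeff 1) := by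
  conv_lhs => rw [decomp p (θ x), hθ]

/-- the descended map `A' → W₂(A)`. -/
noncomputable def thetaA : A' →+* W2 p A :=
  RingHom.mk'
    { toFun := fun x => tau p (πA x) + V2 p (r ((θ x).coeff 1))
      map_one' := by
        have h1 := theta_decomp p r hr πA θ hθ 1
        rw [map_one θ, map_one πA, map_one (algebraMap A B), tau_one] at h1
        have h2 : V2 p ((1 : W2 p B).coeff 1) = 0 := by
          have : (1 : W2 p B) + 0 = 1 + V2 p ((1 : W2 p B).coeff 1) := by
            rw [add_zero]; exact h1
          exact (add_left_cancel this).symm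
        have h3 : ((1 : W2 p B).coeff 1) = 0 := V2_injective p (h2.trans (V2_zero p).symm)
        rw [map_one θ, h3, map_zero, V2_zero, add_zero, map_one πA, tau_one]
      map_mul' := fun x y => by
        rw [map_mul πA]
        apply key_mul p r hr
        rw [← map_mul πA, ← theta_decomp p r hr πA θ hθ, ← theta_decomp p r hr πA θ hθ,
          ← theta_decomp p r hr πA θ hθ, map_mul] }
    (fun x y => by
      change tau p (πA (x + y)) + V2 p (r ((θ (x + y)).coeff 1)) =
        (tau p (πA x) + V2 p (r ((θ x).coeff 1))) + (tau p (πA y) + V2 p (r ((θ y).coeff 1)))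
      rw [map_add πA]
      apply key_add p r hr
      rw [← map_add πA, ← theta_decomp p r hr πA θ hθ, ← theta_decomp p r hr πA θ hθ,
        ← theta_decomp p r hr πA θ hθ, map_add])

theorem thetaA_apply (x : A') :
    thetaA p r hr πA θ hθ x = tau p (πA x) + V2 p (r ((θ x).coeff 1)) := rfl

end Split

end Groth.Agent.Lib.Helper6.W2Arith
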