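import Mathlib

set_option autoImplicit false

/-! Multiplication by a Teichmüller representative, coefficientwise. -/

namespace Groth.Agent.Helper6.WittTeich

open WittVector MvPolynomial

variable {p : ℕ} [hp : Fact p.Prime]

theorem aux₁ {σ : Type*} (a : WittVector p (MvPolynomial σ ℚ)) (v : MvPolynomial σ ℚ) :
    a * teichmuller p v = WittVector.mk p (fun j => a.coeff j * v ^ p ^ j) := by
  apply (ghostMap.bijective_of_invertible p (MvPolynomial σ ℚ)).1
  rw [map_mul]
  ext1 n
  simp only [Pi.mul_apply, ghostMap_apply]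
  rw [ghostComponent_teichmuller, ghostComponent_apply, ghostComponent_apply, aeval_wittPolynomial,
    aeval_wittPolynomial, Finset.sum_mul]
  simp only [coeff_mk]
  refine Finset.sum_congr rfl fun i hi => ?_
  have hi' : i ≤ n := Nat.lt_succ_iff.mp (Finset.mem_range.mp hi)
  rw [mul_pow, ← pow_mul, ← pow_add, Nat.add_sub_cancel' hi']
  ring

theorem aux₂ {σ : Type*} (a : WittVector p (MvPolynomial σ ℤ)) (v : MvPolynomial σ ℤ) :
    a * teichmuller p v = WittVector.mk p (fun j => a.coeff j * v ^ p ^ j) := by
  refine map_injective (MvPolynomial.map (Int.castRingHom ℚ))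
    (MvPolynomial.map_injective _ Int.cast_injective) ?_
  rw [map_mul, map_teichmuller, aux₁]
  ext j
  simp [map_coeff, coeff_mk]

theorem mul_teichmuller_coeff {R : Type*} [CommRing R] (a : WittVector p R) (v : R) (j : ℕ) :
    (a * teichmuller p v).coeff j = a.coeff j * v ^ p ^ j := by
  obtain ⟨A, rfl⟩ := WittVector.map_surjective _ (counit_surjective R) a
  obtain ⟨V, rfl⟩ := counit_surjective R v
  rw [← map_teichmuller, ← map_mul, aux₂]
  simp [map_coeff, coeff_mk]

theorem teichmuller_mul_coeff {R : Type*} [CommRing R] (a : WittVector p R) (v : R) (j : ℕ) :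
    (teichmuller p v * a).coeff j = v ^ p ^ j * a.coeff j := by
  rw [mul_comm, mul_teichmuller_coeff, mul_comm]

end Groth.Agent.Helper6.WittTeich
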