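import Groth.Agent.Lib.Helper6.WittHom
import Groth.Prelude.Def_W4c6katofiltaWFil
import Mathlib.RingTheory.WittVector.Truncated
import Mathlib.Algebra.CharP.Lemmas
import Mathlib.Algebra.CharP.Frobenius

set_option autoImplicit false
set_option linter.unusedSectionVars false

/-! The filtered pieces of truncated Witt vectors are closed under subtraction, and multiply. -/

namespace Groth.Agent.Helper6.WittFilG

open MvPolynomial Groth.Agent.Helper6.WittHom

variable (p : ℕ) [hp : Fact p.Prime] (A : Type*) {B : Type*} [CommRing A] [CommRing B] [Algebra A B]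
  [CharP B p]

/-- graded family of additive subgroups -/
def G (e : ℕ) (c c' : B) (w : ℕ × ℕ) : AddSubgroup B where
  carrier := {z | z ^ (p ^ e) * (c ^ w.1 * c' ^ w.2) ∈ (algebraMap A B).range}
  zero_mem' := by
    change (0 : B) ^ (p ^ e) * (c ^ w.1 * c' ^ w.2) ∈ (algebraMap A B).range
    rw [zero_pow (pow_ne_zero e hp.out.ne_zero), zero_mul]
    exact zero_mem _
  add_mem' := by
    intro a b ha hb
    change (a + b) ^ (p ^ e) * (c ^ w.1 * c' ^ w.2) ∈ (algebraMap A B).range
    have ha : a ^ (p ^ e) * (c ^ w.1 * c' ^ w.2) ∈ (algebraMap A B).range := ha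
    have hb : b ^ (p ^ e) * (c ^ w.1 * c' ^ w.2) ∈ (algebraMap A B).range := hb
    rw [add_pow_char_pow, add_mul]
    exact add_mem ha hb
  neg_mem' := by
    intro a ha
    change (-a) ^ (p ^ e) * (c ^ w.1 * c' ^ w.2) ∈ (algebraMap A B).range
    have ha : a ^ (p ^ e) * (c ^ w.1 * c' ^ w.2) ∈ (algebraMap A B).range := ha
    rw [neg_pow, mul_assoc]
    exact mul_mem (pow_mem (neg_mem (one_mem _)) _) ha

theorem mem_G (e : ℕ) (c c' : B) (w : ℕ × ℕ) (z : B) :
    z ∈ G p A e c c' w ↔ z ^ (p ^ e) * (c ^ w.1 * c' ^ w.2) ∈ (algebraMap A B).range := Iff.rfl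

theorem one_mem_G (e : ℕ) (c c' : B) : (1 : B) ∈ G p A e c c' 0 := by
  rw [mem_G]
  simp only [one_pow, Prod.fst_zero, pow_zero, Prod.snd_zero, mul_one]
  exact one_mem _

theorem mul_mem_G (e : ℕ) (c c' : B) (a b : ℕ × ℕ) (x y : B) (hx : x ∈ G p A e c c' a)
    (hy : y ∈ G p A e c c' b) : x * y ∈ G p A e c c' (a + b) := by
  rw [mem_G] at hx hy ⊢
  have : (x * y) ^ (p ^ e) * (c ^ (a + b).1 * c' ^ (a + b).2)
      = (x ^ (p ^ e) * (c ^ a.1 * c' ^ a.2)) * (y ^ (p ^ e) * (c ^ b.1 * c' ^ b.2)) := by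
    simp only [Prod.fst_add, Prod.snd_add, pow_add, mul_pow]
    ring
  rw [this]
  exact mul_mem hx hy

/-- coordinate condition -/
theorem mem_G_iff
    (hcl : ∀ (y : B) (N : ℕ), N ≠ 0 → y ^ N ∈ (algebraMap A B).range →
      y ∈ (algebraMap A B).range)
    (e j : ℕ) (hj : j ≤ e) (c c' : B) (d : ℕ × ℕ) (z : B) :
    z ∈ G p A e c c' (p ^ j • d) ↔
      z ^ (p ^ (e - j)) * (c ^ d.1 * c' ^ d.2) ∈ (algebraMap A B).range := by
  rw [mem_G]
  have : z ^ (p ^ e) * (c ^ (p ^ j • d).1 * c' ^ (p ^ j • d).2)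
      = (z ^ (p ^ (e - j)) * (c ^ d.1 * c' ^ d.2)) ^ (p ^ j) := by
    have he : p ^ e = p ^ (e - j) * p ^ j := by
      rw [← pow_add]
      congr 1
      omega
    simp only [Prod.smul_fst, Prod.smul_snd, smul_eq_mul]
    rw [he, mul_pow, mul_pow, ← pow_mul, ← pow_mul, ← pow_mul, mul_comm (p ^ j) d.1,
      mul_comm (p ^ j) d.2]
  rw [this]
  constructor
  · intro h
    exact hcl _ _ (pow_ne_zero _ hp.out.ne_zero) h
  · intro h
    exact pow_mem h _

theorem out_coeff {m : ℕ} (a : TruncatedWittVector p m B) (k : ℕ) :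
    a.out.coeff k = if h : k < m then TruncatedWittVector.coeff ⟨k, h⟩ a else 0 := rfl

theorem sub_mem_fil
    (hcl : ∀ (y : B) (N : ℕ), N ≠ 0 → y ^ N ∈ (algebraMap A B).range →
      y ∈ (algebraMap A B).range)
    (c : B) (m : ℕ) (a b : TruncatedWittVector p m B)
    (ha : a ∈ WittFil.fil p m (A := A) c) (hb : b ∈ WittFil.fil p m (A := A) c) :
    a - b ∈ WittFil.fil p m (A := A) c := by
  intro j
  have hjm : (j : ℕ) < m := j.2
  have hab : a - b = WittVector.truncateFun m (a.out - b.out) := by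
    rw [WittVector.truncateFun_sub, TruncatedWittVector.truncateFun_out,
      TruncatedWittVector.truncateFun_out]
  rw [hab, WittVector.coeff_truncateFun, WittVector.sub_coeff]
  have hexp : m - 1 - (j : ℕ) = (m - 1) - (j : ℕ) := rfl
  have key := (mem_G_iff p A hcl (m - 1) j (by omega) c 1 (1, 0)
    (WittVector.peval (WittVector.wittSub p j) ![a.out.coeff, b.out.coeff])).1 ?_
  · simpa using key
  · unfold WittVector.peval
    refine aeval_mem (wt p (fun _ : Fin 2 => ((1, 0) : ℕ × ℕ))) (G p A (m - 1) c 1)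
      (one_mem_G p A _ _ _) (mul_mem_G p A _ _ _) _ _ ?_ _ ?_
    · apply wittStructureInt_homog
      exact (isWeightedHomogeneous_X _ _ _).sub (isWeightedHomogeneous_X _ _ _)
    · rintro ⟨i, k⟩
      have hcases : ∀ (v : TruncatedWittVector p m B), v ∈ WittFil.fil p m (A := A) c →
          v.out.coeff k ∈ G p A (m - 1) c 1 (p ^ k • ((1, 0) : ℕ × ℕ)) := by
        intro v hv
        rw [out_coeff]
        split_ifs with hk
        · rw [mem_G_iff p A hcl (m - 1) k (by omega)]
          simpa using hv ⟨k, hk⟩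
        · exact zero_mem _
      fin_cases i
      · exact hcases a ha
      · exact hcases b hb

theorem mul_mem_fil
    (hcl : ∀ (y : B) (N : ℕ), N ≠ 0 → y ^ N ∈ (algebraMap A B).range →
      y ∈ (algebraMap A B).range)
    (c c' : B) (m : ℕ) (a b : TruncatedWittVector p m B)
    (ha : a ∈ WittFil.fil p m (A := A) c) (hb : b ∈ WittFil.fil p m (A := A) c') :
    a * b ∈ WittFil.fil p m (A := A) (c * c') := by
  intro j
  have hjm : (j : ℕ) < m := j.2
  have hab : a * b = WittVector.truncateFun m (a.out * b.out) := by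
    rw [WittVector.truncateFun_mul, TruncatedWittVector.truncateFun_out,
      TruncatedWittVector.truncateFun_out]
  rw [hab, WittVector.coeff_truncateFun, WittVector.mul_coeff]
  have key := (mem_G_iff p A hcl (m - 1) j (by omega) c c' (1, 1)
    (WittVector.peval (WittVector.wittMul p j) ![a.out.coeff, b.out.coeff])).1 ?_
  · simpa using key
  · unfold WittVector.peval
    refine aeval_mem (wt p biw) (G p A (m - 1) c c')
      (one_mem_G p A _ _ _) (mul_mem_G p A _ _ _) _ _ (wittMul_homog p j) _ ?_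
    rintro ⟨i, k⟩
    fin_cases i
    · show a.out.coeff k ∈ G p A (m - 1) c c' (p ^ k • ((1, 0) : ℕ × ℕ))
      rw [out_coeff]
      split_ifs with hk
      · rw [mem_G_iff p A hcl (m - 1) k (by omega)]
        simpa using ha ⟨k, hk⟩
      · exact zero_mem _
    · show b.out.coeff k ∈ G p A (m - 1) c c' (p ^ k • ((0, 1) : ℕ × ℕ))
      rw [out_coeff]
      split_ifs with hk
      · rw [mem_G_iff p A hcl (m - 1) k (by omega)]
        simpa using hb ⟨k, hk⟩
      · exact zero_mem _

end Groth.Agent.Helper6.WittFilG
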