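import Mathlib
import Groth.Agent.Lib.Helper6.LangFix

/-!
Dieudonné–Manin slope-zero case: a bijective `σ^ν`-semilinear endomorphism of a finite free
`W(k)`-module (`k` algebraically closed) has a basis of fixed vectors.
-/

namespace Groth.Agent.Lib.Helper6.WittFix

open WittVector

section Complete

variable {p : ℕ} [hp : Fact p.Prime] {k : Type*} [CommRing k] [CharP k p] [PerfectRing k p]

local notation "𝕎" => WittVector p

lemma W_prec (f : ℕ → 𝕎 k) (hf : ∀ m n, m ≤ n → (p : 𝕎 k) ^ m ∣ f n - f m) :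
    ∃ L : 𝕎 k, ∀ n, (p : 𝕎 k) ^ n ∣ L - f n := by
  have h1 := IsPrecomplete.prec (I := Ideal.span {(p : 𝕎 k)}) (M := 𝕎 k) inferInstance (f := f) ?_
  · obtain ⟨L, hL⟩ := h1
    refine ⟨L, fun n => ?_⟩
    have h2 := (hL n).symm
    rw [SModEq.sub_mem, smul_eq_mul, Ideal.mul_top, Ideal.span_singleton_pow,
      Ideal.mem_span_singleton] at h2
    exact h2
  · intro m n hmn
    refine SModEq.symm ?_
    rw [SModEq.sub_mem, smul_eq_mul, Ideal.mul_top, Ideal.span_singleton_pow,
      Ideal.mem_span_singleton]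
    exact hf m n hmn

lemma W_haus (x : 𝕎 k) (h : ∀ n, (p : 𝕎 k) ^ n ∣ x) : x = 0 := by
  refine IsHausdorff.haus (I := Ideal.span {(p : 𝕎 k)}) (M := 𝕎 k) inferInstance x fun n => ?_
  rw [SModEq.zero, smul_eq_mul, Ideal.mul_top, Ideal.span_singleton_pow,
    Ideal.mem_span_singleton]
  exact h n

variable {n : ℕ}

/-- Successive approximation: an additive map commuting with `p` that is surjective mod `p`
is surjective on `W^n`. -/
theorem surj_of_surj_mod_p (T : (Fin n → 𝕎 k) →+ (Fin n → 𝕎 k))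
    (hT : ∀ x, T ((p : 𝕎 k) • x) = (p : 𝕎 k) • T x)
    (hs : ∀ x, ∃ y z, x = T y + (p : 𝕎 k) • z) : Function.Surjective T := by
  choose g h hgh using hs
  have hTp : ∀ (j : ℕ) u, T ((p : 𝕎 k) ^ j • u) = (p : 𝕎 k) ^ j • T u := by
    intro j
    induction j with
    | zero => intro u; simp
    | succ j ih => intro u; rw [pow_succ', mul_smul, hT, ih, mul_smul]
  intro x
  set xs : ℕ → (Fin n → 𝕎 k) := fun j => h^[j] x with hxs
  set ys : ℕ → (Fin n → 𝕎 k) := fun j => g (xs j) with hys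
  set zs : ℕ → (Fin n → 𝕎 k) := fun j => ∑ i ∈ Finset.range j, (p : 𝕎 k) ^ i • ys i with hzs
  have hxs1 : ∀ j, xs j = T (ys j) + (p : 𝕎 k) • xs (j+1) := by
    intro j
    have h1 : xs (j+1) = h (xs j) := Function.iterate_succ_apply' _ _ _
    rw [h1]
    exact hgh (xs j)
  have hzs1 : ∀ j, zs (j+1) = zs j + (p : 𝕎 k) ^ j • ys j := fun j => Finset.sum_range_succ _ _
  have key : ∀ j, x = T (zs j) + (p : 𝕎 k) ^ j • xs j := by
    intro j
    induction j with
    | zero => simp [hzs, hxs]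
    | succ j ih =>
      rw [hzs1, map_add, hTp, pow_succ, mul_smul]
      calc x = T (zs j) + (p : 𝕎 k) ^ j • xs j := ih
        _ = T (zs j) + (p : 𝕎 k) ^ j • (T (ys j) + (p : 𝕎 k) • xs (j+1)) := by rw [← hxs1]
        _ = _ := by rw [smul_add, add_assoc]
  have hcauchy : ∀ a d, ∃ u, zs (a + d) - zs a = (p : 𝕎 k) ^ a • u := by
    intro a d
    induction d with
    | zero => exact ⟨0, by simp⟩
    | succ d ih =>
      obtain ⟨u, hu⟩ := ih
      refine ⟨u + (p : 𝕎 k) ^ d • ys (a + d), ?_⟩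
      rw [← add_assoc, hzs1, smul_add, ← hu, smul_smul, ← pow_add]
      abel
  have hlim : ∀ i : Fin n, ∃ L : 𝕎 k, ∀ j, (p : 𝕎 k) ^ j ∣ L - zs j i := by
    intro i
    refine W_prec (fun j => zs j i) fun a b hab => ?_
    obtain ⟨d, rfl⟩ := Nat.exists_eq_add_of_le hab
    obtain ⟨u, hu⟩ := hcauchy a d
    refine ⟨u i, ?_⟩
    have := congrFun hu i
    simpa using this
  choose L hL using hlim
  have hL' : ∀ j, ∃ u : Fin n → 𝕎 k, (fun i => L i) - zs j = (p : 𝕎 k) ^ j • u := by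
    intro j
    choose u hu using fun i => hL i j
    exact ⟨u, funext fun i => by simpa using hu i⟩
  refine ⟨fun i => L i, ?_⟩
  have hdiff : ∀ j, ∃ u', x - T (fun i => L i) = (p : 𝕎 k) ^ j • u' := by
    intro j
    obtain ⟨u, hu⟩ := hL' j
    refine ⟨xs j - T u, ?_⟩
    have h1 : (fun i => L i) = zs j + (p : 𝕎 k) ^ j • u := by rw [← hu]; abel
    rw [h1, map_add, hTp, smul_sub]
    nth_rewrite 1 [key j]
    abel
  symm
  rw [← sub_eq_zero]
  funext i
  refine W_haus _ fun j => ?_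
  obtain ⟨u', hu'⟩ := hdiff j
  refine ⟨u' i, ?_⟩
  have := congrFun hu' i
  simpa using this

end Complete

section Main

variable {p : ℕ} [hp : Fact p.Prime] {k : Type*} [Field k] [IsAlgClosed k] [CharP k p]
set_option linter.unusedSectionVars false

local notation "𝕎" => WittVector p

lemma coeff_zero_iterate_frobenius (ν : ℕ) (a : 𝕎 k) :
    ((⇑(WittVector.frobenius : 𝕎 k →+* 𝕎 k))^[ν] a).coeff 0 = (a.coeff 0) ^ (p ^ ν) := by
  induction ν with
  | zero => simp
  | succ ν ih =>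
    rw [Function.iterate_succ_apply', coeff_frobenius_charP, ih, ← pow_mul, pow_succ]

lemma iterate_frobenius_p (ν : ℕ) :
    ((⇑(WittVector.frobenius : 𝕎 k →+* 𝕎 k))^[ν] (p : 𝕎 k)) = (p : 𝕎 k) := by
  rw [← RingHom.coe_pow, map_natCast]

variable {n : ℕ}

/-- reduction mod `p` on `W^n`. -/
noncomputable def rho : (Fin n → 𝕎 k) →+* (Fin n → k) :=
  RingHom.compLeft (WittVector.constantCoeff : 𝕎 k →+* k) (Fin n)

lemma rho_apply (x : Fin n → 𝕎 k) (i : Fin n) : rho x i = (x i).coeff 0 := rfl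

lemma rho_smul (a : 𝕎 k) (x : Fin n → 𝕎 k) : rho (a • x) = a.coeff 0 • rho x := by
  funext i
  simp [rho_apply, WittVector.mul_coeff_zero]

lemma rho_p_smul (x : Fin n → 𝕎 k) : rho ((p : 𝕎 k) • x) = 0 := by
  rw [rho_smul]
  have : (p : 𝕎 k).coeff 0 = 0 := by
    have h1 : (WittVector.constantCoeff (p : 𝕎 k) : k) = ((p : ℕ) : k) := map_natCast _ _
    rw [CharP.cast_eq_zero k p] at h1
    exact h1
  rw [this, zero_smul]

lemma rho_eq_zero (x : Fin n → 𝕎 k) (h : rho x = 0) : ∃ u : Fin n → 𝕎 k, x = (p : 𝕎 k) • u := by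
  have h1 : ∀ i, ∃ u : 𝕎 k, x i = (p : 𝕎 k) * u := by
    intro i
    have h2 : (x i).coeff 0 = 0 := congrFun h i
    have h3 := (mem_span_p_iff_coeff_zero_eq_zero (x i)).2 h2
    rw [Ideal.mem_span_singleton] at h3
    exact h3
  choose u hu using h1
  exact ⟨u, funext fun i => by simpa using hu i⟩

/-- Teichmüller section. -/
noncomputable def sec (v : Fin n → k) : Fin n → 𝕎 k := fun i => WittVector.teichmuller p (v i)

lemma rho_sec (v : Fin n → k) : rho (sec (p := p) v) = v := by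
  funext i
  simp [rho_apply, sec, WittVector.teichmuller_coeff_zero]

theorem coord_fixed_basis (ν : ℕ) (hν : 1 ≤ ν) (Φ : (Fin n → 𝕎 k) →+ (Fin n → 𝕎 k))
    (hΦ : ∀ (a : 𝕎 k) x, Φ (a • x) =
      ((⇑(WittVector.frobenius : 𝕎 k →+* 𝕎 k))^[ν] a) • Φ x)
    (hbij : Function.Bijective Φ) :
    ∃ m : Fin n → (Fin n → 𝕎 k), (∀ i, Φ (m i) = m i) ∧ LinearIndependent (𝕎 k) m ∧
      Submodule.span (𝕎 k) (Set.range m) = ⊤ := by
  classical
  have hq : 2 ≤ p ^ ν := by
    have h2 : 2 ≤ p := hp.out.two_le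
    calc 2 ≤ p := h2
      _ = p ^ 1 := (pow_one p).symm
      _ ≤ p ^ ν := Nat.pow_le_pow_right (by omega) hν
  have hΦp : ∀ x, Φ ((p : 𝕎 k) • x) = (p : 𝕎 k) • Φ x := by
    intro x; rw [hΦ, iterate_frobenius_p]
  have hker : ∀ x, rho x = 0 → rho (Φ x) = 0 := by
    intro x hx
    obtain ⟨u, rfl⟩ := rho_eq_zero x hx
    rw [hΦp, rho_p_smul]
  have hcong : ∀ x x', rho x = rho x' → rho (Φ x) = rho (Φ x') := by
    intro x x' h
    have h1 := hker (x - x') (by rw [map_sub, h, sub_self])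
    rw [map_sub, map_sub, sub_eq_zero] at h1
    exact h1
  let φ : (Fin n → k) →+ (Fin n → k) :=
    { toFun := fun v => rho (Φ (sec v))
      map_zero' := by
        have := hcong (sec (p := p) (0 : Fin n → k)) 0 (by rw [rho_sec, map_zero])
        rw [this, map_zero, map_zero]
      map_add' := fun a b => by
        have := hcong (sec (p := p) (a + b)) (sec a + sec b)
          (by rw [rho_sec, map_add, rho_sec, rho_sec])
        rw [this, map_add, map_add] }
  have hφρ : ∀ x, φ (rho x) = rho (Φ x) := fun x => hcong _ _ (rho_sec _)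
  have hφsemi : ∀ (a : k) (v : Fin n → k), φ (a • v) = a ^ (p ^ ν) • φ v := by
    intro a v
    have h1 : a • v = rho (WittVector.teichmuller p a • sec (p := p) v) := by
      rw [rho_smul, WittVector.teichmuller_coeff_zero, rho_sec]
    rw [h1, hφρ, hΦ, rho_smul, coeff_zero_iterate_frobenius, WittVector.teichmuller_coeff_zero]
    rfl
  have hφinj : Function.Injective φ := by
    rw [injective_iff_map_eq_zero]
    intro v hv
    have h1 : rho (Φ (sec (p := p) v)) = 0 := hv
    obtain ⟨u, hu⟩ := rho_eq_zero _ h1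
    obtain ⟨u', rfl⟩ := hbij.2 u
    rw [← hΦp] at hu
    have h2 := hbij.1 hu
    rw [← rho_sec (p := p) v, h2, rho_p_smul]
  obtain ⟨s', b0, hb0⟩ := LangFix.exists_fixed_basis hq φ hφsemi hφinj
  let eqv := b0.indexEquiv (Pi.basisFun k (Fin n))
  let b : Module.Basis (Fin n) k (Fin n → k) := b0.reindex eqv
  have hb : ∀ i, φ (b i) = b i := by
    intro i
    simp only [b, Module.Basis.reindex_apply]
    exact hb0 _
  -- Artin–Schreier surjectivity of φ - 1 on k^n
  have hAS : ∀ v : Fin n → k, ∃ u : Fin n → k, φ u - u = v := by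
    intro v
    choose c hc using fun i => LangFix.exists_artinSchreier hq (b.repr v i)
    refine ⟨∑ i, c i • b i, ?_⟩
    rw [map_sum]
    simp only [hφsemi, hb]
    rw [← Finset.sum_sub_distrib]
    simp only [← sub_smul, hc]
    exact b.sum_repr v
  let T : (Fin n → 𝕎 k) →+ (Fin n → 𝕎 k) := Φ - AddMonoidHom.id _
  have hTapp : ∀ x, T x = Φ x - x := fun x => rfl
  have hTsurj : Function.Surjective T := by
    refine surj_of_surj_mod_p T (fun x => by rw [hTapp, hTapp, hΦp, smul_sub]) fun x => ?_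
    obtain ⟨u, hu⟩ := hAS (rho x)
    have h1 : rho (x - T (sec u)) = 0 := by
      rw [hTapp, map_sub, map_sub, ← hφρ, rho_sec, hu, sub_self]
    obtain ⟨z, hz⟩ := rho_eq_zero _ h1
    exact ⟨sec u, z, by rw [← hz]; abel⟩
  -- lifts
  have hlift : ∀ i, ∃ m : Fin n → 𝕎 k, Φ m = m ∧ rho m = b i := by
    intro i
    have h1 : rho (Φ (sec (p := p) (b i)) - sec (b i)) = 0 := by
      rw [map_sub, ← hφρ, rho_sec, hb, sub_self]
    obtain ⟨t, ht⟩ := rho_eq_zero _ h1
    obtain ⟨u, hu⟩ := hTsurj (-t)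
    refine ⟨sec (b i) + (p : 𝕎 k) • u, ?_, ?_⟩
    · rw [map_add, hΦp]
      have h2 : Φ u = u - t := by rw [hTapp] at hu; rw [← sub_eq_zero]; rw [← sub_eq_zero] at hu; rw [← hu]; abel
      have h3 : Φ (sec (p := p) (b i)) = sec (b i) + (p : 𝕎 k) • t := by rw [← ht]; abel
      rw [h2, h3, smul_sub]; abel
    · rw [map_add, rho_sec, rho_p_smul, add_zero]
  choose m hm1 hm2 using hlift
  refine ⟨m, hm1, ?_⟩
  rw [Module.Basis.is_basis_iff_det (Pi.basisFun (𝕎 k) (Fin n))]
  apply WittVector.isUnit_of_coeff_zero_ne_zero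
  have h1 : ((Pi.basisFun (𝕎 k) (Fin n)).det m).coeff 0 = (Pi.basisFun k (Fin n)).det b := by
    rw [Module.Basis.det_apply, Module.Basis.det_apply]
    have h2 : ((Pi.basisFun (𝕎 k) (Fin n)).toMatrix m).det.coeff 0 =
        WittVector.constantCoeff ((Pi.basisFun (𝕎 k) (Fin n)).toMatrix m).det := rfl
    rw [h2, RingHom.map_det]
    congr 1
    ext i j
    simp only [RingHom.mapMatrix_apply, Matrix.map_apply, Module.Basis.toMatrix_apply,
      Pi.basisFun_repr]
    have := congrFun (hm2 j) i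
    rw [rho_apply] at this
    exact this
  rw [h1]
  have h3 := (Module.Basis.is_basis_iff_det (Pi.basisFun k (Fin n)) (v := b)).1 ⟨b.linearIndependent, b.span_eq⟩
  exact h3.ne_zero

end Main

end Groth.Agent.Lib.Helper6.WittFix
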