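import Groth.Agent.Lib.Helper6.WittShift
import Groth.Agent.Lib.Helper6.WittFilG
import Groth.Agent.Lib.Helper6.PSLoc

set_option autoImplicit false
set_option linter.unusedSectionVars false

/-! Graded pieces of the filtration on truncated Witt vectors of `S⟦X⟧[1/X]`. -/

namespace Groth.Agent.Helper6.WittGr

open WittVector PowerSeries Groth.Agent.Helper6

section units

variable {B : Type*} [CommRing B] (u : Bˣ)

theorem U_add (r r' : ℤ) :
    ((u ^ (r + r') : Bˣ) : B) = ((u ^ r : Bˣ) : B) * ((u ^ r' : Bˣ) : B) := by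
  rw [zpow_add, Units.val_mul]

theorem U_pow (r : ℤ) (k : ℕ) : (((u ^ r : Bˣ)) : B) ^ k = ((u ^ (r * k) : Bˣ) : B) := by
  rw [← Units.val_pow_eq_pow_val, ← zpow_natCast, ← zpow_mul]

theorem U_zero : ((u ^ (0 : ℤ) : Bˣ) : B) = 1 := by simp

end units

variable (p : ℕ) [hp : Fact p.Prime] {S B : Type*} [CommRing S] [IsDomain S] [CharP S p]
  [CommRing B] [Algebra (PowerSeries S) B] [Algebra S B] [IsScalarTower S (PowerSeries S) B]
  [IsLocalization.Away (PowerSeries.X : PowerSeries S) B]
  (u : Bˣ) (hu : (u : B) = algebraMap (PowerSeries S) B PowerSeries.X)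

theorem algebraMap_S (σ : S) : algebraMap S B σ = algebraMap (PowerSeries S) B (C σ) := by
  rw [IsScalarTower.algebraMap_apply S (PowerSeries S) B]
  rfl

theorem injS : Function.Injective (algebraMap S B) := by
  intro a b hab
  rw [algebraMap_S (S := S) a, algebraMap_S (S := S) b] at hab
  exact PowerSeries.C_injective (PSLoc.inj (B := B) hab)

omit [IsLocalization.Away (PowerSeries.X : PowerSeries S) B] [IsDomain S] in
theorem charPB (h : Function.Injective (algebraMap S B)) : CharP B p :=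
  charP_of_injective_algebraMap h p

include hu

/-- the coordinate identity for `Φ` -/
theorem coord_eq (i : ℤ) (σ : S) (a b : ℕ) (r : ℤ) :
    (algebraMap S B σ * (((u ^ i : Bˣ) : B)) ^ p ^ a) ^ p ^ b * ((u ^ r : Bˣ) : B)
      = algebraMap (PowerSeries S) B (C (σ ^ p ^ b)) * ((u ^ (i * (p : ℤ) ^ (a + b) + r) : Bˣ) : B) := by
  rw [mul_pow, ← pow_mul, U_pow, mul_assoc, ← U_add, algebraMap_S, map_pow, map_pow]
  congr 4
  push_cast
  ring

/-- Part (1): `Φ(c)` lies in the filtered piece. -/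
theorem part1 (s t : ℕ) (i : ℤ) (c : WittVector p S) :
    WittFil.vShiftTeich p (s + t + 1) s ((u ^ i : Bˣ) : B) c ∈
      WittFil.fil p (s + t + 1) (A := PowerSeries S) ((u ^ (-((p : ℤ) ^ t * i)) : Bˣ) : B) := by
  intro j
  rw [WittShift.coeff_vShiftTeich]
  split_ifs with h
  · rw [zero_pow (pow_ne_zero _ hp.out.ne_zero), zero_mul]
    exact zero_mem _
  · rw [coord_eq p u hu]
    have : ((j : ℕ) - s) + (s + t + 1 - 1 - (j : ℕ)) = t := by have := j.2; omega
    rw [this]
    have : i * (p : ℤ) ^ t + -((p : ℤ) ^ t * i) = 0 := by ring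
    rw [this, U_zero, mul_one]
    exact ⟨_, rfl⟩

/-- Part (2). -/
theorem part2 (s t : ℕ) (i : ℤ) (c : WittVector p S) :
    WittFil.vShiftTeich p (s + t + 1) s ((u ^ i : Bˣ) : B) c ∈
      WittFil.fil p (s + t + 1) (A := PowerSeries S) ((u ^ (-((p : ℤ) ^ t * i) - 1) : Bˣ) : B) ↔
      WittVector.truncate (t + 1) c = 0 := by
  constructor
  · intro h
    ext k
    rw [WittVector.coeff_truncate, TruncatedWittVector.coeff_zero]
    have hk : (k : ℕ) < t + 1 := k.2
    have h1 := h ⟨(k : ℕ) + s, by omega⟩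
    rw [WittShift.coeff_vShiftTeich] at h1
    simp only [] at h1
    rw [if_neg (by omega)] at h1
    have e1 : (k : ℕ) + s - s = k := by omega
    rw [e1, coord_eq p u hu] at h1
    have : (k : ℕ) + (s + t + 1 - 1 - ((k : ℕ) + s)) = t := by omega
    rw [this] at h1
    have : i * (p : ℤ) ^ t + (-((p : ℤ) ^ t * i) - 1) = -1 := by ring
    rw [this, zpow_neg_one] at h1
    have h2 := PSLoc.const_mul_inv u hu _ h1
    exact pow_eq_zero_iff (pow_ne_zero _ hp.out.ne_zero) |>.mp h2
  · intro h j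
    rw [WittShift.coeff_vShiftTeich]
    split_ifs with hj
    · rw [zero_pow (pow_ne_zero _ hp.out.ne_zero), zero_mul]
      exact zero_mem _
    · have hk : (j : ℕ) - s < t + 1 := by have := j.2; omega
      have h1 := congrArg (TruncatedWittVector.coeff ⟨(j : ℕ) - s, hk⟩) h
      rw [WittVector.coeff_truncate, TruncatedWittVector.coeff_zero] at h1
      simp only [] at h1
      rw [h1, map_zero, zero_mul, zero_pow (pow_ne_zero _ hp.out.ne_zero), zero_mul]
      exact zero_mem _

/-- the vector `Φ(V^[d][σ])` is supported in coordinate `s + d` -/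
theorem coeff_omega (s d : ℕ) (i : ℤ) (σ : S) (j : Fin (s + d + 1)) :
    TruncatedWittVector.coeff j (WittFil.vShiftTeich p (s + d + 1) s ((u ^ i : Bˣ) : B)
      ((verschiebung : WittVector p S → WittVector p S)^[d] (teichmuller p σ)))
      = if (j : ℕ) = s + d then algebraMap S B σ * ((u ^ (i * (p : ℤ) ^ d) : Bˣ) : B) else 0 := by
  rw [WittShift.coeff_vShiftTeich]
  by_cases h1 : (j : ℕ) < s
  · rw [if_pos h1, if_neg (by omega)]
  · rw [if_neg h1]
    by_cases h2 : (j : ℕ) = s + d
    · rw [if_pos h2]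
      have e1 : (j : ℕ) - s = 0 + d := by omega
      rw [e1, iterate_verschiebung_coeff, teichmuller_coeff_zero, U_pow, zero_add]
      congr 4
    · rw [if_neg h2]
      have hlt : (j : ℕ) - s < d := by have := j.2; omega
      rw [iterate_verschiebung_coeff_eq_zero _ hlt, map_zero, zero_mul]

/-- correcting the last coordinate -/
theorem last_step (s d : ℕ) (i : ℤ) (z : TruncatedWittVector p (s + d + 1) B)
    (hz : TruncatedWittVector.coeff (Fin.last (s + d)) z * ((u ^ (-((p : ℤ) ^ d * i)) : Bˣ) : B)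
      ∈ (algebraMap (PowerSeries S) B).range) :
    ∃ σ : S,
      (∀ j : Fin (s + d + 1), (j : ℕ) < s + d →
        TruncatedWittVector.coeff j (z - WittFil.vShiftTeich p (s + d + 1) s ((u ^ i : Bˣ) : B)
          ((verschiebung : WittVector p S → WittVector p S)^[d] (teichmuller p σ)))
          = TruncatedWittVector.coeff j z) ∧
      TruncatedWittVector.coeff (Fin.last (s + d))
          (z - WittFil.vShiftTeich p (s + d + 1) s ((u ^ i : Bˣ) : B)
          ((verschiebung : WittVector p S → WittVector p S)^[d] (teichmuller p σ)))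
        * ((u ^ (-((p : ℤ) ^ d * i) - 1) : Bˣ) : B) ∈ (algebraMap (PowerSeries S) B).range := by
  obtain ⟨σ, hσ⟩ := PSLoc.exists_const u hu _ hz
  refine ⟨σ, ?_⟩
  have hω : ∀ j : Fin (s + d + 1), (j : ℕ) < s + d →
      TruncatedWittVector.coeff j (WittFil.vShiftTeich p (s + d + 1) s ((u ^ i : Bˣ) : B)
        ((verschiebung : WittVector p S → WittVector p S)^[d] (teichmuller p σ))) = 0 := by
    intro j hj
    rw [coeff_omega p u hu, if_neg (by omega)]
  obtain ⟨h1, h2⟩ := WittShift.trunc_sub_coeff p z _ hω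
  refine ⟨h1, ?_⟩
  rw [h2, coeff_omega p u hu, if_pos (by simp)]
  have : (TruncatedWittVector.coeff (Fin.last (s + d)) z
        - algebraMap S B σ * ((u ^ (i * (p : ℤ) ^ d) : Bˣ) : B))
        * ((u ^ (-((p : ℤ) ^ d * i) - 1) : Bˣ) : B)
      = (TruncatedWittVector.coeff (Fin.last (s + d)) z * ((u ^ (-((p : ℤ) ^ d * i)) : Bˣ) : B)
        - algebraMap (PowerSeries S) B (C σ)) * ((u⁻¹ : Bˣ) : B) := by
    rw [sub_eq_add_neg (-((p : ℤ) ^ d * i)) 1, U_add, zpow_neg_one, algebraMap_S]
    have e : ((u ^ (i * (p : ℤ) ^ d) : Bˣ) : B) * ((u ^ (-((p : ℤ) ^ d * i)) : Bˣ) : B) = 1 := by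
      rw [← U_add]
      have : i * (p : ℤ) ^ d + -((p : ℤ) ^ d * i) = 0 := by ring
      rw [this, U_zero]
    linear_combination (-(algebraMap (PowerSeries S) B (C σ)) * ((u⁻¹ : Bˣ) : B)) * e
  rw [this]
  exact hσ


/-- Part (3), by induction on the length. -/
theorem part3 [CharP B p] (s : ℕ) (i : ℤ) (hsi : s = 0 ∨ ¬ ((p : ℤ) ∣ i)) (t : ℕ) :
    ∀ y ∈ WittFil.fil p (s + t + 1) (A := PowerSeries S) ((u ^ (-((p : ℤ) ^ t * i)) : Bˣ) : B),
      ∃ c : WittVector p S,
        y - WittFil.vShiftTeich p (s + t + 1) s ((u ^ i : Bˣ) : B) c ∈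
          WittFil.fil p (s + t + 1) (A := PowerSeries S)
            ((u ^ (-((p : ℤ) ^ t * i) - 1) : Bˣ) : B) := by
  have hcl : ∀ (y : B) (N : ℕ), N ≠ 0 → y ^ N ∈ (algebraMap (PowerSeries S) B).range →
      y ∈ (algebraMap (PowerSeries S) B).range := fun y N hN h => PSLoc.hcl u hu y N hN h
  induction t with
  | zero =>
    intro y hy
    have hlast := hy (Fin.last (s + 0))
    have e0 : s + 0 + 1 - 1 - ((Fin.last (s + 0) : Fin (s + 0 + 1)) : ℕ) = 0 := by simp
    rw [e0, pow_zero, pow_one] at hlast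
    obtain ⟨σ, h1, h2⟩ := last_step p u hu s 0 i y hlast
    refine ⟨teichmuller p σ, ?_⟩
    intro j
    by_cases hj : (j : ℕ) < s + 0
    · have h1' := h1 j hj
      simp only [Function.iterate_zero, id_eq] at h1'
      rw [h1']
      have hs0 : s ≠ 0 := by omega
      have hpi : ¬ ((p : ℤ) ∣ i) := hsi.resolve_left hs0
      have hyj := hy j
      have hq : ¬ (((p ^ (s + 0 + 1 - 1 - (j : ℕ)) : ℕ) : ℤ) ∣ (p : ℤ) ^ 0 * i) := by
        intro hd
        apply hpi
        have e : s + 0 + 1 - 1 - (j : ℕ) = (s + 0 + 1 - 1 - (j : ℕ) - 1) + 1 := by omega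
        rw [e, pow_succ] at hd
        rw [pow_zero, one_mul] at hd
        push_cast at hd
        exact dvd_of_mul_left_dvd hd
      exact PSLoc.integrality u hu _ _ (pow_ne_zero _ hp.out.ne_zero) _ hq hyj
    · have hj' : j = Fin.last (s + 0) := by
        apply Fin.ext
        have := j.2
        simp only [Fin.val_last]
        omega
      rw [hj', e0, pow_zero, pow_one]
      simpa using h2
  | succ t ih =>
    intro y hy
    -- truncation
    set ybar := TruncatedWittVector.truncate (Nat.le_succ (s + t + 1)) y with hybar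
    have hybar_mem : ybar ∈ WittFil.fil p (s + t + 1) (A := PowerSeries S)
        ((u ^ (-((p : ℤ) ^ t * i)) : Bˣ) : B) := by
      intro j
      rw [hybar, TruncatedWittVector.coeff_truncate]
      have h1 := hy (Fin.castLE (Nat.le_succ (s + t + 1)) j)
      apply hcl _ p hp.out.ne_zero
      have e : s + (t + 1) + 1 - 1 - ((Fin.castLE (Nat.le_succ (s + t + 1)) j : Fin (s + (t + 1) + 1)) : ℕ)
          = (s + t + 1 - 1 - (j : ℕ)) + 1 := by
        have := j.2
        simp only [Fin.val_castLE]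
        omega
      rw [e] at h1
      have e2 : (TruncatedWittVector.coeff (Fin.castLE (Nat.le_succ (s + t + 1)) j) y
          ^ p ^ (s + t + 1 - 1 - (j : ℕ)) * ((u ^ (-((p : ℤ) ^ t * i)) : Bˣ) : B)) ^ p
          = TruncatedWittVector.coeff (Fin.castLE (Nat.le_succ (s + t + 1)) j) y
          ^ p ^ (s + t + 1 - 1 - (j : ℕ) + 1) * ((u ^ (-((p : ℤ) ^ (t + 1) * i)) : Bˣ) : B) := by
        rw [mul_pow, ← pow_mul, U_pow, ← pow_succ]
        congr 3
        ring
      rw [e2]
      exact h1
    obtain ⟨cbar, hcbar⟩ := ih ybar hybar_mem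
    -- the intermediate difference
    set z0 := y - WittFil.vShiftTeich p (s + (t + 1) + 1) s ((u ^ i : Bˣ) : B) cbar with hz0
    have hz0_mem : z0 ∈ WittFil.fil p (s + (t + 1) + 1) (A := PowerSeries S)
        ((u ^ (-((p : ℤ) ^ (t + 1) * i)) : Bˣ) : B) :=
      WittFilG.sub_mem_fil p (PowerSeries S) hcl _ _ _ _ hy (part1 p u hu s (t + 1) i cbar)
    have htr : TruncatedWittVector.truncate (Nat.le_succ (s + t + 1)) z0
        = ybar - WittFil.vShiftTeich p (s + t + 1) s ((u ^ i : Bˣ) : B) cbar := by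
      rw [hz0, map_sub, hybar]
      have h := WittShift.truncate_vShiftTeich p (s + t + 1) s ((u ^ i : Bˣ) : B) cbar
      exact congrArg (fun w => TruncatedWittVector.truncate (Nat.le_succ (s + t + 1)) y - w) h
    have hlast := hz0_mem (Fin.last (s + (t + 1)))
    have e0 : s + (t + 1) + 1 - 1 - ((Fin.last (s + (t + 1)) : Fin (s + (t + 1) + 1)) : ℕ) = 0 := by
      simp
    rw [e0, pow_zero, pow_one] at hlast
    obtain ⟨σ, h1, h2⟩ := last_step p u hu s (t + 1) i z0 hlast
    refine ⟨cbar + (verschiebung : WittVector p S → WittVector p S)^[t + 1] (teichmuller p σ), ?_⟩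
    rw [WittShift.vShiftTeich_add, ← sub_sub, ← hz0]
    intro j
    by_cases hj : (j : ℕ) < s + (t + 1)
    · rw [h1 j hj]
      have hj2 : (j : ℕ) < s + t + 1 := hj
      have h3 := hcbar ⟨(j : ℕ), hj2⟩
      rw [← htr, TruncatedWittVector.coeff_truncate] at h3
      have e3 : Fin.castLE (Nat.le_succ (s + t + 1)) ⟨(j : ℕ), hj2⟩ = j := Fin.ext rfl
      rw [e3] at h3
      simp only [] at h3
      have e : s + (t + 1) + 1 - 1 - (j : ℕ) = (s + t + 1 - 1 - (j : ℕ)) + 1 := by omega
      rw [e]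
      have e2 : TruncatedWittVector.coeff j z0 ^ p ^ (s + t + 1 - 1 - (j : ℕ) + 1)
            * ((u ^ (-((p : ℤ) ^ (t + 1) * i) - 1) : Bˣ) : B)
          = (TruncatedWittVector.coeff j z0 ^ p ^ (s + t + 1 - 1 - (j : ℕ))
            * ((u ^ (-((p : ℤ) ^ t * i) - 1) : Bˣ) : B)) ^ p
            * ((u ^ (((p : ℤ) - 1)) : Bˣ) : B) := by
        rw [mul_pow, ← pow_mul, U_pow, ← pow_succ, mul_assoc, ← U_add]
        congr 3
        ring
      rw [e2]
      apply mul_mem (pow_mem h3 _)
      apply PSLoc.zpow_mem_range u hu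
      have : (1 : ℤ) ≤ p := by exact_mod_cast hp.out.one_lt.le
      omega
    · have hj' : j = Fin.last (s + (t + 1)) := by
        apply Fin.ext
        have := j.2
        simp only [Fin.val_last]
        omega
      rw [hj', e0, pow_zero, pow_one]
      exact h2


end Groth.Agent.Helper6.WittGr
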