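import Mathlib.RingTheory.WittVector.StructurePolynomial
import Mathlib.RingTheory.WittVector.Defs
import Mathlib.RingTheory.MvPolynomial.WeightedHomogeneous

set_option autoImplicit false

/-! Isobaric property of the Witt structure polynomials, and evaluation of weighted homogeneous
polynomials on graded families of additive subgroups. -/

namespace Groth.Agent.Helper6.WittHom

open MvPolynomial

section general

variable {M : Type*} [AddCommMonoid M]

/-- substitution of weighted homogeneous polynomials into a weighted homogeneous polynomial -/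
theorem bind₁_isWeightedHomogeneous {σ τ R : Type*} [CommSemiring R] (w : σ → M) (w' : τ → M)
    (N : ℕ) (f : σ → MvPolynomial τ R) (hf : ∀ i, IsWeightedHomogeneous w' (f i) (N • w i))
    (Φ : MvPolynomial σ R) (D : M) (hΦ : IsWeightedHomogeneous w Φ D) :
    IsWeightedHomogeneous w' (bind₁ f Φ) (N • D) := by
  classical
  rw [Φ.as_sum, map_sum]
  apply IsWeightedHomogeneous.sum
  intro d hd
  rw [bind₁_monomial]
  have hd' : Finsupp.weight w d = D := hΦ (mem_support_iff.mp hd)
  have h1 : IsWeightedHomogeneous w' (∏ i ∈ d.support, f i ^ d i)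
      (∑ i ∈ d.support, d i • (N • w i)) :=
    IsWeightedHomogeneous.prod _ _ _ fun i _ => (hf i).pow (d i)
  have h2 : (∑ i ∈ d.support, d i • (N • w i)) = N • D := by
    rw [← hd', Finsupp.weight_apply, Finsupp.sum, Finset.smul_sum]
    refine Finset.sum_congr rfl fun i _ => ?_
    rw [smul_smul, smul_smul, mul_comm]
  rw [h2] at h1
  exact h1.C_mul _

theorem map_isWeightedHomogeneous {σ R S : Type*} [CommSemiring R] [CommSemiring S] (g : R →+* S)
    (w : σ → M) (Φ : MvPolynomial σ R) (D : M) (hΦ : IsWeightedHomogeneous w Φ D) :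
    IsWeightedHomogeneous w (map g Φ) D := by
  intro d hd
  rw [coeff_map] at hd
  apply hΦ
  intro h0
  rw [h0, map_zero] at hd
  exact hd rfl

theorem isWeightedHomogeneous_of_map {σ R S : Type*} [CommSemiring R] [CommSemiring S]
    (g : R →+* S) (hg : Function.Injective g)
    (w : σ → M) (Φ : MvPolynomial σ R) (D : M) (hΦ : IsWeightedHomogeneous w (map g Φ) D) :
    IsWeightedHomogeneous w Φ D := by
  intro d hd
  apply hΦ
  rw [coeff_map]
  intro h0
  rw [← map_zero g] at h0
  exact hd (hg h0)

/-- evaluation of a weighted homogeneous polynomial on a graded family -/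
theorem aeval_mem {τ B : Type*} [CommRing B] (w' : τ → M) (G : M → AddSubgroup B)
    (h1 : (1 : B) ∈ G 0) (hmul : ∀ a b x y, x ∈ G a → y ∈ G b → x * y ∈ G (a + b))
    (φ : MvPolynomial τ ℤ) (N : M) (hφ : IsWeightedHomogeneous w' φ N) (x : τ → B)
    (hx : ∀ t, x t ∈ G (w' t)) : aeval x φ ∈ G N := by
  classical
  have hpow : ∀ (a : M) (z : B) (k : ℕ), z ∈ G a → z ^ k ∈ G (k • a) := by
    intro a z k hz
    induction k with
    | zero => rw [pow_zero, zero_smul]; exact h1
    | succ k ih => rw [pow_succ, succ_nsmul]; exact hmul _ _ _ _ ih hz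
  have hprod : ∀ (S : Finset τ) (f : τ → B) (g : τ → M), (∀ i ∈ S, f i ∈ G (g i)) →
      ∏ i ∈ S, f i ∈ G (∑ i ∈ S, g i) := by
    intro S f g
    refine Finset.induction_on S ?_ ?_
    · intro _
      simpa using h1
    · intro i S hi IH h
      rw [Finset.prod_insert hi, Finset.sum_insert hi]
      exact hmul _ _ _ _ (h i (Finset.mem_insert_self _ _))
        (IH fun j hj => h j (Finset.mem_insert_of_mem hj))
  rw [φ.as_sum, map_sum]
  apply AddSubgroup.sum_mem
  intro d hd
  rw [aeval_monomial]
  have hd' : Finsupp.weight w' d = N := hφ (mem_support_iff.mp hd)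
  have h2 : (d.prod fun i k => x i ^ k) ∈ G N := by
    rw [← hd', Finsupp.weight_apply, Finsupp.prod, Finsupp.sum]
    exact hprod _ _ _ fun i _ => hpow _ _ _ (hx i)
  have h3 : algebraMap ℤ B (coeff d φ) * (d.prod fun i k => x i ^ k)
      = (coeff d φ) • (d.prod fun i k => x i ^ k) := by
    rw [zsmul_eq_mul]
    simp
  rw [h3]
  exact AddSubgroup.zsmul_mem _ h2 _

end general

section witt

variable (p : ℕ) [hp : Fact p.Prime] {idx : Type*} {M : Type*} [AddCommMonoid M]

/-- weights on the variables of structure polynomials -/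
def wt (w : idx → M) : idx × ℕ → M := fun bk => p ^ bk.2 • w bk.1

omit hp in
theorem rename_wittPolynomial_homog (w : idx → M) (b : idx) (n : ℕ) :
    IsWeightedHomogeneous (wt p w) (rename (fun i => (b, i)) (wittPolynomial p ℚ n))
      (p ^ n • w b) := by
  rw [wittPolynomial, map_sum]
  apply IsWeightedHomogeneous.sum
  intro i hi
  rw [rename_monomial, Finsupp.mapDomain_single]
  apply isWeightedHomogeneous_monomial
  rw [Finsupp.weight_apply, Finsupp.sum_single_index (by simp)]
  simp only [wt]
  rw [smul_smul, ← pow_add]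
  congr 2
  have := Finset.mem_range.mp hi
  omega

theorem wittStructureRat_homog (w : idx → M) (Φ : MvPolynomial idx ℚ) (D : M)
    (hΦ : IsWeightedHomogeneous w Φ D) (n : ℕ) :
    IsWeightedHomogeneous (wt p w) (wittStructureRat p Φ n) (p ^ n • D) := by
  induction n using Nat.strong_induction_on with
  | h n IH =>
    rw [wittStructureRat_rec]
    apply IsWeightedHomogeneous.C_mul
    apply IsWeightedHomogeneous.sub
    · exact bind₁_isWeightedHomogeneous w (wt p w) (p ^ n) _
        (fun b => rename_wittPolynomial_homog p w b n) Φ D hΦ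
    · apply IsWeightedHomogeneous.sum
      intro i hi
      apply IsWeightedHomogeneous.C_mul
      have h1 := (IH i (Finset.mem_range.mp hi)).pow (p ^ (n - i))
      rw [smul_smul, ← pow_add] at h1
      have : n - i + i = n := by have := Finset.mem_range.mp hi; omega
      rwa [this] at h1

theorem wittStructureInt_homog (w : idx → M) (Φ : MvPolynomial idx ℤ) (D : M)
    (hΦ : IsWeightedHomogeneous w Φ D) (n : ℕ) :
    IsWeightedHomogeneous (wt p w) (wittStructureInt p Φ n) (p ^ n • D) := by
  apply isWeightedHomogeneous_of_map (Int.castRingHom ℚ) Int.cast_injective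
  rw [map_wittStructureInt]
  exact wittStructureRat_homog p w _ D (map_isWeightedHomogeneous _ w Φ D hΦ) n

theorem wittSub_homog (n : ℕ) :
    IsWeightedHomogeneous (wt p (fun _ : Fin 2 => (1 : ℕ))) (WittVector.wittSub p n) (p ^ n • 1) := by
  apply wittStructureInt_homog
  exact (isWeightedHomogeneous_X _ _ _).sub (isWeightedHomogeneous_X _ _ _)

theorem wittAdd_homog (n : ℕ) :
    IsWeightedHomogeneous (wt p (fun _ : Fin 2 => (1 : ℕ))) (WittVector.wittAdd p n) (p ^ n • 1) := by
  apply wittStructureInt_homog
  exact (isWeightedHomogeneous_X _ _ _).add (isWeightedHomogeneous_X _ _ _)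

/-- bi-weights for the product -/
def biw : Fin 2 → ℕ × ℕ := ![(1, 0), (0, 1)]

theorem wittMul_homog (n : ℕ) :
    IsWeightedHomogeneous (wt p biw) (WittVector.wittMul p n) (p ^ n • ((1, 1) : ℕ × ℕ)) := by
  apply wittStructureInt_homog
  have h := (isWeightedHomogeneous_X ℤ biw 0).mul (isWeightedHomogeneous_X ℤ biw 1)
  simpa [biw] using h

end witt

end Groth.Agent.Helper6.WittHom
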