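import Groth.Agent.Lib.Helper6.WittTeich
import Groth.Prelude.Def_W4c6katofiltaWFil
import Mathlib.RingTheory.WittVector.InitTail
import Mathlib.RingTheory.WittVector.Domain
import Mathlib.RingTheory.WittVector.Identities
import Mathlib.RingTheory.WittVector.Truncated

set_option autoImplicit false
set_option linter.unusedSectionVars false

/-! Coordinates of `vShiftTeich`, and addition of a Witt vector supported in high degrees. -/

namespace Groth.Agent.Helper6.WittShift

open WittVector

variable (p : ℕ) [hp : Fact p.Prime] {R : Type*} [CommRing R]

theorem coeff_init' (x : WittVector p R) (n i : ℕ) :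
    (WittVector.init n x).coeff i = if i < n then x.coeff i else 0 := by
  simp only [WittVector.init, WittVector.select, WittVector.coeff_mk]
  split_ifs <;> rfl

theorem coeff_tail' (x : WittVector p R) (n i : ℕ) :
    (WittVector.tail n x).coeff i = if n ≤ i then x.coeff i else 0 := by
  simp only [WittVector.tail, WittVector.select, WittVector.coeff_mk]
  split_ifs <;> rfl

theorem iterate_verschiebung_add (k : ℕ) (a b : WittVector p R) :
    (verschiebung : WittVector p R → WittVector p R)^[k] a
      + (verschiebung : WittVector p R → WittVector p R)^[k] b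
      = (verschiebung : WittVector p R → WittVector p R)^[k] (a + b) := by
  induction k generalizing a b with
  | zero => rfl
  | succ k ih =>
    rw [Function.iterate_succ_apply', Function.iterate_succ_apply', Function.iterate_succ_apply',
      ← map_add, ih]

/-- adding a Witt vector whose first `k` coefficients vanish -/
theorem add_coeff_of_vanish (Y W : WittVector p R) (k : ℕ) (hW : ∀ j < k, W.coeff j = 0) :
    (∀ j < k, (Y + W).coeff j = Y.coeff j) ∧ (Y + W).coeff k = Y.coeff k + W.coeff k := by
  have hW' : W = (verschiebung : WittVector p R → WittVector p R)^[k] (W.shift k) :=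
    eq_iterate_verschiebung hW
  have hT : WittVector.tail k Y
      = (verschiebung : WittVector p R → WittVector p R)^[k] ((WittVector.tail k Y).shift k) := by
    apply eq_iterate_verschiebung
    intro j hj
    rw [coeff_tail', if_neg (by omega)]
  set T := (WittVector.tail k Y).shift k + W.shift k with hTdef
  have hsum : Y + W = WittVector.init k Y
      + (verschiebung : WittVector p R → WittVector p R)^[k] T := by
    conv_lhs => rw [← WittVector.init_add_tail Y k, hT, hW', add_assoc, iterate_verschiebung_add]
  have hdisj : ∀ n, (WittVector.init k Y).coeff n = 0 ∨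
      ((verschiebung : WittVector p R → WittVector p R)^[k] T).coeff n = 0 := by
    intro n
    by_cases hn : n < k
    · right
      exact iterate_verschiebung_coeff_eq_zero _ hn
    · left
      rw [coeff_init', if_neg hn]
  constructor
  · intro j hj
    rw [hsum, coeff_add_of_disjoint j _ _ hdisj, coeff_init', if_pos hj,
      iterate_verschiebung_coeff_eq_zero _ hj, add_zero]
  · rw [hsum, coeff_add_of_disjoint k _ _ hdisj, coeff_init', if_neg (lt_irrefl k), zero_add]
    have h1 := iterate_verschiebung_coeff T k 0
    rw [zero_add] at h1
    rw [h1, hTdef, WittVector.add_coeff_zero, shift_coeff, shift_coeff, add_zero, coeff_tail',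
      if_pos le_rfl]

/-- subtracting a Witt vector whose first `k` coefficients vanish -/
theorem sub_coeff_of_vanish (Y W : WittVector p R) (k : ℕ) (hW : ∀ j < k, W.coeff j = 0) :
    (∀ j < k, (Y - W).coeff j = Y.coeff j) ∧ (Y - W).coeff k = Y.coeff k - W.coeff k := by
  obtain ⟨h1, h2⟩ := add_coeff_of_vanish p (Y - W) W k hW
  rw [sub_add_cancel] at h1 h2
  exact ⟨fun j hj => (h1 j hj).symm, by rw [h2, add_sub_cancel_right]⟩

/-- truncated version: subtracting a vector supported in the last coordinate -/
theorem trunc_sub_coeff {k : ℕ} (y ω : TruncatedWittVector p (k + 1) R)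
    (hω : ∀ j : Fin (k + 1), (j : ℕ) < k → TruncatedWittVector.coeff j ω = 0) :
    (∀ j : Fin (k + 1), (j : ℕ) < k →
        TruncatedWittVector.coeff j (y - ω) = TruncatedWittVector.coeff j y) ∧
      TruncatedWittVector.coeff (Fin.last k) (y - ω)
        = TruncatedWittVector.coeff (Fin.last k) y - TruncatedWittVector.coeff (Fin.last k) ω := by
  have hab : y - ω = WittVector.truncateFun (k + 1) (y.out - ω.out) := by
    rw [WittVector.truncateFun_sub, TruncatedWittVector.truncateFun_out,
      TruncatedWittVector.truncateFun_out]
  have hW : ∀ j < k, ω.out.coeff j = 0 := by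
    intro j hj
    have := hω ⟨j, by omega⟩ hj
    rw [← TruncatedWittVector.coeff_out] at this
    exact this
  obtain ⟨h1, h2⟩ := sub_coeff_of_vanish p y.out ω.out k hW
  constructor
  · intro j hj
    rw [hab, WittVector.coeff_truncateFun, h1 j hj, TruncatedWittVector.coeff_out]
  · rw [hab, WittVector.coeff_truncateFun]
    have : ((Fin.last k : Fin (k + 1)) : ℕ) = k := rfl
    rw [this, h2, ← TruncatedWittVector.coeff_out, ← TruncatedWittVector.coeff_out, this]

section vshift

variable {S B : Type*} [CommRing S] [CommRing B] [Algebra S B]

/-- coordinates of `vShiftTeich` -/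
theorem coeff_vShiftTeich (m s : ℕ) (v : B) (c : WittVector p S) (j : Fin m) :
    TruncatedWittVector.coeff j (WittFil.vShiftTeich p m s v c)
      = if (j : ℕ) < s then 0
        else algebraMap S B (c.coeff ((j : ℕ) - s)) * v ^ p ^ ((j : ℕ) - s) := by
  unfold WittFil.vShiftTeich
  rw [WittVector.coeff_truncate]
  split_ifs with h
  · exact iterate_verschiebung_coeff_eq_zero _ h
  · have h1 := iterate_verschiebung_coeff
      (WittVector.map (algebraMap S B) c * WittVector.teichmuller p v) s ((j : ℕ) - s)
    have h2 : (j : ℕ) - s + s = j := by omega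
    rw [h2] at h1
    rw [h1, Groth.Agent.Helper6.WittTeich.mul_teichmuller_coeff, WittVector.map_coeff]

theorem vShiftTeich_add (m s : ℕ) (v : B) (c c' : WittVector p S) :
    WittFil.vShiftTeich p m s v (c + c')
      = WittFil.vShiftTeich p m s v c + WittFil.vShiftTeich p m s v c' := by
  unfold WittFil.vShiftTeich
  rw [map_add, add_mul, ← iterate_verschiebung_add, map_add]

theorem truncate_vShiftTeich (m s : ℕ) (v : B) (c : WittVector p S) :
    TruncatedWittVector.truncate (Nat.le_succ m) (WittFil.vShiftTeich p (m + 1) s v c)
      = WittFil.vShiftTeich p m s v c := by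
  unfold WittFil.vShiftTeich
  rw [TruncatedWittVector.truncate_wittVector_truncate]

end vshift

end Groth.Agent.Helper6.WittShift
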