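import Mathlib

set_option linter.unusedSectionVars false
set_option linter.unusedVariables false
set_option autoImplicit false
set_option maxHeartbeats 400000

noncomputable section

namespace Groth.Agent.Helper6.ZetaT

open MvPolynomial

universe u v

variable {k : Type u} [Field k] {n : ℕ}

/-- the index type -/
abbrev Idx (n : ℕ) := Fin (n + 1) ⊕ Fin (n + 1)

section comp

variable {B : Type v} [CommRing B] [Algebra k B]

/-- `F` evaluated at a point -/
def Fv (q : ℕ) (z : Idx n → B) : B :=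
  ∑ i : Fin (n + 1), (z (Sum.inl i) * z (Sum.inr i) ^ q - z (Sum.inr i) * z (Sum.inl i) ^ q)

/-- `L` evaluated at a point -/
def Lv (c : Idx n → k) (z : Idx n → B) : B := ∑ w, algebraMap k B (c w) * z w

/-- the tangency point -/
def P0 (c : Idx n → k) : Idx n → k :=
  Sum.elim (fun i => - c (Sum.inr i)) (fun i => c (Sum.inl i))

lemma Lv_pairs (c : Idx n → k) (z : Idx n → B) :
    Lv c z = ∑ i : Fin (n + 1), (algebraMap k B (c (Sum.inl i)) * z (Sum.inl i) +
      algebraMap k B (c (Sum.inr i)) * z (Sum.inr i)) := by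
  unfold Lv
  rw [Fintype.sum_sum_type, Finset.sum_add_distrib]

lemma Lv_P0 (c : Idx n → k) : Lv (B := B) c (fun w => algebraMap k B (P0 c w)) = 0 := by
  rw [Lv_pairs]
  apply Finset.sum_eq_zero
  intro i _
  simp only [P0, Sum.elim_inl, Sum.elim_inr, map_neg]
  ring

lemma Lv_add (c : Idx n → k) (z z' : Idx n → B) :
    Lv c (fun w => z w + z' w) = Lv c z + Lv c z' := by
  unfold Lv
  rw [← Finset.sum_add_distrib]
  apply Finset.sum_congr rfl
  intro w _
  ring

lemma Lv_smul (c : Idx n → k) (e : B) (z : Idx n → B) :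
    Lv c (fun w => e * z w) = e * Lv c z := by
  unfold Lv
  rw [Finset.mul_sum]
  apply Finset.sum_congr rfl
  intro w _
  ring

lemma key_eq (p r : ℕ) [Fact p.Prime] [CharP B p] (q : ℕ) (hq : q = p ^ r) (hq2 : 2 ≤ q)
    (hk : ∀ a : k, a ^ q = a)
    (c : Idx n → k) (ε : B) (hε : ε ^ (q + 2) = 0) (v u : Idx n → B) (hv : Lv c v = 0)
    (z : Idx n → B)
    (hz : ∀ w, z w = algebraMap k B (P0 c w) + ε * v w + ε ^ (q + 1) * u w) :
    Lv c z = ε ^ (q + 1) * Lv c u ∧
      Fv q z = ε ^ (q + 1) * Fv q v + ε ^ (q + 1) * Lv c u := by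
  -- Step A
  have hbig : ε ^ ((q + 1) * q) = 0 := by
    have : (q + 1) * q = (q + 2) + ((q + 1) * q - (q + 2)) := by
      have : q + 2 ≤ (q + 1) * q := by nlinarith
      omega
    rw [this, pow_add, hε, zero_mul]
  have h2q : ε ^ (2 * q + 1) = 0 := by
    have : 2 * q + 1 = (q + 2) + (q - 1) := by omega
    rw [this, pow_add, hε, zero_mul]
  have hA : ∀ w, (z w) ^ q = algebraMap k B (P0 c w) + ε ^ q * (v w) ^ q := by
    intro w
    rw [hz w, hq, add_pow_char_pow, add_pow_char_pow, ← hq, ← map_pow, hk, mul_pow, mul_pow,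
      ← pow_mul, hbig, zero_mul, add_zero]
  -- Step B
  have hB : Lv c z = ε ^ (q + 1) * Lv c u := by
    have h1 : z = fun w => (algebraMap k B (P0 c w) + ε * v w) + ε ^ (q + 1) * u w := by
      funext w; exact hz w
    rw [h1, Lv_add, Lv_add (z := fun w => algebraMap k B (P0 c w)), Lv_P0, Lv_smul, Lv_smul, hv]
    simp
  refine ⟨hB, ?_⟩
  -- Frobenius of L(v)
  have hFr : ∑ i : Fin (n + 1), (algebraMap k B (c (Sum.inl i)) * v (Sum.inl i) ^ q +
      algebraMap k B (c (Sum.inr i)) * v (Sum.inr i) ^ q) = 0 := by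
    have h1 : (Lv c v) ^ q = ∑ w, algebraMap k B (c w) * (v w) ^ q := by
      unfold Lv
      rw [hq, sum_pow_char_pow]
      apply Finset.sum_congr rfl
      intro w _
      rw [mul_pow, ← hq, ← map_pow, hk]
    rw [hv, zero_pow (by omega)] at h1
    rw [Fintype.sum_sum_type] at h1
    rw [Finset.sum_add_distrib]
    exact h1.symm
  -- Step C
  have hC : Fv q z = ε * Lv c v
      - ε ^ q * (∑ i : Fin (n + 1), (algebraMap k B (c (Sum.inl i)) * v (Sum.inl i) ^ q +
          algebraMap k B (c (Sum.inr i)) * v (Sum.inr i) ^ q))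
      + ε ^ (q + 1) * Fv q v + ε ^ (q + 1) * Lv c u
      + ε ^ (2 * q + 1) * (∑ i : Fin (n + 1), (u (Sum.inl i) * v (Sum.inr i) ^ q -
          u (Sum.inr i) * v (Sum.inl i) ^ q)) := by
    rw [Lv_pairs c v, Lv_pairs c u]
    unfold Fv
    simp only [Finset.mul_sum]
    rw [← Finset.sum_sub_distrib, ← Finset.sum_add_distrib, ← Finset.sum_add_distrib,
      ← Finset.sum_add_distrib]
    apply Finset.sum_congr rfl
    intro i _
    rw [hA, hA, hz (Sum.inl i), hz (Sum.inr i)]
    simp only [P0, Sum.elim_inl, Sum.elim_inr, map_neg]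
    ring
  rw [hC, hv, hFr, h2q]
  simp

lemma key (p r : ℕ) [Fact p.Prime] [CharP B p] (q : ℕ) (hq : q = p ^ r) (hq2 : 2 ≤ q)
    (hk : ∀ a : k, a ^ q = a)
    (c : Idx n → k) (ε : B) (hε : ε ^ (q + 2) = 0) (v u : Idx n → B) (hv : Lv c v = 0)
    (z : Idx n → B)
    (hz : ∀ w, z w = algebraMap k B (P0 c w) + ε * v w + ε ^ (q + 1) * u w)
    (hL : Lv c z = 0) (hF : Fv q z = 0) : ε ^ (q + 1) * Fv q v = 0 := by
  obtain ⟨h1, h2⟩ := key_eq p r q hq hq2 hk c ε hε v u hv z hz
  rw [hL] at h1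
  rw [hF, ← h1, add_zero] at h2
  exact h2.symm

lemma aeval_F (q : ℕ) (F : MvPolynomial (Idx n) k)
    (hF : F = ∑ i : Fin (n + 1), (X (Sum.inl i) * X (Sum.inr i) ^ q - X (Sum.inr i) * X (Sum.inl i) ^ q))
    (z : Idx n → B) : aeval z F = Fv q z := by
  rw [hF]
  unfold Fv
  simp only [map_sum, map_sub, map_mul, map_pow, aeval_X]

lemma aeval_L (c : Idx n → k) (L : MvPolynomial (Idx n) k)
    (hL : L = ∑ w, C (c w) * X w) (z : Idx n → B) : aeval z L = Lv c z := by
  rw [hL]
  unfold Lv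
  simp only [map_sum, map_mul, aeval_X, aeval_C]

end comp

section concrete

variable (k)

/-- the test ring `k[θ][ε]/(ε^(q+2))` -/
abbrev BB (q : ℕ) : Type u :=
  Polynomial (Polynomial k) ⧸ Ideal.span {(Polynomial.X : Polynomial (Polynomial k)) ^ (q + 2)}

/-- `ε` -/
def eps (q : ℕ) : BB k q := Ideal.Quotient.mk _ Polynomial.X
/-- `θ` -/
def theta (q : ℕ) : BB k q := Ideal.Quotient.mk _ (Polynomial.C Polynomial.X)

lemma eps_pow (q : ℕ) : eps k q ^ (q + 2) = 0 := by
  unfold eps
  rw [← map_pow]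
  exact Ideal.Quotient.eq_zero_iff_mem.2 (Ideal.mem_span_singleton_self _)

lemma nonvanish (q : ℕ) (hq : 2 ≤ q) : eps k q ^ (q + 1) * (theta k q ^ q - theta k q) ≠ 0 := by
  unfold eps theta
  rw [← map_pow, ← map_pow, ← map_sub, ← map_mul]
  intro h
  rw [Ideal.Quotient.eq_zero_iff_mem, Ideal.mem_span_singleton] at h
  have h1 : (Polynomial.X : Polynomial (Polynomial k)) ^ (q + 2) =
      Polynomial.X ^ (q + 1) * Polynomial.X := pow_succ _ _
  rw [h1] at h
  have h2 := (mul_dvd_mul_iff_left (pow_ne_zero (q + 1)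
    (Polynomial.X_ne_zero (R := Polynomial k)))).1 h
  rw [Polynomial.X_dvd_iff] at h2
  simp only [Polynomial.coeff_sub, ← map_pow, Polynomial.coeff_C_zero] at h2
  have h3 := congrArg (fun f => Polynomial.coeff f 1) h2
  simp only [Polynomial.coeff_sub, Polynomial.coeff_X_pow, Polynomial.coeff_X_one,
    Polynomial.coeff_zero] at h3
  rw [if_neg (by omega)] at h3
  simp at h3

lemma exists_test_ring (q : ℕ) (hq : 2 ≤ q) :
    ∃ (B : Type u) (_ : CommRing B) (_ : Algebra k B) (ε θ : B),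
      ε ^ (q + 2) = 0 ∧ ε ^ (q + 1) * (θ ^ q - θ) ≠ 0 :=
  ⟨BB k q, inferInstance, inferInstance, eps k q, theta k q, eps_pow k q, nonvanish k q hq⟩

variable {k}

theorem exists_not_formallySmooth [Fintype k] (hn : 1 ≤ n)
    (F L : MvPolynomial (Idx n) k)
    (hF : F = ∑ i : Fin (n + 1), (X (Sum.inl i) * X (Sum.inr i) ^ Fintype.card k -
      X (Sum.inr i) * X (Sum.inl i) ^ Fintype.card k))
    (c : Idx n → k) (hc : c ≠ 0) (hL : L = ∑ v, C (c v) * X v) :
    ∃ w : Idx n, ¬ Algebra.FormallySmooth k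
      (Localization.Away (Ideal.Quotient.mk (Ideal.span {F, L}) (X w))) := by
  classical
  obtain ⟨p, hp⟩ := CharP.exists k
  obtain ⟨r, hprime, hq⟩ := FiniteField.card k p
  haveI : Fact p.Prime := ⟨hprime⟩
  have hq2 : 2 ≤ Fintype.card k := Fintype.one_lt_card
  have hk : ∀ a : k, a ^ Fintype.card k = a := FiniteField.pow_card
  generalize Fintype.card k = q at *
  obtain ⟨w0, hw0⟩ : ∃ w0, c w0 ≠ 0 := by
    by_contra h
    push Not at h
    exact hc (funext h)
  -- the pair index of w0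
  obtain ⟨i0, hi0⟩ : ∃ i0 : Fin (n + 1), w0 = Sum.inl i0 ∨ w0 = Sum.inr i0 := by
    cases w0 with
    | inl i => exact ⟨i, Or.inl rfl⟩
    | inr i => exact ⟨i, Or.inr rfl⟩
  haveI : Nontrivial (Fin (n + 1)) := Fin.nontrivial_iff_two_le.2 (by omega)
  obtain ⟨i1, hi1⟩ := exists_ne i0
  -- the ring
  obtain ⟨B, _, _, ε, θ, hεpow, hnv⟩ := exists_test_ring k q hq2
  haveI : Nontrivial B := nontrivial_of_ne _ _ hnv
  have hinj : Function.Injective (algebraMap k B) := RingHom.injective _
  haveI : CharP B p := charP_of_injective_algebraMap hinj p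
  set lam : B := -(algebraMap k B (c (Sum.inl i1)) +
      algebraMap k B (c (Sum.inr i1)) * θ) * algebraMap k B ((c w0)⁻¹) with hlam
  let v : Idx n → B := fun w =>
    if w = w0 then lam else if w = Sum.inl i1 then 1 else if w = Sum.inr i1 then θ else 0
  have hw0l : w0 ≠ Sum.inl i1 := by
    rcases hi0 with h | h <;> rw [h] <;> simp [Ne.symm hi1]
  have hw0r : w0 ≠ Sum.inr i1 := by
    rcases hi0 with h | h <;> rw [h] <;> simp [Ne.symm hi1]
  have hv0 : v w0 = lam := by simp [v]
  have hvl : v (Sum.inl i1) = 1 := by simp [v, Ne.symm hw0l]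
  have hvr : v (Sum.inr i1) = θ := by simp [v, Ne.symm hw0r]
  have hvo : ∀ w, w ≠ w0 → w ≠ Sum.inl i1 → w ≠ Sum.inr i1 → v w = 0 := by
    intro w h1 h2 h3
    simp [v, h1, h2, h3]
  -- L(v) = 0
  have hLv : Lv c v = 0 := by
    unfold Lv
    have hsub : ∑ w, algebraMap k (B) (c w) * v w =
        ∑ w ∈ ({w0, Sum.inl i1, Sum.inr i1} : Finset (Idx n)), algebraMap k (B) (c w) * v w := by
      symm
      apply Finset.sum_subset (Finset.subset_univ _)
      intro w _ hw
      simp only [Finset.mem_insert, Finset.mem_singleton, not_or] at hw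
      rw [hvo w hw.1 hw.2.1 hw.2.2, mul_zero]
    rw [hsub, Finset.sum_insert (by simp [hw0l, hw0r]), Finset.sum_insert (by simp),
      Finset.sum_singleton, hv0, hvl, hvr, hlam]
    have : algebraMap k (B) (c w0) * algebraMap k (B) ((c w0)⁻¹) = 1 := by
      rw [← map_mul, mul_inv_cancel₀ hw0, map_one]
    linear_combination (-(algebraMap k (B) (c (Sum.inl i1)) +
      algebraMap k (B) (c (Sum.inr i1)) * θ)) * this
  -- F(v)
  have hFv : Fv q v = θ ^ q - θ := by
    unfold Fv
    rw [Finset.sum_eq_single i1]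
    · rw [hvl, hvr, one_pow, one_mul, mul_one]
    · intro i _ hi
      have hq0 : q ≠ 0 := by omega
      by_cases hl : Sum.inl i = w0
      · have : v (Sum.inr i) = 0 := by
          apply hvo
          · rw [← hl]; simp
          · simp
          · simp [hi]
        rw [this, zero_pow hq0, mul_zero, zero_mul, sub_zero]
      · by_cases hr : Sum.inr i = w0
        · have : v (Sum.inl i) = 0 := by
            apply hvo
            · exact hl
            · simp [hi]
            · simp
          rw [this, zero_pow hq0, mul_zero, zero_mul, sub_zero]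
        · have h1 : v (Sum.inl i) = 0 := hvo _ hl (by simp [hi]) (by simp)
          have h2 : v (Sum.inr i) = 0 := hvo _ hr (by simp) (by simp [hi])
          rw [h1, h2, zero_pow hq0, mul_zero, sub_zero]
    · intro h; exact absurd (Finset.mem_univ _) h
  -- the partner index
  set w' : Idx n := Sum.swap w0 with hw'
  have hw'0 : w' ≠ w0 := by
    rw [hw']; cases w0 <;> simp
  have hw'l : w' ≠ Sum.inl i1 := by
    rw [hw']
    rcases hi0 with h | h <;> rw [h] <;> simp [Ne.symm hi1]
  have hw'r : w' ≠ Sum.inr i1 := by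
    rw [hw']
    rcases hi0 with h | h <;> rw [h] <;> simp [Ne.symm hi1]
  have hvw' : v w' = 0 := hvo w' hw'0 hw'l hw'r
  have hP0w' : P0 c w' ≠ 0 := by
    rw [hw']
    rcases hi0 with h | h
    · rw [h]; simp only [Sum.swap_inl, P0, Sum.elim_inr]; rw [← h]; exact hw0
    · rw [h]; simp only [Sum.swap_inr, P0, Sum.elim_inl]; rw [← h]; exact neg_ne_zero.2 hw0
  refine ⟨w', ?_⟩
  intro hsm
  -- the square-zero ideal
  set I : Ideal (B) := Ideal.span {ε ^ (q + 1)} with hI
  have hI2 : I ^ 2 = ⊥ := by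
    rw [hI, pow_two, Ideal.span_singleton_mul_span_singleton, ← pow_add]
    have : q + 1 + (q + 1) = (q + 2) + q := by omega
    rw [this, pow_add, hεpow, zero_mul]
    simp
  let z : Idx n → B := fun w => algebraMap k (B) (P0 c w) + ε * v w
  have hz0 : ∀ w, z w = algebraMap k (B) (P0 c w) + ε * v w + ε ^ (q + 1) * (0 : Idx n → B) w := by
    intro w; simp [z]
  obtain ⟨hzL, hzF⟩ := key_eq p r q hq hq2 hk c ε hεpow v 0 hLv z hz0
  have hLv0 : Lv c (0 : Idx n → B) = 0 := by unfold Lv; simp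
  rw [hLv0, mul_zero] at hzL
  rw [hLv0, mul_zero, add_zero] at hzF
  set J : Ideal (MvPolynomial (Idx n) k) := Ideal.span {F, L} with hJ
  let g0 : MvPolynomial (Idx n) k →ₐ[k] B ⧸ I :=
    (Ideal.Quotient.mkₐ k I).comp (aeval z)
  have hg0F : g0 F = 0 := by
    simp only [g0, AlgHom.comp_apply]
    rw [aeval_F q F hF, hzF]
    exact Ideal.Quotient.eq_zero_iff_mem.2 (Ideal.mul_mem_right _ _ (Ideal.mem_span_singleton_self _))
  have hg0L : g0 L = 0 := by
    simp only [g0, AlgHom.comp_apply]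
    rw [aeval_L c L hL, hzL, map_zero]
  have hg0 : ∀ a ∈ J, g0 a = 0 := by
    intro a ha
    have : J ≤ RingHom.ker g0.toRingHom := by
      rw [hJ, Ideal.span_le]
      intro x hx
      rcases hx with rfl | rfl
      · exact hg0F
      · exact hg0L
    exact this ha
  let g1 : (MvPolynomial (Idx n) k ⧸ J) →ₐ[k] B ⧸ I := Ideal.Quotient.liftₐ J g0 hg0
  set xw : MvPolynomial (Idx n) k ⧸ J := Ideal.Quotient.mk J (X w') with hxw
  have hg1x : g1 xw = algebraMap k (B ⧸ I) (P0 c w') := by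
    simp only [g1, hxw]
    rw [Ideal.Quotient.liftₐ_apply, Ideal.Quotient.lift_mk]
    simp only [g0, AlgHom.coe_toRingHom, AlgHom.comp_apply, aeval_X, z, hvw', mul_zero, add_zero]
    rfl
  have hunit : ∀ y : Submonoid.powers xw, IsUnit (g1 y) := by
    rintro ⟨y, m, rfl⟩
    rw [map_pow, hg1x]
    exact (IsUnit.map _ (isUnit_iff_ne_zero.2 hP0w')).pow m
  let g : Localization.Away xw →ₐ[k] B ⧸ I :=
    IsLocalization.liftAlgHom (M := Submonoid.powers xw) (f := g1) hunit
  obtain ⟨gt, hgt⟩ := Algebra.FormallySmooth.comp_surjective k (Localization.Away xw) I hI2 g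
  let zt : Idx n → B := fun w =>
    gt (algebraMap (MvPolynomial (Idx n) k ⧸ J) (Localization.Away xw) (Ideal.Quotient.mk J (X w)))
  have hzt : ∀ w, Ideal.Quotient.mk I (zt w) = Ideal.Quotient.mk I (z w) := by
    intro w
    have := congrArg (fun φ => φ (algebraMap (MvPolynomial (Idx n) k ⧸ J) (Localization.Away xw)
      (Ideal.Quotient.mk J (X w)))) hgt
    simp only [AlgHom.comp_apply] at this
    refine this.trans ?_
    simp only [g, IsLocalization.coe_liftAlgHom, AlgHom.toRingHom_eq_coe, IsLocalization.lift_eq]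
    simp only [g1]
    rw [RingHom.coe_coe, Ideal.Quotient.liftₐ_apply, Ideal.Quotient.lift_mk]
    simp only [g0, AlgHom.coe_toRingHom, AlgHom.comp_apply, aeval_X]
    rfl
  have hu : ∀ w, ∃ u, zt w = z w + ε ^ (q + 1) * u := by
    intro w
    have := hzt w
    rw [Ideal.Quotient.eq, hI, Ideal.mem_span_singleton'] at this
    obtain ⟨a, ha⟩ := this
    exact ⟨a, by rw [mul_comm, ha]; ring⟩
  choose u hu using hu
  have hcomp : (gt.comp ((IsScalarTower.toAlgHom k (MvPolynomial (Idx n) k ⧸ J)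
      (Localization.Away xw)).comp (Ideal.Quotient.mkₐ k J))) = aeval zt := by
    apply MvPolynomial.algHom_ext
    intro w
    simp [zt]
  have hztF : Fv q zt = 0 := by
    rw [← aeval_F q F hF, ← hcomp]
    simp only [AlgHom.comp_apply]
    have : (Ideal.Quotient.mkₐ k J) F = 0 :=
      Ideal.Quotient.eq_zero_iff_mem.2 (Ideal.subset_span (by simp))
    rw [this, map_zero, map_zero]
  have hztL : Lv c zt = 0 := by
    rw [← aeval_L c L hL, ← hcomp]
    simp only [AlgHom.comp_apply]
    have : (Ideal.Quotient.mkₐ k J) L = 0 :=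
      Ideal.Quotient.eq_zero_iff_mem.2 (Ideal.subset_span (by simp))
    rw [this, map_zero, map_zero]
  have hfin := key p r q hq hq2 hk c ε hεpow v u hLv zt (fun w => by rw [hu w]) hztL hztF
  rw [hFv] at hfin
  exact hnv hfin

end concrete

end Groth.Agent.Helper6.ZetaT
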